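import Mathlib
import Cfsg.Prelude.Def_CaseTheorems
import Cfsg.Agent.Lib.Cores
import Cfsg.Agent.TwoFusion.IsolatedCenter
import Cfsg.Agent.TwoFusion.QuatQuotient
import Cfsg.Agent.S0215

/-!
# An element of order four isolated modulo a central involution
-/

set_option autoImplicit false

namespace Cfsg.Agent.ONType.Cz

open Subgroup

universe u

/-- The core of the quotient by a central 2-subgroup of a core-free group is trivial. -/
theorem oddCore_quotient_central {G : Type*} [Group G] [Finite G] (hO : Cfsg.oddCore G = ⊥) (Z : Subgroup G)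
    [hZn : Z.Normal] (hZc : Z ≤ Subgroup.center G) (hZ2 : IsPGroup 2 Z) :
    Cfsg.oddCore (G ⧸ Z) = ⊥ := by
  have hM : (Cfsg.oddCore (G ⧸ Z)).comap (QuotientGroup.mk' Z) = Z := by
    set M := (Cfsg.oddCore (G ⧸ Z)).comap (QuotientGroup.mk' Z) with hMdef
    have hMn : M.Normal := inferInstance
    have hZM : Z ≤ M := by
      intro w hw
      rw [hMdef, Subgroup.mem_comap]
      have : (QuotientGroup.mk' Z) w = 1 := by
        rw [← MonoidHom.mem_ker, QuotientGroup.ker_mk']; exact hw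
      rw [this]; exact Subgroup.one_mem _
    have hMcard : Nat.card M = Nat.card Z * Nat.card (Cfsg.oddCore (G ⧸ Z)) :=
      QuotientGroup.card_preimage_mk Z (Cfsg.oddCore (G ⧸ Z) : Set (G ⧸ Z))
    have hMO : Cfsg.oddCore M = ⊥ := by
      have h1 := Cfsg.Agent.Lib.Cores.map_subtype_pPrimeCore (G := G) 2 (N := M) hMn
      have h2 : (Cfsg.pPrimeCore 2 G) = ⊥ := hO
      rw [h2, inf_bot_eq] at h1
      exact (Subgroup.map_eq_bot_iff_of_injective _ M.subtype_injective).mp h1
    have h3 := Cfsg.Agent.TwoFusion.IsolatedCenter.eq_top_of_central (M := M) (Z.subgroupOf M) (by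
        intro w hw
        rw [Subgroup.mem_center_iff]
        intro v
        ext
        have := Subgroup.mem_center_iff.mp (hZc (Subgroup.mem_subgroupOf.mp hw)) v
        simpa using this) ?_ ?_ hMO
    · exact le_antisymm (Subgroup.subgroupOf_eq_top.mp h3) hZM
    · exact hZ2.comap_subtype
    · have h4 := Subgroup.card_mul_index (Z.subgroupOf M)
      rw [Nat.card_congr (Subgroup.subgroupOfEquivOfLe hZM).toEquiv, hMcard] at h4
      have h5 : (Z.subgroupOf M).index = Nat.card (Cfsg.oddCore (G ⧸ Z)) :=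
        Nat.eq_of_mul_eq_mul_left Nat.card_pos h4
      rw [h5]
      exact Nat.coprime_two_right.mp (Cfsg.Agent.Lib.Cores.pPrimeCore_coprime 2)
  have h2 := congrArg (Subgroup.map (QuotientGroup.mk' Z)) hM
  rw [map_comap_eq_self_of_surjective (QuotientGroup.mk'_surjective _)] at h2
  rw [h2, Subgroup.map_eq_bot_iff, QuotientGroup.ker_mk']

/-- an odd normal subgroup lies in the core -/
theorem eq_bot_of_odd {G : Type*} [Group G] [Finite G] (hO : Cfsg.oddCore G = ⊥) (N : Subgroup G) (hN : N.Normal)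
    (h : Odd (Nat.card N)) : N = ⊥ := by
  rw [eq_bot_iff, ← hO]
  exact Cfsg.Agent.Lib.Cores.le_pPrimeCore hN (Nat.coprime_two_right.mpr h)

theorem conj_or {H : Type*} {X : Type*} [Group H] [Finite H] [Group X] [Finite X] (f : H →* X)
    (hf : Function.Surjective f) (hO : Cfsg.oddCore X = ⊥) (P : Sylow 2 H) {z v : H}
    (hz : ∀ g, g * z = z * g) (hz2 : z * z = 1) (hz1 : f z ≠ 1) (hv : v * v = z) (hvP : v ∈ P)
    (hiso : ∀ g, g * v * g⁻¹ ∈ P → g * v * g⁻¹ = v ∨ g * v * g⁻¹ = v⁻¹) (x : X) :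
    x * f v * x⁻¹ = f v ∨ x * f v * x⁻¹ = (f v)⁻¹ := by
  have hfz2 : f z * f z = 1 := by rw [← map_mul, hz2, map_one]
  have hz1' : z ≠ 1 := fun h => hz1 (by rw [h, map_one])
  have hzc : z ∈ center H := mem_center_iff.2 hz
  have hfzc : f z ∈ center X := by
    rw [mem_center_iff]
    intro g
    obtain ⟨g, rfl⟩ := hf g
    rw [← map_mul, hz, map_mul]
  have hZn : (zpowers z).Normal := ⟨fun n hn g => by
    obtain ⟨k, rfl⟩ := mem_zpowers_iff.1 hn
    have h1 : g * z ^ k * g⁻¹ = z ^ k := by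
      have h2 : Commute g z := hz g
      rw [(h2.zpow_right k).eq, mul_inv_cancel_right]
    rw [h1]
    exact hn⟩
  have hZn' : (zpowers (f z)).Normal := ⟨fun n hn g => by
    obtain ⟨k, rfl⟩ := mem_zpowers_iff.1 hn
    have h1 : g * f z ^ k * g⁻¹ = f z ^ k := by
      have h2 : Commute g (f z) := mem_center_iff.1 hfzc g
      rw [(h2.zpow_right k).eq, mul_inv_cancel_right]
    rw [h1]
    exact hn⟩
  have hoz : orderOf z = 2 := orderOf_eq_prime (by rw [pow_two]; exact hz2) hz1'
  have hofz : orderOf (f z) = 2 := orderOf_eq_prime (by rw [pow_two]; exact hfz2) hz1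
  have hOq : Cfsg.oddCore (X ⧸ zpowers (f z)) = ⊥ :=
    Cfsg.Agent.TwoFusion.QuatQuotient.oddCore_quotient_eq_bot hO (f z) hfzc hofz
  -- powers of z
  have hmem : ∀ g : H, g ∈ zpowers z → g = 1 ∨ g = z := by
    intro g hg
    obtain ⟨k, rfl⟩ := mem_zpowers_iff.1 hg
    rcases Int.even_or_odd k with ⟨m, rfl⟩ | ⟨m, rfl⟩
    · left
      rw [← two_mul, zpow_mul, zpow_ofNat, pow_two, hz2, one_zpow]
    · right
      rw [zpow_add, zpow_mul, zpow_ofNat, pow_two, hz2, one_zpow, one_mul, zpow_one]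
  have hmem' : ∀ g : X, g ∈ zpowers (f z) → g = 1 ∨ g = f z := by
    intro g hg
    obtain ⟨k, rfl⟩ := mem_zpowers_iff.1 hg
    rcases Int.even_or_odd k with ⟨m, rfl⟩ | ⟨m, rfl⟩
    · left
      rw [← two_mul, zpow_mul, zpow_ofNat, pow_two, hfz2, one_zpow]
    · right
      rw [zpow_add, zpow_mul, zpow_ofNat, pow_two, hfz2, one_zpow, one_mul, zpow_one]
  have hzP : z ∈ P := by rw [← hv]; exact mul_mem hvP hvP
  have hvinv : v⁻¹ = v * z := by
    rw [inv_eq_iff_mul_eq_one, ← mul_assoc, hv, hz2]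
  -- Z*
  obtain ⟨N, hN, hNodd, hNc⟩ := Cfsg.Agent.S0215.result (G := H ⧸ zpowers z)
    (P.mapSurjective (QuotientGroup.mk'_surjective (zpowers z))) (QuotientGroup.mk' (zpowers z) v)
    (orderOf_eq_prime (by
      rw [← map_pow, pow_two, hv]
      exact (QuotientGroup.eq_one_iff z).2 (mem_zpowers z))
      (fun h => by
        rcases hmem v ((QuotientGroup.eq_one_iff v).1 h) with h1 | h1
        · rw [h1, one_mul] at hv
          exact hz1' hv.symm
        · rw [h1] at hv
          exact hz1' (hv.symm.trans hz2)))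
    (by
      change _ ∈ ((P.mapSurjective (QuotientGroup.mk'_surjective (zpowers z)) : Sylow 2 (H ⧸ zpowers z)) :
        Subgroup (H ⧸ zpowers z))
      rw [Sylow.coe_mapSurjective]
      exact mem_map_of_mem _ hvP)
    (by
      intro g hg
      obtain ⟨g, rfl⟩ := QuotientGroup.mk'_surjective _ g
      rw [← map_inv, ← map_mul, ← map_mul] at hg ⊢
      change _ ∈ ((P.mapSurjective (QuotientGroup.mk'_surjective (zpowers z)) : Sylow 2 (H ⧸ zpowers z)) :
        Subgroup (H ⧸ zpowers z)) at hg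
      rw [Sylow.coe_mapSurjective, mem_map] at hg
      obtain ⟨y, hy, hyg⟩ := hg
      have h1 : g * v * g⁻¹ ∈ P := by
        have h2 : y⁻¹ * (g * v * g⁻¹) ∈ zpowers z := QuotientGroup.eq.1 hyg
        rcases hmem _ h2 with h3 | h3
        · rw [inv_mul_eq_one] at h3
          rw [← h3]; exact hy
        · rw [inv_mul_eq_iff_eq_mul] at h3
          rw [h3]; exact mul_mem hy hzP
      rcases hiso g h1 with h2 | h2
      · rw [h2]
      · rw [h2, hvinv, map_mul]
        rw [show QuotientGroup.mk' (zpowers z) z = 1 from (QuotientGroup.eq_one_iff z).2 (mem_zpowers z), mul_one])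
  -- the induced map
  have hker : zpowers z ≤ (zpowers (f z)).comap f := by
    rw [zpowers_le, mem_comap]; exact mem_zpowers _
  let φ : H ⧸ zpowers z →* X ⧸ zpowers (f z) := QuotientGroup.map _ _ f hker
  have hφ : Function.Surjective φ := by
    intro y
    obtain ⟨y, rfl⟩ := QuotientGroup.mk'_surjective _ y
    obtain ⟨y, rfl⟩ := hf y
    exact ⟨QuotientGroup.mk' _ y, rfl⟩
  have hNφ : N.map φ = ⊥ := eq_bot_of_odd hOq _ (hN.map φ hφ) (Odd.of_dvd_nat hNodd (card_map_dvd N φ))
  obtain ⟨g, rfl⟩ := hf x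
  have h1 := mem_map_of_mem φ (hNc (QuotientGroup.mk' _ g⁻¹))
  rw [hNφ, mem_bot, ← map_inv, ← map_mul, ← map_inv, ← map_mul, ← map_mul] at h1
  have h2 : f (v * g⁻¹ * v⁻¹ * g⁻¹⁻¹) ∈ zpowers (f z) := (QuotientGroup.eq_one_iff _).1 h1
  rw [inv_inv] at h2
  rcases hmem' _ h2 with h3 | h3
  · left
    have h4 : f (v * g⁻¹) = f (g⁻¹ * v) := by
      have : v * g⁻¹ * v⁻¹ * g = (v * g⁻¹) * (g⁻¹ * v)⁻¹ := by group
      rw [this, map_mul, map_inv, mul_inv_eq_one] at h3
      exact h3
    rw [map_mul, map_mul, map_inv] at h4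
    rw [mul_assoc, h4, mul_inv_cancel_left]
  · right
    have h4 : f (v * g⁻¹) = f z * f (g⁻¹ * v) := by
      have : v * g⁻¹ * v⁻¹ * g = (v * g⁻¹) * (g⁻¹ * v)⁻¹ := by group
      rw [this, map_mul, map_inv, mul_inv_eq_iff_eq_mul] at h3
      exact h3
    have h5 : (f v)⁻¹ = f z * f v := by
      rw [← map_inv, hvinv, hz, map_mul]
    rw [map_mul, map_mul, map_inv] at h4
    rw [mul_assoc, h4, h5]
    rw [← mul_assoc, mem_center_iff.1 hfzc, mul_assoc, mul_inv_cancel_left]

end Cfsg.Agent.ONType.Cz
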