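import Cfsg.Agent.ONType.Psl
import Cfsg.Agent.S0243
import Cfsg.Agent.LieClassical.SLGen

/-!
# Order of `PSL(3,4)`, unitriangular elements, generation
-/

set_option autoImplicit false
set_option linter.constructorNameAsVariable false
set_option linter.unusedVariables false

namespace Cfsg.Agent.ONType.PslCard

open Matrix
open Cfsg.Agent.SporadicA.FieldFour
open Cfsg.Agent.ONType.Psl

theorem card_PSL3 : Nat.card PSL3 = 20160 := by
  have h := Cfsg.Agent.S0243.result (F := F4) (q := 4) F4.card_eq 3 (by norm_num)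
  simp only [Fin.prod_univ_three] at h
  have h2 : Nat.gcd 3 (4 - 1) * ((4 - 1) * Nat.card PSL3) = (64 - 1) * (64 - 4) * (64 - 16) := h
  have h3 : Nat.gcd 3 (4 - 1) = 3 := by decide
  rw [h3] at h2
  omega

/-- explicit unitriangular matrix -/
def um (a b c : F4) : Matrix (Fin 3) (Fin 3) F4 := fun i j =>
  if i = j then 1 else if i = 0 ∧ j = 1 then a else if i = 1 ∧ j = 2 then b
  else if i = 0 ∧ j = 2 then c else 0

theorem tm_prod (a b c : F4) : tm 0 1 a * tm 1 2 b * tm 0 2 c = um a b (a * b + c) := by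
  revert a b c; decide +kernel

theorem t_inj {a b c a' b' c' : F4} (h : t 0 1 a * t 1 2 b * t 0 2 c = t 0 1 a' * t 1 2 b' * t 0 2 c') :
    a = a' ∧ b = b' ∧ c = c' := by
  have h1 : (QuotientGroup.mk (T 0 1 a * T 1 2 b * T 0 2 c) : PSL3) =
    QuotientGroup.mk (T 0 1 a' * T 1 2 b' * T 0 2 c') := h
  rw [QuotientGroup.eq, Matrix.SpecialLinearGroup.mem_center_iff] at h1
  obtain ⟨r, _, hr⟩ := h1
  set X : SL3 := T 0 1 a * T 1 2 b * T 0 2 c with hX
  set Y : SL3 := T 0 1 a' * T 1 2 b' * T 0 2 c' with hY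
  have e1 : (Y : Matrix (Fin 3) (Fin 3) F4) = (X : Matrix (Fin 3) (Fin 3) F4) * Matrix.scalar (Fin 3) r := by
    rw [hr]
    have : Y = X * (X⁻¹ * Y) := by group
    conv_lhs => rw [this]
    rfl
  have eX : (X : Matrix (Fin 3) (Fin 3) F4) = um a b (a * b + c) := tm_prod a b c
  have eY : (Y : Matrix (Fin 3) (Fin 3) F4) = um a' b' (a' * b' + c') := tm_prod a' b' c'
  rw [eX, eY] at e1
  have en : ∀ i j, um a' b' (a' * b' + c') i j = um a b (a * b + c) i j * r := by
    intro i j
    rw [e1]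
    simp [Matrix.mul_diagonal]
  have e0 : (1 : F4) = 1 * r := en 0 0
  rw [one_mul] at e0
  have ea : a' = a * r := en 0 1
  have eb : b' = b * r := en 1 2
  have ec : a' * b' + c' = (a * b + c) * r := en 0 2
  rw [← e0, mul_one] at ea eb ec
  subst ea eb
  exact ⟨rfl, rfl, (add_left_cancel ec).symm⟩

theorem closure_T : Subgroup.closure {A : SL3 | ∃ (i j : Fin 3) (_ : i ≠ j) (c : F4), A = T i j c} = ⊤ := by
  rw [← Cfsg.Agent.LieClassical.SLGen.closure_transvections (ι := Fin 3) (F := F4)]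
  congr 1
  ext A
  constructor
  · rintro ⟨i, j, h, c, rfl⟩
    refine ⟨i, j, h, c, ?_⟩
    apply Subtype.ext
    ext a b
    show tm i j c a b = Matrix.transvection i j c a b
    simp only [tm, Matrix.transvection, Matrix.add_apply, Matrix.one_apply, Matrix.single_apply]
    by_cases h1 : a = b
    · subst h1
      have : ¬ (i = a ∧ j = a) := fun e => h (e.1.trans e.2.symm)
      simp [this]
    · simp only [h1, if_false, zero_add]
      by_cases h2 : a = i ∧ b = j
      · simp [h2.1, h2.2]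
      · have : ¬ (i = a ∧ j = b) := fun e => h2 ⟨e.1.symm, e.2.symm⟩
        simp [h2, this]
  · rintro ⟨i, j, h, c, rfl⟩
    refine ⟨i, j, h, c, ?_⟩
    apply Subtype.ext
    ext a b
    show Matrix.transvection i j c a b = tm i j c a b
    simp only [tm, Matrix.transvection, Matrix.add_apply, Matrix.one_apply, Matrix.single_apply]
    by_cases h1 : a = b
    · subst h1
      have : ¬ (i = a ∧ j = a) := fun e => h (e.1.trans e.2.symm)
      simp [this]
    · simp only [h1, if_false, zero_add]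
      by_cases h2 : a = i ∧ b = j
      · simp [h2.1, h2.2]
      · have : ¬ (i = a ∧ j = b) := fun e => h2 ⟨e.1.symm, e.2.symm⟩
        simp [h2, this]

theorem closure_t : Subgroup.closure {A : PSL3 | ∃ (i j : Fin 3) (_ : i ≠ j) (c : F4), A = t i j c} = ⊤ := by
  have h := congrArg (Subgroup.map (QuotientGroup.mk' (Subgroup.center SL3))) closure_T
  rw [MonoidHom.map_closure, Subgroup.map_top_of_surjective _ (QuotientGroup.mk'_surjective _)] at h
  rw [← h]
  congr 1
  ext A
  constructor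
  · rintro ⟨i, j, h, c, rfl⟩
    exact ⟨T i j c, ⟨i, j, h, c, rfl⟩, rfl⟩
  · rintro ⟨_, ⟨i, j, h, c, rfl⟩, rfl⟩
    exact ⟨i, j, h, c, rfl⟩

end Cfsg.Agent.ONType.PslCard
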