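import Cfsg.Agent.ONType.Data

/-!
# Part (A): the twelve candidates for the centraliser
-/

set_option autoImplicit false
set_option linter.constructorNameAsVariable false
set_option linter.unusedVariables false

namespace Cfsg.Agent.ONType.OuterZ

open Cfsg.Agent.SporadicA.FieldFour
open Cfsg.Agent.ONType.Psl
open Cfsg.Agent.ONType.Lift
open Cfsg.Agent.ONType.Data
open Cfsg.Agent.ONType.OuterL (rv rv_ne)
open Cfsg.Agent.ONType.OuterM (trn)

section General

variable {G : Type*} [Group G]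

theorem mrel_zero {x : Fin 3 → Fin 3 → F4 → G} {z h : G} {g : F4 → ℕ}
    (R : MRel x z h g) (i j : Fin 3) (hij : i ≠ j) : x i j 0 = 1 := by
  have := R.add i j hij 0 0
  rw [add_zero] at this
  exact mul_eq_left.mp this

theorem mrel_sq {x : Fin 3 → Fin 3 → F4 → G} {z h : G} {g : F4 → ℕ}
    (R : MRel x z h g) (i j : Fin 3) (hij : i ≠ j) (u : F4) : x i j u * x i j u = 1 := by
  have e : u + u = 0 := by
    have : ∀ u : F4, u + u = 0 := by decide
    exact this u
  rw [R.add i j hij, e, mrel_zero R i j hij]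

/-- a map preserving the form of the sum relation acts on `z` (no graph automorphism) -/
theorem z_of_id {x x' : Fin 3 → Fin 3 → F4 → G} {z z' h h' : G} {g : F4 → ℕ}
    (R : MRel x z h g) (R' : MRel x' z' h' g) (σ : F4 → F4)
    (hσ : (∀ u, σ u = u) ∨ (∀ u, σ u = u * u))
    (hx : ∀ i j, i ≠ j → ∀ u, x' i j u = x i j (σ u)) (s : F4) :
    z' ^ g s = z ^ g (σ s) := by
  have h1 := R'.sum 0 1 2 (by decide) (by decide) (by decide) s 1
  have h2 := R.sum 0 1 2 (by decide) (by decide) (by decide) (σ s) 1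
  have hσ1 : σ 1 = 1 := by
    rcases hσ with h | h
    · exact h 1
    · rw [h]; decide
  rw [hx 0 2 (by decide), hx 2 1 (by decide), hx 0 1 (by decide), hσ1, mul_one, mul_one,
    mul_one] at h1
  rw [mul_one, mul_one, mul_one, h1] at h2
  exact mul_left_cancel (mul_left_cancel h2)

/-- a map preserving the form of the sum relation acts on `z` (graph automorphism) -/
theorem z_of_graph {x x' : Fin 3 → Fin 3 → F4 → G} {z z' h h' : G} {g : F4 → ℕ}
    (R : MRel x z h g) (R' : MRel x' z' h' g) (σ : F4 → F4)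
    (hσ : (∀ u, σ u = u) ∨ (∀ u, σ u = u * u))
    (hx : ∀ i j, i ≠ j → ∀ u, x' i j u = x (rv j) (rv i) (σ u)) (s : F4) :
    z' ^ g s * z ^ g (σ s * σ s) = 1 := by
  have h1 := R'.sum 0 1 2 (by decide) (by decide) (by decide) s 1
  have h2 := R.sum 1 2 0 (by decide) (by decide) (by decide) 1 (σ s)
  have hσ1 : σ 1 = 1 := by
    rcases hσ with h | h
    · exact h 1
    · rw [h]; decide
  have e0 : rv 0 = 2 := by decide
  have e1 : rv 1 = 1 := by decide
  have e2 : rv 2 = 0 := by decide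
  rw [hx 0 2 (by decide), hx 2 1 (by decide), hx 0 1 (by decide), e0, e1, e2, hσ1, mul_one,
    mul_one, mul_one] at h1
  rw [one_mul, one_mul] at h2
  rw [h1, mul_assoc (x 1 0 1 * x 0 2 (σ s))] at h2
  have h3 : x 1 2 (σ s) * z' ^ g s * (x 1 2 (σ s) * z ^ g (σ s * σ s)) = 1 :=
    mul_eq_left.mp h2.symm
  have hc : Commute (x 1 2 (σ s)) z' := by
    have := R'.zc 0 1 s (by decide)
    rw [hx 0 1 (by decide), e0, e1] at this
    exact this
  have hsq : x 1 2 (σ s) * x 1 2 (σ s) = 1 := mrel_sq R 1 2 (by decide) _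
  have h4 := (hc.pow_right (g s)).eq
  calc z' ^ g s * z ^ g (σ s * σ s)
      = (x 1 2 (σ s) * x 1 2 (σ s)) * z' ^ g s * z ^ g (σ s * σ s) := by rw [hsq, one_mul]
    _ = x 1 2 (σ s) * (x 1 2 (σ s) * z' ^ g s) * z ^ g (σ s * σ s) := by group
    _ = x 1 2 (σ s) * (z' ^ g s * x 1 2 (σ s)) * z ^ g (σ s * σ s) := by rw [h4]
    _ = x 1 2 (σ s) * z' ^ g s * (x 1 2 (σ s) * z ^ g (σ s * σ s)) := by simp only [mul_assoc]
    _ = 1 := h3

/-- `τ` acts as the field automorphism -/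
def IsSigma (x : Fin 3 → Fin 3 → F4 → G) (τ : G) : Prop :=
  ∀ i j : Fin 3, i ≠ j → ∀ u : F4, τ⁻¹ * x i j u * τ = x i j (u * u)

/-- `τ` acts as the graph automorphism -/
def IsGamma (x : Fin 3 → Fin 3 → F4 → G) (τ : G) : Prop :=
  ∀ i j : Fin 3, i ≠ j → ∀ u : F4, τ⁻¹ * x i j u * τ = x (rv j) (rv i) u

/-- `τ` acts as the product of the field automorphism and the graph automorphism -/
def IsSG (x : Fin 3 → Fin 3 → F4 → G) (τ : G) : Prop :=
  ∀ i j : Fin 3, i ≠ j → ∀ u : F4, τ⁻¹ * x i j u * τ = x (rv j) (rv i) (u * u)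

variable {x : Fin 3 → Fin 3 → F4 → G} {z h : G} {g : F4 → ℕ}

theorem conj_mrel (R : MRel x z h g) (τ : G) :
    MRel (fun i j u => τ⁻¹ * x i j u * τ) (τ⁻¹ * z * τ) (τ⁻¹ * h * τ) g := by
  have := R.map (MulAut.conj τ⁻¹).toMonoidHom
  simpa using this

theorem z_sigma (R : MRel x z h g) {τ : G} (hτ : IsSigma x τ) (hg : g ω = 1) :
    τ⁻¹ * z * τ = z ^ g ω2 := by
  have := z_of_id R (conj_mrel R τ) (fun u => u * u) (Or.inr fun _ => rfl) hτ ω
  rw [hg, pow_one] at this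
  rw [this]
  rfl

theorem z_gamma (R : MRel x z h g) {τ : G} (hτ : IsGamma x τ) (hg : g ω = 1) :
    τ⁻¹ * z * τ * z ^ g ω2 = 1 := by
  have := z_of_graph R (conj_mrel R τ) (fun u => u) (Or.inl fun _ => rfl) hτ ω
  rw [hg, pow_one] at this
  exact this

theorem z_sg (R : MRel x z h g) {τ : G} (hτ : IsSG x τ) (hg : g ω = 1) :
    τ⁻¹ * z * τ * z = 1 := by
  have := z_of_graph R (conj_mrel R τ) (fun u => u * u) (Or.inr fun _ => rfl) hτ ω
  rw [hg, pow_one] at this
  have e : ω * ω * (ω * ω) = ω := by decide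
  rw [e, hg, pow_one] at this
  exact this

end General

/-- **Part (A).**  `C₀` is a group with a central involution `t` and a normal subgroup `M` of index
two, which contains its centraliser and is a perfect group with cyclic centre of order four and
central quotient `PSL(3,4)`.  -/
theorem partA {C₀ : Type*} [Group C₀] [Finite C₀] (t : C₀) (ht : orderOf t = 2)
    (htc : ∀ c : C₀, c * t = t * c) (M : Subgroup C₀) [M.Normal] (hM : M.index = 2)
    (hout : Subgroup.centralizer (M : Set C₀) ≤ M) (hZc : IsCyclic (Subgroup.center M))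
    (hZ4 : Nat.card (Subgroup.center M) = 4) (hperf : commutator M = ⊤)
    (F : Type) [Field F] [Fintype F] (hF : Fintype.card F = 4)
    (e : M ⧸ Subgroup.center M ≃* Matrix.ProjectiveSpecialLinearGroup (Fin 3) F) :
    ∃ (π : M →* PSL3) (C : CExt π) (z : M) (τ : C₀), π.ker = Subgroup.center M ∧
      Subgroup.center M = Subgroup.zpowers z ∧ orderOf z = 4 ∧ (z : C₀) * z = t ∧ τ ∉ M ∧
      ((MRel C.x z C.h gI ∧
        ((IsSigma (fun i j u => (C.x i j u : C₀)) τ ∧ τ⁻¹ * z * τ = (z : C₀)⁻¹ ∧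
            (τ * τ = 1 ∨ τ * τ = t)) ∨
         (IsGamma (fun i j u => (C.x i j u : C₀)) τ ∧ τ⁻¹ * z * τ = (z : C₀) ∧
            (τ * τ = 1 ∨ τ * τ = z)) ∨
         (IsSG (fun i j u => (C.x i j u : C₀)) τ ∧ τ⁻¹ * z * τ = (z : C₀)⁻¹ ∧
            (τ * τ = 1 ∨ τ * τ = t)))) ∨
       (MRel C.x z C.h gII ∧
        ((IsSigma (fun i j u => (C.x i j u : C₀)) τ ∧ τ⁻¹ * z * τ = (z : C₀) ∧
            (τ * τ = 1 ∨ τ * τ = z)) ∨
         (IsGamma (fun i j u => (C.x i j u : C₀)) τ ∧ τ⁻¹ * z * τ = (z : C₀)⁻¹ ∧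
            (τ * τ = 1 ∨ τ * τ = t)) ∨
         (IsSG (fun i j u => (C.x i j u : C₀)) τ ∧ τ⁻¹ * z * τ = (z : C₀)⁻¹ ∧
            (τ * τ = 1 ∨ τ * τ = t))))) := by
  obtain ⟨π, C, z, hker, hcz, hz, hR⟩ := exists_data hZc hZ4 hperf F hF e
  have hne : M ≠ ⊤ := by
    intro h
    rw [h, Subgroup.index_top] at hM
    exact absurd hM (by decide)
  have hcen : ∀ k : M, (∀ m, k * m = m * k) → π k = 1 := by
    intro k hk
    have : k ∈ π.ker := by
      rw [hker, Subgroup.mem_center_iff]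
      exact fun m => (hk m).symm
    exact this
  -- `t = z²`
  have htM : t ∈ M := by
    apply hout
    rw [Subgroup.mem_centralizer_iff]
    intro c _
    exact htc c
  have htz : (⟨t, htM⟩ : M) ∈ Subgroup.zpowers z := by
    rw [← hcz, Subgroup.mem_center_iff]
    intro m
    exact Subtype.ext (htc m)
  have hz4 : z ^ 4 = 1 := by rw [← hz]; exact pow_orderOf_eq_one z
  have hzz4 : z ^ (4 : ℤ) = 1 := by exact_mod_cast hz4
  have htt : z * z = ⟨t, htM⟩ := by
    obtain ⟨n, hn⟩ := Subgroup.mem_zpowers_iff.mp htz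
    have h2 : z ^ (n + n) = 1 := by
      rw [zpow_add, hn]
      apply Subtype.ext
      show t * t = 1
      rw [← pow_two, ← ht]; exact pow_orderOf_eq_one t
    have h3 : (4 : ℤ) ∣ n + n := by
      have := orderOf_dvd_iff_zpow_eq_one.mpr h2
      rwa [hz] at this
    have h4 : (2 : ℤ) ∣ n := by omega
    obtain ⟨k, hk⟩ := h4
    rcases Int.even_or_odd k with ⟨m, hm⟩ | ⟨m, hm⟩
    · exfalso
      have e1 : n = 4 * m := by omega
      rw [e1, zpow_mul, hzz4, one_zpow] at hn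
      have : t = 1 := (congrArg Subtype.val hn).symm
      rw [this, orderOf_one] at ht
      exact absurd ht (by decide)
    · have e1 : n = 4 * m + 2 := by omega
      rw [← hn, e1, zpow_add, zpow_mul, hzz4, one_zpow, one_mul]
      exact (zpow_two z).symm
  have httC : (z : C₀) * z = t := congrArg Subtype.val htt
  have ht1 : z * z ≠ 1 := by
    rw [htt]
    intro h
    have : t = 1 := congrArg Subtype.val h
    rw [this, orderOf_one] at ht
    exact absurd ht (by decide)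
  have hrow : ∀ u v : F4, C.x 0 1 u * C.x 0 2 v = C.x 0 2 v * C.x 0 1 u * (z * z) ^ trn (u * v) := by
    intro u v
    have h1 : ∀ g, MRel C.x z C.h g → C.x 0 1 u * C.x 0 2 v =
        C.x 0 2 v * C.x 0 1 u * (z * z) ^ trn (u * v) := by
      intro g R
      rw [R.row 0 1 2 (by decide) (by decide) (by decide) u v, pow_mul, pow_two]
    exact hR.elim (h1 _) (h1 _)
  have hcol : ∀ u v : F4, C.x 1 2 u * C.x 0 2 v = C.x 0 2 v * C.x 1 2 u * (z * z) ^ trn (u * v) := by
    intro u v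
    have h1 : ∀ g, MRel C.x z C.h g → C.x 1 2 u * C.x 0 2 v =
        C.x 0 2 v * C.x 1 2 u * (z * z) ^ trn (u * v) := by
      intro g R
      rw [R.col 1 2 0 (by decide) (by decide) (by decide) u v, pow_mul, pow_two]
    exact hR.elim (h1 _) (h1 _)
  obtain ⟨τ, σ, hτM, hσ, hτh, hτx, c, hc, hc1⟩ := OuterC.exists_tau M hne hout C hcen hperf (z * z)
    ht1 (fun c => by
      show c * ((z : C₀) * z) * c⁻¹ = _
      rw [httC, htc, mul_inv_cancel_right]
      exact (congrArg Subtype.val htt).symm) hrow hcol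
  -- the three cases
  have hkind : IsSigma (fun i j u => (C.x i j u : C₀)) τ ∨ IsGamma (fun i j u => (C.x i j u : C₀)) τ ∨
      IsSG (fun i j u => (C.x i j u : C₀)) τ := by
    rcases hτx with ⟨h1, h2⟩ | h2
    · left
      intro i j hij u
      rw [h2 i j hij u, h1]
    · right
      rcases hσ with h1 | h1
      · left
        intro i j hij u
        rw [h2 i j hij u, h1]
      · right
        intro i j hij u
        rw [h2 i j hij u, h1]
  have hcker : c ∈ Subgroup.zpowers z := by rw [← hcz, ← hker]; exact hc1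
  obtain ⟨n, hn⟩ := Subgroup.mem_zpowers_iff.mp hcker
  have hn' : (z : C₀) ^ n = τ * τ := by
    rw [← hc, ← hn]
    exact (Subgroup.coe_zpow M z n).symm
  have hzC4 : (z : C₀) ^ (4 : ℤ) = 1 := by
    have := congrArg (fun y : M => (y : C₀)) hzz4
    simpa using this
  have hoz : orderOf (z : C₀) = 4 := by rw [Subgroup.orderOf_coe, hz]
  have hzcen : ∀ y : M, (z : C₀) * y = y * z := by
    intro y
    have h1 : z ∈ Subgroup.center M := by rw [hcz]; exact Subgroup.mem_zpowers z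
    exact (congrArg (fun y : M => (y : C₀)) (Subgroup.mem_center_iff.mp h1 y)).symm
  have hinv : τ⁻¹ * z * τ = (z : C₀)⁻¹ → (τ * τ = 1 ∨ τ * τ = t) := by
    intro h
    have h1 : τ⁻¹ * (z : C₀) ^ n * τ = (z : C₀) ^ n := by
      rw [hn']; group
    have h2 : τ⁻¹ * (z : C₀) ^ n * τ = (z : C₀) ^ (-n) := by
      have := conj_zpow (i := n) (a := τ⁻¹) (b := (z : C₀))
      rw [inv_inv, h] at this
      rw [← this, inv_zpow, zpow_neg]
    rw [h1] at h2
    have h3 : (z : C₀) ^ (n + n) = 1 := by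
      rw [zpow_add]
      nth_rewrite 2 [h2]
      rw [← zpow_add, add_neg_cancel, zpow_zero]
    have h4 : (4 : ℤ) ∣ n + n := by
      have := orderOf_dvd_iff_zpow_eq_one.mpr h3
      rwa [hoz] at this
    have h5 : (2 : ℤ) ∣ n := by omega
    obtain ⟨k, hk⟩ := h5
    rcases Int.even_or_odd k with ⟨m, hm⟩ | ⟨m, hm⟩
    · left
      have e1 : n = 4 * m := by omega
      rw [← hn', e1, zpow_mul, hzC4, one_zpow]
    · right
      have e1 : n = 4 * m + 2 := by omega
      rw [← hn', e1, zpow_add, zpow_mul, hzC4, one_zpow, one_mul, zpow_two, httC]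
  have hcent : τ⁻¹ * z * τ = (z : C₀) → ∃ τ' : C₀, τ' ∉ M ∧
      (∀ y : M, τ'⁻¹ * (y : C₀) * τ' = τ⁻¹ * y * τ) ∧ τ'⁻¹ * z * τ' = (z : C₀) ∧
      (τ' * τ' = 1 ∨ τ' * τ' = z) := by
    intro h
    have hcomm : Commute τ (z : C₀) := by
      have h1 : τ * (τ⁻¹ * z * τ) = τ * z := by rw [h]
      have h2 : τ * (τ⁻¹ * z * τ) = z * τ := by group
      exact h1.symm.trans h2
    -- the corrected element
    have key : ∀ k : ℤ, τ * (z : C₀) ^ k ∉ M ∧
        (∀ y : M, (τ * (z : C₀) ^ k)⁻¹ * (y : C₀) * (τ * (z : C₀) ^ k) = τ⁻¹ * y * τ) ∧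
        (τ * (z : C₀) ^ k)⁻¹ * z * (τ * (z : C₀) ^ k) = (z : C₀) ∧
        (τ * (z : C₀) ^ k) * (τ * (z : C₀) ^ k) = (z : C₀) ^ (n + 2 * k) := by
      intro k
      have hk1 : (z : C₀) ^ k ∈ M := M.zpow_mem z.2 k
      have hk2 : ∀ y : M, (z : C₀) ^ k * y = y * (z : C₀) ^ k := fun y =>
        ((show Commute (z : C₀) y from hzcen y).zpow_left k).eq
      have hk3 : ∀ y : M, (τ * (z : C₀) ^ k)⁻¹ * (y : C₀) * (τ * (z : C₀) ^ k) = τ⁻¹ * y * τ := by
        intro y
        have hy : τ⁻¹ * (y : C₀) * τ ∈ M := by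
          have := Subgroup.Normal.conj_mem (inferInstance : M.Normal) y y.2 τ⁻¹
          simpa using this
        have h1 := hk2 ⟨_, hy⟩
        calc (τ * (z : C₀) ^ k)⁻¹ * (y : C₀) * (τ * (z : C₀) ^ k)
            = ((z : C₀) ^ k)⁻¹ * ((τ⁻¹ * (y : C₀) * τ) * (z : C₀) ^ k) := by
              rw [mul_inv_rev]; simp only [mul_assoc]
          _ = ((z : C₀) ^ k)⁻¹ * ((z : C₀) ^ k * (τ⁻¹ * (y : C₀) * τ)) := by
              congr 1
              exact h1.symm
          _ = _ := by rw [inv_mul_cancel_left]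
      refine ⟨fun hm => hτM ?_, hk3, ?_, ?_⟩
      · have := M.mul_mem hm (M.inv_mem hk1)
        rwa [mul_inv_cancel_right] at this
      · rw [hk3 z, h]
      · have h1 : τ * (z : C₀) ^ k * (τ * (z : C₀) ^ k) = τ * τ * ((z : C₀) ^ k * (z : C₀) ^ k) := by
          have := (hcomm.zpow_right k).eq
          calc τ * (z : C₀) ^ k * (τ * (z : C₀) ^ k) = τ * ((z : C₀) ^ k * τ) * (z : C₀) ^ k := by
                simp only [mul_assoc]
            _ = τ * (τ * (z : C₀) ^ k) * (z : C₀) ^ k := by rw [this]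
            _ = _ := by simp only [mul_assoc]
        rw [h1, ← hn', ← zpow_add, ← zpow_add]
        congr 1
        ring
    rcases Int.even_or_odd n with ⟨m, hm⟩ | ⟨m, hm⟩
    · obtain ⟨k1, k2, k3, k4⟩ := key (-m)
      refine ⟨_, k1, k2, k3, Or.inl ?_⟩
      rw [k4, show n + 2 * -m = 0 by omega, zpow_zero]
    · obtain ⟨k1, k2, k3, k4⟩ := key (-m)
      refine ⟨_, k1, k2, k3, Or.inr ?_⟩
      rw [k4, show n + 2 * -m = 1 by omega, zpow_one]
  have hmap : ∀ g, MRel C.x z C.h g →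
      MRel (fun i j u => (C.x i j u : C₀)) (z : C₀) (C.h : C₀) g := fun g R => R.map M.subtype
  have hzi3 : (z : C₀) ^ 3 = (z : C₀)⁻¹ := by
    rw [eq_inv_iff_mul_eq_one, ← pow_succ]
    exact_mod_cast hzC4
  rcases hR with R | R
  · have R' := hmap _ R
    rcases hkind with hk | hk | hk
    · have h1 : τ⁻¹ * (z : C₀) * τ = (z : C₀)⁻¹ := by
        rw [z_sigma R' hk rfl]; exact hzi3
      exact ⟨π, C, z, τ, hker, hcz, hz, httC, hτM, Or.inl ⟨R, Or.inl ⟨hk, h1, hinv h1⟩⟩⟩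
    · have h1 : τ⁻¹ * (z : C₀) * τ = (z : C₀) := by
        have h2 := z_gamma R' hk rfl
        have h3 : (z : C₀) ^ gI ω2 = (z : C₀)⁻¹ := hzi3
        rw [h3, mul_inv_eq_one] at h2
        exact h2
      obtain ⟨τ', a1, a2, a3, a4⟩ := hcent h1
      exact ⟨π, C, z, τ', hker, hcz, hz, httC, a1, Or.inl ⟨R, Or.inr (Or.inl
        ⟨fun i j hij u => (a2 _).trans (hk i j hij u), a3, a4⟩)⟩⟩
    · have h1 : τ⁻¹ * (z : C₀) * τ = (z : C₀)⁻¹ := eq_inv_of_mul_eq_one_left (z_sg R' hk rfl)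
      exact ⟨π, C, z, τ, hker, hcz, hz, httC, hτM, Or.inl ⟨R, Or.inr (Or.inr ⟨hk, h1, hinv h1⟩)⟩⟩
  · have R' := hmap _ R
    rcases hkind with hk | hk | hk
    · have h1 : τ⁻¹ * (z : C₀) * τ = (z : C₀) := by
        rw [z_sigma R' hk rfl]; exact pow_one _
      obtain ⟨τ', a1, a2, a3, a4⟩ := hcent h1
      exact ⟨π, C, z, τ', hker, hcz, hz, httC, a1, Or.inr ⟨R, Or.inl
        ⟨fun i j hij u => (a2 _).trans (hk i j hij u), a3, a4⟩⟩⟩
    · have h1 : τ⁻¹ * (z : C₀) * τ = (z : C₀)⁻¹ := by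
        have h2 := z_gamma R' hk rfl
        have h3 : (z : C₀) ^ gII ω2 = (z : C₀) := pow_one _
        rw [h3] at h2
        exact eq_inv_of_mul_eq_one_left h2
      exact ⟨π, C, z, τ, hker, hcz, hz, httC, hτM,
        Or.inr ⟨R, Or.inr (Or.inl ⟨hk, h1, hinv h1⟩)⟩⟩
    · have h1 : τ⁻¹ * (z : C₀) * τ = (z : C₀)⁻¹ := eq_inv_of_mul_eq_one_left (z_sg R' hk rfl)
      exact ⟨π, C, z, τ, hker, hcz, hz, httC, hτM,
        Or.inr ⟨R, Or.inr (Or.inr ⟨hk, h1, hinv h1⟩)⟩⟩

end Cfsg.Agent.ONType.OuterZ
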