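import Mathlib
import Cfsg.Agent.ClassicalGeometry.AutPSL.Main
import Cfsg.Agent.ONType.Psl

/-!
Automorphisms of `L = PSL(3, 4)`: after multiplication by an inner automorphism every automorphism
acts on the root elements by a diagonal automorphism, a field automorphism and possibly the graph
automorphism `x_12 ↔ x_23`.
-/

set_option autoImplicit false
set_option linter.constructorNameAsVariable false

namespace Cfsg.Agent.ONType.OuterL

open Matrix
open Cfsg.Agent.ClassicalGeometry.AutPSL.Root
open Cfsg.Agent.ClassicalGeometry.AutPSL.Auto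
open Cfsg.Agent.ClassicalGeometry.AutPSL.Main
open Cfsg.Agent.SporadicA.FieldFour
open Cfsg.Agent.ONType.Psl

instance charP_two : CharP F4 2 :=
  CharTwo.of_one_ne_zero_of_two_eq_zero (by decide) (by decide)

theorem neg_eq (u : F4) : -u = u := by cases u <;> rfl

section general

variable {ι F : Type*} [Fintype ι] [DecidableEq ι] [Field F]

theorem cj_eq_of {A : GL ι F} {x y : Matrix.SpecialLinearGroup ι F}
    (h : (A : Matrix ι ι F) * x.1 = y.1 * (A : Matrix ι ι F)) : cj A x = y := by
  apply Subtype.ext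
  rw [coe_cj]
  change (A : Matrix ι ι F) * x.1 * ((A⁻¹ : GL ι F) : Matrix ι ι F) = y.1
  rw [h, mul_assoc, ← Units.val_mul, mul_inv_cancel, Units.val_one, mul_one]

/-- an invertible matrix of determinant one as an element of `SL` -/
def mkSL (B : GL ι F) (h : (B : Matrix ι ι F).det = 1) : Matrix.SpecialLinearGroup ι F := ⟨B, h⟩

/-- Conjugation by a matrix of determinant one is inner. -/
theorem lift_cj_of_det {B : GL ι F} (h : (B : Matrix ι ι F).det = 1) :
    lift (cj B) = MulAut.conj (pr (mkSL B h)) := by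
  apply MulEquiv.ext
  intro x
  obtain ⟨x, rfl⟩ := pr_surjective x
  have key : cj B x = mkSL B h * x * (mkSL B h)⁻¹ := by
    apply cj_eq_of
    have : (mkSL B h * x * (mkSL B h)⁻¹) * mkSL B h = mkSL B h * x := by group
    exact (congrArg Subtype.val this).symm
  rw [lift_pr, MulAut.conj_apply, key, map_mul, map_mul, map_inv]

end general

theorem T_eq (i j : Fin 3) (hij : i ≠ j) (u : F4) :
    Matrix.SpecialLinearGroup.transvection hij u = T i j u := by
  apply Subtype.ext
  show (1 : Matrix (Fin 3) (Fin 3) F4) + Matrix.single i j u = tm i j u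
  ext a b
  rw [Matrix.add_apply, Matrix.one_apply, Matrix.single_apply, tm]
  by_cases h1 : a = b
  · have h2 : ¬ (i = a ∧ j = b) := by
      rintro ⟨h3, h4⟩
      exact hij (h3.trans (h1.trans h4.symm))
    rw [if_pos h1, if_pos h1, if_neg h2, add_zero]
  · rw [if_neg h1, if_neg h1, zero_add]
    by_cases h2 : i = a ∧ j = b
    · rw [if_pos h2, if_pos ⟨h2.1.symm, h2.2.symm⟩]
    · rw [if_neg h2, if_neg (fun h => h2 ⟨h.1.symm, h.2.symm⟩)]

theorem t_eq (i j : Fin 3) (hij : i ≠ j) (u : F4) :
    (pr (Matrix.SpecialLinearGroup.transvection hij u) : PSL3) = t i j u := by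
  rw [T_eq]; rfl

/-- The entries of `diag(d,1,1)`. -/
def dd (d : F4) (i : Fin 3) : F4 := if i = 0 then d else 1

/-- The matrix `diag(d,1,1)`. -/
def dm (d : F4) : Matrix (Fin 3) (Fin 3) F4 := fun a b => if a = b then dd d a else 0

theorem det_dm (d : F4) (hd : d ≠ 0) : (dm d).det ≠ 0 := by
  rw [Matrix.det_fin_three]; revert d; decide +kernel

theorem det_dm' (d : F4) : (dm d).det = d := by
  rw [Matrix.det_fin_three]; revert d; decide +kernel

/-- `diag(d,1,1)` as an element of `GL`. -/
noncomputable def D (d : F4) (hd : d ≠ 0) : GL (Fin 3) F4 :=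
  Matrix.GeneralLinearGroup.mkOfDetNeZero (dm d) (det_dm d hd)

theorem coe_D (d : F4) (hd : d ≠ 0) : (D d hd : Matrix (Fin 3) (Fin 3) F4) = dm d := rfl

/-- The permutation `0 ↔ 2` of the indices. -/
def rv (i : Fin 3) : Fin 3 := if i = 0 then 2 else if i = 1 then 1 else 0

theorem rv_ne {i j : Fin 3} (h : i ≠ j) : rv i ≠ rv j := by
  revert i j; decide

theorem rv_rv (i : Fin 3) : rv (rv i) = i := by revert i; decide

/-- The antidiagonal permutation matrix. -/
def Jm : Matrix (Fin 3) (Fin 3) F4 := fun a b => if a = rv b then 1 else 0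

theorem det_Jm : Jm.det = 1 := by rw [Matrix.det_fin_three]; decide +kernel

noncomputable def J : GL (Fin 3) F4 :=
  Matrix.GeneralLinearGroup.mkOfDetNeZero Jm (by rw [det_Jm]; exact one_ne_zero)

theorem coe_J : (J : Matrix (Fin 3) (Fin 3) F4) = Jm := rfl

theorem cj_D_T (d : F4) (hd : d ≠ 0) (i j : Fin 3) (hij : i ≠ j) (u : F4) :
    cj (D d hd) (T i j u) = T i j (dd d i * (dd d j)⁻¹ * u) := by
  apply cj_eq_of
  change dm d * tm i j u = tm i j (dd d i * (dd d j)⁻¹ * u) * dm d
  revert d i j u; decide +kernel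

theorem cj_J_T (i j : Fin 3) (u : F4) :
    cj J (T i j u) = T (rv i) (rv j) u := by
  apply cj_eq_of
  change Jm * tm i j u = tm (rv i) (rv j) u * Jm
  revert i j u; decide +kernel

theorem itr_T (i j : Fin 3) (hij : i ≠ j) (u : F4) : itr (T i j u) = T j i u := by
  rw [← T_eq i j hij, itr_transvection, neg_eq, T_eq]

theorem fld_T (σ : F4 ≃+* F4) (i j : Fin 3) (hij : i ≠ j) (u : F4) :
    fld σ (T i j u) = T i j (σ u) := by
  rw [← T_eq i j hij, fld_transvection, T_eq]

/-- The two automorphisms of `F4`. -/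
theorem ringEquiv_eq (σ : F4 ≃+* F4) : (∀ u, σ u = u) ∨ (∀ u, σ u = u * u) := by
  have h0 : σ F4.z = F4.z := map_zero σ
  have h1 : σ F4.o = F4.o := map_one σ
  have hw : σ F4.w ≠ F4.z := fun h => by
    have := σ.injective (h.trans h0.symm); exact absurd this (by decide)
  have hw1 : σ F4.w ≠ F4.o := fun h => by
    have := σ.injective (h.trans h1.symm); exact absurd this (by decide)
  have hv : σ F4.v = σ F4.w * σ F4.w := by rw [← map_mul]; rfl
  have hcase : σ F4.w = F4.w ∨ σ F4.w = F4.v := by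
    generalize σ F4.w = x at *
    cases x
    · exact absurd rfl hw
    · exact absurd rfl hw1
    · exact Or.inl rfl
    · exact Or.inr rfl
  rcases hcase with h | h
  · left
    intro u
    cases u
    · exact h0
    · exact h1
    · exact h
    · rw [hv, h]; rfl
  · right
    intro u
    cases u
    · exact h0
    · exact h1
    · rw [h]; rfl
    · rw [hv, h]

/-- Every automorphism of `PSL(3,4)` up to inner automorphisms. -/
theorem exists_std (β : MulAut PSL3) : ∃ (l : PSL3) (d : F4) (_ : d ≠ 0) (σ : F4 ≃+* F4),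
    (∀ i j : Fin 3, i ≠ j → ∀ u : F4,
      (MulAut.conj l * β) (t i j u) = t i j (dd d i * (dd d j)⁻¹ * σ u)) ∨
    (∀ i j : Fin 3, i ≠ j → ∀ u : F4,
      (MulAut.conj l * β) (t i j u) = t (rv j) (rv i) (dd d (rv j) * (dd d (rv i))⁻¹ * σ u)) := by
  have : Fact (Nat.Prime 2) := ⟨Nat.prime_two⟩
  rcases surj_three 2 (le_refl 3) β with ⟨A, σ, rfl⟩ | ⟨A, σ, rfl⟩
  · set d : F4 := (A : Matrix (Fin 3) (Fin 3) F4).det with hd_def
    have hd : d ≠ 0 := by
      have := A.isUnit.map (Matrix.detMonoidHom (n := Fin 3) (R := F4))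
      exact this.ne_zero
    have hB : ((D d hd * A⁻¹ : GL (Fin 3) F4) : Matrix (Fin 3) (Fin 3) F4).det = 1 := by
      have h1 : ((D d hd * A⁻¹ * A : GL (Fin 3) F4) : Matrix (Fin 3) (Fin 3) F4).det = d := by
        rw [inv_mul_cancel_right, coe_D, det_dm']
      rw [Units.val_mul, det_mul, ← hd_def] at h1
      exact mul_right_cancel₀ hd (h1.trans (one_mul d).symm)
    refine ⟨pr (mkSL _ hB), d, hd, σ, Or.inl ?_⟩
    intro i j hij u
    rw [← lift_cj_of_det hB, ← map_mul, ← mul_assoc, ← map_mul, inv_mul_cancel_right]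
    change lift (cj (D d hd) * fld σ) (pr (T i j u)) = pr (T i j _)
    rw [lift_pr, MulAut.mul_apply, fld_T σ i j hij, cj_D_T d hd i j hij]
  · set d : F4 := (A : Matrix (Fin 3) (Fin 3) F4).det with hd_def
    have hd : d ≠ 0 := by
      have := A.isUnit.map (Matrix.detMonoidHom (n := Fin 3) (R := F4))
      exact this.ne_zero
    have hB : ((D d hd * J * A⁻¹ : GL (Fin 3) F4) : Matrix (Fin 3) (Fin 3) F4).det = 1 := by
      have h1 : ((D d hd * J * A⁻¹ * A : GL (Fin 3) F4) : Matrix (Fin 3) (Fin 3) F4).det = d := by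
        rw [inv_mul_cancel_right, Units.val_mul, det_mul, coe_D, det_dm', coe_J, det_Jm, mul_one]
      rw [Units.val_mul, det_mul, ← hd_def] at h1
      exact mul_right_cancel₀ hd (h1.trans (one_mul d).symm)
    refine ⟨pr (mkSL _ hB), d, hd, σ, Or.inr ?_⟩
    intro i j hij u
    rw [← lift_cj_of_det hB, ← map_mul, ← mul_assoc, ← mul_assoc, ← map_mul,
      inv_mul_cancel_right]
    change lift (cj (D d hd * J) * fld σ * itr) (pr (T i j u)) = pr (T _ _ _)
    rw [lift_pr, MulAut.mul_apply, MulAut.mul_apply, itr_T i j hij, fld_T σ j i hij.symm, map_mul,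
      MulAut.mul_apply, cj_J_T, cj_D_T d hd _ _ (rv_ne hij.symm)]

end Cfsg.Agent.ONType.OuterL
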