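import Mathlib
import Cfsg.Agent.TwoFusion.IndexTwo
import Cfsg.Agent.S0215

/-!
# Fusion lemma (B1) and the transfer steps for groups of type O'N

* `exists_swap`: if the involutions `t` and `u` commute and are conjugate, and the involutions `v` of
  `C(t)` with `|C(t) ⊓ C(v)| = |C(t) ⊓ C(u)|` are `C(t)`-conjugate to `u`, some element swaps `t`, `u`.
* `exists_root`, `card_roots`: consequences of a swap.
* `not_conj_of_central`: if `z` is central in `C(t)` and `z * z = t`, then `t` is not conjugate to an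
  involution of `C(t)` outside a subgroup of index `2`.
* `sylow_of_center`, `exists_fused`, `exists_conj_mem`: Sylow, `Z*`, Thompson transfer.
-/

set_option autoImplicit false

namespace Cfsg.Agent.ONType.FusionB1

variable {G : Type*} [Group G]

/-- **(B1)** -/
theorem exists_swap {t u : G} (ht : t * t = 1) (ht1 : t ≠ 1) (hcomm : t * u = u * t)
    (hne : u ≠ t) (htu : IsConj t u)
    (hcl : ∀ v : G, v * t = t * v → v * v = 1 → v ≠ 1 → v ≠ t →
      Nat.card {x : G // x * t = t * x ∧ x * v = v * x} =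
        Nat.card {x : G // x * t = t * x ∧ x * u = u * x} →
      ∃ c, c * t = t * c ∧ c * v * c⁻¹ = u) :
    ∃ n, n * t * n⁻¹ = u ∧ n * u * n⁻¹ = t := by
  obtain ⟨g, hg⟩ := isConj_iff.1 htu
  have hgv : g * (g⁻¹ * t * g) * g⁻¹ = t := by group
  have hc : (g⁻¹ * t * g) * t = t * (g⁻¹ * t * g) := by
    have h1 : g * ((g⁻¹ * t * g) * t) * g⁻¹ = t * u := by
      rw [← hg]; group
    have h2 : g * (t * (g⁻¹ * t * g)) * g⁻¹ = u * t := by
      rw [← hg]; group
    have h3 : g * ((g⁻¹ * t * g) * t) * g⁻¹ = g * (t * (g⁻¹ * t * g)) * g⁻¹ := by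
      rw [h1, h2, hcomm]
    exact mul_left_cancel (mul_right_cancel h3)
  have hcard : Nat.card {x : G // x * t = t * x ∧ x * (g⁻¹ * t * g) = (g⁻¹ * t * g) * x} =
      Nat.card {x : G // x * t = t * x ∧ x * u = u * x} := by
    refine Nat.card_congr
      { toFun := fun x => ⟨g * x.1 * g⁻¹, ?_, ?_⟩
        invFun := fun y => ⟨g⁻¹ * y.1 * g, ?_, ?_⟩
        left_inv := fun x => by ext; simp only; group
        right_inv := fun x => by ext; simp only; group }
    · obtain ⟨x, h1, h2⟩ := x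
      show g * x * g⁻¹ * t = t * (g * x * g⁻¹)
      calc g * x * g⁻¹ * t = g * (x * (g⁻¹ * t * g)) * g⁻¹ := by group
        _ = g * ((g⁻¹ * t * g) * x) * g⁻¹ := by rw [h2]
        _ = _ := by group
    · obtain ⟨x, h1, h2⟩ := x
      show g * x * g⁻¹ * u = u * (g * x * g⁻¹)
      rw [← hg]
      calc g * x * g⁻¹ * (g * t * g⁻¹) = g * (x * t) * g⁻¹ := by group
        _ = g * (t * x) * g⁻¹ := by rw [h1]
        _ = _ := by group
    · obtain ⟨y, h1, h2⟩ := y
      show g⁻¹ * y * g * t = t * (g⁻¹ * y * g)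
      rw [← hg] at h2
      calc g⁻¹ * y * g * t = g⁻¹ * (y * (g * t * g⁻¹)) * g := by group
        _ = g⁻¹ * ((g * t * g⁻¹) * y) * g := by rw [h2]
        _ = _ := by group
    · obtain ⟨y, h1, h2⟩ := y
      show g⁻¹ * y * g * (g⁻¹ * t * g) = (g⁻¹ * t * g) * (g⁻¹ * y * g)
      calc g⁻¹ * y * g * (g⁻¹ * t * g) = g⁻¹ * (y * t) * g := by group
        _ = g⁻¹ * (t * y) * g := by rw [h1]
        _ = _ := by group
  obtain ⟨c, hct, hcv⟩ := hcl (g⁻¹ * t * g) hc
    (by
      calc g⁻¹ * t * g * (g⁻¹ * t * g) = g⁻¹ * (t * t) * g := by group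
        _ = 1 := by rw [ht]; group)
    (by
      intro h
      apply ht1
      rw [← hgv, h]; group)
    (by
      intro h
      apply hne
      rw [← hg]
      calc g * t * g⁻¹ = g * (g⁻¹ * t * g) * g⁻¹ := by rw [h]
        _ = t := hgv)
    hcard
  refine ⟨g * c⁻¹, ?_, ?_⟩
  · calc g * c⁻¹ * t * (g * c⁻¹)⁻¹ = g * (c⁻¹ * (t * c)) * g⁻¹ := by group
      _ = g * (c⁻¹ * (c * t)) * g⁻¹ := by rw [hct]
      _ = g * t * g⁻¹ := by group
      _ = u := hg
  · rw [← hcv]
    calc g * c⁻¹ * (c * (g⁻¹ * t * g) * c⁻¹) * (g * c⁻¹)⁻¹ = t := by group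
      _ = t := rfl

/-- the image of a root of `t` normalised by `C(t)` under a swap -/
theorem exists_root {t u n z : G} (hn1 : n * t * n⁻¹ = u) (hn2 : n * u * n⁻¹ = t)
    (hz : z * z = t) (hzu : z * u = u * z)
    (hzn : ∀ x, x * t = t * x → x * z = z * x ∨ x * z = z⁻¹ * x) :
    ∃ w, w * w = u ∧ w * t = t * w ∧ w * u = u * w ∧
      ∀ x, x * t = t * x → x * u = u * x → x * w = w * x ∨ x * w = w⁻¹ * x := by
  have hzt : z * t = t * z := by rw [← hz]; group
  have conj_mul : ∀ a b : G, n * (a * b) * n⁻¹ = (n * a * n⁻¹) * (n * b * n⁻¹) := by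
    intro a b; group
  refine ⟨n * z * n⁻¹, ?_, ?_, ?_, ?_⟩
  · rw [← conj_mul, hz, hn1]
  · rw [← hn2, ← conj_mul, ← conj_mul, hzu]
  · rw [← hn1, ← conj_mul, ← conj_mul, hzt]
  · intro x hxt hxu
    have h1 : (n⁻¹ * x * n) * t = t * (n⁻¹ * x * n) := by
      calc (n⁻¹ * x * n) * t = n⁻¹ * (x * (n * t * n⁻¹)) * n := by group
        _ = n⁻¹ * ((n * t * n⁻¹) * x) * n := by rw [hn1, hxu]
        _ = _ := by group
    rcases hzn _ h1 with h | h
    · left
      calc x * (n * z * n⁻¹) = n * ((n⁻¹ * x * n) * z) * n⁻¹ := by group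
        _ = n * (z * (n⁻¹ * x * n)) * n⁻¹ := by rw [h]
        _ = _ := by group
    · right
      calc x * (n * z * n⁻¹) = n * ((n⁻¹ * x * n) * z) * n⁻¹ := by group
        _ = n * (z⁻¹ * (n⁻¹ * x * n)) * n⁻¹ := by rw [h]
        _ = _ := by group

/-- a swap preserves the number of square roots -/
theorem card_roots {t u n : G} (hn1 : n * t * n⁻¹ = u) (hn2 : n * u * n⁻¹ = t) :
    Nat.card {x : G // x * t = t * x ∧ x * u = u * x ∧ x * x = t} =
      Nat.card {x : G // x * t = t * x ∧ x * u = u * x ∧ x * x = u} := by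
  have conj_mul : ∀ a b : G, n * (a * b) * n⁻¹ = (n * a * n⁻¹) * (n * b * n⁻¹) := by
    intro a b; group
  have conj_mul' : ∀ a b : G, n⁻¹ * (a * b) * n = (n⁻¹ * a * n) * (n⁻¹ * b * n) := by
    intro a b; group
  have hn1' : n⁻¹ * u * n = t := by rw [← hn1]; group
  have hn2' : n⁻¹ * t * n = u := by rw [← hn2]; group
  refine Nat.card_congr
    { toFun := fun x => ⟨n * x.1 * n⁻¹, ?_, ?_, ?_⟩
      invFun := fun y => ⟨n⁻¹ * y.1 * n, ?_, ?_, ?_⟩
      left_inv := fun x => by ext; simp only; group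
      right_inv := fun x => by ext; simp only; group }
  · obtain ⟨x, h1, h2, h3⟩ := x
    show n * x * n⁻¹ * t = t * (n * x * n⁻¹)
    rw [← hn2, ← conj_mul, ← conj_mul, h2]
  · obtain ⟨x, h1, h2, h3⟩ := x
    show n * x * n⁻¹ * u = u * (n * x * n⁻¹)
    rw [← hn1, ← conj_mul, ← conj_mul, h1]
  · obtain ⟨x, h1, h2, h3⟩ := x
    show n * x * n⁻¹ * (n * x * n⁻¹) = u
    rw [← conj_mul, h3, hn1]
  · obtain ⟨y, h1, h2, h3⟩ := y
    show n⁻¹ * y * n * t = t * (n⁻¹ * y * n)
    rw [← hn1', ← conj_mul', ← conj_mul', h2]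
  · obtain ⟨y, h1, h2, h3⟩ := y
    show n⁻¹ * y * n * u = u * (n⁻¹ * y * n)
    rw [← hn2', ← conj_mul', ← conj_mul', h1]
  · obtain ⟨y, h1, h2, h3⟩ := y
    show n⁻¹ * y * n * (n⁻¹ * y * n) = t
    rw [← conj_mul', h3, hn1']

/-- if `z` is central in `C(t)`, `z * z = t` and `s ∈ C(t)` is not a square in `C(t)`, then `s` is not
conjugate to `t`. -/
theorem not_conj_of_central {t z s : G} (hz : z * z = t)
    (hzc : ∀ x, x * t = t * x → x * z = z * x)
    (hst : s * t = t * s) (hs : ∀ x, x * t = t * x → x * x ≠ s) : ¬ IsConj t s := by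
  intro h
  obtain ⟨g, hg⟩ := isConj_iff.1 h
  have h1 : (g⁻¹ * t * g) * t = t * (g⁻¹ * t * g) := by
    have h2 : g * ((g⁻¹ * t * g) * t) * g⁻¹ = t * s := by rw [← hg]; group
    have h3 : g * (t * (g⁻¹ * t * g)) * g⁻¹ = s * t := by rw [← hg]; group
    have h4 : g * ((g⁻¹ * t * g) * t) * g⁻¹ = g * (t * (g⁻¹ * t * g)) * g⁻¹ := by
      rw [h2, h3, hst]
    exact mul_left_cancel (mul_right_cancel h4)
  have h2 := hzc _ h1
  refine hs (g * z * g⁻¹) ?_ ?_
  · calc g * z * g⁻¹ * t = g * (z * (g⁻¹ * t * g)) * g⁻¹ := by group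
      _ = g * ((g⁻¹ * t * g) * z) * g⁻¹ := by rw [h2]
      _ = _ := by group
  · calc g * z * g⁻¹ * (g * z * g⁻¹) = g * (z * z) * g⁻¹ := by group
      _ = s := by rw [hz, hg]

/-- a `2`-subgroup `S` which is maximal among the `2`-subgroups commuting with `t` and whose only
central involution is `t` is a Sylow `2`-subgroup of `G` -/
theorem sylow_of_center [Finite G] {t : G} (S : Subgroup G) (hS2 : IsPGroup 2 S)
    (hSmax : ∀ Q : Subgroup G, IsPGroup 2 Q → S ≤ Q → (∀ x ∈ Q, x * t = t * x) → Q = S)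
    (hSt : ∀ x ∈ S, x * t = t * x) (htS : t ∈ S)
    (hZ : ∀ c ∈ S, (∀ x ∈ S, x * c = c * x) → c * c = 1 → c = 1 ∨ c = t) :
    ∃ P : Sylow 2 G, (P : Subgroup G) = S := by
  have h2 : Fact (Nat.Prime 2) := ⟨Nat.prime_two⟩
  obtain ⟨P, hP⟩ := hS2.exists_le_sylow
  refine ⟨P, ?_⟩
  by_cases htriv : t = 1
  · refine hSmax P P.isPGroup' hP ?_
    intro x _; rw [htriv]; simp
  -- central involution of `P`
  have hnt : Nontrivial (P : Subgroup G) := by
    refine ⟨⟨⟨t, hP htS⟩, 1, ?_⟩⟩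
    intro h
    exact htriv (congrArg Subtype.val h)
  have hZnt : Nontrivial (Subgroup.center (P : Subgroup G)) :=
    P.isPGroup'.center_nontrivial
  have hZ2 : IsPGroup 2 (Subgroup.center (P : Subgroup G)) := P.isPGroup'.to_subgroup _
  have hdvd : 2 ∣ Nat.card (Subgroup.center (P : Subgroup G)) := by
    obtain ⟨n, hn⟩ := IsPGroup.iff_card.1 hZ2
    rw [hn]
    have hn0 : n ≠ 0 := by
      rintro rfl
      rw [pow_zero] at hn
      have := Finite.one_lt_card_iff_nontrivial.2 hZnt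
      omega
    exact dvd_pow_self 2 hn0
  obtain ⟨c, hc⟩ := exists_prime_orderOf_dvd_card' 2 hdvd
  set c' : G := ((c : (P : Subgroup G)) : G) with hc'
  have hcP : c' ∈ (P : Subgroup G) := (c : (P : Subgroup G)).2
  have hcc : ∀ x ∈ (P : Subgroup G), x * c' = c' * x := by
    intro x hx
    have := (Subgroup.mem_center_iff.1 c.2) ⟨x, hx⟩
    exact congrArg Subtype.val this
  have hc2 : c' * c' = 1 := by
    have := pow_orderOf_eq_one c
    rw [hc, pow_two] at this
    have h3 := congrArg (fun y : Subgroup.center (P : Subgroup G) => ((y : (P : Subgroup G)) : G)) this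
    exact h3
  have hc1 : c' ≠ 1 := by
    intro h
    have h3 : c = 1 := by
      apply Subtype.ext; apply Subtype.ext; exact h
    rw [h3, orderOf_one] at hc
    exact absurd hc (by decide)
  -- `c'` lies in `S`
  have hcS : c' ∈ S := by
    have h3 : (P : Subgroup G) ⊓ Subgroup.centralizer ({t} : Set G) = S := by
      apply hSmax
      · exact P.isPGroup'.to_le inf_le_left
      · intro x hx
        exact ⟨hP hx, Subgroup.mem_centralizer_singleton_iff.2 (hSt x hx)⟩
      · intro x hx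
        exact Subgroup.mem_centralizer_singleton_iff.1 hx.2
    rw [← h3]
    exact ⟨hcP, Subgroup.mem_centralizer_singleton_iff.2 (hcc t (hP htS)).symm⟩
  have hct : c' = t := by
    rcases hZ c' hcS (fun x hx => hcc x (hP hx)) hc2 with h | h
    · exact absurd h hc1
    · exact h
  refine hSmax P P.isPGroup' hP ?_
  intro x hx
  rw [← hct]
  exact hcc x hx

/-- **`Z*`**: in a simple group the involution `t` is not isolated. -/
theorem exists_fused [Finite G] [IsSimpleGroup G] (P : Sylow 2 G) {t : G} (ht : t * t = 1)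
    (ht1 : t ≠ 1) (htP : t ∈ P) (hnc : ∃ g : G, g * t ≠ t * g) :
    ∃ g : G, g * t * g⁻¹ ∈ P ∧ g * t * g⁻¹ ≠ t := by
  by_contra hcon
  push Not at hcon
  have hord : orderOf t = 2 := orderOf_eq_prime (by rw [pow_two, ht]) ht1
  obtain ⟨N, hN, hodd, hcomm⟩ := S0215.result P t hord htP (fun g hg => hcon g hg)
  rcases hN.eq_bot_or_eq_top with h | h
  · obtain ⟨g, hg⟩ := hnc
    have h1 := hcomm g
    rw [h, Subgroup.mem_bot] at h1
    apply hg
    have h2 : t * g * t⁻¹ * g⁻¹ * (g * t) = 1 * (g * t) := by rw [h1]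
    rw [one_mul] at h2
    rw [← h2]; group
  · rw [h, Subgroup.card_top] at hodd
    have h1 : 2 ∣ Nat.card G := by rw [← hord]; exact orderOf_dvd_natCard t
    rw [Nat.odd_iff] at hodd
    omega

/-- a simple group with a non-central element has no subgroup of index `2` -/
theorem index_ne_two [Finite G] [IsSimpleGroup G] {t g : G} (hg : g * t ≠ t * g)
    (H : Subgroup G) : H.index ≠ 2 := by
  intro hH
  have hn : H.Normal := Subgroup.normal_of_index_eq_two hH
  rcases hn.eq_bot_or_eq_top with h | h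
  · rw [h, Subgroup.index_bot] at hH
    have h2 : Fact (Nat.Prime 2) := ⟨Nat.prime_two⟩
    have hcyc : IsCyclic G := isCyclic_of_prime_card hH
    exact hg ((IsCyclic.commGroup (α := G)).mul_comm g t)
  · rw [h, Subgroup.index_top] at hH
    omega

/-- **Thompson transfer**: every involution of `S` is conjugate into the subgroup `U` of `S`
of index two. -/
theorem exists_conj_mem [Finite G] (hG : ∀ H : Subgroup G, H.index ≠ 2) (P : Sylow 2 G)
    (M : Subgroup G) (hM : ∀ x ∈ P, x ∉ M → ∀ y ∈ P, y ∉ M → x * y ∈ M)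
    (s : G) (hs : s ∈ P) (hs2 : s * s = 1) : ∃ g : G, g⁻¹ * s * g ∈ P ∧ g⁻¹ * s * g ∈ M := by
  by_cases hsM : s ∈ M
  · exact ⟨1, by simpa using hs, by simpa using hsM⟩
  have hidx : (M.subgroupOf (P : Subgroup G)).index = 2 := by
    rw [Subgroup.index_eq_two_iff_exists_notMem_and]
    refine ⟨⟨s, hs⟩, ?_, ?_⟩
    · rw [Subgroup.mem_subgroupOf]; exact hsM
    · intro b
      by_cases hb : b ∈ M.subgroupOf (P : Subgroup G)
      · exact Or.inr hb
      · left
        rw [Subgroup.mem_subgroupOf] at hb ⊢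
        exact hM b.1 b.2 hb s hs hsM
  obtain ⟨g, h, h'⟩ := TwoFusion.IndexTwo.exists_conj_mem hG (P : Subgroup G)
    (TwoFusion.IndexTwo.odd_index_sylow P) (M.subgroupOf (P : Subgroup G)) hidx ⟨s, hs⟩
    (by apply Subtype.ext; exact hs2)
  exact ⟨g, h, by rw [Subgroup.mem_subgroupOf] at h'; exact h'⟩

end Cfsg.Agent.ONType.FusionB1
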