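import Mathlib

/-!
# Fusion lemma (B2) for groups of type O'N

If an involution `s` of `C(t)` outside `M` is conjugate to `t`, then `t` is conjugate to an
involution of `M` different from `t`.
-/

set_option autoImplicit false

namespace Cfsg.Agent.ONType.FusionB2

variable {G : Type*} [Group G]

/-- a proper subgroup `P` of a finite `2`-group is normalised by an element outside `P` -/
theorem exists_normalizing [Finite G] {P Q : Subgroup G} (hQ : IsPGroup 2 Q) (hPQ : P ≤ Q)
    (hne : P ≠ Q) : ∃ y ∈ Q, y ∉ P ∧ ∀ x, x ∈ P ↔ y⁻¹ * x * y ∈ P := by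
  have : Fact (Nat.Prime 2) := ⟨Nat.prime_two⟩
  have hnil : Group.IsNilpotent Q := hQ.isNilpotent
  have hlt : P.subgroupOf Q < ⊤ := by
    rw [lt_top_iff_ne_top]
    intro h
    rw [Subgroup.subgroupOf_eq_top] at h
    exact hne (le_antisymm hPQ h)
  have h1 := Group.normalizerCondition_of_isNilpotent (G := Q) _ hlt
  obtain ⟨y, hy, hyP⟩ := SetLike.exists_of_lt h1
  refine ⟨y⁻¹, Q.inv_mem y.2, ?_, ?_⟩
  · intro h
    apply hyP
    rw [Subgroup.mem_subgroupOf]
    exact (P.inv_mem_iff).1 h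
  · intro x
    by_cases hx : x ∈ Q
    · have h2 := (Subgroup.mem_normalizer_iff.1 hy) ⟨x, hx⟩
      rw [Subgroup.mem_subgroupOf, Subgroup.mem_subgroupOf] at h2
      rw [inv_inv]
      exact h2
    · constructor
      · intro h; exact absurd (hPQ h) hx
      · intro h
        exfalso
        apply hx
        have h3 := hPQ h
        have h4 := Q.mul_mem (Q.mul_mem (Q.inv_mem y.2) h3) y.2
        convert h4 using 1
        group

/-- **(B2)** -/
theorem isConj_of_outer [Finite G] (t u s : G) (M P S : Subgroup G)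
    (ht : t * t = 1) (ht1 : t ≠ 1)
    (hu : u * u = 1) (hu1 : u ≠ 1) (htu : t * u = u * t) (hne : u ≠ t)
    (huM : u ∈ M) (htM : t ∈ M)
    (hM : ∀ x ∈ M, x * x = 1 → x ≠ 1 → x ≠ t → IsConj x u)
    (hst : IsConj s t)
    (hPt : ∀ x ∈ P, x * t = t * x) (hPs : ∀ x ∈ P, x * s = s * x)
    (hP2 : IsPGroup 2 P)
    (hPmax : ∀ Q : Subgroup G, IsPGroup 2 Q → P ≤ Q → (∀ x ∈ Q, x * t = t * x) →
      (∀ x ∈ Q, x * s = s * x) → Q = P)
    (hS2 : IsPGroup 2 S) (hSt : ∀ x ∈ S, x * t = t * x) (hlt : Nat.card P < Nat.card S)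
    (htP : t ∈ P) (huP : u ∈ P) (huZ : ∀ x ∈ P, x * u = u * x)
    (hZ : ∀ v ∈ P, (∀ x ∈ P, x * v = v * x) → v ∉ M → v * v = 1 → IsConj v s) :
    IsConj t u := by
  have h2 : Fact (Nat.Prime 2) := ⟨Nat.prime_two⟩
  -- move `S` into `C(s)`
  obtain ⟨g, hg⟩ := isConj_iff.1 hst.symm
  -- g * t * g⁻¹ = s
  set S' : Subgroup G := S.map (MulAut.conj g).toMonoidHom with hS'
  have hS'card : Nat.card S' = Nat.card S := Subgroup.card_map_of_injective (MulAut.conj g).injective
  have hS's : ∀ x ∈ S', x * s = s * x := by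
    rintro _ ⟨x, hx, rfl⟩
    show g * x * g⁻¹ * s = s * (g * x * g⁻¹)
    rw [← hg]
    calc g * x * g⁻¹ * (g * t * g⁻¹) = g * (x * t) * g⁻¹ := by group
      _ = g * (t * x) * g⁻¹ := by rw [hSt x hx]
      _ = _ := by group
  have hS'2 : IsPGroup 2 S' := hS2.map _
  set Cs := Subgroup.centralizer ({s} : Set G) with hCs
  -- Sylow subgroup of `C(s)` containing `P`
  have hPCs : P ≤ Cs := fun x hx => Subgroup.mem_centralizer_singleton_iff.2 (hPs x hx)
  have hS'Cs : S' ≤ Cs := fun x hx => Subgroup.mem_centralizer_singleton_iff.2 (hS's x hx)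
  have hPsub : IsPGroup 2 (P.subgroupOf Cs) := by
    exact hP2.of_equiv (Subgroup.subgroupOfEquivOfLe hPCs).symm
  have hSsub : IsPGroup 2 (S'.subgroupOf Cs) := by
    exact hS'2.of_equiv (Subgroup.subgroupOfEquivOfLe hS'Cs).symm
  obtain ⟨Q, hPQ⟩ := hPsub.exists_le_sylow
  obtain ⟨R, hSR⟩ := hSsub.exists_le_sylow
  have hQR : Nat.card Q = Nat.card R := Nat.card_congr (Sylow.equiv Q R).toEquiv
  have hcardQ : Nat.card S ≤ Nat.card Q := by
    rw [hQR, ← hS'card, ← Nat.card_congr (Subgroup.subgroupOfEquivOfLe hS'Cs).toEquiv]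
    exact Nat.le_of_dvd Nat.card_pos (Subgroup.card_dvd_of_le hSR)
  set Q' : Subgroup G := (Q : Subgroup Cs).map Cs.subtype with hQ'
  have hQ'2 : IsPGroup 2 Q' := Q.isPGroup'.map _
  have hQ'card : Nat.card Q' = Nat.card Q :=
    Subgroup.card_map_of_injective (Subgroup.subtype_injective _)
  have hPQ' : P ≤ Q' := by
    intro x hx
    exact ⟨⟨x, hPCs hx⟩, hPQ (Subgroup.mem_subgroupOf.2 hx), rfl⟩
  have hQ's : ∀ x ∈ Q', x * s = s * x := by
    rintro _ ⟨x, -, rfl⟩
    exact Subgroup.mem_centralizer_singleton_iff.1 x.2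
  have hneQ : P ≠ Q' := by
    intro h
    have : Nat.card P = Nat.card Q := by rw [h, hQ'card]
    omega
  obtain ⟨y, hyQ, hyP, hyn⟩ := exists_normalizing hQ'2 hPQ' hneQ
  -- `y` does not commute with `t`
  have hyt : y⁻¹ * t * y ≠ t := by
    intro h
    have hcomm : y * t = t * y := by
      calc y * t = y * (y⁻¹ * t * y) := by rw [h]
        _ = _ := by group
    -- the subgroup `Q' ⊓ C(t)`
    have h3 : Q' ⊓ Subgroup.centralizer ({t} : Set G) = P := by
      apply hPmax
      · exact hQ'2.to_le inf_le_left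
      · intro x hx
        exact ⟨hPQ' hx, Subgroup.mem_centralizer_singleton_iff.2 (hPt x hx)⟩
      · intro x hx
        exact Subgroup.mem_centralizer_singleton_iff.1 hx.2
      · intro x hx
        exact hQ's x hx.1
    apply hyP
    rw [← h3]
    exact ⟨hyQ, Subgroup.mem_centralizer_singleton_iff.2 hcomm⟩
  have hconj : ∀ x : G, IsConj x (y⁻¹ * x * y) := fun x =>
    isConj_iff.2 ⟨y⁻¹, by group⟩
  have hcen : ∀ v ∈ P, (∀ x ∈ P, x * v = v * x) → (y⁻¹ * v * y ∈ P ∧
      ∀ x ∈ P, x * (y⁻¹ * v * y) = (y⁻¹ * v * y) * x) := by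
    intro v hv hvz
    refine ⟨(hyn v).1 hv, ?_⟩
    intro x hx
    have h4 : y * x * y⁻¹ ∈ P := by
      rw [hyn]
      have : y⁻¹ * (y * x * y⁻¹) * y = x := by group
      rw [this]; exact hx
    calc x * (y⁻¹ * v * y) = y⁻¹ * ((y * x * y⁻¹) * v) * y := by group
      _ = y⁻¹ * (v * (y * x * y⁻¹)) * y := by rw [hvz _ h4]
      _ = _ := by group
  have huu : y⁻¹ * (u * t) * y = (y⁻¹ * u * y) * (y⁻¹ * t * y) := by group
  by_contra hcon
  -- `t ^ y` is not in `M`
  have htyM : y⁻¹ * t * y ∉ M := by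
    intro h
    apply hcon
    refine (hconj t).trans (hM _ h ?_ ?_ hyt)
    · calc y⁻¹ * t * y * (y⁻¹ * t * y) = y⁻¹ * (t * t) * y := by group
        _ = 1 := by rw [ht]; group
    · intro h1
      apply ht1
      calc t = y * (y⁻¹ * t * y) * y⁻¹ := by group
        _ = 1 := by rw [h1]; group
  have hut1 : u * t ≠ 1 := by
    intro h
    apply hne
    calc u = u * (t * t) := by rw [ht, mul_one]
      _ = (u * t) * t := by group
      _ = t := by rw [h, one_mul]
  have hutt : u * t ≠ t := by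
    intro h
    exact hu1 (mul_eq_right.1 h)
  have hutut : u * t * (u * t) = 1 := by
    calc u * t * (u * t) = u * (t * u) * t := by group
      _ = (u * u) * (t * t) := by rw [htu]; group
      _ = 1 := by rw [hu, ht, one_mul]
  have hutconj : IsConj (u * t) u := hM _ (M.mul_mem huM htM) hutut hut1 hutt
  have key : ∀ v ∈ P, (∀ x ∈ P, x * v = v * x) → v * v = 1 → IsConj v u →
      y⁻¹ * v * y ∈ M := by
    intro v hv hvz hv2 hvu
    by_contra hvM
    obtain ⟨h5, h6⟩ := hcen v hv hvz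
    have h7 := hZ _ h5 h6 hvM (by
      calc y⁻¹ * v * y * (y⁻¹ * v * y) = y⁻¹ * (v * v) * y := by group
        _ = 1 := by rw [hv2]; group)
    exact hcon ((hst.symm.trans h7.symm).trans ((hconj v).symm.trans hvu))
  have k1 := key u huP huZ hu (IsConj.refl u)
  have k2 := key (u * t) (P.mul_mem huP htP) (fun x hx => by
    rw [← mul_assoc, huZ x hx, mul_assoc, hPt x hx, mul_assoc]) hutut hutconj
  apply htyM
  rw [huu] at k2
  have := M.mul_mem (M.inv_mem k1) k2
  rwa [inv_mul_cancel_left] at this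

end Cfsg.Agent.ONType.FusionB2
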