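import Cfsg.Agent.SporadicB.ONHom

/-!
The relations of `⟨a, …, f⟩ = L₃(7):2` inside the O'Nan group.
-/

set_option autoImplicit false

namespace Cfsg.Agent.ONType

/-- The relations among `a, …, f` in the O'Nan group, with `a ≠ 1`. -/
structure PathRels {P : Type*} [Group P] (a b c d e f : P) : Prop where
  ne : a ≠ 1
  aa : a * a = 1
  bb : b * b = 1
  cc : c * c = 1
  dd : d * d = 1
  ee : e * e = 1
  ff : f * f = 1
  ab : (a * b) ^ 3 = 1
  bc : (b * c) ^ 3 = 1
  de : (d * e) ^ 3 = 1
  ef : (e * f) ^ 3 = 1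
  ac : a * c = c * a
  ad : a * d = d * a
  ae : a * e = e * a
  af : a * f = f * a
  bd : b * d = d * b
  be : b * e = e * b
  bf : b * f = f * b
  ce : c * e = e * c
  cf : c * f = f * c
  df : d * f = f * d
  afcd : a * f = (c * d) ^ 4

theorem PathRels.of_rels {P : Type*} [Group P] {a b c d e f g : P} (ne : a ≠ 1)
    (h : SporadicB.ONHom.Rels a b c d e f g) : PathRels a b c d e f :=
  ⟨ne, h.aa, h.bb, h.cc, h.dd, h.ee, h.ff, h.ab, h.bc, h.de, h.ef, h.ac, h.ad, h.ae, h.af, h.bd, h.be, h.bf,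
    h.ce, h.cf, h.df, h.afcd⟩

/-- Image under an injective homomorphism. -/
theorem PathRels.map {P Q : Type*} [Group P] [Group Q] {a b c d e f : P} (h : PathRels a b c d e f)
    (φ : P →* Q) (hφ : Function.Injective φ) : PathRels (φ a) (φ b) (φ c) (φ d) (φ e) (φ f) where
  ne := fun h' => h.ne (hφ (h'.trans (map_one φ).symm))
  aa := by rw [← map_mul, h.aa, map_one]
  bb := by rw [← map_mul, h.bb, map_one]
  cc := by rw [← map_mul, h.cc, map_one]
  dd := by rw [← map_mul, h.dd, map_one]
  ee := by rw [← map_mul, h.ee, map_one]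
  ff := by rw [← map_mul, h.ff, map_one]
  ab := by rw [← map_mul, ← map_pow, h.ab, map_one]
  bc := by rw [← map_mul, ← map_pow, h.bc, map_one]
  de := by rw [← map_mul, ← map_pow, h.de, map_one]
  ef := by rw [← map_mul, ← map_pow, h.ef, map_one]
  ac := by rw [← map_mul, h.ac, map_mul]
  ad := by rw [← map_mul, h.ad, map_mul]
  ae := by rw [← map_mul, h.ae, map_mul]
  af := by rw [← map_mul, h.af, map_mul]
  bd := by rw [← map_mul, h.bd, map_mul]
  be := by rw [← map_mul, h.be, map_mul]
  bf := by rw [← map_mul, h.bf, map_mul]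
  ce := by rw [← map_mul, h.ce, map_mul]
  cf := by rw [← map_mul, h.cf, map_mul]
  df := by rw [← map_mul, h.df, map_mul]
  afcd := by rw [← map_mul, h.afcd, map_pow, map_mul]

end Cfsg.Agent.ONType
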