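import Cfsg.Agent.Lib.PermNetOrbit

/-! Orbits of presented groups in a kernel permutation representation: two general lemmas (from the file of `Fi24`). -/

set_option autoImplicit false

namespace Cfsg.Agent.ONType.RepLib

open Cfsg.Agent.Lib.PermNet Cfsg.Agent.Lib.PermNetOrbit

/-- The orbit of a point under the image of a subgroup: saturation by `ws`, closure under `ws'`. -/
theorem orbit_closure_eq' {G : Type*} [Group G] (φ : G →* Equiv.Perm ℕ) (S : Set G) {N : ℕ}
    {ws ws' : List (List Net)} (hws : WsOk N ws) (hws' : WsOk N ws')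
    (hS : ∀ g ∈ S, ∃ w ∈ ws', wperm w = φ g) (hS' : ∀ w ∈ ws, ∃ g ∈ S, wperm w = φ g) {r p₀ U : ℕ}
    (hsat : Nat.beq (sat ws r (2 ^ p₀)) U = true) (hcl : closedB ws' U = true) (hp₀ : tb U p₀ = true) :
    {p : ℕ | ∃ x ∈ Subgroup.closure S, φ x p₀ = p} = {p | U.testBit p = true} := by
  have hU : sat ws r (2 ^ p₀) = U := Nat.eq_of_beq_eq_true hsat
  ext p
  rw [Set.mem_ofPred_eq, Set.mem_ofPred_eq]
  constructor
  · rintro ⟨x, hx, rfl⟩
    have hall : ∀ q, U.testBit (φ x q) = U.testBit q := by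
      induction hx using Subgroup.closure_induction with
      | mem y hy =>
        obtain ⟨w, hw, hwy⟩ := hS y hy
        intro q
        rw [← hwy]
        exact closedB_spec hws' hcl w hw q
      | one => intro q; rw [map_one]; rfl
      | mul y z _ _ hy hz => intro q; rw [map_mul, Equiv.Perm.mul_apply, hy, hz]
      | inv y _ hy => intro q; rw [← hy (φ y⁻¹ q), map_inv]; simp
    rw [hall, ← tb_eq, hp₀]
  · intro h
    rw [← hU] at h
    obtain ⟨g, ⟨x, hx, rfl⟩, hg⟩ := sat_point_spec (K := (Subgroup.closure S).map φ) hws (fun w hw => by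
      obtain ⟨g, hg, e⟩ := hS' w hw
      rw [e]
      exact Subgroup.mem_map_of_mem φ (Subgroup.subset_closure hg)) r h
    exact ⟨x, hx, hg⟩

/-- If `H` fixes `p₀`, the orbit of `p₀` has `n` points, and `H` has index at most `n`, then `H` is the stabiliser of
`p₀` and has index `n`. -/
theorem index_eq_of_orbit {G : Type*} [Group G] (H : Subgroup G) (φ : G →* Equiv.Perm ℕ) (n p₀ : ℕ)
    (h0 : ∀ h ∈ H, φ h p₀ = p₀) (horb : {p : ℕ | ∃ g, φ g p₀ = p}.ncard = n) (hub : H.index ≤ n)
    (hne : H.index ≠ 0) : H.index = n ∧ (∀ g, φ g p₀ = p₀ ↔ g ∈ H) := by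
  classical
  let ψ : G ⧸ H → ℕ := Quotient.lift (fun g : G => φ g p₀) (by
    intro a b hab
    have h1 : a⁻¹ * b ∈ H := QuotientGroup.leftRel_apply.1 hab
    have h2 : φ (a⁻¹ * b) p₀ = p₀ := h0 _ h1
    rw [map_mul, map_inv, Equiv.Perm.mul_apply, Equiv.Perm.inv_eq_iff_eq] at h2
    exact h2.symm)
  have hψ : ∀ g : G, ψ (g : G ⧸ H) = φ g p₀ := fun g => rfl
  have hfi : H.FiniteIndex := ⟨hne⟩
  have hfin : Finite (G ⧸ H) := inferInstance
  have := Fintype.ofFinite (G ⧸ H)
  have hcard : Fintype.card (G ⧸ H) = H.index := by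
    rw [← Nat.card_eq_fintype_card]; rfl
  have himg : {p : ℕ | ∃ g, φ g p₀ = p} = ((Finset.univ.image ψ : Finset ℕ) : Set ℕ) := by
    ext p
    simp only [Set.mem_ofPred_eq, Finset.coe_image, Finset.coe_univ, Set.image_univ, Set.mem_range]
    constructor
    · rintro ⟨g, rfl⟩
      exact ⟨(g : G ⧸ H), rfl⟩
    · rintro ⟨x, rfl⟩
      induction x using QuotientGroup.induction_on with
      | H g => exact ⟨g, rfl⟩
  rw [himg, Set.ncard_coe_finset] at horb
  have hle : (Finset.univ.image ψ).card ≤ Fintype.card (G ⧸ H) := by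
    have := Finset.card_image_le (s := (Finset.univ : Finset (G ⧸ H))) (f := ψ)
    rwa [Finset.card_univ] at this
  have hn : H.index = n := by omega
  refine ⟨hn, ?_⟩
  have hinj : Function.Injective ψ := by
    have h1 : (Finset.univ.image ψ).card = (Finset.univ : Finset (G ⧸ H)).card := by
      rw [horb, Finset.card_univ, hcard, hn]
    have h2 := Finset.card_image_iff.1 h1
    intro x y hxy
    exact h2 (Finset.mem_coe.2 (Finset.mem_univ x)) (Finset.mem_coe.2 (Finset.mem_univ y)) hxy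
  intro g
  constructor
  · intro hg
    have h3 : ψ (g : G ⧸ H) = ψ ((1 : G) : G ⧸ H) := by
      rw [hψ, hψ, hg, map_one]; rfl
    have h4 := hinj h3
    rw [QuotientGroup.eq] at h4
    have h5 : g⁻¹ ∈ H := by simpa using h4
    simpa using H.inv_mem h5
  · exact h0 g

end Cfsg.Agent.ONType.RepLib
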