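import Cfsg.Agent.ONType.Rep
import Cfsg.Agent.ONType.RepOrbData
import Cfsg.Agent.ONType.RepLib
import Cfsg.Agent.SporRec.ONAssembly

/-!
Kernel checks on the action of the presented O'Nan group on 122760 points: transitivity, orbits of
`H = ⟨a, …, f⟩` of lengths 1, 58653, 5586, 6384, 52136.
-/

set_option autoImplicit false
set_option maxRecDepth 100000
set_option Elab.async false

namespace Cfsg.Agent.ONType.RepOrb

open Cfsg.Agent.Lib.PermNet Cfsg.Agent.Lib.PermNetOrbit Cfsg.Agent.Fischer.Fi24RepLib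
  Cfsg.Agent.ONType.RepDef Cfsg.Agent.ONType.Rep Cfsg.Agent.ONType.RepOrbData
open Cfsg.Agent.ONType.RepLib (orbit_closure_eq' index_eq_of_orbit)
open Cfsg.Spor (ON)
open Cfsg.Spor.ON (Gen)

/-- all generators, as one letter words -/
def w0 : List (List Gen) := [[.g], [.a], [.b], [.c], [.d], [.e], [.f]]

/-- all generators but `g` -/
def w1 : List (List Gen) := [[.a], [.b], [.c], [.d], [.e], [.f]]

/-- a sequence of generators saturating the suborbit of length 58653 -/
def sA : List (List Gen) := [[.a], [.b], [.c], [.d], [.e], [.f], [.b], [.c], [.d], [.e], [.f], [.a], [.b], [.c], [.d], [.e],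
  [.f], [.a], [.b], [.c], [.d], [.e], [.f], [.a], [.b], [.c], [.d], [.e], [.f], [.a], [.b], [.c],
  [.d], [.e], [.f], [.a], [.b], [.c], [.d], [.e], [.b]]

/-- a sequence of generators saturating the suborbit of length 5586 -/
def sB : List (List Gen) := [[.a], [.b], [.c], [.d], [.e], [.f], [.b], [.c], [.d], [.e], [.f], [.a], [.b], [.c], [.d], [.e],
  [.f], [.b], [.c], [.d], [.e], [.f], [.a], [.b], [.c], [.d], [.e], [.f], [.a], [.b], [.c], [.d],
  [.e], [.f], [.a], [.b], [.c], [.d], [.e], [.f], [.a], [.b], [.c], [.d], [.e]]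

/-- a sequence of generators saturating the suborbit of length 6384 -/
def sC : List (List Gen) := [[.a], [.b], [.c], [.d], [.e], [.f], [.a], [.b], [.c], [.d], [.e], [.f], [.a], [.c], [.d], [.e],
  [.f], [.b], [.c], [.d], [.e], [.f], [.a], [.b], [.c], [.d], [.e], [.f], [.a], [.b], [.c], [.d],
  [.e], [.f], [.a], [.b]]

/-- a sequence of generators saturating the suborbit of length 52136 -/
def sD : List (List Gen) := [[.a], [.b], [.c], [.d], [.e], [.f], [.a], [.b], [.c], [.d], [.e], [.f], [.a], [.c], [.d], [.e],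
  [.f], [.b], [.c], [.d], [.e], [.f], [.a], [.b], [.c], [.d], [.e], [.f], [.a], [.b], [.c], [.d],
  [.e], [.f], [.a], [.b], [.c], [.d], [.e], [.f], [.a], [.b], [.c], [.d], [.e], [.a], [.b], [.c],
  [.d]]

/-- a sequence of generators saturating the whole orbit -/
def sG : List (List Gen) := [[.g], [.b], [.c], [.d], [.e], [.f], [.g], [.a], [.b], [.c], [.d], [.e], [.f], [.g], [.a], [.b],
  [.c], [.d], [.e], [.f], [.g], [.a], [.b], [.c], [.d], [.e], [.f], [.g], [.a], [.b], [.c], [.d],
  [.e]]

/-- all points -/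
noncomputable def UG : ℕ := Nat.lor U58653 (Nat.lor U5586 (Nat.lor U6384 (Nat.lor U52136 1)))

theorem satA : Nat.beq (sat (nws sA) 1 (2 ^ 8)) U58653 = true := by decide +kernel
theorem clA : closedB (nws w1) U58653 = true := by decide +kernel
theorem tbA : tb U58653 8 = true := by decide +kernel
theorem pcA : Nat.beq (pc 17 U58653) (58653 : ℕ) = true := by decide +kernel
theorem ltA : Nat.beq (Nat.shiftRight U58653 (Nat.pow 2 (17 : ℕ))) 0 = true := by decide +kernel
theorem subA : tb UG 8 = true := by decide +kernel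
theorem satB : Nat.beq (sat (nws sB) 1 (2 ^ 72)) U5586 = true := by decide +kernel
theorem clB : closedB (nws w1) U5586 = true := by decide +kernel
theorem tbB : tb U5586 72 = true := by decide +kernel
theorem pcB : Nat.beq (pc 17 U5586) (5586 : ℕ) = true := by decide +kernel
theorem ltB : Nat.beq (Nat.shiftRight U5586 (Nat.pow 2 (17 : ℕ))) 0 = true := by decide +kernel
theorem subB : tb UG 72 = true := by decide +kernel
theorem satC : Nat.beq (sat (nws sC) 1 (2 ^ 88)) U6384 = true := by decide +kernel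
theorem clC : closedB (nws w1) U6384 = true := by decide +kernel
theorem tbC : tb U6384 88 = true := by decide +kernel
theorem pcC : Nat.beq (pc 17 U6384) (6384 : ℕ) = true := by decide +kernel
theorem ltC : Nat.beq (Nat.shiftRight U6384 (Nat.pow 2 (17 : ℕ))) 0 = true := by decide +kernel
theorem subC : tb UG 88 = true := by decide +kernel
theorem satD : Nat.beq (sat (nws sD) 1 (2 ^ 168)) U52136 = true := by decide +kernel
theorem clD : closedB (nws w1) U52136 = true := by decide +kernel
theorem tbD : tb U52136 168 = true := by decide +kernel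
theorem pcD : Nat.beq (pc 17 U52136) (52136 : ℕ) = true := by decide +kernel
theorem ltD : Nat.beq (Nat.shiftRight U52136 (Nat.pow 2 (17 : ℕ))) 0 = true := by decide +kernel
theorem subD : tb UG 168 = true := by decide +kernel
theorem satG : Nat.beq (sat (nws sG) 1 (2 ^ 0)) UG = true := by decide +kernel
theorem closedG : closedB (nws w0) UG = true := by decide +kernel
theorem tbG : tb UG 0 = true := by decide +kernel
theorem pcG : Nat.beq (pc 17 UG) (122760 : ℕ) = true := by decide +kernel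
theorem ltG : Nat.beq (Nat.shiftRight UG (Nat.pow 2 (17 : ℕ))) 0 = true := by decide +kernel
theorem fix0 : fixB (nws w1) 0 = true := by decide +kernel

/-! ### The subgroup `H` -/

/-- The set of generators but `g` in the presented group. -/
def S1 : Set ON := {x | ∃ l ∈ w1, word l = x}

/-- The set of all generators. -/
def S0 : Set ON := {x | ∃ l ∈ w0, word l = x}

/-- The subgroup generated by all generators but `g`. -/
def H : Subgroup ON := Subgroup.closure S1

theorem word_single (x : Gen) : word [x] = gen x := by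
  unfold word; simp

theorem S0_eq : S0 = Set.range gen := by
  ext x
  unfold S0 w0
  constructor
  · rintro ⟨l, hl, rfl⟩
    simp only [List.mem_cons, List.not_mem_nil, or_false] at hl
    rcases hl with rfl | rfl | rfl | rfl | rfl | rfl | rfl <;>
      exact ⟨_, (word_single _).symm⟩
  · rintro ⟨x, rfl⟩
    refine ⟨[x], ?_, word_single x⟩
    cases x <;> simp

theorem closure_S0 : Subgroup.closure S0 = ⊤ := by
  rw [S0_eq]
  exact PresentedGroup.closure_range_of _

theorem S1_eq : S1 = SporRec.ONAssembly.sg '' {x | x < 6} := by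
  ext x
  unfold S1 w1
  constructor
  · rintro ⟨l, hl, rfl⟩
    simp only [List.mem_cons, List.not_mem_nil, or_false] at hl
    rcases hl with rfl | rfl | rfl | rfl | rfl | rfl <;> rw [word_single]
    · exact ⟨2, by decide, rfl⟩
    · exact ⟨4, by decide, rfl⟩
    · exact ⟨0, by decide, rfl⟩
    · exact ⟨1, by decide, rfl⟩
    · exact ⟨5, by decide, rfl⟩
    · exact ⟨3, by decide, rfl⟩
  · rintro ⟨n, hn, rfl⟩
    have hn' : n < 6 := hn
    interval_cases n
    · exact ⟨[.c], by simp, word_single _⟩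
    · exact ⟨[.d], by simp, word_single _⟩
    · exact ⟨[.a], by simp, word_single _⟩
    · exact ⟨[.f], by simp, word_single _⟩
    · exact ⟨[.b], by simp, word_single _⟩
    · exact ⟨[.e], by simp, word_single _⟩

theorem H_eq : H = SporRec.ONAssembly.H := by
  rw [SporRec.ONAssembly.H_eq, H, S1_eq]

theorem hS (ws : List (List Gen)) (x : ON) (hx : ∃ l ∈ ws, word l = x) :
    ∃ w ∈ nws ws, wperm w = rho x := by
  obtain ⟨l, hl, rfl⟩ := hx
  exact ⟨nw l false, List.mem_map_of_mem hl, (rho_word l).symm⟩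

theorem hS' (ws : List (List Gen)) (S : Set ON) (h : ∀ l ∈ ws, word l ∈ S) (w : List Net)
    (hw : w ∈ nws ws) : ∃ x ∈ S, wperm w = rho x := by
  obtain ⟨l, hl, rfl⟩ := List.mem_map.1 hw
  exact ⟨word l, h l hl, (rho_word l).symm⟩

theorem mem1 {ws : List (List Gen)} (h : ∀ l ∈ ws, l ∈ w1) : ∀ l ∈ ws, word l ∈ S1 :=
  fun l hl => ⟨l, h l hl, rfl⟩

theorem mem0 {ws : List (List Gen)} (h : ∀ l ∈ ws, l ∈ w0) : ∀ l ∈ ws, word l ∈ S0 :=
  fun l hl => ⟨l, h l hl, rfl⟩

/-- `H` fixes the point 0. -/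
theorem H_fix (h : ON) (hh : h ∈ H) : rho h 0 = 0 := by
  unfold H at hh
  induction hh using Subgroup.closure_induction with
  | mem x hx =>
    obtain ⟨l, hl, rfl⟩ := hx
    rw [rho_word]
    exact fixB_spec (nws_ok w1) fix0 _ (List.mem_map_of_mem hl)
  | one => rw [map_one]; rfl
  | mul x y _ _ hx hy => rw [map_mul, Equiv.Perm.mul_apply, hy, hx]
  | inv x _ hx => rw [map_inv, Equiv.Perm.inv_eq_iff_eq, hx]

theorem orbA : {p : ℕ | ∃ x ∈ H, rho x 8 = p} = {p | U58653.testBit p = true} :=
  orbit_closure_eq' rho S1 (nws_ok sA) (nws_ok w1) (hS w1) (hS' sA S1 (mem1 (by decide))) satA clA tbA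

theorem ncardA : {p : ℕ | ∃ x ∈ H, rho x 8 = p}.ncard = 58653 := by
  rw [orbA]; exact ncard_testBit ltA pcA

theorem orbB : {p : ℕ | ∃ x ∈ H, rho x 72 = p} = {p | U5586.testBit p = true} :=
  orbit_closure_eq' rho S1 (nws_ok sB) (nws_ok w1) (hS w1) (hS' sB S1 (mem1 (by decide))) satB clB tbB

theorem ncardB : {p : ℕ | ∃ x ∈ H, rho x 72 = p}.ncard = 5586 := by
  rw [orbB]; exact ncard_testBit ltB pcB

theorem orbC : {p : ℕ | ∃ x ∈ H, rho x 88 = p} = {p | U6384.testBit p = true} :=
  orbit_closure_eq' rho S1 (nws_ok sC) (nws_ok w1) (hS w1) (hS' sC S1 (mem1 (by decide))) satC clC tbC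

theorem ncardC : {p : ℕ | ∃ x ∈ H, rho x 88 = p}.ncard = 6384 := by
  rw [orbC]; exact ncard_testBit ltC pcC

theorem orbD : {p : ℕ | ∃ x ∈ H, rho x 168 = p} = {p | U52136.testBit p = true} :=
  orbit_closure_eq' rho S1 (nws_ok sD) (nws_ok w1) (hS w1) (hS' sD S1 (mem1 (by decide))) satD clD tbD

theorem ncardD : {p : ℕ | ∃ x ∈ H, rho x 168 = p}.ncard = 52136 := by
  rw [orbD]; exact ncard_testBit ltD pcD

theorem orbG : {p : ℕ | ∃ x, rho x 0 = p} = {p | UG.testBit p = true} := by
  have h := orbit_closure_eq' rho S0 (nws_ok sG) (nws_ok w0) (hS w0) (hS' sG S0 (mem0 (by decide))) satG closedG tbG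
  rw [closure_S0] at h
  rw [← h]
  ext p
  simp

theorem ncardG : {p : ℕ | ∃ x, rho x 0 = p}.ncard = 122760 := by
  rw [orbG]; exact ncard_testBit ltG pcG

theorem exists_of_tb {p : ℕ} (h : tb UG p = true) : ∃ x, rho x 0 = p := by
  have h1 : p ∈ {p : ℕ | ∃ x, rho x 0 = p} := by
    rw [orbG, Set.mem_ofPred_eq, ← tb_eq, h]
  exact h1

/-- Index, point stabiliser and suborbits of `H`, given the upper bound for the index. -/
theorem index_and_suborbits (hub : H.index ≤ 122760) (hne : H.index ≠ 0) :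
    H.index = 122760 ∧ (∀ x, rho x 0 = 0 ↔ x ∈ H) ∧
    ∃ q₁ q₂ q₃ q₄ : ON ⧸ H, (MulAction.orbit H q₁).ncard = 6384 ∧ (MulAction.orbit H q₂).ncard = 5586 ∧
      (MulAction.orbit H q₃).ncard = 58653 ∧ (MulAction.orbit H q₄).ncard = 52136 := by
  obtain ⟨h1, h2⟩ := index_eq_of_orbit H rho 122760 0 H_fix ncardG hub hne
  obtain ⟨g1, hg1⟩ := exists_of_tb subC
  obtain ⟨g2, hg2⟩ := exists_of_tb subB
  obtain ⟨g3, hg3⟩ := exists_of_tb subA
  obtain ⟨g4, hg4⟩ := exists_of_tb subD
  refine ⟨h1, h2, (g1 : ON ⧸ H), (g2 : ON ⧸ H), (g3 : ON ⧸ H), (g4 : ON ⧸ H), ?_, ?_, ?_, ?_⟩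
  · rw [ncard_orbit_quotient H H rho h2, hg1]; exact ncardC
  · rw [ncard_orbit_quotient H H rho h2, hg2]; exact ncardB
  · rw [ncard_orbit_quotient H H rho h2, hg3]; exact ncardA
  · rw [ncard_orbit_quotient H H rho h2, hg4]; exact ncardD

/-- The suborbits of `⟨a, …, f⟩` in the presented O'Nan group. -/
theorem suborbits (h : SporRec.ONAssembly.H.index = 122760) :
    ∃ q₁ q₂ q₃ q₄ : ON ⧸ SporRec.ONAssembly.H,
      (MulAction.orbit SporRec.ONAssembly.H q₁).ncard = 6384 ∧
      (MulAction.orbit SporRec.ONAssembly.H q₂).ncard = 5586 ∧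
      (MulAction.orbit SporRec.ONAssembly.H q₃).ncard = 58653 ∧
      (MulAction.orbit SporRec.ONAssembly.H q₄).ncard = 52136 := by
  rw [← H_eq] at h ⊢
  exact (index_and_suborbits h.le (by rw [h]; norm_num)).2.2

end Cfsg.Agent.ONType.RepOrb
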