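import Cfsg.Agent.SporadicB.ON45Word
import Cfsg.Agent.ONType.SecondData

/-!
A second tuple `(a, b, c, d₂, e₂, f, g₂)` of generators of the presented O'Nan group satisfying all defining
relations (the image of the standard tuple under an outer automorphism fixing `a` and `f`).
-/

set_option autoImplicit false

namespace Cfsg.Agent.ONType.SecondTuple

open Cfsg.Spor Cfsg.Spor.ON Cfsg.Agent.Lib.PackMat Cfsg.Agent.SporadicB.ON45Data Cfsg.Agent.SporadicB.ON45Rels
  Cfsg.Agent.SporadicB.ON45Word Cfsg.Agent.SporadicB.ONHom Cfsg.Agent.ONType.SecondData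

/-- Two elements represented by equal products are equal. -/
theorem eq_of_check (hs : IsSimpleGroup ON) {x y : ON} {l m : List ℕ} (hx : LW x l) (hy : LW y m)
    (h : checkEq C45 l m 0 45 = true) : x = y := by
  obtain ⟨h1, u, h2, h3⟩ := hx
  obtain ⟨k1, v, k2, k3⟩ := hy
  have h4 := prod_eq_of_check (C := C45) good (by decide) h1 k1 h
  have h5 : u = v := Subtype.ext (h2.trans (h4.trans k2.symm))
  apply rho_injective hs
  rw [← h3, ← k3, h5]

/-- second tuple: `a, b, c, g d g⁻¹, g e g⁻¹, f, c g c d g d g` -/
def a2 : ON := on .a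
def b2 : ON := on .b
def c2 : ON := on .c
/-- `g d g³` -/
def d2 : ON := ([.g, .d, .g, .g, .g].map on).prod
/-- `g e g³` -/
def e2 : ON := ([.g, .e, .g, .g, .g].map on).prod
def f2 : ON := on .f
/-- `c g c d g d g` -/
def g2 : ON := ([.c, .g, .c, .d, .g, .d, .g].map on).prod

theorem la : LW a2 [gens 0] := LW.gen .a
theorem lb : LW b2 [gens 1] := LW.gen .b
theorem lc : LW c2 [gens 2] := LW.gen .c
theorem lf : LW f2 [gens 5] := LW.gen .f
theorem ld : LW d2 [gd2] := (LW.word _).change (by decide +kernel) (by decide +kernel)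
theorem le : LW e2 [ge2] := (LW.word _).change (by decide +kernel) (by decide +kernel)
theorem lg : LW g2 [gg2] := (LW.word _).change (by decide +kernel) (by decide +kernel)

theorem rels2 (hs : IsSimpleGroup ON) : Rels a2 b2 c2 d2 e2 f2 g2 where
  aa := (la.mul la).eq_one hs 1 (by decide) (by decide +kernel)
  bb := (lb.mul lb).eq_one hs 1 (by decide) (by decide +kernel)
  cc := (lc.mul lc).eq_one hs 1 (by decide) (by decide +kernel)
  dd := (ld.mul ld).eq_one hs 1 (by decide) (by decide +kernel)
  ee := (le.mul le).eq_one hs 1 (by decide) (by decide +kernel)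
  ff := (lf.mul lf).eq_one hs 1 (by decide) (by decide +kernel)
  ab := ((la.mul lb).pow 3).eq_one hs 1 (by decide) (by decide +kernel)
  bc := ((lb.mul lc).pow 3).eq_one hs 1 (by decide) (by decide +kernel)
  de := ((ld.mul le).pow 3).eq_one hs 1 (by decide) (by decide +kernel)
  ef := ((le.mul lf).pow 3).eq_one hs 1 (by decide) (by decide +kernel)
  ac := eq_of_check hs (la.mul lc) (lc.mul la) (by decide +kernel)
  ad := eq_of_check hs (la.mul ld) (ld.mul la) (by decide +kernel)
  ae := eq_of_check hs (la.mul le) (le.mul la) (by decide +kernel)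
  af := eq_of_check hs (la.mul lf) (lf.mul la) (by decide +kernel)
  bd := eq_of_check hs (lb.mul ld) (ld.mul lb) (by decide +kernel)
  be := eq_of_check hs (lb.mul le) (le.mul lb) (by decide +kernel)
  bf := eq_of_check hs (lb.mul lf) (lf.mul lb) (by decide +kernel)
  ce := eq_of_check hs (lc.mul le) (le.mul lc) (by decide +kernel)
  cf := eq_of_check hs (lc.mul lf) (lf.mul lc) (by decide +kernel)
  df := eq_of_check hs (ld.mul lf) (lf.mul ld) (by decide +kernel)
  afcd := eq_of_check hs (la.mul lf) ((lc.mul ld).pow 4) (by decide +kernel)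
  afgg := eq_of_check hs (la.mul lf) (lg.mul lg) (by decide +kernel)
  cdg := eq_of_check hs (lc.mul (((ld.mul lg).mul ld).mul lg)) ((((ld.mul lg).mul ld).mul lg).mul lc)
    (by decide +kernel)
  dcg := eq_of_check hs (ld.mul (((lc.mul lg).mul lc).mul lg)) ((((lc.mul lg).mul lc).mul lg).mul ld)
    (by decide +kernel)
  bcdg := ((((lb.mul lc).mul ld).mul lg).pow 5).eq_one hs 2 (by decide) (by decide +kernel)
  gb := ((((lg.mul lb).mul ((lc.mul lg).mul lc)).mul ((lb.mul lg).mul lb)).mul ((lc.mul lg).mul lc)).eq_one hs 2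
    (by decide) (by decide +kernel)
  ge := ((((lg.mul le).mul ((ld.mul lg).mul ld)).mul ((le.mul lg).mul le)).mul ((ld.mul lg).mul ld)).eq_one hs 2
    (by decide) (by decide +kernel)

/-- the automorphism -/
noncomputable def sigma (hs : IsSimpleGroup ON) : ON →* ON := hom (rels2 hs)

theorem sigma_on (hs : IsSimpleGroup ON) (x : Gen) : sigma hs (on x) = fam a2 b2 c2 d2 e2 f2 g2 x :=
  hom_of (rels2 hs) x

theorem a2_ne : a2 ≠ 1 := by
  have h : LW a2 [ga] := la
  exact h.ne_one 0 2 (by decide) (by decide +kernel)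

/-- Seven elements of a group of the order of the O'Nan group, satisfying the relations, `a` nontrivial: the
homomorphism from the presented group is an isomorphism. -/
theorem exists_equiv (hON : Cfsg.IsON ON) {G : Type*} [Group G] (hG : Nat.card G = 460815505920)
    {a b c d e f g : G} (h : Rels a b c d e f g) (ha : a ≠ 1) :
    ∃ E : ON ≃* G, ∀ x, E (on x) = fam a b c d e f g x := by
  have hs : IsSimpleGroup ON := hON.1
  have hfG : Finite G := Nat.finite_of_card_ne_zero (by rw [hG]; norm_num)
  have hinj : Function.Injective (hom h) := by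
    rw [← MonoidHom.ker_eq_bot_iff]
    rcases hs.eq_bot_or_eq_top_of_normal (hom h).ker inferInstance with h0 | h0
    · exact h0
    · exfalso
      apply ha
      have h1 : hom h (on .a) = a := hom_of h .a
      rw [← h1]
      have h2 : on .a ∈ (hom h).ker := by rw [h0]; trivial
      exact h2
  have hbij : Function.Bijective (hom h) :=
    (Nat.bijective_iff_injective_and_card _).2 ⟨hinj, by rw [hG]; exact hON.2⟩
  exact ⟨MulEquiv.ofBijective (hom h) hbij, fun x => hom_of h x⟩

/-- The second tuple comes from an automorphism of the presented group. -/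
theorem exists_aut (hON : Cfsg.IsON ON) : ∃ E : ON ≃* ON, ∀ x, E (on x) = fam a2 b2 c2 d2 e2 f2 g2 x :=
  exists_equiv hON hON.2 (rels2 hON.1) a2_ne

end Cfsg.Agent.ONType.SecondTuple
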