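import Mathlib

/-!
Two groups `H₁`, `H₂` with a normal subgroup of index two isomorphic to the same centreless group `P` with
`|Out P| = 6`, containing its own centraliser, are isomorphic (the two subgroups of order two of `Out P` are conjugate).
-/

set_option autoImplicit false

namespace Cfsg.Agent.ONType.TwoExt

variable {P H : Type*} [Group P] [Group H]

/-- the action of `H` on a normal subgroup isomorphic to `P` -/
noncomputable def act (N : Subgroup H) [N.Normal] (e : N ≃* P) : H →* MulAut P :=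
  (MulAut.congr e).toMonoidHom.comp MulAut.conjNormal

theorem act_apply (N : Subgroup H) [N.Normal] (e : N ≃* P) (h : H) (x : P) :
    act N e h x = e (MulAut.conjNormal h (e.symm x)) := rfl

theorem act_mem (N : Subgroup H) [N.Normal] (e : N ≃* P) (n : N) :
    act N e (n : H) = MulAut.conj (e n) := by
  ext x
  rw [act_apply, MulAut.conj_apply]
  have : MulAut.conjNormal (n : H) (e.symm x) = n * e.symm x * n⁻¹ := by
    ext
    simp
  rw [this, map_mul, map_mul, map_inv, MulEquiv.apply_symm_apply]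

theorem act_injective (N : Subgroup H) [N.Normal] (e : N ≃* P)
    (hc : Subgroup.centralizer (N : Set H) = ⊥) : Function.Injective (act N e) := by
  rw [injective_iff_map_eq_one]
  intro h hh
  rw [← Subgroup.mem_bot, ← hc, Subgroup.mem_centralizer_iff]
  intro n hn
  have h1 : act N e h (e ⟨n, hn⟩) = e ⟨n, hn⟩ := by rw [hh]; rfl
  rw [act_apply, MulEquiv.symm_apply_apply] at h1
  have h2 := congrArg Subtype.val (e.injective h1)
  rw [MulAut.conjNormal_apply] at h2
  have h3 : h * n * h⁻¹ = n := h2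
  rw [mul_inv_eq_iff_eq_mul] at h3
  exact h3.symm

theorem inn_le_range (N : Subgroup H) [N.Normal] (e : N ≃* P) :
    (MulAut.conj : P →* MulAut P).range ≤ (act N e).range := by
  rintro _ ⟨x, rfl⟩
  exact ⟨(e.symm x : N), by rw [act_mem, MulEquiv.apply_symm_apply]⟩

theorem conj_injective (hZ : Subgroup.center P = ⊥) : Function.Injective (MulAut.conj : P →* MulAut P) := by
  rw [← MonoidHom.ker_eq_bot_iff, eq_bot_iff, ← hZ]
  intro x hx
  rw [MonoidHom.mem_ker] at hx
  rw [Subgroup.mem_center_iff]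
  intro y
  have h1 : MulAut.conj x y = y := by rw [hx]; rfl
  rw [MulAut.conj_apply, mul_inv_eq_iff_eq_mul] at h1
  exact h1.symm

instance inn_normal : (MulAut.conj : P →* MulAut P).range.Normal := by
  constructor
  rintro _ ⟨x, rfl⟩ f
  refine ⟨f x, ?_⟩
  ext y
  simp [MulAut.mul_apply]

/-- conjugacy of the two index-two extensions inside `Aut P` -/
theorem exists_conj [Finite P] (hZ : Subgroup.center P = ⊥)
    (hA : Nat.card (MulAut P) = 6 * Nat.card P) (R₁ R₂ : Subgroup (MulAut P))
    (h₁ : (MulAut.conj : P →* MulAut P).range ≤ R₁) (h₂ : (MulAut.conj : P →* MulAut P).range ≤ R₂)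
    (c₁ : Nat.card R₁ = 2 * Nat.card P) (c₂ : Nat.card R₂ = 2 * Nat.card P) :
    ∃ g : MulAut P, R₁.map (MulAut.conj g).toMonoidHom = R₂ := by
  classical
  set I := (MulAut.conj : P →* MulAut P).range with hI
  have hP : 0 < Nat.card P := Nat.card_pos
  have hcI : Nat.card I = Nat.card P :=
    (Nat.card_congr (MonoidHom.ofInjective (conj_injective hZ)).toEquiv).symm
  have hfin : Finite (MulAut P) := by
    apply Nat.finite_of_card_ne_zero
    rw [hA]; positivity
  let π := QuotientGroup.mk' I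
  have hQ : Nat.card (MulAut P ⧸ I) = 6 := by
    have h := Subgroup.card_eq_card_quotient_mul_card_subgroup I
    rw [hA, hcI] at h
    exact (Nat.eq_of_mul_eq_mul_right hP h).symm
  have hker : π.ker = I := QuotientGroup.ker_mk' I
  have hcomap : ∀ R : Subgroup (MulAut P), I ≤ R → (R.map π).comap π = R := by
    intro R hR
    rw [Subgroup.comap_map_eq, hker, sup_eq_left.mpr hR]
  have hcard : ∀ R : Subgroup (MulAut P), I ≤ R → Nat.card R = 2 * Nat.card P →
      Nat.card (R.map π) = 2 := by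
    intro R hR hc
    have h3 : R.index = 3 := by
      have h4 := Subgroup.card_mul_index R
      rw [hc, hA] at h4
      have h5 : Nat.card P * (2 * R.index) = Nat.card P * 6 := by
        rw [← mul_assoc, mul_comm (Nat.card P) 2, h4, mul_comm]
      have h6 := Nat.eq_of_mul_eq_mul_left hP h5
      omega
    have h7 : (R.map π).index = 3 := by
      rw [Subgroup.index_map_eq R (QuotientGroup.mk'_surjective I) (hker.trans_le hR), h3]
    have h8 := Subgroup.card_mul_index (R.map π)
    rw [h7, hQ] at h8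
    omega
  have hfac : 2 ^ (Nat.card (MulAut P ⧸ I)).factorization 2 = 2 := by
    rw [hQ]
    have : (6 : ℕ).factorization 2 = 1 := by
      rw [show (6 : ℕ) = 2 * 3 by norm_num, Nat.factorization_mul (by norm_num) (by norm_num)]
      simp [Nat.Prime.factorization_self Nat.prime_two, Nat.factorization_eq_zero_of_not_dvd]
    rw [this, pow_one]
  have : Fact (Nat.Prime 2) := ⟨Nat.prime_two⟩
  let S₁ : Sylow 2 (MulAut P ⧸ I) := Sylow.ofCard (R₁.map π) ((hcard R₁ h₁ c₁).trans hfac.symm)
  let S₂ : Sylow 2 (MulAut P ⧸ I) := Sylow.ofCard (R₂.map π) ((hcard R₂ h₂ c₂).trans hfac.symm)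
  obtain ⟨g', hg'⟩ := MulAction.exists_smul_eq (MulAut P ⧸ I) S₁ S₂
  obtain ⟨g, rfl⟩ := QuotientGroup.mk'_surjective I g'
  refine ⟨g, ?_⟩
  have h9 : (R₁.map π).map (MulAut.conj (π g)).toMonoidHom = R₂.map π := by
    have h10 := congrArg (fun S : Sylow 2 (MulAut P ⧸ I) => (S : Subgroup (MulAut P ⧸ I))) hg'
    exact h10
  have h11 : (R₁.map (MulAut.conj g).toMonoidHom).map π = R₂.map π := by
    rw [← h9, Subgroup.map_map, Subgroup.map_map]
    congr 1
  have h12 : I ≤ R₁.map (MulAut.conj g).toMonoidHom := by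
    intro x hx
    refine ⟨g⁻¹ * x * g, h₁ ?_, ?_⟩
    · have h13 := inn_normal.conj_mem x hx g⁻¹
      rwa [inv_inv] at h13
    · simp [mul_assoc]
  rw [← hcomap _ h12, h11, hcomap _ h₂]

/-- **Uniqueness of the extension by two.** -/
theorem nonempty_mulEquiv {H₁ H₂ : Type*} [Group H₁] [Group H₂] [Finite P]
    (hZ : Subgroup.center P = ⊥) (hA : Nat.card (MulAut P) = 6 * Nat.card P)
    (N₁ : Subgroup H₁) [N₁.Normal] (i₁ : N₁.index = 2) (e₁ : N₁ ≃* P)
    (z₁ : Subgroup.centralizer (N₁ : Set H₁) = ⊥)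
    (N₂ : Subgroup H₂) [N₂.Normal] (i₂ : N₂.index = 2) (e₂ : N₂ ≃* P)
    (z₂ : Subgroup.centralizer (N₂ : Set H₂) = ⊥) : Nonempty (H₁ ≃* H₂) := by
  have c₁ : Nat.card H₁ = 2 * Nat.card P := by
    rw [← Subgroup.card_mul_index N₁, i₁, Nat.card_congr e₁.toEquiv, mul_comm]
  have c₂ : Nat.card H₂ = 2 * Nat.card P := by
    rw [← Subgroup.card_mul_index N₂, i₂, Nat.card_congr e₂.toEquiv, mul_comm]
  have f₁ := MonoidHom.ofInjective (act_injective N₁ e₁ z₁)
  have f₂ := MonoidHom.ofInjective (act_injective N₂ e₂ z₂)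
  obtain ⟨g, hg⟩ := exists_conj hZ hA (act N₁ e₁).range (act N₂ e₂).range (inn_le_range N₁ e₁)
    (inn_le_range N₂ e₂) ((Nat.card_congr f₁.toEquiv).symm.trans c₁)
    ((Nat.card_congr f₂.toEquiv).symm.trans c₂)
  have f₃ := (act N₁ e₁).range.equivMapOfInjective (MulAut.conj g).toMonoidHom (MulAut.conj g).injective
  rw [hg] at f₃
  exact ⟨(f₁.trans f₃).trans f₂.symm⟩

end Cfsg.Agent.ONType.TwoExt
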