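import Cfsg.Agent.S0242
import Cfsg.Agent.S0265
import Cfsg.Agent.S0813
import Cfsg.Agent.ONType.TwoExt
import Cfsg.Agent.ONType.PathRels
import Cfsg.Agent.ONType.RepOrb
import Cfsg.Agent.ONType.SecondTuple

/-!
The subgroups `L₃(7):2` of the O'Nan group: every subgroup with a normal subgroup of index two isomorphic to
`PSL(3,7)` is the image of `⟨a, …, f⟩` under an isomorphism from the presented O'Nan group; index and suborbits.
-/

set_option autoImplicit false
set_option maxRecDepth 100000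

namespace Cfsg.Agent.ONType.S1657Core

open Cfsg.Spor (ON)
open Cfsg.Spor.ON (Gen)
open Cfsg.Agent.SporRec.ONL37
open Cfsg.Agent.SporadicB.ONHom (fam)

/-! ### `PSL(3,7)` and its automorphisms -/

instance finite_PSL37 : Finite PSL37 := Nat.finite_of_card_ne_zero (by rw [card_PSL37]; norm_num)

theorem center_PSL37 : Subgroup.center PSL37 = ⊥ := by
  have hs := simple_PSL37
  rcases hs.eq_bot_or_eq_top_of_normal (Subgroup.center PSL37) inferInstance with h | h
  · exact h
  · exfalso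
    have hcomm : ∀ x y : PSL37, x * y = y * x := fun x y =>
      (Subgroup.mem_center_iff.mp (by rw [h]; trivial : y ∈ Subgroup.center PSL37)) x
    let _ : CommGroup PSL37 := { (inferInstance : Group PSL37) with mul_comm := hcomm }
    have hp := IsSimpleGroup.prime_card (α := PSL37)
    rw [card_PSL37] at hp
    revert hp
    norm_num

theorem card_mulAut : Nat.card (MulAut PSL37) = 6 * Nat.card PSL37 := by
  have : Fact (Nat.Prime 7) := ⟨by norm_num⟩
  have h := S0813.result (F := ZMod 7) 7 1 le_rfl (by rw [ZMod.card]; norm_num) 3 (by norm_num) (by norm_num)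
  rw [S0265.result, if_neg (by norm_num)] at h
  have h2 := S0242.result (F := ZMod 7) (q := 7) (ZMod.card 7) 3 (by norm_num)
  simp only [Fin.prod_univ_three] at h2
  have h3 : 6 * Nat.card (Matrix.SpecialLinearGroup (Fin 3) (ZMod 7)) = 33784128 := by
    rw [show (6 : ℕ) = 7 - 1 from rfl, h2]
    rfl
  rw [h, card_PSL37]
  clear h h2
  generalize Nat.card (Matrix.SpecialLinearGroup (Fin 3) (ZMod 7)) = c at h3 ⊢
  omega

theorem centralizer_N0 : Subgroup.centralizer (N0 : Set Q) = ⊥ := by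
  have hn := N0_normal
  have hn' : (Subgroup.centralizer (N0 : Set Q)).Normal := inferInstance
  by_contra hne
  have hle := N0_le_of_normal _ hne
  have hcomm : ∀ x y : PSL37, x * y = y * x := by
    intro x y
    have hx : (N0_equiv.symm x : Q) ∈ Subgroup.centralizer (N0 : Set Q) := hle (N0_equiv.symm x).2
    have h1 := Subgroup.mem_centralizer_iff.mp hx (N0_equiv.symm y : Q) (N0_equiv.symm y).2
    have h2 : N0_equiv.symm y * N0_equiv.symm x = N0_equiv.symm x * N0_equiv.symm y := Subtype.ext h1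
    rw [← map_mul, ← map_mul] at h2
    exact (N0_equiv.symm.injective h2).symm
  have h3 : Subgroup.center PSL37 = ⊤ := by
    rw [eq_top_iff]
    intro x _
    exact Subgroup.mem_center_iff.mpr fun y => hcomm y x
  rw [center_PSL37] at h3
  have h4 : Nat.card (⊥ : Subgroup PSL37) = Nat.card PSL37 := by
    rw [h3]; exact Nat.card_congr Subgroup.topEquiv.toEquiv
  rw [Subgroup.card_bot, card_PSL37] at h4
  norm_num at h4

/-! ### Transport of suborbits -/

theorem orbit_transport {A B : Type*} [Group A] [Group B] (Ψ : A ≃* B) (H : Subgroup A) (K : Subgroup B)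
    (h : H.map Ψ.toMonoidHom = K) (q : A ⧸ H) :
    ∃ q' : B ⧸ K, (MulAction.orbit K q').ncard = (MulAction.orbit H q).ncard := by
  have hmem : ∀ x : A, Ψ x ∈ K ↔ x ∈ H := by
    intro x
    rw [← h]
    constructor
    · rintro ⟨y, hy, hxy⟩
      rwa [← Ψ.injective hxy]
    · exact fun hx => ⟨x, hx, rfl⟩
  let F : A ⧸ H → B ⧸ K := Quotient.lift (fun a : A => ((Ψ a : B) : B ⧸ K)) (by
    intro a b hab
    have h1 : a⁻¹ * b ∈ H := QuotientGroup.leftRel_apply.1 hab
    rw [QuotientGroup.eq, ← map_inv, ← map_mul, hmem]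
    exact h1)
  have hF : ∀ a : A, F (a : A ⧸ H) = ((Ψ a : B) : B ⧸ K) := fun a => rfl
  have hinj : Function.Injective F := by
    intro x y
    refine QuotientGroup.induction_on x (fun a => ?_)
    refine QuotientGroup.induction_on y (fun b => ?_)
    intro hab
    rw [hF, hF, QuotientGroup.eq, ← map_inv, ← map_mul, hmem] at hab
    rw [QuotientGroup.eq]
    exact hab
  refine ⟨F q, ?_⟩
  rw [← Set.ncard_image_of_injective _ hinj]
  congr 1
  refine QuotientGroup.induction_on q (fun a => ?_)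
  ext p
  constructor
  · rintro ⟨k, rfl⟩
    obtain ⟨x, hx, hxk⟩ : (k : B) ∈ H.map Ψ.toMonoidHom := by rw [h]; exact k.2
    refine ⟨(((x * a : A)) : A ⧸ H), ⟨⟨x, hx⟩, rfl⟩, ?_⟩
    rw [hF, map_mul]
    have hxk' : Ψ x = (k : B) := hxk
    rw [hxk']
    rfl
  · rintro ⟨_, ⟨x, rfl⟩, rfl⟩
    refine ⟨⟨Ψ x, (hmem _).mpr x.2⟩, ?_⟩
    show (((Ψ (x : A)) * (Ψ a) : B) : B ⧸ K) = F ((((x : A) * a : A)) : A ⧸ H)
    rw [hF, map_mul]

/-! ### The subgroup `L₃(7):2` of a group in which involutions have centralisers of order prime to 19 -/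

theorem card_N {G : Type*} [Group G] {H : Subgroup G} {N : Subgroup H} (eN : N ≃* PSL37) :
    Nat.card N = 1876896 := by
  rw [Nat.card_congr eN.toEquiv, card_PSL37]

theorem card_H {G : Type*} [Group G] {H : Subgroup G} {N : Subgroup H} (hN : N.index = 2)
    (eN : N ≃* PSL37) : Nat.card H = 3753792 := by
  rw [← Subgroup.card_mul_index N, hN, card_N eN]

theorem centralizer_eq_bot {G : Type*} [Group G] [Finite G]
    (hC : ∀ s : G, orderOf s = 2 → Nat.card (Subgroup.centralizer ({s} : Set G)) = 161280)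
    {H : Subgroup G} {N : Subgroup H} [N.Normal] (hN : N.index = 2) (eN : N ≃* PSL37) :
    Subgroup.centralizer (N : Set H) = ⊥ := by
  rw [eq_bot_iff]
  intro z hz
  rw [Subgroup.mem_bot]
  have hzN : ∀ w : H, w ∈ Subgroup.centralizer (N : Set H) → w ∈ N → w = 1 := by
    intro w hw hwN
    have h1 : eN ⟨w, hwN⟩ ∈ Subgroup.center PSL37 := by
      rw [Subgroup.mem_center_iff]
      intro y
      have h2 := Subgroup.mem_centralizer_iff.mp hw (eN.symm y : H) (eN.symm y).2
      have h3 : eN.symm y * ⟨w, hwN⟩ = ⟨w, hwN⟩ * eN.symm y := Subtype.ext h2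
      have h4 := congrArg eN h3
      rwa [map_mul, map_mul, MulEquiv.apply_symm_apply] at h4
    rw [center_PSL37, Subgroup.mem_bot, MulEquiv.map_eq_one_iff] at h1
    exact congrArg Subtype.val h1
  have hzz : z * z ∈ N := by
    have := Subgroup.mul_self_mem_of_index_two hN z
    exact this
  have hz2 : z * z = 1 := hzN _ (mul_mem hz hz) hzz
  by_contra hne
  have hord : orderOf (z : G) = 2 := by
    rw [Subgroup.orderOf_coe]
    exact orderOf_eq_prime (by rw [pow_two, hz2]) hne
  have hle : N.map H.subtype ≤ Subgroup.centralizer ({(z : G)} : Set G) := by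
    rintro _ ⟨x, hx, rfl⟩
    rw [Subgroup.mem_centralizer_singleton_iff]
    have h1 := Subgroup.mem_centralizer_iff.mp hz x hx
    exact congrArg Subtype.val h1
  have h5 := Subgroup.card_dvd_of_le hle
  rw [hC _ hord, Nat.card_congr (N.equivMapOfInjective _ H.subtype_injective).symm.toEquiv, card_N eN] at h5
  revert h5
  norm_num

/-- `H` is isomorphic to the model group `Q = L₃(7):2`. -/
theorem exists_iso {G : Type*} [Group G] [Finite G]
    (hC : ∀ s : G, orderOf s = 2 → Nat.card (Subgroup.centralizer ({s} : Set G)) = 161280)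
    {H : Subgroup G} {N : Subgroup H} [N.Normal] (hN : N.index = 2) (eN : N ≃* PSL37) :
    Nonempty (Q ≃* H) := by
  have h0 := N0_normal
  exact TwoExt.nonempty_mulEquiv center_PSL37 card_mulAut N0 index_N0 N0_equiv centralizer_N0 N hN eN
    (centralizer_eq_bot hC hN eN)

/-! ### The relations in `Q` -/

theorem outer_ne_one (A : SL37) : outer A ≠ 1 := by
  intro h
  have h1 := congrArg (fun x : Q => (x.right : MulAut PSL37)) h
  exact tauAut_ne_one h1

theorem qa_ne_one : qa ≠ 1 := outer_ne_one _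

theorem qf_ne_one : qf ≠ 1 := outer_ne_one _

theorem comm_of_sq {G : Type*} [Group G] {x y : G} (hx : x * x = 1) (hy : y * y = 1)
    (h : (x * y) ^ 2 = 1) : x * y = y * x := by
  have h1 : x * y = (x * y)⁻¹ := by
    rw [eq_inv_iff_mul_eq_one, ← pow_two, h]
  rw [h1, mul_inv_rev, inv_eq_of_mul_eq_one_left hx, inv_eq_of_mul_eq_one_left hy]

theorem pathRels_q : PathRels qa qb qc qd qe qf where
  ne := qa_ne_one
  aa := qa_sq
  bb := qb_sq
  cc := qc_sq
  dd := qd_sq
  ee := qe_sq
  ff := qf_sq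
  ab := qab
  bc := qbc
  de := qde
  ef := qef
  ac := comm_of_sq qa_sq qc_sq qac
  ad := comm_of_sq qa_sq qd_sq qad
  ae := comm_of_sq qa_sq qe_sq qae
  af := comm_of_sq qa_sq qf_sq qaf
  bd := comm_of_sq qb_sq qd_sq qbd
  be := comm_of_sq qb_sq qe_sq qbe
  bf := comm_of_sq qb_sq qf_sq qbf
  ce := comm_of_sq qc_sq qe_sq qce
  cf := comm_of_sq qc_sq qf_sq qcf
  df := comm_of_sq qd_sq qf_sq qdf
  afcd := qaf_eq

theorem qa_ne_qf : qa ≠ qf := by
  intro h
  have h2 : Subgroup.closure {qa, qb, qc, qd, qe, qf} ≤ Subgroup.centralizer ({qa} : Set Q) := by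
    rw [Subgroup.closure_le]
    rintro x hx
    have hr := pathRels_q
    simp only [Set.mem_insert_iff, Set.mem_singleton_iff] at hx
    rw [SetLike.mem_coe, Subgroup.mem_centralizer_singleton_iff]
    rcases hx with rfl | rfl | rfl | rfl | rfl | rfl
    · rfl
    · rw [h]; exact hr.bf
    · exact hr.ac.symm
    · exact hr.ad.symm
    · exact hr.ae.symm
    · exact hr.af.symm
  have h1 : qa ∈ Subgroup.centralizer (N0 : Set Q) := by
    rw [Subgroup.mem_centralizer_iff]
    intro x _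
    have hx : x ∈ Subgroup.closure {qa, qb, qc, qd, qe, qf} := by rw [closure_gens]; trivial
    exact Subgroup.mem_centralizer_singleton_iff.mp (h2 hx)
  rw [centralizer_N0, Subgroup.mem_bot] at h1
  exact qa_ne_one h1

/-! ### Conjugacy of the subgroups -/

open Cfsg.Agent.SporadicB.ON45Word (on)
open Cfsg.Agent.ONType.SecondTuple

/-- The classification of the tuples `(a, …, f)` up to conjugacy (to be supplied). -/
def TupleConj : Prop := ∀ a1 b1 c1 d1 e1 : ON, PathRels a1 b1 c1 d1 e1 (on .f) → a1 ≠ on .f → ∃ x : ON,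
  (x * a1 * x⁻¹ = on .a ∧ x * b1 * x⁻¹ = on .b ∧ x * c1 * x⁻¹ = on .c ∧ x * d1 * x⁻¹ = on .d ∧
    x * e1 * x⁻¹ = on .e ∧ x * on .f * x⁻¹ = on .f) ∨
  (x * a1 * x⁻¹ = a2 ∧ x * b1 * x⁻¹ = b2 ∧ x * c1 * x⁻¹ = c2 ∧ x * d1 * x⁻¹ = d2 ∧
    x * e1 * x⁻¹ = e2 ∧ x * on .f * x⁻¹ = f2)

theorem exists_psi (hON : Cfsg.IsON ON) (hT : TupleConj)
    (hinv : ∀ s : ON, orderOf s = 2 → ∃ y : ON, y * s * y⁻¹ = on .f)
    {G : Type*} [Group G] (e0 : G ≃* ON) (φ : Q →* G) (hφ : Function.Injective φ) :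
    ∃ Ψ : ON ≃* G, Ψ (on .a) = φ qa ∧ Ψ (on .b) = φ qb ∧ Ψ (on .c) = φ qc ∧ Ψ (on .d) = φ qd ∧
      Ψ (on .e) = φ qe ∧ Ψ (on .f) = φ qf := by
  have hf2 : orderOf (e0 (φ qf)) = 2 := by
    refine orderOf_eq_prime ?_ ?_
    · rw [pow_two, ← map_mul, ← map_mul, qf_sq, map_one, map_one]
    · intro h
      exact qf_ne_one (hφ ((e0.map_eq_one_iff.mp h).trans (map_one φ).symm))
  obtain ⟨y, hy⟩ := hinv _ hf2
  let χ : Q →* ON := (MulAut.conj y).toMonoidHom.comp (e0.toMonoidHom.comp φ)
  have hχ : ∀ q, χ q = y * e0 (φ q) * y⁻¹ := fun q => rfl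
  have hχi : Function.Injective χ := (MulAut.conj y).injective.comp (e0.injective.comp hφ)
  have hrel := pathRels_q.map χ hχi
  have hχf : χ qf = on .f := by rw [hχ, hy]
  rw [hχf] at hrel
  have hne : χ qa ≠ on .f := by
    rw [← hχf]
    exact fun h => qa_ne_qf (hχi h)
  obtain ⟨x, h | h⟩ := hT _ _ _ _ _ hrel hne
  · obtain ⟨h1, h2, h3, h4, h5, h6⟩ := h
    have key : ∀ (q : Q) (w : ON), x * χ q * x⁻¹ = w → e0.symm (y⁻¹ * (x⁻¹ * w * x) * y) = φ q := by
      intro q w hw
      rw [← hw, hχ, MulEquiv.symm_apply_eq]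
      group
    refine ⟨(MulAut.conj (y⁻¹ * x⁻¹)).trans e0.symm, ?_, ?_, ?_, ?_, ?_, ?_⟩
    all_goals rw [MulEquiv.trans_apply, MulAut.conj_apply]
    · rw [← key qa _ h1]; congr 1; group
    · rw [← key qb _ h2]; congr 1; group
    · rw [← key qc _ h3]; congr 1; group
    · rw [← key qd _ h4]; congr 1; group
    · rw [← key qe _ h5]; congr 1; group
    · rw [← key qf (on .f) (by rw [hχf]; exact h6)]; congr 1; group
  · obtain ⟨h1, h2, h3, h4, h5, h6⟩ := h
    obtain ⟨E, hE⟩ := exists_aut hON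
    have key : ∀ (q : Q) (w : ON), x * χ q * x⁻¹ = w → e0.symm (y⁻¹ * (x⁻¹ * w * x) * y) = φ q := by
      intro q w hw
      rw [← hw, hχ, MulEquiv.symm_apply_eq]
      group
    refine ⟨E.trans ((MulAut.conj (y⁻¹ * x⁻¹)).trans e0.symm), ?_, ?_, ?_, ?_, ?_, ?_⟩
    all_goals rw [MulEquiv.trans_apply, MulEquiv.trans_apply, MulAut.conj_apply, hE]
    · rw [← key qa _ h1]; simp only [fam]; congr 1; group
    · rw [← key qb _ h2]; simp only [fam]; congr 1; group
    · rw [← key qc _ h3]; simp only [fam]; congr 1; group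
    · rw [← key qd _ h4]; simp only [fam]; congr 1; group
    · rw [← key qe _ h5]; simp only [fam]; congr 1; group
    · rw [← key qf f2 (by rw [hχf]; exact h6)]; simp only [fam]; congr 1; group

theorem exists_map (hON : Cfsg.IsON ON) (hT : TupleConj)
    (hinv : ∀ s : ON, orderOf s = 2 → ∃ y : ON, y * s * y⁻¹ = on .f)
    {G : Type*} [Group G] (e0 : G ≃* ON) (H : Subgroup G) (ψ : Q ≃* H) :
    ∃ Ψ : ON ≃* G, SporRec.ONAssembly.H.map Ψ.toMonoidHom = H := by
  obtain ⟨Ψ, h1, h2, h3, h4, h5, h6⟩ := exists_psi hON hT hinv e0 (H.subtype.comp ψ.toMonoidHom)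
    (H.subtype_injective.comp ψ.injective)
  refine ⟨Ψ, ?_⟩
  have h7 : Ψ.toMonoidHom.comp SporRec.ONAssembly.theta = H.subtype.comp ψ.toMonoidHom := by
    apply MonoidHom.eq_of_eqOn_dense closure_gens
    intro q hq
    simp only [Set.mem_insert_iff, Set.mem_singleton_iff] at hq
    rcases hq with rfl | rfl | rfl | rfl | rfl | rfl
    · exact (congrArg Ψ SporRec.ONAssembly.theta_qa).trans h1
    · exact (congrArg Ψ SporRec.ONAssembly.theta_qb).trans h2
    · exact (congrArg Ψ SporRec.ONAssembly.theta_qc).trans h3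
    · exact (congrArg Ψ SporRec.ONAssembly.theta_qd).trans h4
    · exact (congrArg Ψ SporRec.ONAssembly.theta_qe).trans h5
    · exact (congrArg Ψ SporRec.ONAssembly.theta_qf).trans h6
  rw [← SporRec.ONAssembly.range_theta_eq, ← MonoidHom.range_comp, h7, MonoidHom.range_comp,
    MonoidHom.range_eq_top.mpr ψ.surjective, ← MonoidHom.range_eq_map, Subgroup.range_subtype]

theorem card_centralizer_equiv {A B : Type*} [Group A] [Group B] (α : A ≃* B) (s : A) :
    Nat.card (Subgroup.centralizer ({α s} : Set B)) = Nat.card (Subgroup.centralizer ({s} : Set A)) := by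
  refine (Nat.card_congr (α.toEquiv.subtypeEquiv (fun x => ?_))).symm
  show x ∈ Subgroup.centralizer ({s} : Set A) ↔ α x ∈ Subgroup.centralizer ({α s} : Set B)
  rw [Subgroup.mem_centralizer_singleton_iff, Subgroup.mem_centralizer_singleton_iff, ← map_mul, ← map_mul,
    α.injective.eq_iff]

/-- **The core of `S1657`.** -/
theorem main (hON : Cfsg.IsON ON) (hidx : SporRec.ONAssembly.H.index = 122760) (hT : TupleConj)
    (hinv : ∀ s : ON, orderOf s = 2 → ∃ y : ON, y * s * y⁻¹ = on .f)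
    (hC : Nat.card (Subgroup.centralizer ({on .f} : Set ON)) = 161280)
    {G : Type*} [Group G] [Finite G] (e0 : G ≃* ON) (H : Subgroup G) (N : Subgroup H) [N.Normal]
    (hN : N.index = 2) (eN : N ≃* PSL37) :
    H.index = 122760 ∧ ∃ q₁ q₂ q₃ q₄ : G ⧸ H, (MulAction.orbit H q₁).ncard = 6384 ∧
      (MulAction.orbit H q₂).ncard = 5586 ∧ (MulAction.orbit H q₃).ncard = 58653 ∧
      (MulAction.orbit H q₄).ncard = 52136 := by
  have hcG : Nat.card G = 460815505920 := (Nat.card_congr e0.toEquiv).trans hON.2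
  constructor
  · have h1 := Subgroup.card_mul_index H
    rw [card_H hN eN, hcG] at h1
    omega
  · have hCG : ∀ s : G, orderOf s = 2 → Nat.card (Subgroup.centralizer ({s} : Set G)) = 161280 := by
      intro s hs
      have h2 : orderOf (e0 s) = 2 := by rw [← hs]; exact orderOf_injective e0.toMonoidHom e0.injective s
      obtain ⟨y, hy⟩ := hinv _ h2
      have h3 := card_centralizer_equiv (e0.trans (MulAut.conj y)) s
      rw [MulEquiv.trans_apply, MulAut.conj_apply, hy, hC] at h3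
      exact h3.symm
    obtain ⟨ψ⟩ := exists_iso hCG hN eN
    obtain ⟨Ψ, hΨ⟩ := exists_map hON hT hinv e0 H ψ
    obtain ⟨p1, p2, p3, p4, h1, h2, h3, h4⟩ := RepOrb.suborbits hidx
    obtain ⟨q1, k1⟩ := orbit_transport Ψ _ H hΨ p1
    obtain ⟨q2, k2⟩ := orbit_transport Ψ _ H hΨ p2
    obtain ⟨q3, k3⟩ := orbit_transport Ψ _ H hΨ p3
    obtain ⟨q4, k4⟩ := orbit_transport Ψ _ H hΨ p4
    exact ⟨q1, q2, q3, q4, k1.trans h1, k2.trans h2, k3.trans h3, k4.trans h4⟩

end Cfsg.Agent.ONType.S1657Core
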