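import Cfsg.Agent.ONType.TupS
import Cfsg.Agent.ONType.S1657Core

/-!
Classification, up to conjugacy, of the tuples `(a, …, f)` of elements of the presented O'Nan group satisfying the
relations of `L₃(7):2`.
-/

set_option autoImplicit false
set_option maxRecDepth 100000

namespace Cfsg.Agent.ONType.TupleClass

open Cfsg.Spor Cfsg.Spor.ON Cfsg.Agent.SporadicB.ONHom Cfsg.Agent.SporadicB.ON45Word
  Cfsg.Agent.ONType.TupRow Cfsg.Agent.ONType.TupCover Cfsg.Agent.ONType.TupT0 Cfsg.Agent.ONType.TupK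
  Cfsg.Agent.ONType.TupS Cfsg.Agent.ONType.SecondTuple

open Cfsg.Agent.SporadicRecognition.CosetCert (ev ev_nil ev_cons ev_append)

/-! ### Elementary facts -/

theorem aa (hs : IsSimpleGroup ON) : on .a * on .a = 1 := by
  have h : eqJ [5, 5] [] = true := by decide +kernel
  have := eqJ_spec hs h
  simp only [ev_cons, ev_nil, mul_one] at this
  exact this

theorem bb (hs : IsSimpleGroup ON) : on .b * on .b = 1 := by
  have h : eqJ [6, 6] [] = true := by decide +kernel
  have := eqJ_spec hs h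
  simp only [ev_cons, ev_nil, mul_one] at this
  exact this

theorem ff (hs : IsSimpleGroup ON) : on .f * on .f = 1 := by
  have h : eqJ [7, 7] [] = true := by decide +kernel
  have := eqJ_spec hs h
  simp only [ev_cons, ev_nil, mul_one] at this
  exact this

theorem bf (hs : IsSimpleGroup ON) : on .b * on .f = on .f * on .b := by
  have h : eqJ [6, 7] [7, 6] = true := by decide +kernel
  have := eqJ_spec hs h
  simp only [ev_cons, ev_nil, mul_one] at this
  exact this

theorem af_ne : on .a ≠ on .f := by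
  have h : neJ [5] [7] = true := by decide +kernel
  have := neJ_spec h
  simp only [ev_cons, ev_nil, mul_one] at this
  exact this

theorem inv_of_sq {G : Type*} [Group G] {x : G} (h : x * x = 1) : x⁻¹ = x := inv_eq_of_mul_eq_one_right h

/-- `(x y)^3 = 1` for involutions is the braid relation. -/
theorem braid_of_cube {G : Type*} [Group G] {x y : G} (hx : x * x = 1) (hy : y * y = 1) (h : (x * y) ^ 3 = 1) :
    x * y * x = y * x * y := by
  have h1 : x * y * x * (y * x * y) = 1 := by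
    calc x * y * x * (y * x * y) = (x * y) ^ 3 := by
          rw [pow_succ, pow_succ, pow_one]; group
      _ = 1 := h
  have h2 : x * y * x = (y * x * y)⁻¹ := eq_inv_of_mul_eq_one_left h1
  rw [h2, mul_inv_rev, mul_inv_rev, inv_of_sq hx, inv_of_sq hy, ← mul_assoc]

/-! ### The symmetry exchanging `a, b, c` and `f, e, d` -/

theorem rev_rels (hs : IsSimpleGroup ON) : Rels (on .f) (on .e) (on .d) (on .c) (on .b) (on .a) (on .g) where
  aa := eq_of_eqM hs ((LW.gen .f).mul (LW.gen .f)) LW.one (by decide +kernel)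
  bb := eq_of_eqM hs ((LW.gen .e).mul (LW.gen .e)) LW.one (by decide +kernel)
  cc := eq_of_eqM hs ((LW.gen .d).mul (LW.gen .d)) LW.one (by decide +kernel)
  dd := eq_of_eqM hs ((LW.gen .c).mul (LW.gen .c)) LW.one (by decide +kernel)
  ee := eq_of_eqM hs ((LW.gen .b).mul (LW.gen .b)) LW.one (by decide +kernel)
  ff := eq_of_eqM hs ((LW.gen .a).mul (LW.gen .a)) LW.one (by decide +kernel)
  ab := eq_of_eqM hs (((LW.gen .f).mul (LW.gen .e)).pow 3) LW.one (by decide +kernel)
  bc := eq_of_eqM hs (((LW.gen .e).mul (LW.gen .d)).pow 3) LW.one (by decide +kernel)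
  de := eq_of_eqM hs (((LW.gen .c).mul (LW.gen .b)).pow 3) LW.one (by decide +kernel)
  ef := eq_of_eqM hs (((LW.gen .b).mul (LW.gen .a)).pow 3) LW.one (by decide +kernel)
  ac := eq_of_eqM hs ((LW.gen .f).mul (LW.gen .d)) ((LW.gen .d).mul (LW.gen .f)) (by decide +kernel)
  ad := eq_of_eqM hs ((LW.gen .f).mul (LW.gen .c)) ((LW.gen .c).mul (LW.gen .f)) (by decide +kernel)
  ae := eq_of_eqM hs ((LW.gen .f).mul (LW.gen .b)) ((LW.gen .b).mul (LW.gen .f)) (by decide +kernel)
  af := eq_of_eqM hs ((LW.gen .f).mul (LW.gen .a)) ((LW.gen .a).mul (LW.gen .f)) (by decide +kernel)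
  bd := eq_of_eqM hs ((LW.gen .e).mul (LW.gen .c)) ((LW.gen .c).mul (LW.gen .e)) (by decide +kernel)
  be := eq_of_eqM hs ((LW.gen .e).mul (LW.gen .b)) ((LW.gen .b).mul (LW.gen .e)) (by decide +kernel)
  bf := eq_of_eqM hs ((LW.gen .e).mul (LW.gen .a)) ((LW.gen .a).mul (LW.gen .e)) (by decide +kernel)
  ce := eq_of_eqM hs ((LW.gen .d).mul (LW.gen .b)) ((LW.gen .b).mul (LW.gen .d)) (by decide +kernel)
  cf := eq_of_eqM hs ((LW.gen .d).mul (LW.gen .a)) ((LW.gen .a).mul (LW.gen .d)) (by decide +kernel)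
  df := eq_of_eqM hs ((LW.gen .c).mul (LW.gen .a)) ((LW.gen .a).mul (LW.gen .c)) (by decide +kernel)
  afcd := eq_of_eqM hs ((LW.gen .f).mul (LW.gen .a)) (((LW.gen .d).mul (LW.gen .c)).pow 4) (by decide +kernel)
  afgg := eq_of_eqM hs ((LW.gen .f).mul (LW.gen .a)) ((LW.gen .g).mul (LW.gen .g)) (by decide +kernel)
  cdg := eq_of_eqM hs
    ((LW.gen .d).mul ((((LW.gen .c).mul (LW.gen .g)).mul (LW.gen .c)).mul (LW.gen .g)))
    (((((LW.gen .c).mul (LW.gen .g)).mul (LW.gen .c)).mul (LW.gen .g)).mul (LW.gen .d)) (by decide +kernel)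
  dcg := eq_of_eqM hs
    ((LW.gen .c).mul ((((LW.gen .d).mul (LW.gen .g)).mul (LW.gen .d)).mul (LW.gen .g)))
    (((((LW.gen .d).mul (LW.gen .g)).mul (LW.gen .d)).mul (LW.gen .g)).mul (LW.gen .c)) (by decide +kernel)
  bcdg := eq_of_eqM hs (((((LW.gen .e).mul (LW.gen .d)).mul (LW.gen .c)).mul (LW.gen .g)).pow 5) LW.one
    (by decide +kernel)
  gb := eq_of_eqM hs
    (((((LW.gen .g).mul (LW.gen .e)).mul (((LW.gen .d).mul (LW.gen .g)).mul (LW.gen .d))).mul
      (((LW.gen .e).mul (LW.gen .g)).mul (LW.gen .e))).mul (((LW.gen .d).mul (LW.gen .g)).mul (LW.gen .d)))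
    LW.one (by decide +kernel)
  ge := eq_of_eqM hs
    (((((LW.gen .g).mul (LW.gen .b)).mul (((LW.gen .c).mul (LW.gen .g)).mul (LW.gen .c))).mul
      (((LW.gen .b).mul (LW.gen .g)).mul (LW.gen .b))).mul (((LW.gen .c).mul (LW.gen .g)).mul (LW.gen .c)))
    LW.one (by decide +kernel)

/-- the symmetry -/
noncomputable def sw (hs : IsSimpleGroup ON) : ON →* ON := hom (rev_rels hs)

theorem sw_on (hs : IsSimpleGroup ON) (x : Gen) :
    sw hs (on x) = fam (on .f) (on .e) (on .d) (on .c) (on .b) (on .a) (on .g) x := hom_of (rev_rels hs) x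

theorem sw_a (hs : IsSimpleGroup ON) : sw hs (on .a) = on .f := sw_on hs .a
theorem sw_b (hs : IsSimpleGroup ON) : sw hs (on .b) = on .e := sw_on hs .b
theorem sw_c (hs : IsSimpleGroup ON) : sw hs (on .c) = on .d := sw_on hs .c
theorem sw_d (hs : IsSimpleGroup ON) : sw hs (on .d) = on .c := sw_on hs .d
theorem sw_e (hs : IsSimpleGroup ON) : sw hs (on .e) = on .b := sw_on hs .e
theorem sw_f (hs : IsSimpleGroup ON) : sw hs (on .f) = on .a := sw_on hs .f
theorem sw_g (hs : IsSimpleGroup ON) : sw hs (on .g) = on .g := sw_on hs .g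

theorem sw_sw (hs : IsSimpleGroup ON) (x : ON) : sw hs (sw hs x) = x := by
  have h : (sw hs).comp (sw hs) = MonoidHom.id ON := by
    apply PresentedGroup.ext
    intro y
    show sw hs (sw hs (on y)) = on y
    cases y <;> simp only [sw_a, sw_b, sw_c, sw_d, sw_e, sw_f, sw_g]
  exact DFunLike.congr_fun h x

/-! ### Triples -/

def rep4 (w : List ℕ) : List ℕ := (w ++ w) ++ (w ++ w)

theorem ev_rep4 (w : List ℕ) : ev gJ (rep4 w) = (ev gJ w) ^ 4 := by
  unfold rep4
  rw [ev_append, ev_append]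
  simp only [pow_succ, pow_zero, one_mul, mul_assoc]

noncomputable def goodPair (w1 w2 : List ℕ) : Bool := exA.any fun t =>
  eqJ (w1 ++ t) (t ++ [0]) && (eqJ (w2 ++ t) (t ++ [1]) || eqJ (w2 ++ t) (t ++ [9])) && eqJ (6 :: t) (t ++ [6])

theorem pairs_ok : (exB.all fun w1 => exA.all fun w2 => neJ [5, 7] (rep4 (w1 ++ w2)) || goodPair w1 w2) = true := by
  decide +kernel

theorem pairs3_ok : (exB3.all fun w1 => exA3.all fun w2 => neJ [5, 7] (rep4 (w1 ++ w2))) = true := by
  decide +kernel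

theorem exA_mem {w : List ℕ} (hw : w ∈ exA) : ev gJ w ∈ T0 := by
  refine ev_mem w ?_
  have h : (exA.all fun w => w.all fun x => Nat.blt x 4) = true := by decide
  intro x hx
  exact blt_iff.1 (List.all_eq_true.1 (List.all_eq_true.1 h w hw) x hx)

/-- Triples completing `a`. -/
theorem classify (hs : IsSimpleGroup ON) {B C D : ON} (hB : B ∈ K0) (hC : C ∈ K0) (hD : D ∈ K0)
    (BB : B * B = 1) (CC : C * C = 1) (DD : D * D = 1) (aB : on .a * B * on .a = B * on .a * B)
    (BC : C * B * C = B * C * B) (BD : B * D = D * B) (aC : on .a * C = C * on .a) (aD : on .a * D = D * on .a)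
    (afCD : on .a * on .f = (C * D) ^ 4) :
    ∃ t ∈ T0, B = t⁻¹ * on .b * t ∧ C = t⁻¹ * on .c * t ∧ (D = t⁻¹ * on .d * t ∨ D = t⁻¹ * d2 * t) := by
  have haa := aa hs
  have hff := ff hs
  have haK : on .a ∈ K0 := T0_le (a_mem hs)
  have hCT : C ∈ T0 := mem_T0 hs hC aC.symm
  have hDT : D ∈ T0 := mem_T0 hs hD aD.symm
  have hconj : B = (B * on .a)⁻¹ * on .a * (B * on .a) := by
    calc B = on .a * (on .a * B * on .a) * on .a := by
          calc B = 1 * B * 1 := by rw [one_mul, mul_one]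
            _ = (on .a * on .a) * B * (on .a * on .a) := by rw [haa]
            _ = _ := by group
      _ = on .a * (B * on .a * B) * on .a := by rw [aB]
      _ = (on .a * B) * on .a * (B * on .a) := by group
      _ = _ := by rw [mul_inv_rev, inv_of_sq haa, inv_of_sq BB]
  have hconjT : ∀ t ∈ T0, t * (on .a * on .f) * t⁻¹ = on .a * on .f := by
    intro t ht
    have h1 := comm_a hs ht
    have h2 := comm_f hs ht
    calc t * (on .a * on .f) * t⁻¹ = (t * on .a) * on .f * t⁻¹ := by group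
      _ = on .a * (t * on .f) * t⁻¹ := by rw [h1]; group
      _ = on .a * on .f := by rw [h2]; group
  rcases conj_class hs (K0.mul_mem hB haK) hconj aB with h | ⟨t, ht, h | h⟩
  · -- `B = a`
    exfalso
    rw [h] at BC
    have h1 : C = on .a := by
      have e1 : C * on .a * C = on .a := by
        rw [mul_assoc, aC, ← mul_assoc, CC, one_mul]
      have e2 : on .a * C * on .a = C := by
        rw [aC, mul_assoc, haa, mul_one]
      rw [e1, e2] at BC
      exact BC.symm
    rw [h1] at afCD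
    have h2 : (on .a * D) ^ 4 = 1 := by
      have h3 : (on .a * D) * (on .a * D) = 1 := by
        calc (on .a * D) * (on .a * D) = on .a * (D * on .a) * D := by group
          _ = (on .a * on .a) * (D * D) := by rw [← aD]; group
          _ = 1 := by rw [haa, DD, one_mul]
      calc (on .a * D) ^ 4 = ((on .a * D) * (on .a * D)) * ((on .a * D) * (on .a * D)) := by
            simp only [pow_succ, pow_zero, one_mul, mul_assoc]
        _ = 1 := by rw [h3, one_mul]
    rw [h2] at afCD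
    apply af_ne
    calc on .a = on .a * (on .f * on .f) := by rw [hff, mul_one]
      _ = (on .a * on .f) * on .f := by group
      _ = on .f := by rw [afCD, one_mul]
  · -- `B` conjugate to `b`
    have hC' : t * C * t⁻¹ ∈ T0 := T0.mul_mem (T0.mul_mem ht hCT) (T0.inv_mem ht)
    have hD' : t * D * t⁻¹ ∈ T0 := T0.mul_mem (T0.mul_mem ht hDT) (T0.inv_mem ht)
    have hb : on .b = t * B * t⁻¹ := by rw [h]; group
    have k1 : (t * C * t⁻¹) * (t * C * t⁻¹) = 1 := by
      calc (t * C * t⁻¹) * (t * C * t⁻¹) = t * (C * C) * t⁻¹ := by group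
        _ = 1 := by rw [CC]; group
    have k2 : (t * C * t⁻¹) * on .b * (t * C * t⁻¹) = on .b * (t * C * t⁻¹) * on .b := by
      rw [hb]
      calc (t * C * t⁻¹) * (t * B * t⁻¹) * (t * C * t⁻¹) = t * (C * B * C) * t⁻¹ := by group
        _ = t * (B * C * B) * t⁻¹ := by rw [BC]
        _ = _ := by group
    have k3 : (t * D * t⁻¹) * on .b = on .b * (t * D * t⁻¹) := by
      rw [hb]
      calc (t * D * t⁻¹) * (t * B * t⁻¹) = t * (D * B) * t⁻¹ := by group
        _ = t * (B * D) * t⁻¹ := by rw [BD]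
        _ = _ := by group
    obtain ⟨w1, hw1, e1⟩ := braid_b hs hC' k1 k2
    obtain ⟨w2, hw2, e2⟩ := comm_b hs hD' k3
    have k4 : on .a * on .f = (ev gJ w1 * ev gJ w2) ^ 4 := by
      rw [← hconjT t ht, afCD, ← e1, ← e2]
      have : t * C * t⁻¹ * (t * D * t⁻¹) = t * (C * D) * t⁻¹ := by group
      rw [this, conj_pow]
    rcases Bool.or_eq_true_iff.1 (List.all_eq_true.1 (List.all_eq_true.1 pairs_ok w1 hw1) w2 hw2) with h5 | h5
    · exfalso
      apply neJ_spec h5
      rw [ev_rep4, ev_append, ← k4, ev_cons, ev_cons, ev_nil, mul_one]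
      rfl
    · obtain ⟨wr, hwr, h6⟩ := List.any_eq_true.1 h5
      rw [Bool.and_eq_true, Bool.and_eq_true, Bool.or_eq_true] at h6
      obtain ⟨⟨h7, h8⟩, h9⟩ := h6
      have h7 := eqJ_spec hs h7
      have h9 := eqJ_spec hs h9
      rw [ev_append, ev_append, ev_cons _ 0, ev_nil, mul_one] at h7
      rw [ev_append, ev_cons, ev_cons _ 6, ev_nil, mul_one] at h9
      have hr := exA_mem hwr
      obtain ⟨r, hrdef⟩ : ∃ r, r = ev gJ wr := ⟨_, rfl⟩
      rw [← hrdef] at h7 h9 hr
      rw [← e1] at h7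
      have h7 : t * C * t⁻¹ * r = r * on .c := h7
      have h9 : on .b * r = r * on .b := h9
      refine ⟨r⁻¹ * t, T0.mul_mem (T0.inv_mem hr) ht, ?_, ?_, ?_⟩
      · rw [h, mul_inv_rev, inv_inv]
        calc t⁻¹ * on .b * t = t⁻¹ * (on .b * r) * r⁻¹ * t := by group
          _ = t⁻¹ * (r * on .b) * r⁻¹ * t := by rw [h9]
          _ = _ := by group
      · rw [mul_inv_rev, inv_inv]
        calc C = t⁻¹ * (t * C * t⁻¹ * r) * r⁻¹ * t := by group
          _ = t⁻¹ * (r * on .c) * r⁻¹ * t := by rw [h7]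
          _ = _ := by group
      · rw [mul_inv_rev, inv_inv]
        rcases h8 with h8 | h8
        · left
          have h8 := eqJ_spec hs h8
          rw [ev_append, ev_append, ev_cons _ 1, ev_nil, mul_one, ← hrdef, ← e2] at h8
          have h8 : t * D * t⁻¹ * r = r * on .d := h8
          calc D = t⁻¹ * (t * D * t⁻¹ * r) * r⁻¹ * t := by group
            _ = t⁻¹ * (r * on .d) * r⁻¹ * t := by rw [h8]
            _ = _ := by group
        · right
          have h8 := eqJ_spec hs h8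
          rw [ev_append, ev_append, ev_cons _ 9, ev_nil, mul_one, ← hrdef, ← e2] at h8
          have h8 : t * D * t⁻¹ * r = r * d2 := h8
          calc D = t⁻¹ * (t * D * t⁻¹ * r) * r⁻¹ * t := by group
            _ = t⁻¹ * (r * d2) * r⁻¹ * t := by rw [h8]
            _ = _ := by group
  · -- `B` conjugate to `b3`
    exfalso
    have hC' : t * C * t⁻¹ ∈ T0 := T0.mul_mem (T0.mul_mem ht hCT) (T0.inv_mem ht)
    have hD' : t * D * t⁻¹ ∈ T0 := T0.mul_mem (T0.mul_mem ht hDT) (T0.inv_mem ht)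
    have hb : b3 = t * B * t⁻¹ := by rw [h]; group
    have k1 : (t * C * t⁻¹) * (t * C * t⁻¹) = 1 := by
      calc (t * C * t⁻¹) * (t * C * t⁻¹) = t * (C * C) * t⁻¹ := by group
        _ = 1 := by rw [CC]; group
    have k2 : (t * C * t⁻¹) * b3 * (t * C * t⁻¹) = b3 * (t * C * t⁻¹) * b3 := by
      rw [hb]
      calc (t * C * t⁻¹) * (t * B * t⁻¹) * (t * C * t⁻¹) = t * (C * B * C) * t⁻¹ := by group
        _ = t * (B * C * B) * t⁻¹ := by rw [BC]
        _ = _ := by group
    have k3 : (t * D * t⁻¹) * b3 = b3 * (t * D * t⁻¹) := by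
      rw [hb]
      calc (t * D * t⁻¹) * (t * B * t⁻¹) = t * (D * B) * t⁻¹ := by group
        _ = t * (B * D) * t⁻¹ := by rw [BD]
        _ = _ := by group
    obtain ⟨w1, hw1, e1⟩ := braid_b3 hs hC' k1 k2
    obtain ⟨w2, hw2, e2⟩ := comm_b3 hs hD' k3
    have k4 : on .a * on .f = (ev gJ w1 * ev gJ w2) ^ 4 := by
      rw [← hconjT t ht, afCD, ← e1, ← e2]
      have : t * C * t⁻¹ * (t * D * t⁻¹) = t * (C * D) * t⁻¹ := by group
      rw [this, conj_pow]
    apply neJ_spec (List.all_eq_true.1 (List.all_eq_true.1 pairs3_ok w1 hw1) w2 hw2)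
    rw [ev_rep4, ev_append, ← k4, ev_cons, ev_cons, ev_nil, mul_one]
    rfl

/-! ### The involution `a` -/

theorem b_mem : on .b ∈ K0 := Subgroup.subset_closure ⟨5, by show 5 < 6; decide, rfl⟩

theorem evJ_mem_K0 (hs : IsSimpleGroup ON) (w : List ℕ) (hw : ∀ x ∈ w, x < 7) : ev gJ w ∈ K0 := by
  induction w with
  | nil => rw [ev_nil]; exact K0.one_mem
  | cons x w ih =>
    rw [ev_cons]
    refine K0.mul_mem ?_ (ih fun y hy => hw y (by simp [hy]))
    have hx := hw x (by simp)
    have key : ∀ x < 4, gJ x ∈ K0 := fun x hx => T0_le (Subgroup.subset_closure ⟨x, hx, rfl⟩)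
    interval_cases x
    · exact key 0 (by decide)
    · exact key 1 (by decide)
    · exact key 2 (by decide)
    · exact key 3 (by decide)
    · exact K0.one_mem
    · exact T0_le (a_mem hs)
    · exact b_mem

theorem sq_word (hs : IsSimpleGroup ON) (w m : List ℕ) (hm : ∀ x ∈ m, x < 7)
    (h : eqJ (m ++ (w ++ [7])) (5 :: m) = true) : ∃ m ∈ K0, m * (ev gJ w * on .f) = on .a * m := by
  refine ⟨ev gJ m, evJ_mem_K0 hs m hm, ?_⟩
  have := eqJ_spec hs h
  rw [ev_append, ev_append, ev_cons _ 7, ev_nil, mul_one, ev_cons] at this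
  exact this

theorem sq_cases (hs : IsSimpleGroup ON) : ∀ p ∈ exSq, ev gJ p.2 = 1 ∨ ev gJ p.2 = on .f ∨
    ∃ m ∈ K0, m * (ev gJ p.2 * on .f) = on .a * m := by
  intro p hp
  simp only [exSq, List.mem_cons, List.not_mem_nil, or_false] at hp
  rcases hp with rfl | rfl | rfl | rfl | rfl | rfl | rfl | rfl
  · exact Or.inl (ev_nil _)
  · exact Or.inr (Or.inr (sq_word hs [2, 2] [] (by simp) (by decide +kernel)))
  · exact Or.inr (Or.inr (sq_word hs [0, 1, 2, 0, 1, 2] [6, 0, 1, 0, 3, 6, 2, 6, 0, 1, 0, 6] (by decide)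
      (by decide +kernel)))
  · exact Or.inr (Or.inr (sq_word hs [0, 2, 1, 0, 2, 1] [6, 0, 1, 3, 6, 0, 1, 5, 6, 0, 3, 6] (by decide)
      (by decide +kernel)))
  · exact Or.inr (Or.inr (sq_word hs [0, 1, 2, 0, 1, 3] [6, 2, 0, 1, 6, 0, 1, 5, 6, 2, 0, 6] (by decide)
      (by decide +kernel)))
  · exact Or.inr (Or.inr (sq_word hs [0, 2, 0, 2, 0, 2, 0, 2] [6, 0, 1, 0, 1, 6, 0, 1, 3, 6, 0, 2, 6] (by decide)
      (by decide +kernel)))
  · exact Or.inr (Or.inl (f_eq hs))
  · exact Or.inr (Or.inr (sq_word hs [0, 2, 1, 0, 3, 1] [6, 0, 1, 0, 6, 3, 6, 0, 1, 0, 2, 6] (by decide)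
      (by decide +kernel)))

/-- the facts on the centraliser of `f` used below -/
structure Cen : Prop where
  simple : IsSimpleGroup ON
  card : Nat.card K0 = 161280
  mem : ∀ x : ON, x ∈ K0 ↔ x * on .f = on .f * x

theorem closure_eq : Subgroup.closure {on .a, on .b, on .c, on .d, on .g} = K0 := by
  apply le_antisymm
  · rw [Subgroup.closure_le]
    intro x hx
    have key : ∀ x < 6, gK x ∈ K0 := fun x hx => Subgroup.subset_closure ⟨x, hx, rfl⟩
    simp only [Set.mem_insert_iff, Set.mem_singleton_iff] at hx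
    rcases hx with rfl | rfl | rfl | rfl | rfl
    · exact key 4 (by decide)
    · exact key 5 (by decide)
    · exact key 0 (by decide)
    · exact key 1 (by decide)
    · exact key 2 (by decide)
  · unfold K0
    rw [Subgroup.closure_le]
    rintro _ ⟨x, hx, rfl⟩
    have hx6 : x < 6 := hx
    interval_cases x
    · exact Subgroup.subset_closure (by simp [gK])
    · exact Subgroup.subset_closure (by simp [gK])
    · exact Subgroup.subset_closure (by simp [gK])
    · exact Subgroup.inv_mem _ (Subgroup.subset_closure (by simp))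
    · exact Subgroup.subset_closure (by simp [gK])
    · exact Subgroup.subset_closure (by simp [gK])

theorem cen_of (hs : IsSimpleGroup ON) (hC : Nat.card (Subgroup.centralizer ({on .f} : Set ON)) = 161280)
    (hcl : Subgroup.centralizer ({on .f} : Set ON) = Subgroup.closure {on .a, on .b, on .c, on .d, on .g}) :
    Cen := by
  rw [closure_eq] at hcl
  refine ⟨hs, ?_, ?_⟩
  · rw [← hcl]; exact hC
  · intro x
    rw [← hcl, Subgroup.mem_centralizer_singleton_iff]

theorem conj_a (H : Cen) {a1 c1 d1 : ON} (haf : a1 * on .f = on .f * a1) (hcf : c1 * on .f = on .f * c1)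
    (hdf : d1 * on .f = on .f * d1) (ha2 : a1 * a1 = 1) (hne : a1 ≠ 1) (hnf : a1 ≠ on .f)
    (h4 : a1 * on .f = (c1 * d1) ^ 4) : ∃ x ∈ K0, x * a1 * x⁻¹ = on .a := by
  have hs := H.simple
  have hff := ff hs
  have hy : c1 * d1 ∈ K0 := K0.mul_mem ((H.mem c1).2 hcf) ((H.mem d1).2 hdf)
  have h8 : (c1 * d1) ^ 8 = 1 := by
    have e : (c1 * d1) ^ 8 = (c1 * d1) ^ 4 * (c1 * d1) ^ 4 := by rw [← pow_add]
    rw [e, ← h4]
    calc a1 * on .f * (a1 * on .f) = a1 * (on .f * a1) * on .f := by group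
      _ = (a1 * a1) * (on .f * on .f) := by rw [← haf]; group
      _ = 1 := by rw [ha2, hff, one_mul]
  obtain ⟨k, hk, hkS⟩ := exists_conj_S hs H.card hy h8
  obtain ⟨z, hz⟩ : ∃ z, z = k⁻¹ * (c1 * d1) * k := ⟨_, rfl⟩
  rw [← hz] at hkS
  have hzT := sq_mem hs hkS
  have hkf : k * on .f = on .f * k := (H.mem k).1 hk
  have hkf' : on .f * k = k * on .f := hkf.symm
  have hz4 : (z * z) * (z * z) = (k⁻¹ * a1 * k) * on .f := by
    have e : (z * z) * (z * z) = k⁻¹ * (c1 * d1) ^ 4 * k := by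
      rw [hz]
      simp only [pow_succ, pow_zero, one_mul]
      group
    rw [e, ← h4]
    calc k⁻¹ * (a1 * on .f) * k = k⁻¹ * a1 * (on .f * k) := by group
      _ = k⁻¹ * a1 * (k * on .f) := by rw [hkf']
      _ = _ := by group
  have hA2 : (k⁻¹ * a1 * k) * (k⁻¹ * a1 * k) = 1 := by
    calc (k⁻¹ * a1 * k) * (k⁻¹ * a1 * k) = k⁻¹ * (a1 * a1) * k := by group
      _ = 1 := by rw [ha2]; group
  have hAf : (k⁻¹ * a1 * k) * on .f = on .f * (k⁻¹ * a1 * k) := by
    have e1 : k⁻¹ * on .f = on .f * k⁻¹ := by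
      rw [inv_mul_eq_iff_eq_mul, ← mul_assoc, hkf, mul_assoc, mul_inv_cancel, mul_one]
    calc (k⁻¹ * a1 * k) * on .f = k⁻¹ * a1 * (k * on .f) := by group
      _ = k⁻¹ * (a1 * on .f) * k := by rw [hkf]; group
      _ = (k⁻¹ * on .f) * a1 * k := by rw [haf]; group
      _ = on .f * (k⁻¹ * a1 * k) := by rw [e1]; group
  have hz8 : ((z * z) * (z * z)) * ((z * z) * (z * z)) = 1 := by
    rw [hz4]
    calc (k⁻¹ * a1 * k) * on .f * ((k⁻¹ * a1 * k) * on .f)
        = (k⁻¹ * a1 * k) * (on .f * (k⁻¹ * a1 * k)) * on .f := by group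
      _ = ((k⁻¹ * a1 * k) * (k⁻¹ * a1 * k)) * (on .f * on .f) := by rw [← hAf]; group
      _ = 1 := by rw [hA2, hff, one_mul]
  obtain ⟨p, hp, hsq⟩ := squares hs hzT hz8
  have hA : k⁻¹ * a1 * k = ev gJ p.2 * on .f := by
    rw [← hsq, hz4, mul_assoc _ (on .f) (on .f), hff, mul_one]
  rcases sq_cases hs p hp with h | h | ⟨m, hm, h⟩
  · exfalso
    apply hnf
    rw [h, one_mul] at hA
    calc a1 = k * (k⁻¹ * a1 * k) * k⁻¹ := by group
      _ = k * on .f * k⁻¹ := by rw [hA]
      _ = on .f := by rw [hkf]; group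
  · exfalso
    apply hne
    rw [h, hff] at hA
    calc a1 = k * (k⁻¹ * a1 * k) * k⁻¹ := by group
      _ = 1 := by rw [hA]; group
  · refine ⟨m * k⁻¹, K0.mul_mem hm (K0.inv_mem hk), ?_⟩
    calc m * k⁻¹ * a1 * (m * k⁻¹)⁻¹ = m * (k⁻¹ * a1 * k) * m⁻¹ := by group
      _ = m * (ev gJ p.2 * on .f) * m⁻¹ := by rw [hA]
      _ = on .a := by rw [h]; group

/-! ### The last involution -/

theorem V_conj (hs : IsSimpleGroup ON) {w : List ℕ} (hw : w ∈ exV) :
    (ev gJ w)⁻¹ * on .b * ev gJ w = on .b ∨ (ev gJ w)⁻¹ * on .b * ev gJ w = on .a * on .b * on .a := by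
  have hia : (on .a)⁻¹ = on .a := inv_of_sq (aa hs)
  have hif : (on .f)⁻¹ = on .f := inv_of_sq (ff hs)
  have hbf := bf hs
  have hfbf : on .f * on .b * on .f = on .b := by
    rw [← hbf, mul_assoc, ff hs, mul_one]
  simp only [exV, List.mem_cons, List.not_mem_nil, or_false] at hw
  rcases hw with rfl | rfl | rfl | rfl
  · left
    rw [ev_nil]; group
  · right
    rw [gg_eq hs, mul_inv_rev, hia, hif]
    have haf : on .a * on .f = on .f * on .a := comm_f hs (a_mem hs)
    calc on .f * on .a * on .b * (on .a * on .f) = (on .f * on .a) * on .b * (on .a * on .f) := by group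
      _ = (on .a * on .f) * on .b * (on .f * on .a) := by rw [haf]
      _ = on .a * (on .f * on .b * on .f) * on .a := by group
      _ = _ := by rw [hfbf]
  · right
    rw [a_eq hs, hia]
  · left
    rw [f_eq hs, hif, hfbf]

theorem d2_eq (hs : IsSimpleGroup ON) : (on .g)⁻¹ * on .d * on .g = d2 := by
  have h : eqJ [3, 1, 2] [9] = true := by decide +kernel
  have := eqJ_spec hs h
  rw [ev_cons, ev_cons, ev_cons, ev_nil, mul_one, ev_cons, ev_nil, mul_one, ← mul_assoc] at this
  exact this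

theorem d2_eq' (hs : IsSimpleGroup ON) : on .g * on .d * (on .g)⁻¹ = d2 := by
  have h : eqJ [2, 1, 3] [9] = true := by decide +kernel
  have := eqJ_spec hs h
  rw [ev_cons, ev_cons, ev_cons, ev_nil, mul_one, ev_cons, ev_nil, mul_one, ← mul_assoc] at this
  exact this

theorem e2_eq (hs : IsSimpleGroup ON) : on .g * on .e * (on .g)⁻¹ = e2 :=
  eq_of_eqM hs (((LW.gen .g).mul (LW.gen .e)).mul lGi) le (by decide +kernel)

theorem d2_mem (hs : IsSimpleGroup ON) : d2 ∈ T0 := by
  rw [← d2_eq hs]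
  exact T0.mul_mem (T0.mul_mem (T0.inv_mem g_mem) d_mem) g_mem

theorem last (H : Cen) {D E : ON} (h : PathRels (on .a) (on .b) (on .c) D E (on .f)) (hD : D = on .d ∨ D = d2) :
    ∃ v, (v = 1 ∨ v = on .f) ∧ ((D = on .d ∧ v * E * v⁻¹ = on .e) ∨ (D = d2 ∧ v * E * v⁻¹ = e2)) := by
  have hs := H.simple
  have hff := ff hs
  have hif : (on .f)⁻¹ = on .f := inv_of_sq hff
  have hDT : D ∈ T0 := by
    rcases hD with rfl | rfl
    · exact d_mem
    · exact d2_mem hs
  -- images under the symmetry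
  have m1 : sw hs E ∈ K0 := by
    rw [H.mem, ← sw_a hs, ← map_mul, ← map_mul, h.ae]
  have m2 : sw hs D ∈ K0 := by
    rw [H.mem, ← sw_a hs, ← map_mul, ← map_mul, h.ad]
  have m3 : on .d ∈ K0 := T0_le d_mem
  have r1 : sw hs E * sw hs E = 1 := by rw [← map_mul, h.ee, map_one]
  have r2 : sw hs D * sw hs D = 1 := by rw [← map_mul, h.dd, map_one]
  have r3 : on .d * on .d = 1 := by rw [← sw_c hs, ← map_mul, h.cc, map_one]
  have b1 := congrArg (sw hs) (braid_of_cube h.ee h.ff h.ef)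
  have b2 := congrArg (sw hs) (braid_of_cube h.dd h.ee h.de)
  have b3' := congrArg (sw hs) h.ce
  have b4 := congrArg (sw hs) h.df
  have b5 := congrArg (sw hs) h.cf
  have b6 := congrArg (sw hs) h.afcd
  simp only [map_mul, map_pow, sw_a, sw_c, sw_f] at b1 b2 b3' b4 b5 b6
  have haf : on .a * on .f = on .f * on .a := h.af
  have b7 : on .a * on .f = (sw hs D * on .d) ^ 4 := by
    have e1 : sw hs D * on .d = (on .d * sw hs D)⁻¹ := by
      rw [mul_inv_rev, inv_of_sq r2, inv_of_sq r3]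
    rw [e1, inv_pow, ← b6, mul_inv_rev, hif, inv_of_sq (aa hs)]
  obtain ⟨t, ht, k1, k2, k3⟩ := classify hs m1 m2 m3 r1 r2 r3 b1.symm b2 b3'.symm b4.symm b5.symm b7
  have hE : E = sw hs (t⁻¹ * on .b * t) := by rw [← k1, sw_sw]
  rcases hD with hD | hD
  · -- first kind
    rw [hD, sw_d] at k2
    have c1 : t * on .c = on .c * t := by
      calc t * on .c = t * (t⁻¹ * on .c * t) := by rw [← k2]
        _ = on .c * t := by group
    rcases k3 with k3 | k3
    · have c2 : t * on .d = on .d * t := by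
        calc t * on .d = t * (t⁻¹ * on .d * t) := by rw [← k3]
          _ = on .d * t := by group
      obtain ⟨w, hw, htw⟩ := comm_cd hs ht c1 c2
      rcases V_conj hs hw with h1 | h1
      · rw [← htw] at h1
        rw [h1, sw_b] at hE
        exact ⟨1, Or.inl rfl, Or.inl ⟨hD, by rw [hE]; group⟩⟩
      · rw [← htw] at h1
        rw [h1, map_mul, map_mul, sw_a, sw_b] at hE
        refine ⟨on .f, Or.inr rfl, Or.inl ⟨hD, ?_⟩⟩
        rw [hE, hif]
        calc on .f * (on .f * on .e * on .f) * on .f = (on .f * on .f) * on .e * (on .f * on .f) := by group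
          _ = on .e := by rw [hff, one_mul, mul_one]
    · exfalso
      have c2 : on .d * t⁻¹ = t⁻¹ * d2 := by
        calc on .d * t⁻¹ = (t⁻¹ * d2 * t) * t⁻¹ := by rw [← k3]
          _ = _ := by group
      have c3 : t⁻¹ * on .c = on .c * t⁻¹ := by
        calc t⁻¹ * on .c = t⁻¹ * (on .c * t) * t⁻¹ := by group
          _ = t⁻¹ * (t * on .c) * t⁻¹ := by rw [c1]
          _ = _ := by group
      exact not_conj hs (T0.inv_mem ht) c3 c2
  · -- second kind
    have hsD : sw hs D = on .g * on .c * (on .g)⁻¹ := by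
      rw [hD, ← d2_eq' hs, map_mul, map_mul, map_inv, sw_g, sw_d]
    rw [hsD] at k2
    obtain ⟨r, hr⟩ : ∃ r, r = t * on .g := ⟨_, rfl⟩
    have hrT : r ∈ T0 := by rw [hr]; exact T0.mul_mem ht g_mem
    have htr : t = r * (on .g)⁻¹ := by rw [hr]; group
    have c1 : r * on .c = on .c * r := by
      calc r * on .c = t * (on .g * on .c * (on .g)⁻¹) * on .g := by rw [hr]; group
        _ = t * (t⁻¹ * on .c * t) * on .g := by rw [k2]
        _ = on .c * r := by rw [hr]; group
    have hEr : E = on .g * sw hs (r⁻¹ * on .b * r) * (on .g)⁻¹ := by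
      rw [hE, htr]
      have e : (r * (on .g)⁻¹)⁻¹ * on .b * (r * (on .g)⁻¹) = on .g * (r⁻¹ * on .b * r) * (on .g)⁻¹ := by group
      rw [e, map_mul, map_mul, map_inv, sw_g]
    rcases k3 with k3 | k3
    · exfalso
      have c2 : on .d * r = r * d2 := by
        rw [← d2_eq hs, htr] at *
        calc on .d * r = (r * (on .g)⁻¹) * ((r * (on .g)⁻¹)⁻¹ * on .d * (r * (on .g)⁻¹)) * on .g := by group
          _ = (r * (on .g)⁻¹) * on .d * on .g := by rw [← k3]
          _ = _ := by group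
      exact not_conj hs hrT c1 c2
    · have c2 : r * d2 = d2 * r := by
        calc r * d2 = r * ((on .g)⁻¹ * on .d * on .g) := by rw [d2_eq hs]
          _ = (r * (on .g)⁻¹) * on .d * on .g := by group
          _ = t * on .d * on .g := by rw [← htr]
          _ = t * (t⁻¹ * d2 * t) * on .g := by rw [← k3]
          _ = d2 * (t * on .g) := by group
          _ = d2 * r := by rw [← hr]
      obtain ⟨w, hw, hrw⟩ := comm_cd2 hs hrT c1 c2
      rcases V_conj hs hw with h1 | h1
      · rw [← hrw] at h1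
        rw [h1, sw_b, e2_eq hs] at hEr
        exact ⟨1, Or.inl rfl, Or.inr ⟨hD, by rw [hEr]; group⟩⟩
      · rw [← hrw] at h1
        rw [h1, map_mul, map_mul, sw_a, sw_b] at hEr
        refine ⟨on .f, Or.inr rfl, Or.inr ⟨hD, ?_⟩⟩
        have hgf : on .g * on .f = on .f * on .g := comm_f hs g_mem
        have hgf' : on .f * (on .g)⁻¹ = (on .g)⁻¹ * on .f := (comm_f hs (T0.inv_mem g_mem)).symm
        rw [hEr, hif]
        calc on .f * (on .g * (on .f * on .e * on .f) * (on .g)⁻¹) * on .f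
            = on .f * (on .g * on .f) * on .e * (on .f * (on .g)⁻¹) * on .f := by group
          _ = on .f * (on .f * on .g) * on .e * ((on .g)⁻¹ * on .f) * on .f := by rw [hgf, hgf']
          _ = (on .f * on .f) * (on .g * on .e * (on .g)⁻¹) * (on .f * on .f) := by group
          _ = e2 := by rw [hff, one_mul, mul_one, e2_eq hs]

/-- **Classification of the tuples.** -/
theorem tupleConj (H : Cen) : S1657Core.TupleConj := by
  intro a1 b1 c1 d1 e1 h hnf
  have hs := H.simple
  obtain ⟨x0, hx0, hxa⟩ := conj_a H h.af h.cf h.df h.aa h.ne hnf h.afcd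
  have h' := h.map (MulAut.conj x0).toMonoidHom (MulAut.conj x0).injective
  have fx : ∀ x ∈ K0, x * on .f * x⁻¹ = on .f := fun x hx => by rw [(H.mem x).1 hx]; group
  have ea : (MulAut.conj x0).toMonoidHom a1 = on .a := hxa
  have ef : (MulAut.conj x0).toMonoidHom (on .f) = on .f := fx x0 hx0
  rw [ea, ef] at h'
  obtain ⟨B, hB⟩ : ∃ B, B = (MulAut.conj x0).toMonoidHom b1 := ⟨_, rfl⟩
  obtain ⟨C, hC⟩ : ∃ C, C = (MulAut.conj x0).toMonoidHom c1 := ⟨_, rfl⟩
  obtain ⟨D, hD⟩ : ∃ D, D = (MulAut.conj x0).toMonoidHom d1 := ⟨_, rfl⟩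
  rw [← hB, ← hC, ← hD] at h'
  obtain ⟨t, ht, k1, k2, k3⟩ := classify hs ((H.mem B).2 h'.bf) ((H.mem C).2 h'.cf) ((H.mem D).2 h'.df)
    h'.bb h'.cc h'.dd (braid_of_cube h'.aa h'.bb h'.ab) (braid_of_cube h'.bb h'.cc h'.bc).symm h'.bd h'.ac h'.ad
    h'.afcd
  have h'' := h'.map (MulAut.conj t).toMonoidHom (MulAut.conj t).injective
  have ea2 : (MulAut.conj t).toMonoidHom (on .a) = on .a := by
    show t * on .a * t⁻¹ = on .a
    rw [comm_a hs ht]; group
  have ef2 : (MulAut.conj t).toMonoidHom (on .f) = on .f := fx t (T0_le ht)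
  have eb2 : (MulAut.conj t).toMonoidHom B = on .b := by
    show t * B * t⁻¹ = on .b
    rw [k1]; group
  have ec2 : (MulAut.conj t).toMonoidHom C = on .c := by
    show t * C * t⁻¹ = on .c
    rw [k2]; group
  rw [ea2, ef2, eb2, ec2] at h''
  have hD2 : (MulAut.conj t).toMonoidHom D = on .d ∨ (MulAut.conj t).toMonoidHom D = d2 := by
    rcases k3 with k3 | k3
    · left
      show t * D * t⁻¹ = on .d
      rw [k3]; group
    · right
      show t * D * t⁻¹ = d2
      rw [k3]; group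
  obtain ⟨v, hv, hlast⟩ := last H h'' hD2
  have hvf : v * on .f * v⁻¹ = on .f := by
    rcases hv with rfl | rfl
    · group
    · group
  have hvT : v ∈ T0 := by
    rcases hv with rfl | rfl
    · exact T0.one_mem
    · exact f_mem hs
  have hva : v * on .a * v⁻¹ = on .a := by rw [comm_a hs hvT]; group
  have hvb : v * on .b * v⁻¹ = on .b := by
    rcases hv with rfl | rfl
    · group
    · rw [← bf hs]; group
  have hvT0 : ∀ y ∈ T0, v * y * v⁻¹ = y := by
    intro y hy
    rcases hv with rfl | rfl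
    · group
    · rw [← comm_f hs hy]; group
  have fa : v * (t * (x0 * a1 * x0⁻¹) * t⁻¹) * v⁻¹ = on .a := by
    have e1 : t * (x0 * a1 * x0⁻¹) * t⁻¹ = on .a := by rw [hxa]; exact ea2
    rw [e1, hva]
  have fb : v * (t * (x0 * b1 * x0⁻¹) * t⁻¹) * v⁻¹ = on .b := by
    have e0 : x0 * b1 * x0⁻¹ = B := hB.symm
    have e1 : t * B * t⁻¹ = on .b := eb2
    rw [e0, e1, hvb]
  have fc : v * (t * (x0 * c1 * x0⁻¹) * t⁻¹) * v⁻¹ = on .c := by
    have e0 : x0 * c1 * x0⁻¹ = C := hC.symm
    have e1 : t * C * t⁻¹ = on .c := ec2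
    rw [e0, e1, hvT0 _ c_mem]
  have ff' : v * (t * (x0 * on .f * x0⁻¹) * t⁻¹) * v⁻¹ = on .f := by
    rw [fx x0 hx0, fx t (T0_le ht), hvf]
  have key : ∀ y : ON, v * t * x0 * y * (v * t * x0)⁻¹ = v * (t * (x0 * y * x0⁻¹) * t⁻¹) * v⁻¹ := fun y => by group
  have hDx : (MulAut.conj t).toMonoidHom D = t * (x0 * d1 * x0⁻¹) * t⁻¹ := by rw [hD]; rfl
  refine ⟨v * t * x0, ?_⟩
  rcases hlast with ⟨l1, l2⟩ | ⟨l1, l2⟩
  · left
    refine ⟨(key _).trans fa, (key _).trans fb, (key _).trans fc, ?_, (key _).trans l2, (key _).trans ff'⟩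
    rw [key, ← hDx, l1, hvT0 _ d_mem]
  · right
    refine ⟨(key _).trans fa, (key _).trans fb, (key _).trans fc, ?_, (key _).trans l2, (key _).trans ff'⟩
    rw [key, ← hDx, l1, hvT0 _ (d2_mem hs)]

/-- The classification from the order and the generation of the centraliser of `f`. -/
theorem tupleConj_of (hs : IsSimpleGroup ON)
    (hC : Nat.card (Subgroup.centralizer ({on .f} : Set ON)) = 161280)
    (hcl : Subgroup.centralizer ({on .f} : Set ON) = Subgroup.closure {on .a, on .b, on .c, on .d, on .g}) :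
    S1657Core.TupleConj := tupleConj (cen_of hs hC hcl)

end Cfsg.Agent.ONType.TupleClass
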