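import Cfsg.Agent.ONType.Fusion

/-!
# Fusion in a simple group of type O'N, from the hypotheses of S1661
-/

set_option autoImplicit false
set_option linter.constructorNameAsVariable false

namespace Cfsg.Agent.ONType.FusionEx

open Cfsg.Agent.SporadicA.FieldFour
open Cfsg.Agent.ONType.SFacts
open Cfsg.Agent.ONType.SChk

/-- **Fusion.** -/
theorem exists_fusion {G : Type*} [Group G] [Finite G] [IsSimpleGroup G] (t : G)
    (ht : orderOf t = 2) (M : Subgroup (Subgroup.centralizer ({t} : Set G))) [M.Normal]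
    (hM : M.index = 2)
    (hout : Subgroup.centralizer (M : Set (Subgroup.centralizer ({t} : Set G))) ≤ M)
    (hZc : IsCyclic (Subgroup.center M)) (hZ4 : Nat.card (Subgroup.center M) = 4)
    (hperf : commutator M = ⊤) (F : Type) [Field F] [Fintype F] (hF : Fintype.card F = 4)
    (e : M ⧸ Subgroup.center M ≃* Matrix.ProjectiveSpecialLinearGroup (Fin 3) F) :
    ∃ (x : Fin 3 → Fin 3 → F4 → Subgroup.centralizer ({t} : Set G))
      (z h τ : Subgroup.centralizer ({t} : Set G)),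
      SData PON ⟨t, Subgroup.mem_centralizer_singleton_iff.2 rfl⟩ M x z h τ ∧
      (∃ n : G, n * t * n⁻¹ = x 0 2 1 ∧ n * x 0 2 1 * n⁻¹ = t) ∧
      (∀ s : G, s * s = 1 → s ≠ 1 → IsConj t s) ∧
      (∀ H : Subgroup G, Subgroup.centralizer ({t} : Set G) ≤ H → IsSimpleGroup H →
        ∀ s ∈ H, s * s = 1 → s ≠ 1 → ∃ g ∈ H, g * t * g⁻¹ = s) := by
  have htC : t ∈ Subgroup.centralizer ({t} : Set G) :=
    Subgroup.mem_centralizer_singleton_iff.2 rfl
  have hord : orderOf (⟨t, htC⟩ : Subgroup.centralizer ({t} : Set G)) = 2 := by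
    rw [← ht]; exact Subgroup.orderOf_mk t htC
  have htc : ∀ c : Subgroup.centralizer ({t} : Set G), c * ⟨t, htC⟩ = ⟨t, htC⟩ * c := fun c =>
    Subtype.ext (Subgroup.mem_centralizer_singleton_iff.1 c.2)
  obtain ⟨P, hP, x, z, h, τ, D⟩ := exists_sdata (⟨t, htC⟩ : Subgroup.centralizer ({t} : Set G))
    hord htc M hM hout hZc hZ4 hperf F hF e
  obtain ⟨h1, h2, h3⟩ := Fusion.main D (Subgroup.centralizer ({t} : Set G)).subtype
    (Subgroup.subtype_injective _)
    (fun y hy => ⟨⟨y, Subgroup.mem_centralizer_singleton_iff.2 hy⟩, rfl⟩) htc hP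
  subst h1
  refine ⟨x, z, h, τ, D, h2, h3, ?_⟩
  intro H hH hs s hsH hs2 hs1
  have htH : t ∈ H := hH htC
  obtain ⟨_, _, h4⟩ := Fusion.main D (Subgroup.inclusion hH) (Subgroup.inclusion_injective hH)
    (fun y hy => ⟨⟨y.1, Subgroup.mem_centralizer_singleton_iff.2
      (congrArg Subtype.val hy)⟩, Subtype.ext rfl⟩) htc hP
  have h5 := h4 ⟨s, hsH⟩ (Subtype.ext hs2) (fun h => hs1 (congrArg Subtype.val h))
  obtain ⟨g, hg⟩ := isConj_iff.1 h5
  exact ⟨g.1, g.2, congrArg Subtype.val hg⟩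

end Cfsg.Agent.ONType.FusionEx
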