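import Cfsg.Agent.ONType.GlueFin
import Cfsg.Agent.ONType.FusionEx

/-!
# Recognition of the O'Nan group from the centraliser of an involution
-/

set_option autoImplicit false

namespace Cfsg.Agent.ONType.Final

open Cfsg.Agent.SporadicA.FieldFour

theorem main {G : Type*} [Group G] [Finite G] [IsSimpleGroup G] (hON : Cfsg.IsON Cfsg.Spor.ON)
    (t : G) (ht : orderOf t = 2) (M : Subgroup (Subgroup.centralizer ({t} : Set G))) [M.Normal]
    (hM : M.index = 2)
    (hout : Subgroup.centralizer (M : Set (Subgroup.centralizer ({t} : Set G))) ≤ M)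
    (hZc : IsCyclic (Subgroup.center M)) (hZ4 : Nat.card (Subgroup.center M) = 4)
    (hperf : commutator M = ⊤) (F : Type) [Field F] [Fintype F] (hF : Fintype.card F = 4)
    (e : M ⧸ Subgroup.center M ≃* Matrix.ProjectiveSpecialLinearGroup (Fin 3) F) :
    Cfsg.Spor.IsoON G := by
  obtain ⟨x, z, h, τ, S, ⟨n, hn1, hn2⟩, -, hone⟩ :=
    FusionEx.exists_fusion t ht M hM hout hZc hZ4 hperf F hF e
  refine GlueFin.isoON hON rfl S ?_ n⁻¹ ?_ ?_ ?_
  · intro K hK
    rw [← S.gen, Subgroup.closure_le]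
    rintro y ⟨i, j, u, hij, rfl⟩
    exact hK i j hij u
  · rw [inv_inv]; exact hn1
  · rw [inv_inv]; exact hn2
  · intro H hH hs y hy hy2
    have hy2' : y ^ 2 = 1 := by rw [← hy2]; exact pow_orderOf_eq_one y
    refine hone H hH hs y hy (by rw [← pow_two, hy2']) ?_
    rintro rfl
    rw [orderOf_one] at hy2
    exact absurd hy2 (by decide)

end Cfsg.Agent.ONType.Final
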