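import Mathlib

/-!
# Subgroups: adjoining an element of order 2 modulo, lifting modulo a normal subgroup of odd order
-/

set_option autoImplicit false
set_option linter.unusedSectionVars false
set_option linter.unusedTactic false

namespace Cfsg.Agent.ONType.Adj

open Subgroup

section adj

variable {G : Type*} [Group G]

/-- `H ∪ H s` -/
def adj (H : Subgroup G) (s : G) (hs : s * s ∈ H) (hn : ∀ x ∈ H, s * x * s⁻¹ ∈ H) : Subgroup G where
  carrier := {g | g ∈ H ∨ g * s ∈ H}
  one_mem' := Or.inl (one_mem _)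
  mul_mem' := by
    rintro a b ha hb
    have hn' : ∀ x ∈ H, s⁻¹ * x * s ∈ H := by
      intro x hx
      have h1 := hn x hx
      have h2 : s⁻¹ * x * s = (s * s)⁻¹ * (s * x * s⁻¹) * (s * s) := by group
      rw [h2]
      exact mul_mem (mul_mem (inv_mem hs) h1) hs
    rcases ha with ha | ha
    · rcases hb with hb | hb
      · exact Or.inl (mul_mem ha hb)
      · right
        change a * b * s ∈ H
        rw [mul_assoc]; exact mul_mem ha hb
    · rcases hb with hb | hb
      · right
        have h2 : a * b * s = (a * s) * (s⁻¹ * b * s) := by group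
        change a * b * s ∈ H
        rw [h2]; exact mul_mem ha (hn' _ hb)
      · left
        have h2 : a * b = (a * s) * (s⁻¹ * (b * s) * s) * (s * s)⁻¹ := by group
        change a * b ∈ H
        rw [h2]; exact mul_mem (mul_mem ha (hn' _ hb)) (inv_mem hs)
  inv_mem' := by
    rintro a ha
    rcases ha with ha | ha
    · exact Or.inl (inv_mem ha)
    · right
      have h2 : a⁻¹ * s = s * (a * s)⁻¹ * s⁻¹ * (s * s) := by group
      change a⁻¹ * s ∈ H
      rw [h2]; exact mul_mem (hn _ (inv_mem ha)) hs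

variable {H : Subgroup G} {s : G} (hs : s * s ∈ H) (hn : ∀ x ∈ H, s * x * s⁻¹ ∈ H)

theorem mem_adj {g : G} : g ∈ adj H s hs hn ↔ g ∈ H ∨ g * s ∈ H := Iff.rfl

theorem le_adj : H ≤ adj H s hs hn := fun _ hx => Or.inl hx

theorem self_mem_adj : s ∈ adj H s hs hn := Or.inr hs

theorem card_adj (hsH : s ∉ H) : Nat.card (adj H s hs hn) = 2 * Nat.card H := by
  have hidx : (H.subgroupOf (adj H s hs hn)).index = 2 := by
    rw [index_eq_two_iff]
    refine ⟨⟨s, self_mem_adj hs hn⟩, ?_⟩
    rintro ⟨b, hb⟩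
    rw [mem_subgroupOf, mem_subgroupOf]
    rcases hb with hb | hb
    · right
      refine ⟨hb, fun h => hsH ?_⟩
      have h : b * s ∈ H := h
      exact (mul_mem_cancel_left hb).mp h
    · left
      refine ⟨hb, fun h => hsH ?_⟩
      have h : b ∈ H := h
      exact (mul_mem_cancel_left h).mp hb
  have h1 := (H.subgroupOf (adj H s hs hn)).card_mul_index
  rw [hidx, Nat.card_congr (subgroupOfEquivOfLe (le_adj hs hn)).toEquiv] at h1
  omega

end adj

section lift

variable {N : Type*} [Group N] [Finite N] {O : Subgroup N} [O.Normal]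

/-- a subgroup all of whose elements have odd order -/
theorem odd_card {O : Subgroup N} (hO : ∀ o ∈ O, Odd (orderOf o)) : Odd (Nat.card O) := by
  by_contra hcon
  rw [Nat.not_odd_iff_even, even_iff_two_dvd] at hcon
  obtain ⟨x, hx⟩ := exists_prime_orderOf_dvd_card' 2 hcon
  have := hO x x.2
  rw [orderOf_coe, hx] at this
  exact absurd this (by decide)

theorem inter_odd {P : Subgroup N} (hP : IsPGroup 2 P) (hO : ∀ o ∈ O, Odd (orderOf o)) {x : N} (hx : x ∈ P)
    (hxO : x ∈ O) : x = 1 := by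
  obtain ⟨k, hk⟩ := hP ⟨x, hx⟩
  have hk' : x ^ 2 ^ k = 1 := congrArg Subtype.val hk
  have h1 := hO x hxO
  have h2 := orderOf_dvd_of_pow_eq_one hk'
  obtain ⟨j, hj, e⟩ := (Nat.dvd_prime_pow Nat.prime_two).mp h2
  rcases Nat.eq_zero_or_pos j with rfl | hj0
  · rw [pow_zero] at e
    exact orderOf_eq_one_iff.mp e
  · rw [e] at h1
    exfalso
    have : Even (2 ^ j) := (Nat.even_pow.mpr ⟨even_two, by omega⟩)
    exact (Nat.not_even_iff_odd.mpr h1) this

/-- the quotient map is injective on 2-subgroups -/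
theorem inj_two {P : Subgroup N} (hP : IsPGroup 2 P) (hO : ∀ o ∈ O, Odd (orderOf o)) {x y : N} (hx : x ∈ P)
    (hy : y ∈ P) (h : (x : N ⧸ O) = (y : N ⧸ O)) : x = y := by
  rw [QuotientGroup.eq] at h
  have := inter_odd hP hO (mul_mem (inv_mem hx) hy) h
  rw [inv_mul_eq_one] at this
  exact this

/-- lifting a 2-subgroup -/
theorem exists_lift (hO : ∀ o ∈ O, Odd (orderOf o)) {B : Subgroup (N ⧸ O)} (hB : IsPGroup 2 B) :
    ∃ P : Subgroup N, IsPGroup 2 P ∧ P.map (QuotientGroup.mk' O) = B ∧
      ∀ T : Subgroup N, T.Normal → IsPGroup 2 T → T.map (QuotientGroup.mk' O) ≤ B → T ≤ P := by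
  classical
  set f := QuotientGroup.mk' O with hf
  set K := B.comap f with hK
  let Q : Sylow 2 K := default
  set P := (Q : Subgroup K).map K.subtype with hP
  have hPK : P ≤ K := map_subtype_le _
  have hP2 : IsPGroup 2 P := Q.isPGroup'.map _
  have hle : P.map f ≤ B := by
    rw [map_le_iff_le_comap]; exact hPK
  have hcardP : Nat.card (P.map f) = Nat.card P := by
    symm
    refine Nat.card_congr (Equiv.ofBijective (fun x : P => (⟨f x, mem_map_of_mem f x.2⟩ : P.map f)) ⟨?_, ?_⟩)
    · intro x y hxy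
      apply Subtype.ext
      exact inj_two hP2 hO x.2 y.2 (congrArg Subtype.val hxy)
    · rintro ⟨_, x, hx, rfl⟩
      exact ⟨⟨x, hx⟩, rfl⟩
  have hcardPQ : Nat.card P = Nat.card Q :=
    (Nat.card_congr ((Q : Subgroup K).equivMapOfInjective _ K.subtype_injective).toEquiv).symm
  -- the order of `K`
  have hcardK : Nat.card K = Nat.card B * Nat.card O := by
    have hsurj : Function.Surjective f := QuotientGroup.mk'_surjective O
    have h1 : K.index = B.index := index_comap_of_surjective B hsurj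
    have h2 := K.card_mul_index
    have h3 := B.card_mul_index
    have h4 := O.card_mul_index
    have h5 : O.index = Nat.card (N ⧸ O) := rfl
    have h6 : B.index ≠ 0 := index_ne_zero_of_finite
    rw [h1, ← h4, h5, ← h3] at h2
    have h7 : Nat.card K * B.index = (Nat.card B * Nat.card O) * B.index := by
      rw [h2]; ring
    exact Nat.eq_of_mul_eq_mul_right (Nat.pos_of_ne_zero h6) h7
  obtain ⟨m, hm⟩ := IsPGroup.iff_card.mp hB
  have hodd := odd_card hO
  have hQ : Nat.card Q = 2 ^ m := by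
    have h0 : ¬ 2 ∣ Nat.card O := by
      intro h2
      exact (Nat.not_even_iff_odd.mpr hodd) (even_iff_two_dvd.mpr h2)
    have h1 : Nat.card O ≠ 0 := Nat.card_pos.ne'
    rw [Q.card_eq_multiplicity, hcardK, hm, Nat.factorization_mul (by positivity) h1, Finsupp.add_apply,
      Nat.Prime.factorization_pow Nat.prime_two, Finsupp.single_eq_same, Nat.factorization_eq_zero_of_not_dvd h0, add_zero]
  refine ⟨P, hP2, eq_of_le_of_card_ge hle (by rw [hcardP, hcardPQ, hQ, hm]), ?_⟩
  intro T hT hT2 hTB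
  have hTK : T ≤ K := by rw [hK, ← map_le_iff_le_comap]; exact hTB
  have hn : (T.subgroupOf K).Normal := inferInstance
  have h2 : IsPGroup 2 (T.subgroupOf K) := hT2.comap_of_injective _ K.subtype_injective
  have h3 : IsPGroup 2 ((Q : Subgroup K) ⊔ T.subgroupOf K : Subgroup K) := Q.isPGroup'.to_sup_of_normal_right h2
  have h4 := Q.is_maximal' h3 le_sup_left
  intro t ht
  have h5 : (⟨t, hTK ht⟩ : K) ∈ (Q : Subgroup K) := by
    rw [← h4]
    exact mem_sup_right ht
  exact ⟨_, h5, rfl⟩

/-- two 2-subgroups with the same image are conjugate by an element of `O` -/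
theorem exists_conj (hO : ∀ o ∈ O, Odd (orderOf o)) {R R' : Subgroup N} (hR : IsPGroup 2 R) (hR' : IsPGroup 2 R')
    (hRR : R.map (QuotientGroup.mk' O) = R'.map (QuotientGroup.mk' O)) :
    ∃ o ∈ O, ∀ r ∈ R, o * r * o⁻¹ ∈ R' := by
  classical
  set f := QuotientGroup.mk' O with hf
  have hcardmap : ∀ P : Subgroup N, IsPGroup 2 P → Nat.card (P.map f) = Nat.card P := by
    intro P hP2
    symm
    refine Nat.card_congr (Equiv.ofBijective (fun x : P => (⟨f x, mem_map_of_mem f x.2⟩ : P.map f)) ⟨?_, ?_⟩)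
    · intro x y hxy
      apply Subtype.ext
      exact inj_two hP2 hO x.2 y.2 (congrArg Subtype.val hxy)
    · rintro ⟨_, x, hx, rfl⟩
      exact ⟨⟨x, hx⟩, rfl⟩
  set K := (R.map f).comap f with hK
  have hcardK : Nat.card K = Nat.card R * Nat.card O := by
    have hsurj : Function.Surjective f := QuotientGroup.mk'_surjective O
    have h1 : K.index = (R.map f).index := index_comap_of_surjective _ hsurj
    have h2 := K.card_mul_index
    have h3 := (R.map f).card_mul_index
    have h4 := O.card_mul_index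
    have h5 : O.index = Nat.card (N ⧸ O) := rfl
    have h6 : (R.map f).index ≠ 0 := index_ne_zero_of_finite
    rw [h1, ← h4, h5, ← h3] at h2
    have h7 : Nat.card K * (R.map f).index = (Nat.card (R.map f) * Nat.card O) * (R.map f).index := by
      rw [h2]; ring
    have h8 := Nat.eq_of_mul_eq_mul_right (Nat.pos_of_ne_zero h6) h7
    rw [h8, hcardmap R hR]
  obtain ⟨m, hm⟩ := IsPGroup.iff_card.mp hR
  have hodd := odd_card hO
  have hcR' : Nat.card R' = Nat.card R := by rw [← hcardmap R hR, ← hcardmap R' hR', hRR]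
  have hval : (Nat.card K).factorization 2 = m := by
    have h0 : ¬ 2 ∣ Nat.card O := by
      intro h2
      exact (Nat.not_even_iff_odd.mpr hodd) (even_iff_two_dvd.mpr h2)
    have h1 : Nat.card O ≠ 0 := Nat.card_pos.ne'
    rw [hcardK, hm, Nat.factorization_mul (by positivity) h1, Finsupp.add_apply,
      Nat.Prime.factorization_pow Nat.prime_two, Finsupp.single_eq_same, Nat.factorization_eq_zero_of_not_dvd h0, add_zero]
  have hRK : R ≤ K := by rw [hK]; exact le_comap_map _ _
  have hR'K : R' ≤ K := by rw [hK, hRR]; exact le_comap_map _ _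
  let P : Sylow 2 K := Sylow.ofCard (R.subgroupOf K) (by
    rw [Nat.card_congr (subgroupOfEquivOfLe hRK).toEquiv, hval, hm])
  let P' : Sylow 2 K := Sylow.ofCard (R'.subgroupOf K) (by
    rw [Nat.card_congr (subgroupOfEquivOfLe hR'K).toEquiv, hval, hcR', hm])
  obtain ⟨g, hg⟩ := MulAction.exists_smul_eq K P P'
  have hgr : ∀ r (hr : r ∈ R), (g : N) * r * (g : N)⁻¹ ∈ R' := by
    intro r hr
    have h1 : g * ⟨r, hRK hr⟩ * g⁻¹ ∈ (g • P : Sylow 2 K) := by
      rw [← SetLike.mem_coe, Sylow.coe_smul]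
      exact Set.mem_image_of_mem _ (show (⟨r, hRK hr⟩ : K) ∈ R.subgroupOf K from hr)
    rw [hg] at h1
    exact h1
  -- `g = r' o`
  obtain ⟨r', hr', e⟩ : ∃ r' ∈ R', f r' = f g := by
    have : f g ∈ R.map f := g.2
    rw [hRR] at this
    obtain ⟨r', hr', e⟩ := this
    exact ⟨r', hr', e⟩
  refine ⟨r'⁻¹ * g, ?_, ?_⟩
  · have : ((r' : N) : N ⧸ O) = ((g : N) : N ⧸ O) := e
    rwa [QuotientGroup.eq] at this
  · intro r hr
    have h1 := hgr r hr
    have h2 : r'⁻¹ * ↑g * r * (r'⁻¹ * ↑g)⁻¹ = r'⁻¹ * (↑g * r * (↑g)⁻¹) * r' := by group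
    rw [h2]
    exact mul_mem (mul_mem (inv_mem hr') h1) hr'

/-- Frattini: an element which normalises the image of the 2-subgroup `R` -/
theorem exists_norm (hO : ∀ o ∈ O, Odd (orderOf o)) {R : Subgroup N} (hR : IsPGroup 2 R) {y : N}
    (hy : (R.map (MulAut.conj y).toMonoidHom).map (QuotientGroup.mk' O) = R.map (QuotientGroup.mk' O)) :
    ∃ o ∈ O, ∀ r ∈ R, (o * y) * r * (o * y)⁻¹ ∈ R := by
  obtain ⟨o, ho, h1⟩ := exists_conj hO (hR.map (MulAut.conj y).toMonoidHom) hR hy
  refine ⟨o, ho, ?_⟩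
  intro r hr
  have h2 := h1 (y * r * y⁻¹) ⟨r, hr, rfl⟩
  have h3 : o * y * r * (o * y)⁻¹ = o * (y * r * y⁻¹) * o⁻¹ := by group
  rw [h3]; exact h2

end lift

end Cfsg.Agent.ONType.Adj
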