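import Mathlib
import Cfsg.Agent.S0848
import Cfsg.Agent.J3Type.ExistsW

set_option autoImplicit false

/-! O'Nan type, part (C): quotient of a group by a central subgroup `P` of odd order, when the centraliser of every
involution is `P` times a dihedral group of order 8. -/

namespace Cfsg.Agent.ONType.QuotHD

open Subgroup
open Cfsg.Agent.J3Type.ExistsW (HD8)

variable {X : Type*} [Group X] [Finite X]

theorem eq_one_of_sq {x : X} {n : ℕ} (hn : Odd n) (h1 : x ^ n = 1) (h2 : x ^ 2 = 1) : x = 1 := by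
  obtain ⟨m, rfl⟩ := hn
  rwa [pow_add, pow_mul, h2, one_pow, one_mul, pow_one] at h1

/-- every involution of `X / P` lifts to an involution. -/
theorem exists_lift (P : Subgroup X) [P.Normal] (hodd : Odd (Nat.card P)) (s : X ⧸ P)
    (hs : orderOf s = 2) : ∃ j : X, orderOf j = 2 ∧ (QuotientGroup.mk j : X ⧸ P) = s := by
  obtain ⟨g, rfl⟩ := QuotientGroup.mk_surjective s
  have hs2 : ((QuotientGroup.mk g : X ⧸ P)) ^ 2 = 1 := by rw [← hs]; exact pow_orderOf_eq_one _
  have hs1 : (QuotientGroup.mk g : X ⧸ P) ≠ 1 := by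
    intro h; rw [h, orderOf_one] at hs; exact absurd hs (by norm_num)
  have hg2 : g ^ 2 ∈ P := by
    rw [← QuotientGroup.eq_one_iff]; exact hs2
  have hpow : (g ^ Nat.card P) ^ 2 = 1 := by
    rw [← pow_mul, mul_comm, pow_mul]
    have := pow_card_eq_one' (G := P) (x := ⟨g ^ 2, hg2⟩)
    exact congrArg Subtype.val this
  have hmk : (QuotientGroup.mk (g ^ Nat.card P) : X ⧸ P) = QuotientGroup.mk g := by
    obtain ⟨m, hm⟩ := hodd
    rw [QuotientGroup.mk_pow, hm, pow_add, pow_mul, hs2, one_pow, one_mul, pow_one]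
  refine ⟨g ^ Nat.card P, ?_, hmk⟩
  haveI : Fact (Nat.Prime 2) := ⟨Nat.prime_two⟩
  apply orderOf_eq_prime hpow
  intro h
  rw [h] at hmk
  exact hs1 (by rw [← hmk]; rfl)

/-- an element of `X` commuting modulo the central subgroup `P` of odd order with an involution commutes with it. -/
theorem commute_of_mk (P : Subgroup X) [P.Normal] (hodd : Odd (Nat.card P))
    (hc : ∀ p ∈ P, ∀ x : X, x * p = p * x) {j g : X} (hj : j ^ 2 = 1)
    (h : (QuotientGroup.mk g : X ⧸ P) * QuotientGroup.mk j = QuotientGroup.mk j * QuotientGroup.mk g) :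
    g * j = j * g := by
  have h1 : j⁻¹ * (g * j * g⁻¹) ∈ P := by
    rw [← QuotientGroup.eq_one_iff]
    show (QuotientGroup.mk (j⁻¹ * (g * j * g⁻¹)) : X ⧸ P) = 1
    rw [QuotientGroup.mk_mul, QuotientGroup.mk_mul, QuotientGroup.mk_mul, h, QuotientGroup.mk_inv,
      QuotientGroup.mk_inv]
    group
  have hjj : j * j = 1 := by rw [← pow_two]; exact hj
  set p := j⁻¹ * (g * j * g⁻¹) with hp
  have h2 : g * j * g⁻¹ = j * p := by rw [hp]; group
  have h3 : (j * p) ^ 2 = 1 := by
    rw [← h2, conj_pow, hj]; group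
  have h4 : p ^ 2 = 1 := by
    have : (j * p) ^ 2 = j ^ 2 * p ^ 2 := by
      have hcm : Commute j p := hc p h1 j
      exact hcm.mul_pow 2
    rw [this, hj, one_mul] at h3
    exact h3
  have h5 : p = 1 := by
    apply eq_one_of_sq hodd _ h4
    exact congrArg Subtype.val (pow_card_eq_one' (G := P) (x := ⟨p, h1⟩))
  rw [h5, mul_one] at h2
  calc g * j = g * j * g⁻¹ * g := by group
    _ = j * g := by rw [h2]

/-- `X / P` satisfies the hypothesis `HD8`. -/
theorem hd8 (P : Subgroup X) [P.Normal] (hodd : Odd (Nat.card P))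
    (hc : ∀ p ∈ P, ∀ x : X, x * p = p * x)
    (hD : ∀ j : X, orderOf j = 2 → ∃ D : Subgroup X, Nonempty (D ≃* DihedralGroup 4) ∧
      (∀ d ∈ D, d * j = j * d) ∧ ∀ c : X, c * j = j * c → ∃ p ∈ P, ∃ d ∈ D, c = p * d) :
    HD8 (X ⧸ P) := by
  intro s hs
  obtain ⟨j, hj, rfl⟩ := exists_lift P hodd s hs
  have hj2 : j ^ 2 = 1 := by rw [← hj]; exact pow_orderOf_eq_one j
  obtain ⟨D, ⟨e⟩, hDj, hcent⟩ := hD j hj
  let f : D →* centralizer ({(QuotientGroup.mk j : X ⧸ P)} : Set (X ⧸ P)) :=
    ((QuotientGroup.mk' P).comp D.subtype).codRestrict _ (by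
      intro d
      rw [mem_centralizer_singleton_iff]
      show (QuotientGroup.mk (d : X) : X ⧸ P) * QuotientGroup.mk j = QuotientGroup.mk j * QuotientGroup.mk (d : X)
      rw [← QuotientGroup.mk_mul, ← QuotientGroup.mk_mul, hDj d d.2])
  have hcardD : Nat.card D = 8 := by
    rw [Nat.card_congr e.toEquiv, DihedralGroup.nat_card]
  have hf : Function.Bijective f := by
    constructor
    · rw [injective_iff_map_eq_one]
      intro d hd
      have h1 : (d : X) ∈ P := by
        rw [← QuotientGroup.eq_one_iff]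
        exact congrArg Subtype.val hd
      have h2 : (d : X) ^ Nat.card P = 1 :=
        congrArg Subtype.val (pow_card_eq_one' (G := P) (x := ⟨d, h1⟩))
      have h3 : (d : X) ^ 8 = 1 := by
        have := pow_card_eq_one' (G := D) (x := d)
        rw [hcardD] at this
        exact congrArg Subtype.val this
      have hco : Nat.Coprime (Nat.card P) 8 := by
        have : Nat.Coprime (Nat.card P) 2 := hodd.coprime_two_right
        exact Nat.Coprime.pow_right 3 this
      have h4 : orderOf (d : X) ∣ 1 := by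
        rw [← hco.gcd_eq_one]
        exact Nat.dvd_gcd (orderOf_dvd_of_pow_eq_one h2) (orderOf_dvd_of_pow_eq_one h3)
      have h5 : (d : X) = 1 := by
        rw [← orderOf_eq_one_iff]; exact Nat.dvd_one.mp h4
      exact Subtype.ext h5
    · rintro ⟨c, hc'⟩
      obtain ⟨g, rfl⟩ := QuotientGroup.mk_surjective c
      rw [mem_centralizer_singleton_iff] at hc'
      have h1 := commute_of_mk P hodd hc hj2 hc'
      obtain ⟨p, hp, d, hd, rfl⟩ := hcent g h1
      refine ⟨⟨d, hd⟩, Subtype.ext ?_⟩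
      show (QuotientGroup.mk d : X ⧸ P) = QuotientGroup.mk (p * d)
      rw [QuotientGroup.mk_mul, (QuotientGroup.eq_one_iff p).mpr hp, one_mul]
  exact ⟨(MulEquiv.ofBijective f hf).symm.trans e⟩

/-- S0848 for groups all of whose involution centralisers are dihedral of order 8 -/
theorem HD8.card_eq {Y : Type*} [Group Y] [Finite Y] (h : HD8 Y) {s : Y} (hs : orderOf s = 2) :
    Nat.card Y = 168 ∨ Nat.card Y = 360 := by
  obtain ⟨e⟩ := h s hs
  exact Cfsg.Agent.S0848.result (h.perfect hs) s hs e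

end Cfsg.Agent.ONType.QuotHD
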