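import Mathlib
import Cfsg.Agent.ONType.QuotHD

set_option autoImplicit false
set_option linter.unusedSectionVars false
set_option linter.style.haveILetI false

/-! O'Nan type, part (C): finite groups all of whose involution centralisers are dihedral of order 8:
conjugacy of involutions, no subgroup of order 45 (order 360), no abelian subgroup of order 21 (order 168). -/

namespace Cfsg.Agent.ONType.HDFacts

open scoped Pointwise in
theorem AutSL2Mem.mem_smul_sylow {p : ℕ} {G : Type*} [Group G] (P : Sylow p G) (g x : G) :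
    x ∈ ((g • P : Sylow p G) : Subgroup G) ↔ g⁻¹ * x * g ∈ (P : Subgroup G) := by
  rw [Sylow.coe_subgroup_smul, Subgroup.mem_pointwise_smul_iff_inv_smul_mem, ← map_inv, MulAut.smul_def,
    MulAut.conj_apply, inv_inv]

open Subgroup
open Cfsg.Agent.J3Type.ExistsW (HD8)

variable {Y : Type*} [Group Y] [Finite Y]

theorem isConj_of (h : HD8 Y) {s r : Y} (hs : orderOf s = 2) (hr : orderOf r = 2) :
    ∃ g : Y, g * s * g⁻¹ = r := by
  haveI : Fact (Nat.Prime 2) := ⟨Nat.prime_two⟩
  obtain ⟨S, hS⟩ := h.exists_sylow hs
  obtain ⟨R, hR⟩ := h.exists_sylow hr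
  obtain ⟨g, hg⟩ := MulAction.exists_smul_eq Y S R
  have hs1 : s ≠ 1 := by rintro rfl; simp at hs
  have hmem : ∀ x : Y, x ∈ (R : Subgroup Y) ↔ g⁻¹ * x * g ∈ (S : Subgroup Y) := by
    intro x
    rw [← hg]
    exact AutSL2Mem.mem_smul_sylow S g x
  refine ⟨g, ?_⟩
  apply h.eq_of_central hr
  · rw [← hR, hmem]
    have : g⁻¹ * (g * s * g⁻¹) * g = s := by group
    rw [this, hS, mem_centralizer_singleton_iff]
  · intro x hx
    rw [← hR, hmem, hS, mem_centralizer_singleton_iff] at hx
    calc x * (g * s * g⁻¹) = g * (g⁻¹ * x * g * s) * g⁻¹ := by group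
      _ = g * (s * (g⁻¹ * x * g)) * g⁻¹ := by rw [hx]
      _ = g * s * g⁻¹ * x := by group
  · intro h1
    apply hs1
    calc s = g⁻¹ * (g * s * g⁻¹) * g := by group
      _ = 1 := by rw [h1]; group

/-- In a perfect group a normal cyclic subgroup is central. -/
theorem central_of_normal (hperf : commutator Y = ⊤) (y : Y) [hn : (zpowers y).Normal] (x : Y) :
    x * y = y * x := by
  have h1 : commutator Y ≤ centralizer ((zpowers y : Subgroup Y) : Set Y) := by
    let f : Y →* MulAut (zpowers y) := MulAut.conjNormal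
    have hker : f.ker ≤ centralizer ((zpowers y : Subgroup Y) : Set Y) := by
      intro g hg
      rw [mem_centralizer_iff]
      intro z hz
      have h2 : f g ⟨z, hz⟩ = ⟨z, hz⟩ := by
        rw [MonoidHom.mem_ker.mp hg]; rfl
      have h3 : g * z * g⁻¹ = z := by
        have := congrArg Subtype.val h2
        simpa [f] using this
      calc z * g = g * z * g⁻¹ * g := by rw [h3]
        _ = g * z := by group
    refine le_trans ?_ hker
    have hcomm : ∀ a b : MulAut (zpowers y), a * b = b * a := by
      intro a b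
      apply (IsCyclic.mulAutMulEquiv (zpowers y)).injective
      rw [map_mul, map_mul, mul_comm]
    rw [_root_.commutator_def, Subgroup.commutator_le]
    intro a _ b _
    rw [MonoidHom.mem_ker, map_commutatorElement, commutatorElement_def, hcomm (f a) (f b)]
    group
  rw [hperf] at h1
  have h2 := h1 (mem_top x)
  rw [mem_centralizer_iff] at h2
  exact (h2 y (mem_zpowers y)).symm

theorem central_ne (h : HD8 Y) {s : Y} (hs : orderOf s = 2) {y : Y} {p : ℕ} (hy : orderOf y = p)
    (hp : ¬ p ∣ 8) (hc : ∀ x : Y, x * y = y * x) : False := by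
  apply hp
  have hm : y ∈ centralizer ({s} : Set Y) := by
    rw [mem_centralizer_singleton_iff]; exact (hc s).symm
  rw [← h.card hs, ← hy, ← orderOf_mk y hm]
  exact orderOf_dvd_natCard _

/-- number of Sylow subgroups when a subgroup `F` normalises a subgroup `⟨y⟩` of order `p` -/
theorem normal_of_count (y : Y) {p : ℕ} (hp : p.Prime) (hy : orderOf y = p)
    (hsq : ¬ p * p ∣ Nat.card Y) (F : Subgroup Y)
    (hF : F ≤ normalizer ((zpowers y : Subgroup Y) : Set Y)) {m : ℕ}
    (hm : Nat.card Y = Nat.card F * m) (hcount : ∀ d, d ∣ m → d ≡ 1 [MOD p] → d = 1) :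
    (zpowers y).Normal := by
  haveI : Fact p.Prime := ⟨hp⟩
  have hfac : (Nat.card Y).factorization p = 1 := by
    have h1 : p ∣ Nat.card Y := by rw [← hy]; exact orderOf_dvd_natCard y
    have hpos : Nat.card Y ≠ 0 := Nat.card_pos.ne'
    have h2 : 1 ≤ (Nat.card Y).factorization p := (hp.dvd_iff_one_le_factorization hpos).mp h1
    have h3 : ¬ 2 ≤ (Nat.card Y).factorization p := by
      intro h3
      apply hsq
      rw [← pow_two]
      exact (hp.pow_dvd_iff_le_factorization hpos).mpr h3
    omega
  let S : Sylow p Y := Sylow.ofCard (zpowers y) (by rw [Nat.card_zpowers, hy, hfac, pow_one])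
  have hS : (S : Subgroup Y) = zpowers y := rfl
  have h1 : Nat.card (Sylow p Y) ≡ 1 [MOD p] := card_sylow_modEq_one p Y
  have h2 : Nat.card (Sylow p Y) = (normalizer ((S : Subgroup Y) : Set Y)).index := S.card_eq_index_normalizer
  have h3 : (normalizer ((S : Subgroup Y) : Set Y)).index ∣ m := by
    have h4 := (normalizer ((S : Subgroup Y) : Set Y)).card_mul_index
    have h5 : Nat.card F ∣ Nat.card (normalizer ((S : Subgroup Y) : Set Y)) := card_dvd_of_le hF
    obtain ⟨k, hk⟩ := h5
    rw [hk, hm, mul_assoc] at h4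
    have h6 := Nat.eq_of_mul_eq_mul_left Nat.card_pos h4
    exact ⟨k, by rw [← h6, mul_comm]⟩
  have h7 := hcount _ (h2 ▸ h3) h1
  rw [h2, index_eq_one] at h7
  have h8 := normalizer_eq_top_iff.mp h7
  rw [hS] at h8
  exact h8

theorem no_45 (h : HD8 Y) (hY : Nat.card Y = 360) (F : Subgroup Y) (hF : Nat.card F = 45) : False := by
  haveI : Fact (Nat.Prime 5) := ⟨by norm_num⟩
  haveI : Fact (Nat.Prime 2) := ⟨by norm_num⟩
  obtain ⟨s, hs⟩ := exists_prime_orderOf_dvd_card' (G := Y) 2 (by rw [hY]; norm_num)
  obtain ⟨y, hy⟩ := exists_prime_orderOf_dvd_card' (G := F) 5 (by rw [hF]; norm_num)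
  have hyF : (zpowers y).Normal := by
    apply normal_of_count y (p := 5) (by norm_num) hy (by rw [hF]; norm_num) (F := zpowers y)
      (le_normalizer) (m := 9)
    · rw [hF, Nat.card_zpowers, hy]
    · intro d hd h1
      have : d ≤ 9 := Nat.le_of_dvd (by norm_num) hd
      interval_cases d <;> simp_all [Nat.ModEq]
  have hy' : orderOf (y : Y) = 5 := by rw [orderOf_coe]; exact hy
  have hle : F ≤ normalizer ((zpowers (y : Y) : Subgroup Y) : Set Y) := by
    intro f hf
    apply J3Type.ExistsW.mem_normalizer_zpowers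
    obtain ⟨k, hk⟩ := hyF.conj_mem y (mem_zpowers y) ⟨f, hf⟩
    exact ⟨k, by simpa using congrArg Subtype.val hk⟩
  haveI : (zpowers (y : Y)).Normal := by
    apply normal_of_count (y : Y) (p := 5) (by norm_num) hy' (by rw [hY]; norm_num) F hle (m := 8)
    · rw [hY, hF]
    · intro d hd h1
      have : d ≤ 8 := Nat.le_of_dvd (by norm_num) hd
      interval_cases d <;> simp_all [Nat.ModEq]
  exact central_ne h hs hy' (by norm_num) (central_of_normal (h.perfect hs) (y : Y))

theorem no_abelian_21 (h : HD8 Y) (hY : Nat.card Y = 168) (F : Subgroup Y) (hF : Nat.card F = 21)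
    (hc : ∀ a ∈ F, ∀ b ∈ F, a * b = b * a) : False := by
  haveI : Fact (Nat.Prime 7) := ⟨by norm_num⟩
  haveI : Fact (Nat.Prime 2) := ⟨by norm_num⟩
  obtain ⟨s, hs⟩ := exists_prime_orderOf_dvd_card' (G := Y) 2 (by rw [hY]; norm_num)
  obtain ⟨y, hy⟩ := exists_prime_orderOf_dvd_card' (G := F) 7 (by rw [hF]; norm_num)
  have hy' : orderOf (y : Y) = 7 := by rw [orderOf_coe]; exact hy
  have hFc : F ≤ centralizer ((zpowers (y : Y) : Subgroup Y) : Set Y) := by
    intro f hf
    rw [J3Type.ExistsW.centralizer_zpowers, mem_centralizer_singleton_iff]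
    exact hc f hf y y.2
  have hcn : centralizer ((zpowers (y : Y) : Subgroup Y) : Set Y) ≤
      normalizer ((zpowers (y : Y) : Subgroup Y) : Set Y) :=
    J2Type.SylowSeven.centralizer_le_normalizer' _
  have hFn := hFc.trans hcn
  by_cases hN : Nat.card (normalizer ((zpowers (y : Y) : Subgroup Y) : Set Y)) = 21
  · have hNF : normalizer ((zpowers (y : Y) : Subgroup Y) : Set Y) = F :=
      (eq_of_le_of_card_ge hFn (by rw [hN, hF])).symm
    have hfac : (Nat.card Y).factorization 7 = 1 := by
      rw [hY]
      have : (168 : ℕ) = 2 ^ 3 * 3 * 7 := by norm_num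
      rw [this]
      have h7 : Nat.Prime 7 := by norm_num
      rw [Nat.factorization_mul (by norm_num) (by norm_num), Finsupp.add_apply,
        h7.factorization_self, Nat.factorization_eq_zero_of_not_dvd (by norm_num)]
    let S : Sylow 7 Y := Sylow.ofCard (zpowers (y : Y)) (by rw [Nat.card_zpowers, hy', hfac, pow_one])
    have hS : (S : Subgroup Y) = zpowers (y : Y) := rfl
    have hP : normalizer ((S : Subgroup Y) : Set Y) ≤ centralizer ((S : Subgroup Y) : Set Y) := by
      rw [hS, hNF]; exact hFc
    have hcomp := MonoidHom.ker_transferSylow_isComplement' S hP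
    have hker : (MonoidHom.transferSylow S hP).ker = ⊤ := by
      rw [eq_top_iff, ← h.perfect hs]
      haveI : IsMulCommutative (S : Subgroup Y) := by
        rw [hS]; infer_instance
      rw [_root_.commutator_def, Subgroup.commutator_le]
      intro a _ b _
      rw [MonoidHom.mem_ker, map_commutatorElement, commutatorElement_def,
        (IsMulCommutative.is_comm.comm (MonoidHom.transferSylow S hP a) (MonoidHom.transferSylow S hP b))]
      group
    rw [hker, isComplement'_top_left, hS] at hcomp
    have : orderOf (y : Y) = 1 := by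
      rw [orderOf_eq_one_iff, ← zpowers_eq_bot]; exact hcomp
    omega
  · haveI : (zpowers (y : Y)).Normal := by
      apply normal_of_count (y : Y) (p := 7) (by norm_num) hy' (by rw [hY]; norm_num)
        (normalizer ((zpowers (y : Y) : Subgroup Y) : Set Y)) le_rfl
        (m := (normalizer ((zpowers (y : Y) : Subgroup Y) : Set Y)).index)
      · exact (card_mul_index _).symm
      · intro d hd h1
        set N := normalizer ((zpowers (y : Y) : Subgroup Y) : Set Y) with hNdef
        have h2 : Nat.card N * N.index = 168 := by rw [card_mul_index, hY]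
        have h3 : 21 ∣ Nat.card N := by rw [← hF]; exact card_dvd_of_le hFn
        obtain ⟨k, hk⟩ := h3
        have h4 : k * N.index = 8 := by
          rw [hk] at h2
          have : 21 * (k * N.index) = 21 * 8 := by rw [← mul_assoc, h2]
          exact Nat.eq_of_mul_eq_mul_left (by norm_num) this
        have h5 : k ≠ 1 := by
          rintro rfl; exact hN (by rw [hk])
        have h6 : N.index ∣ 8 := ⟨k, by rw [← h4, mul_comm]⟩
        have h7 : d ∣ 8 := hd.trans h6
        have h8 : d ≤ 8 := Nat.le_of_dvd (by norm_num) h7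
        have h9 : N.index ≠ 8 := by
          intro h9; rw [h9] at h4; exact h5 (by omega)
        have h10 : d = 8 → False := by
          rintro rfl
          exact h9 (Nat.dvd_antisymm h6 hd)
        interval_cases d <;> simp_all [Nat.ModEq]
    exact central_ne h hs hy' (by norm_num) (central_of_normal (h.perfect hs) (y : Y))

/-- a subgroup of order 21 with a nontrivial central element is abelian. -/
theorem abelian_21 (F : Subgroup Y) (hF : Nat.card F = 21) {z : Y} (hz : z ∈ F) (hz1 : z ≠ 1)
    (hzc : ∀ a ∈ F, a * z = z * a) : ∀ a ∈ F, ∀ b ∈ F, a * b = b * a := by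
  have hcen : (⟨z, hz⟩ : F) ∈ center F := by
    rw [mem_center_iff]
    intro g
    exact Subtype.ext (hzc g g.2)
  have hcard : Nat.card (center F) ∣ 21 := hF ▸ card_subgroup_dvd_card _
  have hne : Nat.card (center F) ≠ 1 := by
    intro h1
    have h2 := (card_eq_one.mp h1)
    rw [h2, mem_bot] at hcen
    exact hz1 (congrArg Subtype.val hcen)
  have hidx : Nat.card (F ⧸ center F) * Nat.card (center F) = 21 := by
    rw [← hF]; exact (card_eq_card_quotient_mul_card_subgroup _).symm
  have hcyc : IsCyclic (F ⧸ center F) := by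
    have hle : Nat.card (center F) ≤ 21 := Nat.le_of_dvd (by norm_num) hcard
    have h3 : Nat.card (center F) = 3 ∨ Nat.card (center F) = 7 ∨ Nat.card (center F) = 21 := by
      have h0 : 0 < Nat.card (center F) := Nat.card_pos
      generalize Nat.card (center F) = n at *
      interval_cases n <;> simp_all
    rcases h3 with h3 | h3 | h3
    · haveI : Fact (Nat.Prime 7) := ⟨by norm_num⟩
      exact isCyclic_of_prime_card (p := 7) (by rw [h3] at hidx; omega)
    · haveI : Fact (Nat.Prime 3) := ⟨by norm_num⟩
      exact isCyclic_of_prime_card (p := 3) (by rw [h3] at hidx; omega)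
    · have : Nat.card (F ⧸ center F) = 1 := by rw [h3] at hidx; omega
      haveI : Subsingleton (F ⧸ center F) := (Nat.card_eq_one_iff_unique.mp this).1
      infer_instance
  intro a ha b hb
  have h4 := MonoidHom.isMulCommutative_of_isCyclic_of_ker_le_center (QuotientGroup.mk' (center F))
    (by rw [QuotientGroup.ker_mk'])
  have h5 : (⟨a, ha⟩ : F) * ⟨b, hb⟩ = ⟨b, hb⟩ * ⟨a, ha⟩ := h4.is_comm.comm _ _
  exact congrArg Subtype.val h5

end Cfsg.Agent.ONType.HDFacts
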