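import Mathlib
import Cfsg.Agent.S1225
import Cfsg.Agent.TwoFusion.IsolatedSylow
import Cfsg.Agent.SignalizersComponents.BenderCount

set_option autoImplicit false
set_option linter.style.haveILetI false

/-! Strongly embedded subgroups: the odd order subgroup `E = X ∩ X^u` for an involution `u ∉ X`, in the form used for
the O'Nan type recognition. -/

namespace Cfsg.Agent.ONType.SEData

open Subgroup Cfsg Cfsg.Agent.TwoFusion.StronglyEmbeddedBasic Cfsg.Agent.SignalizersComponents.BenderCount
open Cfsg.Agent.TwoFusion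

theorem exists_data {H : Type*} [Group H] [Finite H] (X : Subgroup H) (hX : IsStronglyEmbedded X) :
    ∃ (u : H) (E : Subgroup H), orderOf u = 2 ∧ u ∉ X ∧ E ≤ X ∧ (∀ g, g ∈ X → u * g * u⁻¹ ∈ X → g ∈ E) ∧
      (∀ g ∈ E, u * g * u⁻¹ ∈ E) ∧ Odd (Nat.card E) ∧
      (∀ a b : H, orderOf a = 2 → a ∈ X → orderOf b = 2 → b ∈ X → ∃ d ∈ E, d * a * d⁻¹ = b) ∧
      Nat.card E = Nat.card ↥(E ⊓ centralizer {u}) * Nat.card {j : H // orderOf j = 2 ∧ j ∈ X} := by
  obtain ⟨u, huX, hu⟩ := exists_involution_notMem hX
  have huu := mul_self_of_orderOf hu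
  have hui := inv_eq_self_of_orderOf hu
  set E : Subgroup H := X ⊓ X.map (MulAut.conj u).toMonoidHom with hE
  have hmem : ∀ g : H, g ∈ E ↔ g ∈ X ∧ u * g * u⁻¹ ∈ X := by
    intro g
    rw [hE, mem_inf]
    refine and_congr_right fun _ => ?_
    constructor
    · rintro ⟨k, hk, rfl⟩
      have : u * ((MulAut.conj u).toMonoidHom k) * u⁻¹ = k := by
        show u * (u * k * u⁻¹) * u⁻¹ = k
        rw [hui]
        calc u * (u * k * u) * u = (u * u) * k * (u * u) := by group
          _ = k := by rw [huu]; group
      rw [this]; exact hk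
    · intro h
      refine ⟨u * g * u⁻¹, h, ?_⟩
      show u * (u * g * u⁻¹) * u⁻¹ = g
      rw [hui]
      calc u * (u * g * u) * u = (u * u) * g * (u * u) := by group
        _ = g := by rw [huu]; group
  have huE : ∀ g ∈ E, u * g * u⁻¹ ∈ E := by
    intro g hg
    rw [hmem] at hg ⊢
    refine ⟨hg.2, ?_⟩
    have : u * (u * g * u⁻¹) * u⁻¹ = g := by
      rw [hui]
      calc u * (u * g * u) * u = (u * u) * g * (u * u) := by group
        _ = g := by rw [huu]; group
    rw [this]; exact hg.1
  have hodd : Odd (Nat.card E) := hX.2.2 u huX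
  refine ⟨u, E, hu, huX, inf_le_left, fun g h1 h2 => (hmem g).mpr ⟨h1, h2⟩, huE, hodd, ?_, ?_⟩
  · intro a b ha haX hb hbX
    exact (Cfsg.Agent.S1225.result X hX u hu huX a b ha haX hb hbX).1
  · -- counting
    set x : H ⧸ X := ((1 : H) : H ⧸ X) with hx
    have hux : u • x ≠ x := fun h => huX ((smul_one_eq_iff u).mp h)
    have hcnt := ncard_invs_eq hX x (u • x)
    have huN : u ∈ normalizer (E : Set H) := by
      rw [mem_normalizer_iff]
      intro g
      refine ⟨huE g, fun h => ?_⟩
      have := huE _ h
      have h2 : u * (u * g * u⁻¹) * u⁻¹ = g := by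
        rw [hui]
        calc u * (u * g * u) * u = (u * u) * g * (u * u) := by group
          _ = g := by rw [huu]; group
      rwa [h2] at this
    have hidx := IsolatedSylow.relIndex_centralizer_eq_card_inverted huu E hodd huN
    have h1 : Nat.card {k : H // k ∈ E ∧ u * k * u⁻¹ = k⁻¹} = (invs x (u • x)).ncard := by
      rw [← Nat.card_coe_set_eq]
      refine Nat.card_congr ⟨fun k => ⟨u * k.1, ?_, ?_⟩, fun w => ⟨u * w.1, ?_, ?_⟩, ?_, ?_⟩
      · apply orderOf_eq_two_of_mul_self
        · obtain ⟨k, hk, h1⟩ := k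
          have h1' : u * k * u = k⁻¹ := (congrArg (fun a => u * k * a) hui.symm).trans h1
          show u * k * (u * k) = 1
          calc u * k * (u * k) = (u * k * u) * k := by group
            _ = 1 := by rw [h1']; group
        · intro h1
          have h2 : (k : H) = u := by
            calc (k : H) = u * (u * k.1) := by rw [← mul_assoc, huu, one_mul]
              _ = u := by rw [h1, mul_one]
          exact huX (h2 ▸ ((hmem _).mp k.2.1).1)
      · show (u * k.1) • x = u • x
        rw [mul_smul, (smul_one_eq_iff k.1).mpr ((hmem _).mp k.2.1).1]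
      · have hw : w.1 ∈ invs x (u • x) := w.2
        rw [hmem]
        have ha : (u * w.1) • x = x := by
          rw [mul_smul, hw.2, ← mul_smul, huu, one_smul]
        have hb : (w.1 * u) • x = x := by
          rw [mul_smul]; exact smul_of_mem_invs hw
        refine ⟨(smul_one_eq_iff _).mp ha, ?_⟩
        rw [hui]
        have h3 : u * (u * w.1) * u = w.1 * u := by
          calc u * (u * w.1) * u = (u * u) * w.1 * u := by group
            _ = w.1 * u := by rw [huu, one_mul]
        rw [h3]
        exact (smul_one_eq_iff _).mp hb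
      · have hw : w.1 ∈ invs x (u • x) := w.2
        rw [mul_inv_rev, inv_eq_self_of_orderOf hw.1, hui, ← mul_assoc, huu, one_mul]
      · intro k
        apply Subtype.ext
        show u * (u * k.1) = k.1
        rw [← mul_assoc, huu, one_mul]
      · intro w
        apply Subtype.ext
        show u * (u * w.1) = w.1
        rw [← mul_assoc, huu, one_mul]
    have h2 : (invs x x).ncard = Nat.card {j : H // orderOf j = 2 ∧ j ∈ X} := by
      rw [← Nat.card_coe_set_eq]
      refine Nat.card_congr (Equiv.subtypeEquivRight fun j => ?_)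
      show (orderOf j = 2 ∧ j • x = x) ↔ _
      rw [smul_one_eq_iff]
    have h5 : (E ⊓ Subgroup.centralizer ({u} : Set H)).relIndex E *
        Nat.card (E ⊓ Subgroup.centralizer ({u} : Set H) : Subgroup H) = Nat.card E := by
      rw [mul_comm, Subgroup.relIndex, ← Subgroup.card_mul_index
        ((E ⊓ Subgroup.centralizer ({u} : Set H)).subgroupOf E)]
      congr 1
      exact (Nat.card_congr (Subgroup.subgroupOfEquivOfLe inf_le_left).toEquiv).symm
    rw [hidx, h1, hcnt] at h5
    rw [← h2, ← h5, mul_comm]

end Cfsg.Agent.ONType.SEData
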