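import Mathlib
import Cfsg.Agent.S0223
import Cfsg.Agent.ONType.HDFacts
import Cfsg.Agent.ONType.SEData
import Cfsg.Agent.Involutions.PairCount

set_option autoImplicit false
set_option linter.style.haveILetI false

/-! O'Nan type, part (C): in a group `H` with a central element `x` of order 3 contained in `P` (order 9), the
centraliser `X` of `P` is the whole group, provided it contains the centraliser of an involution `t`, the normaliser of
`P`, and `X / P` has dihedral involution centralisers. -/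

namespace Cfsg.Agent.ONType.CentX

open Subgroup Cfsg
open Cfsg.Agent.J3Type.ExistsW (HD8)
open Cfsg.Agent.ONType.HDFacts Cfsg.Agent.ONType.QuotHD

/-- number of involutions of a group with dihedral involution centralisers -/
theorem card_involutions {Y : Type*} [Group Y] [Finite Y] (h : HD8 Y) {s : Y} (hs : orderOf s = 2) :
    Nat.card {j : Y // orderOf j = 2} * 8 = Nat.card Y := by
  have h1 := Cfsg.Agent.Involutions.PairCount.card_class_mul_card_centralizer s
  rw [h.card hs] at h1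
  rw [← h1]
  congr 1
  apply Nat.card_congr
  apply Equiv.subtypeEquivRight
  intro j
  constructor
  · intro hj
    obtain ⟨g, hg⟩ := isConj_of h hs hj
    exact isConj_iff.mpr ⟨g, hg⟩
  · intro hj
    obtain ⟨g, hg⟩ := isConj_iff.mp hj
    rw [← hg]
    rw [Cfsg.Agent.TwoFusion.StronglyEmbeddedBasic.orderOf_conj]; exact hs

section lift
variable {X : Type*} [Group X] [Finite X]

theorem eq_of_mk (P : Subgroup X) [P.Normal] (hodd : Odd (Nat.card P))
    (hc : ∀ p ∈ P, ∀ x : X, x * p = p * x) {j r : X} (hj : orderOf j = 2) (hr : orderOf r = 2)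
    (h : (QuotientGroup.mk j : X ⧸ P) = QuotientGroup.mk r) : j = r := by
  rw [QuotientGroup.eq] at h
  set p := j⁻¹ * r with hp
  have h2 : r = j * p := by rw [hp]; group
  have hj2 : j ^ 2 = 1 := by rw [← hj]; exact pow_orderOf_eq_one j
  have hr2 : r ^ 2 = 1 := by rw [← hr]; exact pow_orderOf_eq_one r
  have h4 : p ^ 2 = 1 := by
    have : (j * p) ^ 2 = j ^ 2 * p ^ 2 := (show Commute j p from hc p h j).mul_pow 2
    rw [h2, this, hj2, one_mul] at hr2
    exact hr2
  have h5 : p = 1 := by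
    apply eq_one_of_sq hodd _ h4
    exact congrArg Subtype.val (pow_card_eq_one' (G := P) (x := ⟨p, h⟩))
  rw [h2, h5, mul_one]

theorem orderOf_mk_eq (P : Subgroup X) [P.Normal] (hodd : Odd (Nat.card P)) {j : X} (hj : orderOf j = 2) :
    orderOf (QuotientGroup.mk j : X ⧸ P) = 2 := by
  haveI : Fact (Nat.Prime 2) := ⟨Nat.prime_two⟩
  have hj2 : j ^ 2 = 1 := by rw [← hj]; exact pow_orderOf_eq_one j
  have hj1 : j ≠ 1 := by rintro rfl; simp at hj
  apply orderOf_eq_prime
  · rw [← QuotientGroup.mk_pow, hj2]; rfl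
  · intro h1
    rw [QuotientGroup.eq_one_iff] at h1
    exact hj1 (eq_one_of_sq hodd
      (congrArg Subtype.val (pow_card_eq_one' (G := P) (x := ⟨j, h1⟩))) hj2)

theorem card_involutions_eq (P : Subgroup X) [P.Normal] (hodd : Odd (Nat.card P))
    (hc : ∀ p ∈ P, ∀ x : X, x * p = p * x) :
    Nat.card {j : X // orderOf j = 2} = Nat.card {j : X ⧸ P // orderOf j = 2} := by
  apply Nat.card_congr
  refine Equiv.ofBijective (fun j => ⟨QuotientGroup.mk j.1, orderOf_mk_eq P hodd j.2⟩) ⟨?_, ?_⟩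
  · intro a b hab
    exact Subtype.ext (eq_of_mk P hodd hc a.2 b.2 (congrArg Subtype.val hab))
  · rintro ⟨s, hs⟩
    obtain ⟨j, hj, rfl⟩ := exists_lift P hodd s hs
    exact ⟨⟨j, hj⟩, rfl⟩

/-- all involutions of `X` are conjugate when `X / P` has dihedral involution centralisers -/
theorem isConj_lift (P : Subgroup X) [P.Normal] (hodd : Odd (Nat.card P))
    (hc : ∀ p ∈ P, ∀ x : X, x * p = p * x) (hHD : HD8 (X ⧸ P)) {j r : X} (hj : orderOf j = 2)
    (hr : orderOf r = 2) : ∃ g : X, g * j * g⁻¹ = r := by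
  obtain ⟨c, hc'⟩ := isConj_of hHD (orderOf_mk_eq P hodd hj) (orderOf_mk_eq P hodd hr)
  obtain ⟨g, rfl⟩ := QuotientGroup.mk_surjective c
  refine ⟨g, eq_of_mk P hodd hc ?_ hr ?_⟩
  · rw [Cfsg.Agent.TwoFusion.StronglyEmbeddedBasic.orderOf_conj]; exact hj
  · rw [← hc']; rfl

end lift

theorem three_of_dvd {n : ℕ} (h : n ∣ 9) (h3 : 3 ≤ n) (h9 : n ≠ 9) : n = 3 := by
  have hle : n ≤ 9 := Nat.le_of_dvd (by norm_num) h
  interval_cases n <;> simp_all

set_option maxHeartbeats 1000000 in
theorem eq_top {H : Type*} [Group H] [Finite H] (P X : Subgroup H) (x t : H) (hxP : x ∈ P) (hx1 : x ≠ 1)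
    (hxc : ∀ g : H, g * x = x * g) (hP9 : Nat.card P = 9) (hPexp : ∀ p ∈ P, p ^ 3 = 1)
    (hPX : P ≤ X) (hXc : ∀ g : H, g ∈ X ↔ ∀ p ∈ P, g * p = p * g)
    (ht : orderOf t = 2) (htX : t ∈ X) (hC : ∀ g : H, g * t = t * g → g ∈ X)
    (hN : ∀ g : H, (∀ p ∈ P, g * p * g⁻¹ ∈ P) → g ∈ X)
    (hn : (P.subgroupOf X).Normal) (hHD : HD8 (X ⧸ P.subgroupOf X)) : X = ⊤ := by
  haveI : Fact (Nat.Prime 2) := ⟨Nat.prime_two⟩
  haveI : Fact (Nat.Prime 3) := ⟨Nat.prime_three⟩
  by_contra hne
  have hPodd : Odd (Nat.card (P.subgroupOf X)) := by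
    rw [Nat.card_congr (Subgroup.subgroupOfEquivOfLe hPX).toEquiv, hP9]; decide
  have hcen : ∀ p ∈ P.subgroupOf X, ∀ g : X, g * p = p * g := by
    intro p hp g
    exact Subtype.ext ((hXc g).mp g.2 p (mem_subgroupOf.mp hp))
  have htX' : orderOf (⟨t, htX⟩ : X) = 2 := by rw [← ht]; exact orderOf_mk t htX
  have hcls : ∀ a b : H, orderOf a = 2 → a ∈ X → orderOf b = 2 → b ∈ X → ∃ g ∈ X, g * a * g⁻¹ = b := by
    intro a b ha haX hb hbX
    obtain ⟨g, hg⟩ := isConj_lift (P.subgroupOf X) hPodd hcen hHD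
      (j := ⟨a, haX⟩) (r := ⟨b, hbX⟩) (by rw [← ha]; exact orderOf_mk a haX)
      (by rw [← hb]; exact orderOf_mk b hbX)
    exact ⟨g, g.2, congrArg Subtype.val hg⟩
  have heven : Even (Nat.card X) := by
    rw [even_iff_two_dvd, ← htX']; exact orderOf_dvd_natCard _
  -- strongly embedded
  have hSE : IsStronglyEmbedded X := by
    rw [Cfsg.Agent.S0223.result X hne heven]
    constructor
    · intro a haX ha g hg
      rw [mem_centralizer_singleton_iff] at hg
      obtain ⟨k, hk, hka⟩ := hcls a t ha haX ht htX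
      have h1 : k * g * k⁻¹ ∈ X := by
        apply hC
        rw [← hka]
        calc k * g * k⁻¹ * (k * a * k⁻¹) = k * (g * a) * k⁻¹ := by group
          _ = k * (a * g) * k⁻¹ := by rw [hg]
          _ = k * a * k⁻¹ * (k * g * k⁻¹) := by group
      have h2 : k⁻¹ * (k * g * k⁻¹) * k ∈ X := X.mul_mem (X.mul_mem (X.inv_mem hk) h1) hk
      have h3 : k⁻¹ * (k * g * k⁻¹) * k = g := by group
      rwa [h3] at h2
    · intro a haX b hbX ha hb _
      exact hcls a b ha haX hb hbX
  obtain ⟨u, E, hu, huX, hEX, hEmem, huE, hEodd, htrans, hcount⟩ := SEData.exists_data X hSE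
  have huu := Cfsg.Agent.TwoFusion.StronglyEmbeddedBasic.mul_self_of_orderOf hu
  have hui := Cfsg.Agent.TwoFusion.StronglyEmbeddedBasic.inv_eq_self_of_orderOf hu
  -- quotient
  let Q := X ⧸ P.subgroupOf X
  let π : X →* Q := QuotientGroup.mk' (P.subgroupOf X)
  have hs : orderOf (π ⟨t, htX⟩) = 2 := orderOf_mk_eq _ hPodd htX'
  have hinvX : Nat.card {j : H // orderOf j = 2 ∧ j ∈ X} = Nat.card {j : Q // orderOf j = 2} := by
    rw [← card_involutions_eq (P.subgroupOf X) hPodd hcen]
    apply Nat.card_congr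
    refine ⟨fun j => ⟨⟨j.1, j.2.2⟩, (orderOf_mk _ _).trans j.2.1⟩,
      fun j => ⟨j.1.1, (orderOf_coe _).trans j.2, j.1.2⟩, ?_, ?_⟩
    · intro j; rfl
    · intro j; rfl
  have hinvQ := card_involutions hHD hs
  -- image of E
  let EX : Subgroup X := E.subgroupOf X
  let F : Subgroup Q := EX.map π
  have hEXcard : Nat.card EX = Nat.card E := Nat.card_congr (Subgroup.subgroupOfEquivOfLe hEX).toEquiv
  -- |F| * |E ∩ P| = |E|
  have hFcard : Nat.card F * Nat.card ↥(E ⊓ P) = Nat.card E := by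
    have h1 := Subgroup.card_mul_index ((π.comp EX.subtype).ker)
    have h2 : (π.comp EX.subtype).ker.index = Nat.card F := by
      rw [Subgroup.index_ker]
      congr 1
      rw [MonoidHom.range_comp, Subgroup.range_subtype]
    have h3 : Nat.card (π.comp EX.subtype).ker = Nat.card ↥(E ⊓ P) := by
      apply Nat.card_congr
      refine ⟨fun g => ⟨(g.1.1 : H), ?_⟩, fun g => ⟨⟨⟨g.1, hPX g.2.2⟩, ?_⟩, ?_⟩, ?_, ?_⟩
      · refine ⟨mem_subgroupOf.mp g.1.2, ?_⟩
        have := g.2
        rw [MonoidHom.mem_ker] at this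
        have h4 : ((g.1 : X)) ∈ P.subgroupOf X := (QuotientGroup.eq_one_iff _).mp this
        exact mem_subgroupOf.mp h4
      · exact mem_subgroupOf.mpr g.2.1
      · rw [MonoidHom.mem_ker]
        exact (QuotientGroup.eq_one_iff _).mpr (mem_subgroupOf.mpr g.2.2)
      · intro g; rfl
      · intro g; rfl
    rw [h2, h3, hEXcard] at h1
    rw [mul_comm]; exact h1
  -- F acts regularly on the involutions
  have hFinv : Nat.card F = Nat.card {j : Q // orderOf j = 2} := by
    let s : Q := π ⟨t, htX⟩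
    apply Nat.card_congr
    refine Equiv.ofBijective (fun f => ⟨(f : Q) * s * (f : Q)⁻¹, by
      rw [Cfsg.Agent.TwoFusion.StronglyEmbeddedBasic.orderOf_conj]; exact hs⟩) ⟨?_, ?_⟩
    · intro a b hab
      have h1 : (a : Q) * s * (a : Q)⁻¹ = b * s * (b : Q)⁻¹ := congrArg Subtype.val hab
      have h2 : (b : Q)⁻¹ * a ∈ centralizer ({s} : Set Q) := by
        rw [mem_centralizer_singleton_iff]
        calc (b : Q)⁻¹ * a * s = (b : Q)⁻¹ * (a * s * (a : Q)⁻¹) * a := by group
          _ = (b : Q)⁻¹ * (b * s * (b : Q)⁻¹) * a := by rw [h1]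
          _ = s * ((b : Q)⁻¹ * a) := by group
      have h3 : ((b : Q)⁻¹ * a) ^ 8 = 1 := by
        have := pow_card_eq_one' (G := centralizer ({s} : Set Q)) (x := ⟨_, h2⟩)
        rw [hHD.card hs] at this
        exact congrArg Subtype.val this
      have h4 : ((b : Q)⁻¹ * a) ^ (Nat.card F) = 1 := by
        have := pow_card_eq_one' (G := F) (x := b⁻¹ * a)
        exact congrArg Subtype.val this
      have hFodd : Odd (Nat.card F) := by
        rw [← hFcard] at hEodd
        exact (Nat.odd_mul.mp hEodd).1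
      have hco : Nat.Coprime (Nat.card F) 8 := by
        have : Nat.Coprime (Nat.card F) 2 := hFodd.coprime_two_right
        exact Nat.Coprime.pow_right 3 this
      have h5 : orderOf ((b : Q)⁻¹ * a) ∣ 1 := by
        rw [← hco.gcd_eq_one]
        exact Nat.dvd_gcd (orderOf_dvd_of_pow_eq_one h4) (orderOf_dvd_of_pow_eq_one h3)
      have h6 : (b : Q)⁻¹ * a = 1 := by
        rw [← orderOf_eq_one_iff]; exact Nat.dvd_one.mp h5
      apply Subtype.ext
      rw [inv_mul_eq_one] at h6
      exact h6.symm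
    · rintro ⟨r, hr⟩
      obtain ⟨j, hj, rfl⟩ := exists_lift (P.subgroupOf X) hPodd r hr
      have hj' : orderOf (j : H) = 2 := by rw [orderOf_coe]; exact hj
      obtain ⟨d, hd, hdj⟩ := htrans t j ht htX hj' j.2
      refine ⟨⟨π ⟨d, hEX hd⟩, mem_map_of_mem _ (mem_subgroupOf.mpr hd)⟩, Subtype.ext ?_⟩
      show π ⟨d, hEX hd⟩ * π ⟨t, htX⟩ * (π ⟨d, hEX hd⟩)⁻¹ = π j
      rw [← map_inv, ← map_mul, ← map_mul]
      congr 1
      exact Subtype.ext hdj
  have hF8 : Nat.card F * 8 = Nat.card Q := by rw [hFinv]; exact hinvQ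
  have hFQ := HD8.card_eq hHD hs
  rcases hFQ with hQ | hQ
  · -- order 168
    have hF21 : Nat.card F = 21 := by
      have h9 : Nat.card F * 8 = 168 := hF8.trans hQ
      omega
    -- |C_E(u)| = |E ∩ P|
    have hCEu : Nat.card ↥(E ⊓ centralizer {u}) = Nat.card ↥(E ⊓ P) := by
      rw [← hFcard, hinvX, ← hFinv, mul_comm (Nat.card F)] at hcount
      exact (Nat.eq_of_mul_eq_mul_right (by rw [hF21]; norm_num) hcount).symm
    have hxE : x ∈ E := by
      apply hEmem x (hPX hxP)
      rw [hxc u]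
      have : x * u * u⁻¹ = x := by group
      rw [this]; exact hPX hxP
    apply no_abelian_21 hHD hQ F hF21
    by_cases hPE : P ≤ E
    · -- P ≤ E
      have hex : ∃ z ∈ P, u * z * u⁻¹ ∉ P := by
        by_contra hcon
        push Not at hcon
        exact huX (hN u hcon)
      obtain ⟨z, hzP, hzn⟩ := hex
      have hzE : u * z * u⁻¹ ∈ E := huE z (hPE hzP)
      have hzX := hEX hzE
      apply abelian_21 F hF21 (z := π ⟨u * z * u⁻¹, hzX⟩)
      · exact mem_map_of_mem _ (mem_subgroupOf.mpr hzE)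
      · intro h1
        exact hzn (mem_subgroupOf.mp ((QuotientGroup.eq_one_iff _).mp h1))
      · rintro a ⟨g, hg, rfl⟩
        rw [← map_mul, ← map_mul]
        congr 1
        apply Subtype.ext
        show (g : H) * (u * z * u⁻¹) = u * z * u⁻¹ * g
        have hgE : (g : H) ∈ E := mem_subgroupOf.mp hg
        have h1 := huE g hgE
        have h2 := (hXc _).mp (hEX h1) z hzP
        rw [hui] at h2 ⊢
        calc (g : H) * (u * z * u) = (u * u) * g * (u * z * u) := by rw [huu, one_mul]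
          _ = u * (u * g * u * z) * u := by group
          _ = u * (z * (u * g * u)) * u := by rw [h2]
          _ = u * z * u * g * (u * u) := by group
          _ = u * z * u * g := by rw [huu, mul_one]
    · -- E ∩ P = ⟨x⟩
      have hxo : orderOf x = 3 := orderOf_eq_prime (hPexp x hxP) hx1
      have hzle : zpowers x ≤ E ⊓ P := by
        rw [zpowers_le]; exact ⟨hxE, hxP⟩
      have hdvd : Nat.card ↥(E ⊓ P) ∣ 9 := by
        rw [← hP9]; exact card_dvd_of_le inf_le_right
      have h3 : 3 ≤ Nat.card ↥(E ⊓ P) := by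
        rw [← hxo, ← Nat.card_zpowers]; exact card_le_of_le hzle
      have hne9 : Nat.card ↥(E ⊓ P) ≠ 9 := by
        intro h9
        apply hPE
        have := eq_of_le_of_card_ge (inf_le_right : E ⊓ P ≤ P) (by rw [h9, hP9])
        rw [← this]; exact inf_le_left
      have h3' : Nat.card ↥(E ⊓ P) = 3 := by
        exact three_of_dvd hdvd h3 hne9
      have hCu : E ⊓ centralizer {u} = zpowers x := by
        symm
        apply eq_of_le_of_card_ge
        · rw [zpowers_le]
          exact mem_inf.mpr ⟨hxE, mem_centralizer_singleton_iff.mpr (hxc u).symm⟩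
        · rw [hCEu, h3', Nat.card_zpowers, hxo]
      -- decomposition
      have hdec : ∀ g ∈ E, ∃ k ∈ E, ∃ c ∈ zpowers x, g = k * c ∧ u * k * u⁻¹ = k⁻¹ := by
        intro g hg
        set h := g * (u * g * u⁻¹)⁻¹ with hh
        have hhE : h ∈ E := E.mul_mem hg (E.inv_mem (huE g hg))
        have hinv : u * h * u⁻¹ = h⁻¹ := by
          rw [hh, hui]
          have : u * (g * (u * g * u)⁻¹) * u = (u * g * u) * (u⁻¹ * (u * g * u)⁻¹ * u) := by group
          rw [this, hui]
          have h2 : u * (u * g * u)⁻¹ * u = g⁻¹ := by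
            rw [mul_inv_rev, mul_inv_rev, hui]
            calc u * (u * (g⁻¹ * u)) * u = (u * u) * g⁻¹ * (u * u) := by group
              _ = g⁻¹ := by rw [huu]; group
          rw [h2]; group
        obtain ⟨m, hm⟩ : ∃ m, Nat.card E = 2 * m + 1 := hEodd
        have hhpow : h ^ (2 * m + 1) = 1 := by
          rw [← hm]
          exact congrArg Subtype.val (pow_card_eq_one' (G := E) (x := ⟨h, hhE⟩))
        set k := h ^ (m + 1) with hk
        have hkk : k * k = h := by
          rw [hk, ← pow_add]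
          have : m + 1 + (m + 1) = (2 * m + 1) + 1 := by ring
          rw [this, pow_add, hhpow, one_mul, pow_one]
        have hkE : k ∈ E := E.pow_mem hhE _
        have hkinv : u * k * u⁻¹ = k⁻¹ := by
          rw [hk, ← conj_pow, hinv, inv_pow]
        refine ⟨k, hkE, k⁻¹ * g, ?_, by group, hkinv⟩
        rw [← hCu]
        refine mem_inf.mpr ⟨E.mul_mem (E.inv_mem hkE) hg, mem_centralizer_singleton_iff.mpr ?_⟩
        have h1 : u * (k⁻¹ * g) * u⁻¹ = k⁻¹ * g := by
          have h2 : u * (k⁻¹ * g) * u⁻¹ = (u * k * u⁻¹)⁻¹ * (u * g * u⁻¹) := by group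
          have h3 : u * g * u⁻¹ = h⁻¹ * g := by rw [hh]; group
          rw [h2, hkinv, inv_inv, h3, ← hkk]; group
        calc k⁻¹ * g * u = u * (k⁻¹ * g) * u⁻¹ * u := by rw [h1]
          _ = u * (k⁻¹ * g) := by group
      have hzP' : ∀ c ∈ zpowers x, c ∈ P := fun c hc => (zpowers_le.mpr hxP) hc
      have hzc : ∀ c ∈ zpowers x, ∀ g : H, g * c = c * g := by
        rintro c ⟨k, rfl⟩ g
        exact ((show Commute g x from hxc g).zpow_right k)
      -- two inverted elements commute modulo P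
      have hcomm : ∀ a ∈ E, ∀ b ∈ E, ∃ c ∈ P, a * b = b * a * c := by
        intro a ha b hb
        obtain ⟨k1, hk1, c1, hc1, rfl, hi1⟩ := hdec a ha
        obtain ⟨k2, hk2, c2, hc2, rfl, hi2⟩ := hdec b hb
        obtain ⟨k3, hk3, c3, hc3, h12, hi3⟩ := hdec (k1 * k2) (E.mul_mem hk1 hk2)
        have h1 : u * (k1 * k2) * u⁻¹ = k1⁻¹ * k2⁻¹ := by
          have : u * (k1 * k2) * u⁻¹ = (u * k1 * u⁻¹) * (u * k2 * u⁻¹) := by group
          rw [this, hi1, hi2]
        have h2 : u * (k1 * k2) * u⁻¹ = k3⁻¹ * c3 := by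
          have : u * (k1 * k2) * u⁻¹ = (u * k3 * u⁻¹) * (u * c3 * u⁻¹) := by rw [h12]; group
          rw [this, hi3, hzc c3 hc3 u]; group
        have h3 : k2 * k1 = c3⁻¹ * k3 := by
          have : k2 * k1 = (k1⁻¹ * k2⁻¹)⁻¹ := by group
          rw [this, ← h1, h2]; group
        have h4 : k1 * k2 = k2 * k1 * (c3 * c3) := by
          rw [h3, h12]
          have := hzc c3 hc3 k3
          calc k3 * c3 = c3⁻¹ * (c3 * k3) * c3 := by group
            _ = c3⁻¹ * (k3 * c3) * c3 := by rw [this]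
            _ = c3⁻¹ * k3 * (c3 * c3) := by group
        refine ⟨c3 * c3, P.mul_mem (hzP' _ hc3) (hzP' _ hc3), ?_⟩
        have e1 := hzc c1 hc1
        have e2 := hzc c2 hc2
        calc k1 * c1 * (k2 * c2) = k1 * (c1 * k2) * c2 := by group
          _ = k1 * (k2 * c1) * c2 := by rw [e1 k2]
          _ = (k1 * k2) * (c1 * c2) := by group
          _ = k2 * k1 * (c3 * c3) * (c1 * c2) := by rw [h4]
          _ = k2 * k1 * ((c3 * c3) * (c1 * c2)) := by group
          _ = k2 * k1 * ((c1 * c2) * (c3 * c3)) := by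
              rw [show (c3 * c3) * (c1 * c2) = (c1 * c2) * (c3 * c3) by
                have f1 := hzc c3 hc3 (c1 * c2)
                calc c3 * c3 * (c1 * c2) = c3 * (c3 * (c1 * c2)) := by group
                  _ = c3 * (c1 * c2 * c3) := by rw [f1]
                  _ = (c3 * (c1 * c2)) * c3 := by group
                  _ = (c1 * c2 * c3) * c3 := by rw [f1]
                  _ = c1 * c2 * (c3 * c3) := by group]
          _ = k2 * (k1 * c1) * c2 * (c3 * c3) := by group
          _ = k2 * (c2 * (k1 * c1)) * (c3 * c3) := by rw [← e2 (k1 * c1)]; group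
          _ = k2 * c2 * (k1 * c1) * (c3 * c3) := by group
      rintro a ⟨g, hg, rfl⟩ b ⟨k, hk, rfl⟩
      obtain ⟨c, hcP, hc'⟩ := hcomm g (mem_subgroupOf.mp hg) k (mem_subgroupOf.mp hk)
      rw [← map_mul, ← map_mul]
      have h1 : (g * k : X) = k * g * ⟨c, hPX hcP⟩ := Subtype.ext hc'
      rw [h1, map_mul π (k * g)]
      have h2 : π ⟨c, hPX hcP⟩ = 1 := (QuotientGroup.eq_one_iff _).mpr (mem_subgroupOf.mpr hcP)
      rw [h2, mul_one]
  · refine no_45 hHD hQ F ?_
    have h9 : Nat.card F * 8 = 45 * 8 := hF8.trans (hQ.trans (by norm_num))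
    exact Nat.eq_of_mul_eq_mul_right (by norm_num) h9

end Cfsg.Agent.ONType.CentX
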