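import Cfsg.Agent.ONType.CfSide

/-!
# Finite checks on the 630 conjugates
-/

set_option autoImplicit false
set_option maxRecDepth 100000
set_option linter.unusedVariables false

namespace Cfsg.Agent.ONType.CfSide

open Cfsg.Agent.SporadicRecognition.CosetCert Cfsg.Agent.ONType.Hom Cfsg.Agent.ONType.CfTab

/-- conjugates of `b` under `⟨c, d, g⟩` -/
def LA : List (ℕ × List ℕ) := [(10, []), (17, [1]), (4, [3]), (3, [4]), (33, [1, 2]), (7, [1, 3]), (6, [1, 4]), (12, [3, 1]), (1, [3, 3]), (9, [4, 1]), (28, [1, 2, 1]), (15, [1, 2, 3]), (14, [1, 2, 4]), (19, [1, 3, 1]), (2, [1, 3, 3]), (11, [1, 4, 1]), (26, [3, 1, 2]), (23, [3, 1, 3]), (20, [3, 1, 4]), (22, [4, 1, 2]), (13, [1, 2, 1, 2]), (30, [1, 2, 1, 3]), (29, [1, 2, 1, 4]), (35, [1, 2, 3, 1]), (5, [1, 2, 3, 3]), (32, [1, 2, 4, 1]), (8, [1, 3, 1, 3]), (24, [1, 3, 1, 4]), (46, [3, 1, 2, 3]), (43, [3, 1, 2, 4]), (60, [1, 2, 3, 1, 3]), (59, [1, 2, 3, 1, 4])]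

/-- conjugates of the point `534` -/
def LB : List (ℕ × List ℕ) := [(534, []), (578, [1]), (580, [2]), (399, [3]), (431, [4]), (587, [1, 2]), (460, [1, 3]), (487, [1, 4]), (465, [2, 1]), (532, [2, 3]), (552, [2, 4]), (329, [3, 1]), (533, [3, 3]), (328, [4, 1]), (573, [1, 2, 3]), (483, [1, 2, 4]), (348, [1, 3, 1]), (577, [1, 3, 3]), (349, [1, 4, 1]), (327, [2, 1, 3]), (560, [2, 1, 4]), (588, [2, 3, 1]), (579, [2, 3, 3]), (206, [3, 1, 3]), (466, [3, 1, 4]), (464, [4, 1, 2]), (526, [1, 2, 3, 1]), (345, [1, 2, 4, 1]), (463, [1, 3, 1, 2]), (486, [1, 3, 1, 3]), (225, [1, 3, 1, 4]), (484, [1, 4, 1, 2])]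

noncomputable def bdN (n : ℕ) (k : ℕ → ℕ) : ℕ := Nat.rec (motive := fun _ => ℕ) 0 (fun j _ => k j) n

noncomputable def bdB (n : ℕ) (k : ℕ → Bool) : Bool :=
  Nat.rec (motive := fun _ => Bool) false (fun j _ => k j) n

/-- `E x i`: the point `Q i⁻¹ * Q x * Q i` plus one, or `0` -/
noncomputable def E (fuel : ℕ) : ℕ → ℕ → ℕ :=
  Nat.rec (motive := fun _ => ℕ → ℕ → ℕ) (fun _ _ => 0)
    (fun _ ih x i => Nat.rec (motive := fun _ => ℕ) (walk 65536 [3, 3] x)
      (fun _ _ =>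
        bdN (Nat.add (Nat.div (par i) 5) 1) fun p =>
          bdN (Nat.add (Nat.mod (par i) 5) 1) fun s =>
            bdN (step 65536 x (inv5 s)) fun x1 =>
              bdN (ih x1 p) fun x2 => step 65536 x2 s) i) fuel

noncomputable def okw (base : ℕ) (t : ℕ × List ℕ) : Bool :=
  Nat.beq (walk 65536 t.2 base) (Nat.succ t.1) && t.2.all fun s => Nat.ble 1 s && Nat.blt s 5

noncomputable def inList (base : ℕ) (L : List (ℕ × List ℕ)) (i : ℕ) : Bool :=
  List.rec (motive := fun _ => Bool) false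
    (fun t _ ih => Bool.rec ih (okw base t) (Nat.beq t.1 i)) L

noncomputable def chkA (i : ℕ) : Bool :=
  bdB (E 20 0 i) fun e => bdB (walk 65536 [3, 3] i) fun r =>
    Bool.rec true (Nat.beq i 0 || (inList 10 LA i || inList 534 LB i)) (Nat.beq e r)

noncomputable def mem9 (i : ℕ) : Bool :=
  List.rec (motive := fun _ => Bool) false (fun t _ ih => Bool.rec ih true (Nat.beq t i))
    [0, 10, 1, 17, 2, 348, 349, 460, 487]

noncomputable def chkB (i : ℕ) : Bool :=
  bdB (E 20 0 i) fun e => bdB (walk 65536 [3, 3] i) fun r =>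
    Bool.rec true
      (bdB (E 20 38 i) fun e' => bdB (walk 65536 [1] i) fun r' => Bool.rec true (mem9 i) (Nat.beq e' r'))
      (Nat.beq e r)

noncomputable def parOK (i : ℕ) : Bool := Nat.beq i 0 || Nat.blt (Nat.div (par i) 5) i

theorem all_par : allN parOK 630 = true := by decide +kernel
theorem all_chkA : allN chkA 630 = true := by decide +kernel
theorem all_chkB : allN chkB 630 = true := by decide +kernel
theorem all_LA : LA.all (okw 10) = true := by decide +kernel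

end Cfsg.Agent.ONType.CfSide
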