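import Mathlib

/-!
# Closing argument for groups of O'Nan type: the commuting relation

`exists_transposition`: inside a subgroup `P` in which the centraliser of the involution `f` is
(dihedral of order 8) generated by `d`, `w` and in which `f` is fused to `d`, `w` in the obvious
local way, there is an involution `e` with `(f e)^3 = (d e)^3 = 1`.
-/

set_option autoImplicit false

namespace Cfsg.Agent.ONType.Closing

variable {G : Type*} [Group G]

/-- `x` conjugates `p → q → p q → p`, then `x ^ 3` centralises `p` and `q`; if the common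
centraliser of `p` and `q` is `{1, p, q, p q}` then `x ^ 3 = 1`. -/
theorem cube_eq_one {p q x : G} (hp1 : p ≠ 1) (hpp : p * p = 1)
    (h1 : SemiconjBy x q p) (h2 : SemiconjBy x (p * q) q) (hpq : Commute p q)
    (hC : ∀ y : G, y = x ^ 3 → Commute y p → Commute y q → y = 1 ∨ y = p ∨ y = q ∨ y = p * q) :
    x ^ 3 = 1 := by
  have hqq : q * q = 1 := by
    -- `q = x⁻¹ p x`
    have : q = x⁻¹ * p * x := by
      have := h1.eq
      rw [mul_assoc, ← this, inv_mul_cancel_left]
    rw [this]
    calc x⁻¹ * p * x * (x⁻¹ * p * x) = x⁻¹ * (p * p) * x := by group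
      _ = 1 := by rw [hpp]; group
  have h3 : SemiconjBy x p (p * q) := by
    have := h1.mul_right h2
    -- x * (q * (p*q)) = (p * q) * x
    have e : q * (p * q) = p := by
      rw [← mul_assoc, ← hpq.eq, mul_assoc, hqq, mul_one]
    rwa [e] at this
  -- cubes
  have c1 : Commute (x ^ 3) p := by
    have a1 : SemiconjBy (x * x) (p * q) p := h1.mul_left h2
    have a2 : SemiconjBy (x * x * x) p p := a1.mul_left h3
    have : x ^ 3 = x * x * x := by rw [pow_succ, pow_two]
    rw [this]; exact a2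
  have c2 : Commute (x ^ 3) q := by
    have a1 : SemiconjBy (x * x) p q := h2.mul_left h3
    have a2 : SemiconjBy (x * x * x) q q := a1.mul_left h1
    have : x ^ 3 = x * x * x := by rw [pow_succ, pow_two]
    rw [this]; exact a2
  have hx : Commute x (x ^ 3) := Commute.self_pow x 3
  rcases hC _ rfl c1 c2 with h | h | h | h
  · exact h
  · -- x^3 = p : then p = q
    exfalso
    rw [h] at hx
    have e1 : q = p := by
      have := h1.eq; rw [← hx.eq] at this; exact mul_left_cancel this
    have e2 := h2.eq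
    rw [e1, hpp, mul_one] at e2
    -- x = p * x
    exact hp1 (by
      have := e2.symm
      exact mul_eq_right.mp this)
  · exfalso
    rw [h] at hx
    have e2 := h2.eq
    rw [← hx.eq] at e2
    have := mul_left_cancel e2
    exact hp1 (mul_eq_right.mp this)
  · exfalso
    rw [h] at hx
    have e3 := h3.eq
    rw [← hx.eq] at e3
    have e4 := mul_left_cancel e3
    -- p = p * q, so q = 1
    have hq1 : q = 1 := mul_eq_left.mp e4.symm
    have e5 := h1.eq
    rw [hq1, mul_one] at e5
    exact hp1 (mul_eq_right.mp e5.symm)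

theorem exists_transposition (P : Subgroup G) {f d w k h : G}
    (hfP : f ∈ P) (hdP : d ∈ P) (hwP : w ∈ P) (hkP : k ∈ P) (hhP : h ∈ P)
    (hf1 : f ≠ 1) (hf : f * f = 1) (hd : d * d = 1) (hw : w * w = 1)
    (hfd : Commute f d) (hfw : Commute f w) (hdw : d * w = w * (d * f))
    (hkd : Commute k d) (hkf : f * k = k * (f * d))
    (hhw : Commute h w) (hhf : f * h = h * (f * w))
    (hC : ∀ x ∈ P, Commute x f → Commute x w → x = 1 ∨ x = f ∨ x = w ∨ x = f * w) :
    ∃ e ∈ P, e ≠ 1 ∧ e * e = 1 ∧ (f * e) ^ 3 = 1 ∧ (d * e) ^ 3 = 1 := by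
  classical
  obtain ⟨p, hp⟩ : ∃ p, p = f * d := ⟨_, rfl⟩
  obtain ⟨q, hq⟩ : ∃ q, q = k⁻¹ * w * k := ⟨_, rfl⟩
  obtain ⟨h', hh'⟩ : ∃ h', h' = k⁻¹ * h * k := ⟨_, rfl⟩
  obtain ⟨e, he⟩ : ∃ e, e = h'⁻¹ * f * h' := ⟨_, rfl⟩
  have hqP : q ∈ P := hq ▸ P.mul_mem (P.mul_mem (P.inv_mem hkP) hwP) hkP
  have hh'P : h' ∈ P := hh' ▸ P.mul_mem (P.mul_mem (P.inv_mem hkP) hhP) hkP
  have heP : e ∈ P := he ▸ P.mul_mem (P.mul_mem (P.inv_mem hh'P) hfP) hh'P
  -- `p = k⁻¹ f k`
  have hpk : p = k⁻¹ * f * k := by
    rw [mul_assoc, hkf, inv_mul_cancel_left, hp]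
  have hfk : f = k⁻¹ * p * k := by
    have : p * k = k * f := by
      rw [hp, mul_assoc, ← hkd.eq, ← mul_assoc, hkf, mul_assoc, mul_assoc, hd, mul_one]
    rw [mul_assoc, this, inv_mul_cancel_left]
  have hdk : d = k⁻¹ * d * k := by
    rw [mul_assoc, ← hkd.eq, inv_mul_cancel_left]
  have hp1 : p ≠ 1 := by
    intro h0
    apply hf1
    rw [hfk, h0]; group
  have hpp : p * p = 1 := by
    rw [hp, hfd.symm.mul_mul_mul_comm, hf, hd, one_mul]
  have hqq : q * q = 1 := by
    rw [hq]
    calc k⁻¹ * w * k * (k⁻¹ * w * k) = k⁻¹ * (w * w) * k := by group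
      _ = 1 := by rw [hw]; group
  have hpq : Commute p q := by
    rw [hpk, hq]
    show k⁻¹ * f * k * (k⁻¹ * w * k) = k⁻¹ * w * k * (k⁻¹ * f * k)
    calc k⁻¹ * f * k * (k⁻¹ * w * k) = k⁻¹ * (f * w) * k := by group
      _ = k⁻¹ * (w * f) * k := by rw [hfw.eq]
      _ = _ := by group
  -- conjugation of `q` by `d` and by `f`
  have hwd : w * d = d * (w * f) := by
    -- from d w = w d f
    have h1 : d * w * f = w * d := by
      rw [hdw, mul_assoc, mul_assoc, hf, mul_one]
    rw [← h1, mul_assoc]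
  have hqd : q * d = d * (q * p) := by
    calc q * d = k⁻¹ * w * k * (k⁻¹ * d * k) := by rw [← hdk, hq]
      _ = k⁻¹ * (w * d) * k := by group
      _ = k⁻¹ * (d * (w * f)) * k := by rw [hwd]
      _ = (k⁻¹ * d * k) * ((k⁻¹ * w * k) * (k⁻¹ * f * k)) := by group
      _ = d * (q * p) := by rw [← hdk, ← hpk, ← hq]
  have hcpd : Commute p d := by
    show p * d = d * p
    rw [hp, mul_assoc, hd, mul_one, ← mul_assoc, ← hfd.eq, mul_assoc, hd, mul_one]
  have hcpf : Commute p f := by
    show p * f = f * p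
    rw [hp, mul_assoc, ← hfd.eq]
  have hqf : q * f = f * (q * p) := by
    -- f = p * d
    have hfpd : f = p * d := by rw [hp, mul_assoc, hd, mul_one]
    calc q * f = q * (p * d) := by rw [← hfpd]
      _ = p * (q * d) := by rw [← mul_assoc, ← hpq.eq, mul_assoc]
      _ = p * (d * (q * p)) := by rw [hqd]
      _ = f * (q * p) := by rw [← mul_assoc, ← hfpd]
  have hq'h : Commute q h' := by
    rw [hq, hh']
    show k⁻¹ * w * k * (k⁻¹ * h * k) = k⁻¹ * h * k * (k⁻¹ * w * k)
    calc k⁻¹ * w * k * (k⁻¹ * h * k) = k⁻¹ * (w * h) * k := by group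
      _ = k⁻¹ * (h * w) * k := by rw [hhw.eq]
      _ = _ := by group
  have hph : p * h' = h' * (p * q) := by
    rw [hpk, hq, hh']
    calc k⁻¹ * f * k * (k⁻¹ * h * k) = k⁻¹ * (f * h) * k := by group
      _ = k⁻¹ * (h * (f * w)) * k := by rw [hhf]
      _ = _ := by group
  -- action of `e`
  have hee : e * e = 1 := by
    rw [he]
    calc h'⁻¹ * f * h' * (h'⁻¹ * f * h') = h'⁻¹ * (f * f) * h' := by group
      _ = 1 := by rw [hf]; group
  have he1 : e ≠ 1 := by
    intro h0
    apply hf1
    have : f = h' * e * h'⁻¹ := by rw [he]; group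
    rw [this, h0]; group
  have hqh' : q = h'⁻¹ * q * h' := by
    rw [mul_assoc, hq'h.eq, inv_mul_cancel_left]
  have hpqh' : p * q = h'⁻¹ * p * h' := by
    rw [mul_assoc, hph, inv_mul_cancel_left]
  have hph' : p = h'⁻¹ * (p * q) * h' := by
    calc p = (p * q) * q := by rw [mul_assoc, hqq, mul_one]
      _ = (h'⁻¹ * p * h') * (h'⁻¹ * q * h') := by rw [← hpqh', ← hqh']
      _ = _ := by group
  have hqe : q * e = e * p := by
    have h1 : h'⁻¹ * (q * p) * h' = p := by
      calc h'⁻¹ * (q * p) * h' = (h'⁻¹ * q * h') * (h'⁻¹ * p * h') := by group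
        _ = q * (p * q) := by rw [← hqh', ← hpqh']
        _ = p := by rw [← mul_assoc, ← hpq.eq, mul_assoc, hqq, mul_one]
    calc q * e = (h'⁻¹ * q * h') * (h'⁻¹ * f * h') := by rw [← hqh', he]
      _ = h'⁻¹ * (q * f) * h' := by group
      _ = h'⁻¹ * (f * (q * p)) * h' := by rw [hqf]
      _ = (h'⁻¹ * f * h') * (h'⁻¹ * (q * p) * h') := by group
      _ = e * p := by rw [h1, he]
  have hpe : p * e = e * q := by
    -- invert
    have h1 : e * (q * e) * e = e * (e * p) * e := by rw [hqe]
    have h2 : e * (q * e) * e = e * q := by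
      calc e * (q * e) * e = e * q * (e * e) := by group
        _ = e * q := by rw [hee, mul_one]
    have h3 : e * (e * p) * e = p * e := by
      rw [← mul_assoc, hee, one_mul]
    rw [h2, h3] at h1
    exact h1.symm
  have hCk : ∀ y ∈ P, Commute y p → Commute y q → y = 1 ∨ y = p ∨ y = q ∨ y = p * q := by
    intro y hyP h1 h2
    have hkey := hC (k * y * k⁻¹) (P.mul_mem (P.mul_mem hkP hyP) (P.inv_mem hkP))
      (by
        show k * y * k⁻¹ * f = f * (k * y * k⁻¹)
        have e1 : f = k * p * k⁻¹ := by rw [hpk]; group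
        calc k * y * k⁻¹ * f = k * y * k⁻¹ * (k * p * k⁻¹) := by rw [← e1]
          _ = k * (y * p) * k⁻¹ := by group
          _ = k * (p * y) * k⁻¹ := by rw [h1.eq]
          _ = (k * p * k⁻¹) * (k * y * k⁻¹) := by group
          _ = f * (k * y * k⁻¹) := by rw [← e1])
      (by
        show k * y * k⁻¹ * w = w * (k * y * k⁻¹)
        have e1 : w = k * q * k⁻¹ := by rw [hq]; group
        calc k * y * k⁻¹ * w = k * y * k⁻¹ * (k * q * k⁻¹) := by rw [← e1]
          _ = k * (y * q) * k⁻¹ := by group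
          _ = k * (q * y) * k⁻¹ := by rw [h2.eq]
          _ = (k * q * k⁻¹) * (k * y * k⁻¹) := by group
          _ = w * (k * y * k⁻¹) := by rw [← e1])
    have hy : y = k⁻¹ * (k * y * k⁻¹) * k := by group
    rcases hkey with h | h | h | h
    · left; rw [hy, h]; group
    · right; left; rw [hy, h, ← hpk]
    · right; right; left; rw [hy, h, hq]
    · right; right; right
      rw [hy, h, hpk, hq]; group
  refine ⟨e, heP, he1, hee, ?_, ?_⟩
  · apply cube_eq_one (p := p) (q := q) hp1 hpp
    · -- SemiconjBy (f*e) q p : (f*e)*q = p*(f*e)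
      show f * e * q = p * (f * e)
      rw [mul_assoc, ← hpe, ← mul_assoc, ← mul_assoc, hcpf.eq]
    · show f * e * (p * q) = q * (f * e)
      calc f * e * (p * q) = f * (e * p) * q := by group
        _ = f * (q * e) * q := by rw [hqe]
        _ = f * q * (e * q) := by group
        _ = f * q * (p * e) := by rw [← hpe]
        _ = f * (q * p) * e := by group
        _ = q * f * e := by rw [← hqf]
        _ = _ := by group
    · exact hpq
    · intro y hy h1 h2
      exact hCk y (by rw [hy]; exact P.pow_mem (P.mul_mem hfP heP) 3) h1 h2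
  · apply cube_eq_one (p := p) (q := q) hp1 hpp
    · show d * e * q = p * (d * e)
      rw [mul_assoc, ← hpe, ← mul_assoc, ← mul_assoc, hcpd.eq]
    · show d * e * (p * q) = q * (d * e)
      calc d * e * (p * q) = d * (e * p) * q := by group
        _ = d * (q * e) * q := by rw [hqe]
        _ = d * q * (e * q) := by group
        _ = d * q * (p * e) := by rw [← hpe]
        _ = d * (q * p) * e := by group
        _ = q * d * e := by rw [← hqd]
        _ = _ := by group
    · exact hpq
    · intro y hy h1 h2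
      exact hCk y (by rw [hy]; exact P.pow_mem (P.mul_mem hdP heP) 3) h1 h2

end Cfsg.Agent.ONType.Closing
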