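import Cfsg.Agent.ONType.CfMain
import Cfsg.Agent.ONType.Closing

/-!
# The relation `[b, e] = 1`
-/

set_option autoImplicit false
set_option maxRecDepth 100000
set_option linter.unusedVariables false

namespace Cfsg.Agent.ONType.CfSide

open Cfsg.Agent.SporadicRecognition.CosetCert Cfsg.Agent.ONType.Hom Cfsg.Agent.ONType.CfTab

variable {G : Type*} [Group G] {a b c d f g : G}

namespace Side

theorem dwdw (S : Side a b c d f g) : d * (g * d * g⁻¹) * (d * (g * d * g⁻¹)) = f := by
  have e1 := S.dw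
  have e3 := S.wf
  have e5 := S.ww
  obtain ⟨w, hw⟩ : ∃ w, w = g * d * g⁻¹ := ⟨_, rfl⟩
  rw [← hw] at e1 e3 e5 ⊢
  calc d * w * (d * w) = w * (d * f) * (d * w) := by rw [e1]
    _ = w * (d * (f * d) * w) := by simp only [mul_assoc]
    _ = w * (d * (d * f) * w) := by rw [S.df]
    _ = w * ((d * d) * f * w) := by simp only [mul_assoc]
    _ = w * f * w := by rw [S.dd, one_mul, mul_assoc]
    _ = f * (w * w) := by rw [e3, mul_assoc]
    _ = f := by rw [e5, mul_one]

theorem exists_k (S : Side a b c d f g) {x v : G} (hxf : x * f = f * x) (hx : x * x = 1)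
    (hax : (a * x) ^ 3 = 1) (hne : x ≠ a) (hvf : v * f = f * v) (hva : v * a = a * v) (hvx : v * x = x * v)
    (hv : v * v = 1) (hv1 : v ≠ 1) (hvf' : v ≠ f) :
    ∃ k, k * f = f * k ∧ k * a = a * k ∧ k * x = x * k ∧ v * k = k * (v * f) := by
  obtain ⟨m, hm, hcase⟩ := S.class_b hxf hx hax hne
  have hmf : m * f * m⁻¹ = f := by rw [hm, mul_inv_cancel_right]
  have c1 : Commute (m * v * m⁻¹) (m * a * m⁻¹) := (Commute.conj_iff m).mpr hva
  have c2 : Commute (m * v * m⁻¹) (m * x * m⁻¹) := (Commute.conj_iff m).mpr hvx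
  have c3 : Commute (m * v * m⁻¹) f := by
    have := (Commute.conj_iff m).mpr (show Commute v f from hvf)
    rwa [hmf] at this
  have c4 : Commute (m * v * m⁻¹) a := by
    rcases hcase with ⟨h1, _⟩ | ⟨h1, _⟩
    · rwa [h1] at c1
    · rw [h1] at c1
      have := c1.mul_right c3
      rwa [mul_assoc a f f, S.ff, mul_one] at this
  have c5 : Commute (m * v * m⁻¹) b := by
    rcases hcase with ⟨_, h1⟩ | ⟨_, h1⟩
    · rwa [h1] at c2
    · rw [h1] at c2
      have := c2.mul_right c3
      rwa [mul_assoc b f f, S.ff, mul_one] at this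
  obtain ⟨w, hw⟩ : ∃ w, w = g * d * g⁻¹ := ⟨_, rfl⟩
  have e1 := S.dw
  have e2 := S.wa
  have e3 := S.wf
  have e4 := S.bw
  have e5 := S.ww
  have e6 := S.dwdw
  rw [← hw] at e1 e2 e3 e4 e5 e6
  -- the element in `T`
  have key : ∃ k', k' * f = f * k' ∧ k' * a = a * k' ∧ k' * b = b * k' ∧
      (m * v * m⁻¹) * k' = k' * ((m * v * m⁻¹) * f) := by
    have hmem := S.T_mem c4.eq c3.eq c5.eq
    rw [← hw] at hmem
    have hsq : (m * v * m⁻¹) * (m * v * m⁻¹) = 1 := by
      calc (m * v * m⁻¹) * (m * v * m⁻¹) = m * (v * v) * m⁻¹ := by group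
        _ = 1 := by rw [hv]; group
    have hwd : w * d = d * (w * f) := by
      calc w * d = (w * (d * f)) * f := by rw [mul_assoc w, mul_assoc d, S.ff, mul_one]
        _ = d * (w * f) := by rw [← e1, mul_assoc]
    simp only [List.mem_cons, List.not_mem_nil, or_false] at hmem
    rcases hmem with h | h | h | h | h | h | h | h
    · exfalso
      apply hv1
      have := mul_inv_eq_iff_eq_mul.mp h
      rw [one_mul] at this
      exact mul_eq_left.mp this
    · exfalso
      apply hvf'
      have : v = m⁻¹ * (m * v * m⁻¹) * m := by group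
      rw [this, h, mul_assoc, ← hm]; group
    · rw [h]
      exact ⟨w, e3, e2, e4.symm, e1⟩
    · rw [h]
      refine ⟨w, e3, e2, e4.symm, ?_⟩
      rw [mul_assoc d f f, S.ff, mul_one, mul_assoc, ← e3, ← mul_assoc, e1, mul_assoc, mul_assoc, S.ff, mul_one]
    · rw [h]
      exact ⟨d, S.df, S.ad.symm, S.bd.symm, hwd⟩
    · rw [h]
      refine ⟨d, S.df, S.ad.symm, S.bd.symm, ?_⟩
      rw [mul_assoc w f f, S.ff, mul_one, mul_assoc, ← S.df, ← mul_assoc, hwd, mul_assoc, mul_assoc, S.ff, mul_one]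
    · exfalso
      rw [h, e6] at hsq
      exact S.f1 hsq
    · exfalso
      rw [h] at hsq
      apply S.f1
      have hc : f * (d * w) = d * w * f := by
        have hc : Commute f (d * w) := (show Commute f d from S.df.symm).mul_right (show Commute f w from e3.symm)
        exact hc.eq
      calc f = d * w * (d * w) * (f * f) := by rw [e6, S.ff, mul_one]
        _ = d * w * ((d * w) * f) * f := by simp only [mul_assoc]
        _ = d * w * (f * (d * w)) * f := by rw [hc]
        _ = d * w * f * (d * w * f) := by simp only [mul_assoc]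
        _ = 1 := hsq
  obtain ⟨k', k1, k2, k3, k4⟩ := key
  have d1 : Commute (m⁻¹ * k' * m⁻¹⁻¹) (m⁻¹ * (m * a * m⁻¹) * m⁻¹⁻¹) := (Commute.conj_iff m⁻¹).mpr (by
    rcases hcase with ⟨h1, _⟩ | ⟨h1, _⟩
    · rw [h1]; exact k2
    · rw [h1]; exact (show Commute k' a from k2).mul_right k1)
  have d2 : Commute (m⁻¹ * k' * m⁻¹⁻¹) (m⁻¹ * (m * x * m⁻¹) * m⁻¹⁻¹) := (Commute.conj_iff m⁻¹).mpr (by
    rcases hcase with ⟨_, h1⟩ | ⟨_, h1⟩
    · rw [h1]; exact k3
    · rw [h1]; exact (show Commute k' b from k3).mul_right k1)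
  have d3 : Commute (m⁻¹ * k' * m⁻¹⁻¹) (m⁻¹ * (m * f * m⁻¹) * m⁻¹⁻¹) := (Commute.conj_iff m⁻¹).mpr (by
    rw [hmf]; exact k1)
  have s1 : ∀ y : G, m⁻¹ * (m * y * m⁻¹) * m⁻¹⁻¹ = y := fun y => by group
  rw [s1] at d1 d2 d3
  rw [inv_inv] at d1 d2 d3
  refine ⟨m⁻¹ * k' * m, d3.eq, d1.eq, d2.eq, ?_⟩
  calc v * (m⁻¹ * k' * m) = m⁻¹ * ((m * v * m⁻¹) * k') * m := by group
    _ = m⁻¹ * (k' * ((m * v * m⁻¹) * f)) * m := by rw [k4]
    _ = m⁻¹ * k' * m * v * (m⁻¹ * (f * m)) := by group
    _ = m⁻¹ * k' * m * v * (m⁻¹ * (m * f)) := by rw [hm]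
    _ = m⁻¹ * k' * m * (v * f) := by group

/-- `Q 1 = a b a` -/
theorem Q_1 (S : Side a b c d f g) : S.Q 1 = a * b * a := by
  have h := S.walkA (i := 10) (j := 1) (by norm_num) (by decide +kernel)
  rw [h.2, S.Q_ten]

theorem Q_17 (S : Side a b c d f g) : S.Q 17 = c * b * c := by
  have h := S.walkW (w := [1]) (i := 10) (j := 17) (by norm_num) (by decide +kernel) (by decide)
  simp only [ev, List.map_cons, List.map_nil, List.prod_cons, List.prod_nil, mul_one, gl] at h
  rw [h, S.Q_ten, S.cinv]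

theorem Q_2 (S : Side a b c d f g) : S.Q 2 = c * (a * b * a) * c := by
  have h := S.walkW (w := [1]) (i := 1) (j := 2) (by norm_num) (by decide +kernel) (by decide)
  simp only [ev, List.map_cons, List.map_nil, List.prod_cons, List.prod_nil, mul_one, gl] at h
  rw [h, S.Q_1, S.cinv]

theorem Q_68 (S : Side a b c d f g) : S.Q 68 = g * c * g⁻¹ := by
  have h := S.walkW (w := [4]) (i := 38) (j := 68) (by norm_num) (by decide +kernel) (by decide)
  simp only [ev, List.map_cons, List.map_nil, List.prod_cons, List.prod_nil, mul_one, gl] at h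
  rw [h, S.Q_38, inv_inv]

theorem Q_311 (S : Side a b c d f g) : S.Q 311 = S.Q 68 * f :=
  S.Q_mul_f (w := [0, 1, 3, 3, 0, 3]) (by decide +kernel) (by decide +kernel) (by decide)

theorem Q_353 (S : Side a b c d f g) : S.Q 353 = S.Q 38 * f :=
  S.Q_mul_f (w := [0, 1, 3, 3, 0]) (by decide +kernel) (by decide +kernel) (by decide)

/-- conjugation by `w' = g c g⁻¹` -/
theorem walk_w (S : Side a b c d f g) {i j : ℕ} (hi : i < 630) (h : walk 65536 [3, 1, 4] i = j + 1) :
    S.Q j = (g * c * g⁻¹)⁻¹ * S.Q i * (g * c * g⁻¹) := by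
  have h := S.walkW hi h (by decide)
  simp only [ev, List.map_cons, List.map_nil, List.prod_cons, List.prod_nil, mul_one, gl] at h
  rw [h]; group

theorem walk_c (S : Side a b c d f g) {i j : ℕ} (hi : i < 630) (h : walk 65536 [1] i = j + 1) :
    S.Q j = c⁻¹ * S.Q i * c := by
  have h := S.walkW hi h (by decide)
  simpa only [ev, List.map_cons, List.map_nil, List.prod_cons, List.prod_nil, mul_one, gl] using h

/-- a bad `x` of the first kind -/
theorem bad1 (S : Side a b c d f g) {i j : ℕ} (hi : i < 630) (hj : j < 630)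
    (h1 : walk 65536 [3, 1, 4] i = j + 1) (h2 : E 20 j i = 311 + 1) :
    f ∈ Subgroup.closure {c, g * c * g⁻¹, S.Q i} := by
  have e1 := S.walk_w hi h1
  have e2 := (S.E_sound 20 j i 311 hj hi h2).2
  obtain ⟨N, hN⟩ : ∃ N, N = Subgroup.closure {c, g * c * g⁻¹, S.Q i} := ⟨_, rfl⟩
  rw [← hN]
  have m2 : g * c * g⁻¹ ∈ N := hN ▸ Subgroup.subset_closure (by simp)
  have m3 : S.Q i ∈ N := hN ▸ Subgroup.subset_closure (by simp)
  have m4 : S.Q j ∈ N := by
    rw [e1]; exact N.mul_mem (N.mul_mem (N.inv_mem m2) m3) m2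
  have m5 : S.Q 311 ∈ N := by
    rw [e2]; exact N.mul_mem (N.mul_mem (N.inv_mem m3) m4) m3
  have m6 : (S.Q 68)⁻¹ * S.Q 311 ∈ N := N.mul_mem (N.inv_mem (by rw [S.Q_68]; exact m2)) m5
  rwa [S.Q_311, inv_mul_cancel_left] at m6

/-- a bad `x` of the second kind -/
theorem bad2 (S : Side a b c d f g) {i x1 x2 x3 x4 : ℕ} (hi : i < 630)
    (g1 : x1 < 630) (g2 : x2 < 630) (g3 : x3 < 630) (g4 : x4 < 630)
    (h1 : walk 65536 [1] 68 = x1 + 1) (h2 : E 20 x1 i = x2 + 1) (h3 : walk 65536 [1] x2 = x3 + 1)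
    (h4 : walk 65536 [3, 1, 4] x3 = x4 + 1) (h5 : E 20 x4 i = 353 + 1) :
    f ∈ Subgroup.closure {c, g * c * g⁻¹, S.Q i} := by
  have e1 := S.walk_c (by norm_num) h1
  have e2 := (S.E_sound 20 x1 i x2 g1 hi h2).2
  have e3 := S.walk_c g2 h3
  have e4 := S.walk_w g3 h4
  have e5 := (S.E_sound 20 x4 i 353 g4 hi h5).2
  obtain ⟨N, hN⟩ : ∃ N, N = Subgroup.closure {c, g * c * g⁻¹, S.Q i} := ⟨_, rfl⟩
  rw [← hN]
  have m1 : c ∈ N := hN ▸ Subgroup.subset_closure (by simp)
  have m2 : g * c * g⁻¹ ∈ N := hN ▸ Subgroup.subset_closure (by simp)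
  have m3 : S.Q i ∈ N := hN ▸ Subgroup.subset_closure (by simp)
  have n0 : S.Q 68 ∈ N := by rw [S.Q_68]; exact m2
  have n1 : S.Q x1 ∈ N := by rw [e1]; exact N.mul_mem (N.mul_mem (N.inv_mem m1) n0) m1
  have n2 : S.Q x2 ∈ N := by rw [e2]; exact N.mul_mem (N.mul_mem (N.inv_mem m3) n1) m3
  have n3 : S.Q x3 ∈ N := by rw [e3]; exact N.mul_mem (N.mul_mem (N.inv_mem m1) n2) m1
  have n4 : S.Q x4 ∈ N := by rw [e4]; exact N.mul_mem (N.mul_mem (N.inv_mem m2) n3) m2
  have n5 : S.Q 353 ∈ N := by rw [e5]; exact N.mul_mem (N.mul_mem (N.inv_mem m3) n4) m3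
  have m6 : (S.Q 38)⁻¹ * S.Q 353 ∈ N := N.mul_mem (N.inv_mem (by rw [S.Q_38]; exact m1)) n5
  rwa [S.Q_353, inv_mul_cancel_left] at m6

/-- the involutions `x ≠ a` of the centraliser of `f` with `(a x)^3 = (c x)^3 = 1` -/
theorem class_bc (S : Side a b c d f g) {x : G} (hxf : x * f = f * x) (hx : x * x = 1)
    (hax : (a * x) ^ 3 = 1) (hcx : (c * x) ^ 3 = 1) (hne : x ≠ a) :
    (x = b ∨ x = a * b * a ∨ x = c * b * c ∨ x = c * (a * b * a) * c) ∨
      f ∈ Subgroup.closure {c, g * c * g⁻¹, x} := by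
  obtain ⟨i, hi, hQ⟩ := S.exists_point hxf hx hax
  obtain ⟨e, r, he, hr, her⟩ := S.point_cond hxf hx hax hi hQ
  obtain ⟨e', r', he', hr'⟩ := chkB_ex hi he hr her
  have her' : e' = r' := by
    obtain ⟨h1, h2⟩ := S.E_sound 20 38 i e' (by norm_num) hi he'
    obtain ⟨h3, h4⟩ := S.walkQ [1] (by simp) hi hr'
    apply S.Q_inj h1 h3
    have hx' : x⁻¹ = x := inv_eq_of_mul_eq_one_left hx
    simp only [ev, List.map_cons, List.map_nil, List.prod_cons, List.prod_nil, mul_one, gl] at h4
    rw [h2, h4, hQ, S.Q_38, hx', S.cinv]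
    exact braid S.cc hx hcx
  have hmem := chkB_sound hi he hr her he' hr' her'
  simp only [List.mem_cons, List.not_mem_nil, or_false] at hmem
  rcases hmem with h | h | h | h | h | h | h | h | h
  · exfalso
    rw [h, S.Q_zero] at hQ
    exact hne hQ.symm
  · left; left; rw [← hQ, h, S.Q_ten]
  · left; right; left; rw [← hQ, h, S.Q_1]
  · left; right; right; left; rw [← hQ, h, S.Q_17]
  · left; right; right; right; rw [← hQ, h, S.Q_2]
  · right
    rw [← hQ, h]
    exact S.bad2 (x1 := 124) (x2 := 476) (x3 := 351) (x4 := 325) (by norm_num) (by norm_num) (by norm_num)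
      (by norm_num) (by norm_num) (by decide +kernel) (by decide +kernel) (by decide +kernel)
      (by decide +kernel) (by decide +kernel)
  · right
    rw [← hQ, h]
    exact S.bad2 (x1 := 124) (x2 := 471) (x3 := 350) (x4 := 324) (by norm_num) (by norm_num) (by norm_num)
      (by norm_num) (by norm_num) (by decide +kernel) (by decide +kernel) (by decide +kernel)
      (by decide +kernel) (by decide +kernel)
  · right
    rw [← hQ, h]
    exact S.bad1 (j := 399) (by norm_num) (by norm_num) (by decide +kernel) (by decide +kernel)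
  · right
    rw [← hQ, h]
    exact S.bad1 (j := 431) (by norm_num) (by norm_num) (by decide +kernel) (by decide +kernel)

theorem sq_one_of_comm {x y : G} (hx : x * x = 1) (hy : y * y = 1) (h : x * y = y * x) :
    (x * y) * (x * y) = 1 := by
  calc (x * y) * (x * y) = x * (y * x) * y := by simp only [mul_assoc]
    _ = x * (x * y) * y := by rw [h]
    _ = (x * x) * (y * y) := by simp only [mul_assoc]
    _ = 1 := by rw [hx, hy, one_mul]

theorem eq_of_comm_cube {x y : G} (hx : x * x = 1) (hy : y * y = 1) (h : x * y = y * x)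
    (h3 : (x * y) ^ 3 = 1) : x = y := by
  have h2 := sq_one_of_comm hx hy h
  have h1 : x * y = 1 := by
    calc x * y = (x * y) ^ 3 := by rw [pow_succ, pow_two, h2, one_mul]
      _ = 1 := h3
  calc x = x * y * y⁻¹ := by group
    _ = y⁻¹ := by rw [h1, one_mul]
    _ = y := inv_eq_of_mul_eq_one_left hy

theorem af_ne (S : Side a b c d f g) : a * f ≠ 1 := fun h => S.ne (by
  calc a = a * f * f := by rw [mul_assoc, S.ff, mul_one]
    _ = f := by rw [h, one_mul])

theorem d_ne_f (S : Side a b c d f g) : d ≠ f := by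
  rintro rfl
  apply S.af_ne
  have h := sq_one_of_comm S.cc S.dd S.cf
  rw [S.cd4, show (c * d) ^ 4 = (c * d * (c * d)) * (c * d * (c * d)) by
    simp only [pow_succ, pow_zero, one_mul, mul_assoc], h, one_mul]

theorem a_ne_b (S : Side a b c d f g) : a ≠ b := by
  intro h
  have h1 : a = c := eq_of_comm_cube S.aa S.cc S.ac (by rw [h]; exact S.bc)
  apply S.af_ne
  have h2 := sq_one_of_comm S.cc S.dd (h1 ▸ S.ad)
  rw [S.cd4, show (c * d) ^ 4 = (c * d * (c * d)) * (c * d * (c * d)) by
    simp only [pow_succ, pow_zero, one_mul, mul_assoc], h2, one_mul]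

/-- transfer of `exists_k` along an element of the centraliser of `a` -/
theorem exists_k' (S : Side a b c d f g) {x v : G} (hxa : x * a = a * x) (hv : v = x⁻¹ * f * x)
    (hvb : v * b = b * v) (hvf : v * f = f * v) (hne : v ≠ f) :
    ∃ k, k * a = a * k ∧ k * b = b * k ∧ k * v = v * k ∧ f * k = k * (f * v) := by
  have hxax : x * a * x⁻¹ = a := by rw [hxa, mul_inv_cancel_right]
  have hf : f = x * v * x⁻¹ := by rw [hv]; group
  have k1 : Commute (x * b * x⁻¹) f := by
    have := (Commute.conj_iff x).mpr (show Commute b v from hvb.symm)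
    rwa [← hf] at this
  have k2 : Commute (x * f * x⁻¹) f := by
    have := (Commute.conj_iff x).mpr (show Commute f v from hvf.symm)
    rwa [← hf] at this
  have k3 : Commute (x * f * x⁻¹) a := by
    have := (Commute.conj_iff x).mpr (show Commute f a from S.af.symm)
    rwa [hxax] at this
  have k4 : Commute (x * f * x⁻¹) (x * b * x⁻¹) := (Commute.conj_iff x).mpr S.bf.symm
  obtain ⟨k, h1, h2, h3, h4⟩ := S.exists_k (x := x * b * x⁻¹) (v := x * f * x⁻¹) k1.eq
    (by
      calc x * b * x⁻¹ * (x * b * x⁻¹) = x * (b * b) * x⁻¹ := by group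
        _ = 1 := by rw [S.bb]; group)
    (by
      have : a * (x * b * x⁻¹) = x * (a * b) * x⁻¹ := by
        calc a * (x * b * x⁻¹) = x * a * x⁻¹ * (x * b * x⁻¹) := by rw [hxax]
          _ = x * (a * b) * x⁻¹ := by group
      rw [this, conj_pow, S.ab]; group)
    (by
      intro h
      apply S.a_ne_b
      calc a = x⁻¹ * (x * a) := by group
        _ = x⁻¹ * (a * x) := by rw [hxa]
        _ = x⁻¹ * ((x * b * x⁻¹) * x) := by rw [h]
        _ = b := by group)
    k2.eq k3.eq k4.eq
    (by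
      calc x * f * x⁻¹ * (x * f * x⁻¹) = x * (f * f) * x⁻¹ := by group
        _ = 1 := by rw [S.ff]; group)
    (by
      intro h
      apply S.f1
      calc f = x⁻¹ * (x * f * x⁻¹) * x := by group
        _ = 1 := by rw [h]; group)
    (by
      intro h
      apply hne
      rw [hv]
      calc x⁻¹ * f * x = x⁻¹ * (x * f * x⁻¹) * x := by rw [h]
        _ = f := by group)
  have s1 : ∀ y : G, x⁻¹ * (x * y * x⁻¹) * x⁻¹⁻¹ = y := fun y => by group
  have c1 : Commute (x⁻¹ * k * x⁻¹⁻¹) a := by
    have := (Commute.conj_iff x⁻¹).mpr (show Commute k (x * a * x⁻¹) by rw [hxax]; exact h2)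
    rwa [s1] at this
  have c2 : Commute (x⁻¹ * k * x⁻¹⁻¹) b := by
    have := (Commute.conj_iff x⁻¹).mpr (show Commute k (x * b * x⁻¹) from h3)
    rwa [s1] at this
  have c3 : Commute (x⁻¹ * k * x⁻¹⁻¹) v := by
    have := (Commute.conj_iff x⁻¹).mpr (show Commute k (x * v * x⁻¹) by rw [← hf]; exact h1)
    rwa [s1] at this
  rw [inv_inv] at c1 c2 c3
  refine ⟨x⁻¹ * k * x, c1.eq, c2.eq, c3.eq, ?_⟩
  calc f * (x⁻¹ * k * x) = x⁻¹ * (x * f * x⁻¹ * k) * x := by group
    _ = x⁻¹ * (k * (x * f * x⁻¹ * f)) * x := by rw [h4]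
    _ = x⁻¹ * k * x * (f * (x⁻¹ * f * x)) := by group
    _ = x⁻¹ * k * x * (f * v) := by rw [← hv]

end Side

/-- **Closing argument**: the last relation of the presentation of the O'Nan group. -/
theorem be_comm {e : G} (S : Side a b c d f g) (S' : Side f e d c a g) : b * e = e * b := by
  obtain ⟨w, hw⟩ : ∃ w, w = g * d * g⁻¹ := ⟨_, rfl⟩
  -- `d` and `w` are conjugate to `f` in the centraliser of `a`
  have hef : Commute e a := S'.bf
  have hfa : Commute f a := S.af.symm
  have hda : Commute d a := S.ad.symm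
  have hga : Commute g a := S.ga
  have hd : d = (e * f * (d * e))⁻¹ * f * (e * f * (d * e)) := by
    have h1 := braid S'.aa S'.bb S'.ab
    have h2 := braid S'.bb S'.cc S'.bc
    rw [mul_inv_rev, mul_inv_rev, mul_inv_rev, S'.binv, S'.ainv, S'.cinv]
    have h6 : f * (f * e * f) * f = e := by
      calc f * (f * e * f) * f = (f * f) * e * (f * f) := by simp only [mul_assoc]
        _ = e := by rw [S.ff, one_mul, mul_one]
    have h7 : e * (e * d * e) * e = d := by
      calc e * (e * d * e) * e = (e * e) * d * (e * e) := by simp only [mul_assoc]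
        _ = d := by rw [S'.bb, one_mul, mul_one]
    calc d = e * (e * d * e) * e := h7.symm
      _ = e * (d * e * d) * e := by rw [h2]
      _ = e * d * e * (d * e) := by simp only [mul_assoc]
      _ = e * d * (f * (f * e * f) * f) * (d * e) := by rw [h6]
      _ = e * d * (f * (e * f * e) * f) * (d * e) := by rw [h1]
      _ = e * d * (f * e) * f * (e * f * (d * e)) := by simp only [mul_assoc]
  have hxa : Commute (e * f * (d * e)) a := (hef.mul_left hfa).mul_left (hda.mul_left hef)
  have hwx : w = (e * f * (d * e) * g⁻¹)⁻¹ * f * (e * f * (d * e) * g⁻¹) := by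
    calc w = g * ((e * f * (d * e))⁻¹ * f * (e * f * (d * e))) * g⁻¹ := by rw [← hd, hw]
      _ = _ := by group
  have hwx' : Commute (e * f * (d * e) * g⁻¹) a := hxa.mul_left hga.inv_left
  have e1 := S.dw
  have e2 := S.wa
  have e3 := S.wf
  have e4 := S.bw
  have e5 := S.ww
  rw [← hw] at e1 e2 e3 e4 e5
  have hdf := S.d_ne_f
  have hwf : w ≠ f := by
    intro h
    apply hdf
    calc d = g⁻¹ * (g * d * g⁻¹) * g := by group
      _ = g⁻¹ * (f * g) := by rw [← hw, h]; group
      _ = g⁻¹ * (g * f) := by rw [S.gf]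
      _ = f := by group
  obtain ⟨k, ka, kb, kd, kf⟩ := S.exists_k' hxa.eq hd S.bd.symm S.df hdf
  obtain ⟨h, ha, hb, hwh, hf⟩ := S.exists_k' hwx'.eq hwx e4.symm e3 hwf
  obtain ⟨P, hP⟩ : ∃ P : Subgroup G, P = Subgroup.centralizer {a, b} := ⟨_, rfl⟩
  have hmem : ∀ x : G, x ∈ P ↔ x * a = a * x ∧ x * b = b * x := by
    intro x
    rw [hP, Subgroup.mem_centralizer_iff]
    constructor
    · intro h
      exact ⟨(h a (by simp)).symm, (h b (by simp)).symm⟩
    · rintro ⟨h1, h2⟩ y hy
      simp only [Set.mem_insert_iff, Set.mem_singleton_iff] at hy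
      rcases hy with rfl | rfl
      · exact h1.symm
      · exact h2.symm
  have hne : d * w ≠ w * d := by
    intro h
    rw [e1] at h
    exact S.f1 (mul_eq_left.mp (mul_left_cancel h))
  obtain ⟨e', he'P, he'1, he'2, he'f, he'd⟩ := Closing.exists_transposition P (f := f) (d := d) (w := w)
    (k := k) (h := h)
    ((hmem f).mpr ⟨S.af.symm, S.bf.symm⟩) ((hmem d).mpr ⟨S.ad.symm, S.bd.symm⟩)
    ((hmem w).mpr ⟨e2, e4.symm⟩) ((hmem k).mpr ⟨ka, kb⟩) ((hmem h).mpr ⟨ha, hb⟩)
    S.f1 S.ff S.dd e5 S.df.symm e3.symm e1 kd kf hwh hf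
    (by
      intro x hx hxf hxw
      obtain ⟨h1, h2⟩ := (hmem x).mp hx
      have hT := S.T_mem h1 hxf.eq h2
      rw [← hw] at hT
      simp only [List.mem_cons, List.not_mem_nil, or_false] at hT
      have cwf : Commute w f := e3
      rcases hT with rfl | rfl | rfl | rfl | rfl | rfl | rfl | rfl
      · left; rfl
      · right; left; rfl
      · exact absurd hxw.eq hne
      · exfalso
        have := hxw.mul_left cwf.symm
        rw [mul_assoc d f f, S.ff, mul_one] at this
        exact hne this.eq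
      · right; right; left; rfl
      · right; right; right; exact e3
      · exfalso
        have := hxw.mul_left (Commute.refl w)
        rw [mul_assoc d w w, e5, mul_one] at this
        exact hne this.eq
      · exfalso
        have := (hxw.mul_left cwf.symm).mul_left (Commute.refl w)
        rw [mul_assoc (d * w) f f, S.ff, mul_one, mul_assoc d w w, e5, mul_one] at this
        exact hne this.eq)
  obtain ⟨ea, eb⟩ := (hmem e').mp he'P
  have hne' : e' ≠ f := by
    rintro rfl
    exact hdf (Side.eq_of_comm_cube S.dd S.ff S.df he'd)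
  rcases S'.class_bc ea he'2 he'f he'd hne' with hcase | hcase
  · have cb : Commute e' b := eb
    have cfb : Commute f b := S.bf.symm
    have cdb : Commute d b := S.bd.symm
    suffices h : Commute e b from h.eq.symm
    rcases hcase with h | h | h | h
    · rw [← h]; exact cb
    · have : e = f * e' * f := by
        rw [h]
        calc e = (f * f) * e * (f * f) := by rw [S.ff, one_mul, mul_one]
          _ = f * (f * e * f) * f := by simp only [mul_assoc]
      rw [this]; exact (cfb.mul_left cb).mul_left cfb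
    · have : e = d * e' * d := by
        rw [h]
        calc e = (d * d) * e * (d * d) := by rw [S.dd, one_mul, mul_one]
          _ = d * (d * e * d) * d := by simp only [mul_assoc]
      rw [this]; exact (cdb.mul_left cb).mul_left cdb
    · have : e = f * (d * e' * d) * f := by
        rw [h]
        calc e = (f * ((d * d) * (f * e * f) * (d * d)) * f) := by
              rw [S.dd, one_mul, mul_one]
              calc e = (f * f) * e * (f * f) := by rw [S.ff, one_mul, mul_one]
                _ = f * (f * e * f) * f := by simp only [mul_assoc]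
          _ = f * (d * (d * (f * e * f) * d) * d) * f := by simp only [mul_assoc]
      rw [this]; exact (cfb.mul_left ((cdb.mul_left cb).mul_left cdb)).mul_left cfb
  · exfalso
    have hle : Subgroup.closure {d, g * d * g⁻¹, e'} ≤ Subgroup.centralizer ({b} : Set G) := by
      rw [Subgroup.closure_le]
      intro y hy
      simp only [Set.mem_insert_iff, Set.mem_singleton_iff] at hy
      rcases hy with rfl | rfl | rfl
      · exact Side.mem_cent S.bd.symm
      · exact Side.mem_cent (hw ▸ e4.symm)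
      · exact Side.mem_cent eb
    have hab := Side.of_mem_cent (hle hcase)
    exact S.a_ne_b (Side.eq_of_comm_cube S.aa S.bb hab S.ab)

/-- all relators of the presented O'Nan group -/
theorem rel {e : G} (S : Side a b c d f g) (S' : Side f e d c a g) : Rel a b c d e f g where
  toRelF := S.toRelF
  ee := S'.bb
  de := by
    have h := S'.bc
    have : (d * e) ^ 3 = e⁻¹ * (e * d) ^ 3 * e⁻¹⁻¹ := by
      rw [← conj_pow]; congr 1; group
    rw [this, h]; group
  ef := by
    have h := S'.ab
    have : (e * f) ^ 3 = f⁻¹ * (f * e) ^ 3 * f⁻¹⁻¹ := by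
      rw [← conj_pow]; congr 1; group
    rw [this, h]; group
  ae := S'.bf.symm
  be := be_comm S S'
  ce := S'.bd.symm
  ge := S'.gb

end Cfsg.Agent.ONType.CfSide
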