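import Cfsg.Agent.ONType.CfCheck

/-!
# Facts about the centraliser of an involution of O'Nan type, II
-/

set_option autoImplicit false
set_option maxRecDepth 100000
set_option linter.unusedVariables false

namespace Cfsg.Agent.ONType.CfSide

open Cfsg.Agent.SporadicRecognition.CosetCert Cfsg.Agent.ONType.Hom Cfsg.Agent.ONType.CfTab

variable {G : Type*} [Group G] {a b c d f g : G}

theorem bdB_eq {P : ℕ → Bool} {n : ℕ} (h : bdB n P = true) : ∃ j, n = j + 1 ∧ P j = true := by
  cases n with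
  | zero => exact absurd h (by simp [bdB])
  | succ m => exact ⟨m, rfl, h⟩

theorem bdN_eq {P : ℕ → ℕ} {n r : ℕ} (h : bdN n P = r + 1) : ∃ j, n = j + 1 ∧ P j = r + 1 := by
  cases n with
  | zero => exact absurd h (by simp [bdN])
  | succ m => exact ⟨m, rfl, h⟩

theorem par_lt {i : ℕ} (hi : i < 630) (h0 : 0 < i) : par i / 5 < i := by
  have h := allN_sound all_par i hi
  unfold parOK at h
  rw [Bool.or_eq_true] at h
  rcases h with h | h
  · have : i = 0 := Nat.eq_of_beq_eq_true h
    omega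
  · exact Nat.le_of_ble_eq_true h

namespace Side

theorem Q_par (S : Side a b c d f g) {i : ℕ} (hi : i < 630) (h0 : 0 < i) :
    S.Q i = (gl b c d g (par i % 5))⁻¹ * S.Q (par i / 5) * gl b c d g (par i % 5) := by
  unfold Q
  rw [q, dif_pos (par_lt hi h0)]
  have := S.coe_smul [par i % 5] (q S.γ S.ak (par i / 5))
  simpa only [ev, List.map_cons, List.map_nil, List.prod_cons, List.prod_nil, mul_one] using this

theorem stepQ (S : Side a b c d f g) {i j s : ℕ} (hi : i < 630) (hs : s < 5)
    (h : step 65536 i s = j + 1) : j < 630 ∧ S.Q j = (gl b c d g s)⁻¹ * S.Q i * gl b c d g s := by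
  have h1 : walk 65536 [s] i = j + 1 := by
    show Nat.rec (motive := fun _ => ℕ) 0 (fun j _ => walk 65536 [] j) (step 65536 i s) = j + 1
    rw [h]; rfl
  obtain ⟨h2, h3⟩ := S.walkQ [s] (by simpa using hs) hi h1
  refine ⟨h2, ?_⟩
  simpa only [ev, List.map_cons, List.map_nil, List.prod_cons, List.prod_nil, mul_one] using h3

theorem gg_conj (S : Side a b c d f g) {x : G} (hx : x * f = f * x) : (g * g)⁻¹ * x * (g * g) = a * x * a := by
  rw [S.g2, mul_inv_rev, S.ainv, S.finv]
  calc f * a * x * (a * f) = f * (a * (x * (a * f))) := by simp only [mul_assoc]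
    _ = f * (a * (x * (f * a))) := by rw [S.af]
    _ = f * (a * (x * f * a)) := by simp only [mul_assoc]
    _ = f * (a * (f * x * a)) := by rw [hx]
    _ = f * (a * f) * (x * a) := by simp only [mul_assoc]
    _ = f * (f * a) * (x * a) := by rw [S.af]
    _ = (f * f) * (a * x * a) := by simp only [mul_assoc]
    _ = a * x * a := by rw [S.ff, one_mul]

theorem walkA (S : Side a b c d f g) {i j : ℕ} (hi : i < 630) (h : walk 65536 [3, 3] i = j + 1) :
    j < 630 ∧ S.Q j = a * S.Q i * a := by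
  obtain ⟨h1, h2⟩ := S.walkQ [3, 3] (by simp) hi h
  refine ⟨h1, ?_⟩
  rw [h2]
  simp only [ev, List.map_cons, List.map_nil, List.prod_cons, List.prod_nil, mul_one, gl]
  exact S.gg_conj (S.Q_comm i)

theorem E_sound (S : Side a b c d f g) (fuel : ℕ) : ∀ x i r, x < 630 → i < 630 → E fuel x i = r + 1 →
    r < 630 ∧ S.Q r = (S.Q i)⁻¹ * S.Q x * S.Q i := by
  induction fuel with
  | zero => intro x i r _ _ h; exact absurd h (by simp [E])
  | succ n ih =>
    intro x i r hx hi h
    rcases i with _ | i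
    · have h' : walk 65536 [3, 3] x = r + 1 := h
      obtain ⟨h1, h2⟩ := S.walkA hx h'
      refine ⟨h1, ?_⟩
      rw [h2, S.Q_zero, S.ainv]
    · have h' : (bdN (Nat.add (Nat.div (par (i + 1)) 5) 1) fun p =>
          bdN (Nat.add (Nat.mod (par (i + 1)) 5) 1) fun s =>
            bdN (step 65536 x (inv5 s)) fun x1 =>
              bdN (E n x1 p) fun x2 => step 65536 x2 s) = r + 1 := h
      obtain ⟨p, hp, h'⟩ := bdN_eq h'
      obtain ⟨s, hs, h'⟩ := bdN_eq h'
      obtain ⟨x1, hx1, h'⟩ := bdN_eq h'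
      obtain ⟨x2, hx2, h'⟩ := bdN_eq h'
      have hp' : p = par (i + 1) / 5 := by
        have : par (i + 1) / 5 + 1 = p + 1 := hp
        omega
      have hs' : s = par (i + 1) % 5 := by
        have : par (i + 1) % 5 + 1 = s + 1 := hs
        omega
      have hpl : p < i + 1 := hp' ▸ par_lt hi (Nat.succ_pos i)
      have hsl : s < 5 := hs' ▸ Nat.mod_lt _ (by norm_num)
      have hQ := S.Q_par hi (Nat.succ_pos i)
      rw [← hp', ← hs'] at hQ
      obtain ⟨g1, g2⟩ := S.stepQ hx (inv5_lt s hsl) hx1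
      obtain ⟨g3, g4⟩ := ih x1 p x2 g1 (by omega) hx2
      obtain ⟨g5, g6⟩ := S.stepQ g3 hsl h'
      refine ⟨g5, ?_⟩
      have hinv : gl b c d g (inv5 s) = (gl b c d g s)⁻¹ :=
        (inv_eq_of_mul_eq_one_right (gl_inv5 b c d g S.bb S.cc S.dd s hsl)).symm
      rw [g6, g4, g2, hQ, hinv]
      group

/-- evaluation of a word -/
theorem walkW (S : Side a b c d f g) {w : List ℕ} {i j : ℕ} (hi : i < 630)
    (h : walk 65536 w i = j + 1) (hw : (w.all fun s => Nat.blt s 5) = true) :
    S.Q j = (ev (gl b c d g) w)⁻¹ * S.Q i * ev (gl b c d g) w := by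
  refine (S.walkQ w ?_ hi h).2
  intro s hs
  exact Nat.le_of_ble_eq_true (List.all_eq_true.mp hw s hs)

theorem Q_ten (S : Side a b c d f g) : S.Q 10 = b := by
  have h := S.walkW (w := [0, 3, 3]) (i := 0) (j := 10) (by norm_num) (by decide +kernel) (by decide)
  simp only [ev, List.map_cons, List.map_nil, List.prod_cons, List.prod_nil, mul_one, gl] at h
  rw [h, S.Q_zero]
  have h1 : (b * (g * g))⁻¹ * a * (b * (g * g)) = (g * g)⁻¹ * (b * a * b) * (g * g) := by
    rw [mul_inv_rev, S.binv]; simp only [mul_assoc]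
  rw [h1, S.gg_conj]
  · have h2 := S.ab
    have h3 : a * b * (a * b) * (a * b) = 1 := by
      rw [← h2]; simp only [pow_succ, pow_zero, one_mul]
    calc a * (b * a * b) * a = (a * b * (a * b) * (a * b)) * b⁻¹ := by group
      _ = b := by rw [h3, one_mul, S.binv]
  · calc b * a * b * f = b * (a * (b * f)) := by simp only [mul_assoc]
      _ = b * (a * (f * b)) := by rw [S.bf]
      _ = b * (a * f * b) := by simp only [mul_assoc]
      _ = b * (f * a * b) := by rw [S.af]
      _ = b * f * (a * b) := by simp only [mul_assoc]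
      _ = f * b * (a * b) := by rw [S.bf]
      _ = _ := by simp only [mul_assoc]

theorem Q_38 (S : Side a b c d f g) : S.Q 38 = c := by
  have h := S.walkW (w := [1, 0]) (i := 10) (j := 38) (by norm_num) (by decide +kernel) (by decide)
  simp only [ev, List.map_cons, List.map_nil, List.prod_cons, List.prod_nil, mul_one, gl] at h
  rw [h, S.Q_ten]
  have h3 : b * c * (b * c) * (b * c) = 1 := by
    rw [← S.bc]; simp only [pow_succ, pow_zero, one_mul]
  calc (c * b)⁻¹ * b * (c * b) = b⁻¹ * c⁻¹ * b * (c * b) := by rw [mul_inv_rev]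
    _ = b * c * b * (c * b) := by rw [S.binv, S.cinv]
    _ = (b * c * (b * c) * (b * c)) * c⁻¹ := by group
    _ = c := by rw [h3, one_mul, S.cinv]

/-- `w' = g c g⁻¹` satisfies `w' c w' = c a` -/
theorem wc (S : Side a b c d f g) : (g * c * g⁻¹)⁻¹ * c * (g * c * g⁻¹) = c * a := by
  have hafg : ∀ x : G, (a * f) * (g * x) = g * ((a * f) * x) := fun x => by
    rw [mul_assoc, ← mul_assoc f g, ← S.gf, mul_assoc, ← mul_assoc a g, ← S.ga]
    simp only [mul_assoc]
  have hafc : ∀ x : G, (a * f) * (c * x) = c * ((a * f) * x) := fun x => by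
    rw [mul_assoc, ← mul_assoc f c, ← S.cf, mul_assoc, ← mul_assoc a c, S.ac]
    simp only [mul_assoc]
  have h4 := S.cg4
  rw [pow4] at h4
  have key : c * (g * c * g⁻¹) * (c * (g * c * g⁻¹)) = a := by
    rw [S.ginv]
    calc c * (g * c * (g * (a * f))) * (c * (g * c * (g * (a * f))))
        = c * (g * (c * (g * ((a * f) * (c * (g * (c * (g * (a * f))))))))) := by simp only [mul_assoc]
      _ = c * (g * (c * (g * (c * (g * (c * (g * ((a * f) * (a * f))))))))) := by
        rw [hafc, hafg, hafc, hafg]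
      _ = c * (g * (c * (g * (c * (g * (c * g)))))) := by rw [S.afaf, mul_one]
      _ = a := h4
  have hw : (g * c * g⁻¹) * (g * c * g⁻¹) = 1 := by
    calc (g * c * g⁻¹) * (g * c * g⁻¹) = g * (c * c) * g⁻¹ := by group
      _ = 1 := by rw [S.cc]; group
  rw [inv_eq_of_mul_eq_one_left hw]
  calc (g * c * g⁻¹) * c * (g * c * g⁻¹) = (c⁻¹) * (c * (g * c * g⁻¹) * (c * (g * c * g⁻¹))) := by group
    _ = c * a := by rw [key, S.cinv]

/-- `x = (c d)^2` satisfies `x⁻¹ c x = c a f` -/
theorem xc (S : Side a b c d f g) : (c * d * (c * d))⁻¹ * c * (c * d * (c * d)) = c * (a * f) := by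
  have h4 := S.cd4
  have e : (c * d * (c * d))⁻¹ = d * c * (d * c) := by
    rw [mul_inv_rev, mul_inv_rev, S.cinv, S.dinv]
  have h5 : (c * d) ^ 4 = (c * d * (c * d)) * (c * d * (c * d)) := by
    simp only [pow_succ, pow_zero, one_mul, mul_assoc]
  rw [e]
  have e2 : d * c * (d * c) * c = c * (c * d * (c * d)) := by
    calc d * c * (d * c) * c = d * c * d * (c * c) := by simp only [mul_assoc]
      _ = d * c * d := by rw [S.cc, mul_one]
      _ = (c * c) * (d * c * d) := by rw [S.cc, one_mul]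
      _ = c * (c * d * (c * d)) := by simp only [mul_assoc]
  rw [e2, mul_assoc, ← h5, ← h4]

/-- the word conjugating `a` to `a f` -/
def U0 (b c d g : G) : G :=
  b * (g * (g * (c * b))) * (g * c * g⁻¹) * (c * d * (c * d)) * (b * (c * (g⁻¹ * (g⁻¹ * b))))

theorem Va (S : Side a b c d f g) : (b * (g * (g * (c * b))))⁻¹ * a * (b * (g * (g * (c * b)))) = c := by
  have h1 := S.walkW (w := [0, 3, 3, 1, 0]) (i := 0) (j := 38) (by norm_num) (by decide +kernel) (by decide)
  rw [S.Q_38, S.Q_zero] at h1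
  simp only [ev, List.map_cons, List.map_nil, List.prod_cons, List.prod_nil, mul_one, gl] at h1
  exact h1.symm

theorem Vinv (S : Side a b c d f g) : (b * (g * (g * (c * b))))⁻¹ = b * (c * (g⁻¹ * (g⁻¹ * b))) := by
  simp only [mul_inv_rev, S.binv, S.cinv, mul_assoc]

theorem U0_a (S : Side a b c d f g) : (U0 b c d g)⁻¹ * a * U0 b c d g = a * f := by
  obtain ⟨V, hV⟩ : ∃ V, V = b * (g * (g * (c * b))) := ⟨_, rfl⟩
  obtain ⟨y, hy⟩ : ∃ y, y = g * c * g⁻¹ := ⟨_, rfl⟩
  obtain ⟨x, hx⟩ : ∃ x, x = c * d * (c * d) := ⟨_, rfl⟩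
  have h1 := S.Va
  have h2 := S.wc
  have h3 := S.xc
  have hU : U0 b c d g = V * y * x * V⁻¹ := by
    rw [U0, ← S.Vinv, hV, hy, hx]
  rw [← hV] at h1
  rw [← hy] at h2
  rw [← hx] at h3
  have h4 : x * a = a * x := by
    have e1 := S.ac; have e2 := S.ad
    have hc : Commute (c * d * (c * d)) a :=
      ((show Commute c a from e1.symm).mul_left (show Commute d a from e2.symm)).mul_left
        ((show Commute c a from e1.symm).mul_left (show Commute d a from e2.symm))
    rw [hx]; exact hc.eq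
  have hVf : V * f = f * V := by
    have hc : Commute (b * (g * (g * (c * b)))) f :=
      (show Commute b f from S.bf).mul_left ((show Commute g f from S.gf).mul_left
        ((show Commute g f from S.gf).mul_left ((show Commute c f from S.cf).mul_left
          (show Commute b f from S.bf))))
    rw [hV]; exact hc.eq
  rw [hU]
  calc (V * y * x * V⁻¹)⁻¹ * a * (V * y * x * V⁻¹)
      = V * (x⁻¹ * (y⁻¹ * (V⁻¹ * a * V) * y) * x) * V⁻¹ := by group
    _ = V * (x⁻¹ * (c * a) * x) * V⁻¹ := by rw [h1, h2]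
    _ = V * ((x⁻¹ * c * x) * (x⁻¹ * (a * x))) * V⁻¹ := by group
    _ = V * (c * (a * f) * (x⁻¹ * (x * a))) * V⁻¹ := by rw [h3, h4]
    _ = V * (c * (a * f * a)) * V⁻¹ := by group
    _ = V * (c * f) * V⁻¹ := by
      rw [mul_assoc a f a, ← S.af, ← mul_assoc a a f, S.aa, one_mul]
    _ = (V * c) * (f * V⁻¹) := by group
    _ = (V * (V⁻¹ * a * V)) * (V⁻¹ * f) := by
      rw [h1]
      congr 1
      rw [eq_comm, inv_mul_eq_iff_eq_mul, ← mul_assoc, hVf, mul_assoc, mul_inv_cancel, mul_one]
    _ = a * f := by group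

theorem Q_627 (S : Side a b c d f g) : S.Q 627 = a * f := by
  have h := S.walkW (w := [0, 3, 3, 1, 0, 3, 1, 4, 1, 2, 1, 2, 0, 1, 4, 4, 0]) (i := 0) (j := 627)
    (by norm_num) (by decide +kernel) (by decide)
  rw [h, S.Q_zero, ← S.U0_a]
  simp only [ev, List.map_cons, List.map_nil, List.prod_cons, List.prod_nil, mul_one, gl, U0, mul_assoc]

/-- points and multiplication by `f` -/
theorem Q_mul_f (S : Side a b c d f g) {w : List ℕ} {i j : ℕ}
    (h1 : walk 65536 w 0 = i + 1) (h2 : walk 65536 w 627 = j + 1) (hw : (w.all fun s => Nat.blt s 5) = true) :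
    S.Q j = S.Q i * f := by
  have e1 := S.walkW (by norm_num) h1 hw
  have e2 := S.walkW (by norm_num) h2 hw
  rw [e1, e2, S.Q_zero, S.Q_627]
  have hf : ev (gl b c d g) w * f = f * ev (gl b c d g) w := by
    rw [← S.coe_ev]; exact of_mem_cent (Subtype.prop _)
  calc (ev (gl b c d g) w)⁻¹ * (a * f) * ev (gl b c d g) w
      = (ev (gl b c d g) w)⁻¹ * a * (f * ev (gl b c d g) w) := by simp only [mul_assoc]
    _ = _ := by rw [← hf]; simp only [mul_assoc]

theorem Q_534 (S : Side a b c d f g) : S.Q 534 = (U0 b c d g)⁻¹ * b * U0 b c d g * f := by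
  have h1 := S.Q_mul_f (w := [0, 1, 2, 1, 0, 4, 0, 1, 3, 0]) (i := 379) (j := 534) (by decide +kernel)
    (by decide +kernel) (by decide)
  have h2 := S.walkW (w := [0, 3, 3, 1, 0, 3, 1, 4, 1, 2, 1, 2, 0, 1, 4, 4, 0]) (i := 10) (j := 379)
    (by norm_num) (by decide +kernel) (by decide)
  rw [h1, h2, S.Q_ten]
  simp only [ev, List.map_cons, List.map_nil, List.prod_cons, List.prod_nil, mul_one, gl, U0, mul_assoc]

end Side

end Cfsg.Agent.ONType.CfSide
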