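import Cfsg.Agent.ONType.CfFacts

/-!
# Facts about the centraliser of an involution of O'Nan type, III
-/

set_option autoImplicit false
set_option maxRecDepth 100000
set_option linter.unusedVariables false

namespace Cfsg.Agent.ONType.CfSide

open Cfsg.Agent.SporadicRecognition.CosetCert Cfsg.Agent.ONType.Hom Cfsg.Agent.ONType.CfTab

variable {G : Type*} [Group G] {a b c d f g : G}

theorem inList_sound {base i : ℕ} {L : List (ℕ × List ℕ)} (h : inList base L i = true) :
    ∃ w : List ℕ, walk 65536 w base = i + 1 ∧ ∀ s ∈ w, 1 ≤ s ∧ s < 5 := by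
  induction L with
  | nil => exact absurd h (by simp [inList])
  | cons t L ih =>
    have h' : Bool.rec (motive := fun _ => Bool) (inList base L i) (okw base t) (Nat.beq t.1 i) = true := h
    rcases hb : Nat.beq t.1 i with _ | _
    · rw [hb] at h'; exact ih h'
    · rw [hb] at h'
      have h2 : okw base t = true := h'
      unfold okw at h2
      rw [Bool.and_eq_true] at h2
      have h3 : walk 65536 t.2 base = t.1 + 1 := Nat.eq_of_beq_eq_true h2.1
      have h4 : t.1 = i := Nat.eq_of_beq_eq_true hb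
      refine ⟨t.2, by rw [h3, h4], fun s hs => ?_⟩
      have := List.all_eq_true.mp h2.2 s hs
      rw [Bool.and_eq_true] at this
      exact ⟨Nat.le_of_ble_eq_true this.1, Nat.le_of_ble_eq_true this.2⟩

theorem chkA_sound {i e r : ℕ} (hi : i < 630) (he : E 20 0 i = e + 1) (hr : walk 65536 [3, 3] i = r + 1)
    (h : e = r) : i = 0 ∨ inList 10 LA i = true ∨ inList 534 LB i = true := by
  have hc := allN_sound all_chkA i hi
  unfold chkA at hc
  obtain ⟨e', he', hc⟩ := bdB_eq hc
  obtain ⟨r', hr', hc⟩ := bdB_eq hc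
  have h1 : e' = r' := by omega
  have h2 : Nat.beq e' r' = true := by rw [h1]; exact Nat.beq_refl _
  rw [h2] at hc
  have hc' : (Nat.beq i 0 || (inList 10 LA i || inList 534 LB i)) = true := hc
  rw [Bool.or_eq_true, Bool.or_eq_true] at hc'
  rcases hc' with h | h | h
  · exact Or.inl (Nat.eq_of_beq_eq_true h)
  · exact Or.inr (Or.inl h)
  · exact Or.inr (Or.inr h)

theorem chkA_ex {i : ℕ} (hi : i < 630) : ∃ e r, E 20 0 i = e + 1 ∧ walk 65536 [3, 3] i = r + 1 := by
  have hc := allN_sound all_chkA i hi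
  unfold chkA at hc
  obtain ⟨e', he', hc⟩ := bdB_eq hc
  obtain ⟨r', hr', hc⟩ := bdB_eq hc
  exact ⟨e', r', he', hr'⟩

theorem mem9_sound {i : ℕ} (h : mem9 i = true) : i ∈ [0, 10, 1, 17, 2, 348, 349, 460, 487] := by
  have key : ∀ L : List ℕ, List.rec (motive := fun _ => Bool) false
      (fun t _ ih => Bool.rec (motive := fun _ => Bool) ih true (Nat.beq t i)) L = true → i ∈ L := by
    intro L
    induction L with
    | nil => intro h; exact absurd h (by simp)
    | cons t L ih =>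
      intro h
      have h' : Bool.rec (motive := fun _ => Bool) (List.rec (motive := fun _ => Bool) false
        (fun t _ ih => Bool.rec (motive := fun _ => Bool) ih true (Nat.beq t i)) L) true (Nat.beq t i) = true := h
      rcases hb : Nat.beq t i with _ | _
      · rw [hb] at h'; exact List.mem_cons_of_mem _ (ih h')
      · have h4 : t = i := Nat.eq_of_beq_eq_true hb
        rw [h4]; exact List.mem_cons_self
  exact key _ h

theorem chkB_sound {i e r e' r' : ℕ} (hi : i < 630) (he : E 20 0 i = e + 1)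
    (hr : walk 65536 [3, 3] i = r + 1) (h : e = r) (he' : E 20 38 i = e' + 1)
    (hr' : walk 65536 [1] i = r' + 1) (h' : e' = r') : i ∈ [0, 10, 1, 17, 2, 348, 349, 460, 487] := by
  have hc := allN_sound all_chkB i hi
  unfold chkB at hc
  obtain ⟨e1, he1, hc⟩ := bdB_eq hc
  obtain ⟨r1, hr1, hc⟩ := bdB_eq hc
  have h1 : e1 = r1 := by omega
  have h2 : Nat.beq e1 r1 = true := by rw [h1]; exact Nat.beq_refl _
  rw [h2] at hc
  obtain ⟨e2, he2, hc⟩ := bdB_eq hc
  obtain ⟨r2, hr2, hc⟩ := bdB_eq hc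
  have h3 : e2 = r2 := by omega
  have h4 : Nat.beq e2 r2 = true := by rw [h3]; exact Nat.beq_refl _
  rw [h4] at hc
  exact mem9_sound hc

theorem chkB_ex {i e r : ℕ} (hi : i < 630) (he : E 20 0 i = e + 1) (hr : walk 65536 [3, 3] i = r + 1)
    (h : e = r) : ∃ e' r', E 20 38 i = e' + 1 ∧ walk 65536 [1] i = r' + 1 := by
  have hc := allN_sound all_chkB i hi
  unfold chkB at hc
  obtain ⟨e1, he1, hc⟩ := bdB_eq hc
  obtain ⟨r1, hr1, hc⟩ := bdB_eq hc
  have h1 : e1 = r1 := by omega
  have h2 : Nat.beq e1 r1 = true := by rw [h1]; exact Nat.beq_refl _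
  rw [h2] at hc
  obtain ⟨e2, he2, hc⟩ := bdB_eq hc
  obtain ⟨r2, hr2, hc⟩ := bdB_eq hc
  exact ⟨e2, r2, he2, hr2⟩

/-- two involutions whose product has order 3 -/
theorem braid {x y : G} (hx : x * x = 1) (hy : y * y = 1) (h : (x * y) ^ 3 = 1) : y * x * y = x * y * x := by
  have h3 : x * y * (x * y) * (x * y) = 1 := by
    rw [← h]; simp only [pow_succ, pow_zero, one_mul]
  have hx' : x⁻¹ = x := inv_eq_of_mul_eq_one_left hx
  have hy' : y⁻¹ = y := inv_eq_of_mul_eq_one_left hy
  calc y * x * y = x⁻¹ * (x * y * (x * y) * (x * y)) * y⁻¹ * x⁻¹ := by group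
    _ = x * y * x := by rw [h3, hx', hy', mul_one]

namespace Side

/-- the elements inverted ... by `a` with product of order 3 are points -/
theorem exists_point (S : Side a b c d f g) {x : G} (hxf : x * f = f * x) (hx : x * x = 1)
    (hax : (a * x) ^ 3 = 1) : ∃ i < 630, S.Q i = x := by
  have hb := braid S.aa hx hax
  have hk : x * a * f = f * (x * a) := by
    rw [mul_assoc, S.af, ← mul_assoc, hxf, mul_assoc]
  obtain ⟨j, hj, h⟩ := S.conjQ hk 0 (by norm_num)
  refine ⟨j, hj, ?_⟩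
  have hx' : x⁻¹ = x := inv_eq_of_mul_eq_one_left hx
  rw [h, S.Q_zero, mul_inv_rev, S.ainv, hx']
  calc a * x * a * (x * a) = a * (x * a * x) * a := by simp only [mul_assoc]
    _ = a * (a * x * a) * a := by rw [hb]
    _ = (a * a) * x * (a * a) := by simp only [mul_assoc]
    _ = x := by rw [S.aa, one_mul, mul_one]

theorem point_cond (S : Side a b c d f g) {x : G} (hxf : x * f = f * x) (hx : x * x = 1)
    (hax : (a * x) ^ 3 = 1) {i : ℕ} (hi : i < 630) (hQ : S.Q i = x) :
    ∃ e r, E 20 0 i = e + 1 ∧ walk 65536 [3, 3] i = r + 1 ∧ e = r := by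
  obtain ⟨e, r, he, hr⟩ := chkA_ex hi
  refine ⟨e, r, he, hr, ?_⟩
  obtain ⟨h1, h2⟩ := S.E_sound 20 0 i e (by norm_num) hi he
  obtain ⟨h3, h4⟩ := S.walkA hi hr
  apply S.Q_inj h1 h3
  have hx' : x⁻¹ = x := inv_eq_of_mul_eq_one_left hx
  rw [h2, h4, hQ, S.Q_zero, hx']
  exact braid S.aa hx hax

theorem ev_comm_a (S : Side a b c d f g) {w : List ℕ} (hw : ∀ s ∈ w, 1 ≤ s ∧ s < 5) :
    ev (gl b c d g) w * a = a * ev (gl b c d g) w := by
  induction w with
  | nil => rw [ev_nil, one_mul, mul_one]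
  | cons s w ih =>
    rw [ev_cons, mul_assoc, ih (fun y hy => hw y (by simp [hy])), ← mul_assoc,
      S.gl_a s (hw s (by simp)).1, mul_assoc]

theorem ev_comm_f (S : Side a b c d f g) (w : List ℕ) :
    ev (gl b c d g) w * f = f * ev (gl b c d g) w := by
  rw [← S.coe_ev]; exact of_mem_cent (Subtype.prop _)

theorem U0_f (S : Side a b c d f g) : U0 b c d g * f = f * U0 b c d g := by
  have := S.ev_comm_f [0, 3, 3, 1, 0, 3, 1, 4, 1, 2, 1, 2, 0, 1, 4, 4, 0]
  have e : U0 b c d g = ev (gl b c d g) [0, 3, 3, 1, 0, 3, 1, 4, 1, 2, 1, 2, 0, 1, 4, 4, 0] := by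
    simp only [ev, List.map_cons, List.map_nil, List.prod_cons, List.prod_nil, mul_one, gl, U0, mul_assoc]
  rw [e]; exact this

/-- every involution `x ≠ a` commuting with `f` with `(a x)^3 = 1` is conjugate to `b` up to `f`. -/
theorem class_b (S : Side a b c d f g) {x : G} (hxf : x * f = f * x) (hx : x * x = 1)
    (hax : (a * x) ^ 3 = 1) (hne : x ≠ a) : ∃ m : G, m * f = f * m ∧
      ((m * a * m⁻¹ = a ∧ m * x * m⁻¹ = b) ∨ (m * a * m⁻¹ = a * f ∧ m * x * m⁻¹ = b * f)) := by
  obtain ⟨i, hi, hQ⟩ := S.exists_point hxf hx hax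
  obtain ⟨e, r, he, hr, her⟩ := S.point_cond hxf hx hax hi hQ
  rcases chkA_sound hi he hr her with h | h | h
  · exfalso
    rw [h, S.Q_zero] at hQ
    exact hne hQ.symm
  · obtain ⟨w, hw, hl⟩ := inList_sound h
    have h1 := (S.walkQ w (fun s hs => (hl s hs).2) (by norm_num) hw).2
    refine ⟨ev (gl b c d g) w, S.ev_comm_f w, Or.inl ⟨?_, ?_⟩⟩
    · rw [S.ev_comm_a hl, mul_inv_cancel_right]
    · rw [← hQ, h1, S.Q_ten]; group
  · obtain ⟨w, hw, hl⟩ := inList_sound h
    have h1 := (S.walkQ w (fun s hs => (hl s hs).2) (by norm_num) hw).2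
    have h2 := S.U0_f
    have h3 := S.U0_a
    have h4 := S.ev_comm_f w
    refine ⟨U0 b c d g * ev (gl b c d g) w, ?_, Or.inr ⟨?_, ?_⟩⟩
    · rw [mul_assoc, h4, ← mul_assoc, h2, mul_assoc]
    · rw [mul_inv_rev]
      calc U0 b c d g * ev (gl b c d g) w * a * ((ev (gl b c d g) w)⁻¹ * (U0 b c d g)⁻¹)
          = U0 b c d g * (ev (gl b c d g) w * a * (ev (gl b c d g) w)⁻¹) * (U0 b c d g)⁻¹ := by group
        _ = U0 b c d g * a * (U0 b c d g)⁻¹ := by rw [S.ev_comm_a hl, mul_inv_cancel_right]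
        _ = U0 b c d g * (a * f) * f * (U0 b c d g)⁻¹ := by
          rw [← mul_assoc (U0 b c d g) a f, mul_assoc _ f f, S.ff, mul_one]
        _ = U0 b c d g * ((U0 b c d g)⁻¹ * a * U0 b c d g) * f * (U0 b c d g)⁻¹ := by rw [h3]
        _ = a * (U0 b c d g * f * (U0 b c d g)⁻¹) := by group
        _ = a * f := by rw [h2, mul_inv_cancel_right]
    · rw [← hQ, h1, S.Q_534, mul_inv_rev]
      calc U0 b c d g * ev (gl b c d g) w *
          ((ev (gl b c d g) w)⁻¹ * ((U0 b c d g)⁻¹ * b * U0 b c d g * f) * ev (gl b c d g) w) *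
            ((ev (gl b c d g) w)⁻¹ * (U0 b c d g)⁻¹)
          = b * (U0 b c d g * f * (U0 b c d g)⁻¹) := by group
        _ = b * f := by rw [h2, mul_inv_cancel_right]

theorem bw (S : Side a b c d f g) : b * (g * d * g⁻¹) = (g * d * g⁻¹) * b := by
  have h := S.walkW (w := [3, 2, 4]) (i := 10) (j := 10) (by norm_num) (by decide +kernel) (by decide)
  simp only [ev, List.map_cons, List.map_nil, List.prod_cons, List.prod_nil, mul_one, gl] at h
  rw [S.Q_ten] at h
  have h2 : g * d * g⁻¹ * b = g * d * g⁻¹ * ((g * (d * g⁻¹))⁻¹ * b * (g * (d * g⁻¹))) := by rw [← h]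
  rw [h2]; group

theorem ww (S : Side a b c d f g) : (g * d * g⁻¹) * (g * d * g⁻¹) = 1 := by
  calc (g * d * g⁻¹) * (g * d * g⁻¹) = g * (d * d) * g⁻¹ := by group
    _ = 1 := by rw [S.dd]; group

theorem dw (S : Side a b c d f g) : d * (g * d * g⁻¹) = (g * d * g⁻¹) * (d * f) := by
  have hafg : ∀ x : G, (a * f) * (g * x) = g * ((a * f) * x) := fun x => by
    rw [mul_assoc, ← mul_assoc f g, ← S.gf, mul_assoc, ← mul_assoc a g, ← S.ga]
    simp only [mul_assoc]
  have hafd : ∀ x : G, (a * f) * (d * x) = d * ((a * f) * x) := fun x => by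
    rw [mul_assoc, ← mul_assoc f d, ← S.df, mul_assoc, ← mul_assoc a d, S.ad]
    simp only [mul_assoc]
  have h4 := S.dg4
  rw [pow4] at h4
  have key : d * (g * d * g⁻¹) * (d * (g * d * g⁻¹)) = f := by
    rw [S.ginv]
    calc d * (g * d * (g * (a * f))) * (d * (g * d * (g * (a * f))))
        = d * (g * (d * (g * ((a * f) * (d * (g * (d * (g * (a * f))))))))) := by simp only [mul_assoc]
      _ = d * (g * (d * (g * (d * (g * (d * (g * ((a * f) * (a * f))))))))) := by
        rw [hafd, hafg, hafd, hafg]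
      _ = d * (g * (d * (g * (d * (g * (d * g)))))) := by rw [S.afaf, mul_one]
      _ = f := h4
  have hw := S.ww
  have hw' := inv_eq_of_mul_eq_one_left hw
  calc d * (g * d * g⁻¹) = (d * (g * d * g⁻¹) * (d * (g * d * g⁻¹))) * (g * d * g⁻¹)⁻¹ * d⁻¹ := by group
    _ = f * (g * d * g⁻¹) * d := by rw [key, hw', S.dinv]
    _ = (g * d * g⁻¹) * f * d := by
      congr 1
      rw [S.ginv]
      have hc : Commute (g * d * (g * (a * f))) f :=
        ((show Commute g f from S.gf).mul_left (show Commute d f from S.df)).mul_left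
          ((show Commute g f from S.gf).mul_left ((show Commute a f from S.af).mul_left (Commute.refl f)))
      exact hc.eq.symm
    _ = (g * d * g⁻¹) * (d * f) := by rw [mul_assoc, ← S.df]

theorem wa (S : Side a b c d f g) : (g * d * g⁻¹) * a = a * (g * d * g⁻¹) := by
  have hg : Commute g a := S.ga
  exact ((hg.mul_left (show Commute d a from S.ad.symm)).mul_left hg.inv_left).eq

theorem wf (S : Side a b c d f g) : (g * d * g⁻¹) * f = f * (g * d * g⁻¹) := by
  have hg : Commute g f := S.gf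
  exact ((hg.mul_left (show Commute d f from S.df)).mul_left hg.inv_left).eq

end Side

theorem ne_of_comm {x y z : G} (hx : x * z = z * x) (hy : ¬ y * z = z * y) : x ≠ y :=
  fun h => hy (h ▸ hx)

/-- the eight elements of a dihedral group are distinct -/
theorem eight_nodup {d w f : G} (f1 : f ≠ 1) (hd : d * d = 1) (hw : w * w = 1)
    (hdf : d * f = f * d) (hwf : w * f = f * w) (hdw : d * w = w * (d * f)) :
    List.Nodup [1, f, d, d * f, w, w * f, d * w, d * w * f] := by
  have hne : d * w ≠ w * d := by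
    intro h
    rw [hdw] at h
    exact f1 (mul_eq_left.mp (mul_left_cancel h))
  have D1 : (1 : G) * d = d * 1 := by group
  have Df : f * d = d * f := hdf.symm
  have Dd : d * d = d * d := rfl
  have Ddf : d * f * d = d * (d * f) := by rw [mul_assoc, ← hdf]
  have Dw : ¬ w * d = d * w := fun h => hne h.symm
  have Dwf : ¬ w * f * d = d * (w * f) := by
    intro h
    apply Dw
    rw [mul_assoc, ← hdf, ← mul_assoc, ← mul_assoc] at h
    exact mul_right_cancel h
  have Ddw : ¬ d * w * d = d * (d * w) := by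
    intro h
    rw [mul_assoc] at h
    exact Dw (mul_left_cancel h)
  have Ddwf : ¬ d * w * f * d = d * (d * w * f) := by
    intro h
    apply Ddw
    rw [mul_assoc (d * w) f d, ← hdf, ← mul_assoc, ← mul_assoc] at h
    exact mul_right_cancel h
  have W1 : (1 : G) * w = w * 1 := by group
  have Wf : f * w = w * f := hwf.symm
  have Wd : ¬ d * w = w * d := hne
  have Wdf : ¬ d * f * w = w * (d * f) := by
    intro h
    apply hne
    rw [mul_assoc, ← hwf, ← mul_assoc, ← mul_assoc] at h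
    exact mul_right_cancel h
  have Ww : w * w = w * w := rfl
  have Wwf : w * f * w = w * (w * f) := by rw [mul_assoc, ← hwf]
  have Wdw : ¬ d * w * w = w * (d * w) := by
    intro h
    rw [← mul_assoc] at h
    exact hne (mul_right_cancel h)
  have Wdwf : ¬ d * w * f * w = w * (d * w * f) := by
    intro h
    apply Wdw
    rw [mul_assoc (d * w) f w, ← hwf, ← mul_assoc, ← mul_assoc] at h
    exact mul_right_cancel h
  have nf : ∀ x : G, x ≠ x * f := fun x h => f1 (mul_eq_left.mp h.symm)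
  have n01 : (1 : G) ≠ f := Ne.symm f1
  have n02 : (1 : G) ≠ d := ne_of_comm W1 Wd
  have n03 : (1 : G) ≠ d * f := ne_of_comm W1 Wdf
  have n04 : (1 : G) ≠ w := ne_of_comm D1 Dw
  have n05 : (1 : G) ≠ w * f := ne_of_comm D1 Dwf
  have n06 : (1 : G) ≠ d * w := ne_of_comm D1 Ddw
  have n07 : (1 : G) ≠ d * w * f := ne_of_comm D1 Ddwf
  have n12 : f ≠ d := ne_of_comm Wf Wd
  have n13 : f ≠ d * f := ne_of_comm Wf Wdf
  have n14 : f ≠ w := ne_of_comm Df Dw
  have n15 : f ≠ w * f := ne_of_comm Df Dwf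
  have n16 : f ≠ d * w := ne_of_comm Df Ddw
  have n17 : f ≠ d * w * f := ne_of_comm Df Ddwf
  have n23 : d ≠ d * f := nf _
  have n24 : d ≠ w := ne_of_comm Dd Dw
  have n25 : d ≠ w * f := ne_of_comm Dd Dwf
  have n26 : d ≠ d * w := ne_of_comm Dd Ddw
  have n27 : d ≠ d * w * f := ne_of_comm Dd Ddwf
  have n34 : d * f ≠ w := ne_of_comm Ddf Dw
  have n35 : d * f ≠ w * f := ne_of_comm Ddf Dwf
  have n36 : d * f ≠ d * w := ne_of_comm Ddf Ddw
  have n37 : d * f ≠ d * w * f := ne_of_comm Ddf Ddwf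
  have n45 : w ≠ w * f := nf _
  have n46 : w ≠ d * w := ne_of_comm Ww Wdw
  have n47 : w ≠ d * w * f := ne_of_comm Ww Wdwf
  have n56 : w * f ≠ d * w := ne_of_comm Wwf Wdw
  have n57 : w * f ≠ d * w * f := ne_of_comm Wwf Wdwf
  have n67 : d * w ≠ d * w * f := nf _
  simp only [List.nodup_cons, List.mem_cons, List.not_mem_nil, or_false, not_or, List.nodup_nil, and_true,
    not_false_eq_true]
  exact ⟨⟨n01, n02, n03, n04, n05, n06, n07⟩, ⟨n12, n13, n14, n15, n16, n17⟩, ⟨n23, n24, n25, n26, n27⟩, ⟨n34, n35, n36, n37⟩, ⟨n45, n46, n47⟩, ⟨n56, n57⟩, n67⟩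

theorem LA_nodup : (LA.map Prod.fst).Nodup := by decide

theorem LA_lt : ∀ t ∈ LA, t.1 < 630 := by decide

namespace Side

theorem LA_mem (S : Side a b c d f g) {t : ℕ × List ℕ} (ht : t ∈ LA) :
    ∃ u : G, u * a = a * u ∧ u * f = f * u ∧ S.Q t.1 = u⁻¹ * b * u := by
  have h := List.all_eq_true.mp all_LA t ht
  unfold okw at h
  rw [Bool.and_eq_true] at h
  have h3 : walk 65536 t.2 10 = t.1 + 1 := Nat.eq_of_beq_eq_true h.1
  have hl : ∀ s ∈ t.2, 1 ≤ s ∧ s < 5 := by
    intro s hs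
    have := List.all_eq_true.mp h.2 s hs
    rw [Bool.and_eq_true] at this
    exact ⟨Nat.le_of_ble_eq_true this.1, Nat.le_of_ble_eq_true this.2⟩
  refine ⟨ev (gl b c d g) t.2, S.ev_comm_a hl, S.ev_comm_f _, ?_⟩
  rw [(S.walkQ t.2 (fun s hs => (hl s hs).2) (by norm_num) h3).2, S.Q_ten]

theorem card_T (S : Side a b c d f g) : Set.Finite {x : G | x * a = a * x ∧ x * f = f * x ∧ x * b = b * x} ∧
    Set.ncard {x : G | x * a = a * x ∧ x * f = f * x ∧ x * b = b * x} ≤ 8 := by
  classical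
  obtain ⟨A, hA⟩ : ∃ A : Subgroup G, A = Subgroup.centralizer {a} ⊓ Subgroup.centralizer {f} := ⟨_, rfl⟩
  have hcA : Nat.card A = 256 := by rw [hA]; exact S.cardA
  have hfin : Finite A := Nat.finite_of_card_ne_zero (by rw [hcA]; norm_num)
  have hmem : ∀ x : G, x ∈ A ↔ x * a = a * x ∧ x * f = f * x := by
    intro x
    rw [hA, Subgroup.mem_inf]
    exact ⟨fun h => ⟨of_mem_cent h.1, of_mem_cent h.2⟩, fun h => ⟨mem_cent h.1, mem_cent h.2⟩⟩
  let _ : MulAction A G := MulAction.compHom G ((MulAut.conj : G →* MulAut G).comp A.subtype)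
  have hsmul : ∀ (k : A) (x : G), k • x = (k : G) * x * (k : G)⁻¹ := fun k x => rfl
  have horb : S.Q '' ((LA.map Prod.fst).toFinset : Set ℕ) ⊆ MulAction.orbit A b := by
    rintro _ ⟨i, hi, rfl⟩
    have hi' : i ∈ LA.map Prod.fst := by simpa using hi
    obtain ⟨t, ht, rfl⟩ := List.mem_map.mp hi'
    obtain ⟨u, hu1, hu2, hu3⟩ := S.LA_mem ht
    refine ⟨⟨u⁻¹, (hmem _).mpr ⟨?_, ?_⟩⟩, ?_⟩
    · rw [inv_mul_eq_iff_eq_mul, ← mul_assoc, hu1, mul_assoc, mul_inv_cancel, mul_one]
    · rw [inv_mul_eq_iff_eq_mul, ← mul_assoc, hu2, mul_assoc, mul_inv_cancel, mul_one]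
    · show u⁻¹ * b * u⁻¹⁻¹ = _
      rw [inv_inv, hu3]
  have hofin : (MulAction.orbit A b).Finite := Set.finite_range _
  have h32 : 32 ≤ (MulAction.orbit A b).ncard := by
    refine le_trans ?_ (Set.ncard_le_ncard horb hofin)
    have hinj : Set.InjOn S.Q ((LA.map Prod.fst).toFinset : Set ℕ) := by
      refine S.Q_inj.mono ?_
      intro i hi
      have hi' : i ∈ LA.map Prod.fst := by simpa using hi
      obtain ⟨t, ht, rfl⟩ := List.mem_map.mp hi'
      exact LA_lt t ht
    rw [hinj.ncard_image, Set.ncard_coe_finset, List.toFinset_card_of_nodup LA_nodup]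
    decide
  have hidx : (MulAction.stabilizer A b).index = (MulAction.orbit A b).ncard := MulAction.index_stabilizer A b
  have hmul := Subgroup.card_mul_index (MulAction.stabilizer A b)
  rw [hcA, hidx] at hmul
  have h8 : Nat.card (MulAction.stabilizer A b) ≤ 8 := by
    by_contra hcon
    push Not at hcon
    have : 9 * 32 ≤ Nat.card (MulAction.stabilizer A b) * (MulAction.orbit A b).ncard :=
      Nat.mul_le_mul hcon h32
    omega
  have himg : {x : G | x * a = a * x ∧ x * f = f * x ∧ x * b = b * x} ⊆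
      (fun x : MulAction.stabilizer A b => ((x : A) : G)) '' Set.univ := by
    rintro x ⟨h1, h2, h3⟩
    refine ⟨⟨⟨x, (hmem x).mpr ⟨h1, h2⟩⟩, ?_⟩, Set.mem_univ _, rfl⟩
    rw [MulAction.mem_stabilizer_iff, hsmul]
    show x * b * x⁻¹ = b
    rw [h3, mul_inv_cancel_right]
  have hf2 : ((fun x : MulAction.stabilizer A b => ((x : A) : G)) '' Set.univ).Finite := Set.toFinite _
  refine ⟨hf2.subset himg, (Set.ncard_le_ncard himg hf2).trans ?_⟩
  refine (Set.ncard_image_le (Set.toFinite _)).trans ?_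
  rw [Set.ncard_univ]
  exact h8

/-- the centraliser of `⟨a, b⟩` in the centraliser of `f` -/
theorem T_mem (S : Side a b c d f g) {x : G} (ha : x * a = a * x) (hf : x * f = f * x) (hb : x * b = b * x) :
    x ∈ [1, f, d, d * f, g * d * g⁻¹, (g * d * g⁻¹) * f, d * (g * d * g⁻¹), d * (g * d * g⁻¹) * f] := by
  classical
  obtain ⟨hfin, hcard⟩ := S.card_T
  obtain ⟨w, hw⟩ : ∃ w, w = g * d * g⁻¹ := ⟨_, rfl⟩
  have e1 := S.dw
  have e2 := S.wa
  have e3 := S.wf
  have e4 := S.bw
  have e5 := S.ww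
  rw [← hw] at e1 e2 e3 e4 e5 ⊢
  have hnd := eight_nodup S.f1 S.dd e5 S.df e3 e1
  have hsub : (([1, f, d, d * f, w, w * f, d * w, d * w * f] : List G).toFinset : Set G) ⊆
      {x : G | x * a = a * x ∧ x * f = f * x ∧ x * b = b * x} := by
    intro y hy
    have hy' : y ∈ ([1, f, d, d * f, w, w * f, d * w, d * w * f] : List G) := by simpa using hy
    have A1 : Commute (1 : G) a := Commute.one_left a
    have Af : Commute f a := S.af.symm
    have Ad : Commute d a := S.ad.symm
    have Aw : Commute w a := e2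
    have F1 : Commute (1 : G) f := Commute.one_left f
    have Ff : Commute f f := Commute.refl f
    have Fd : Commute d f := S.df
    have Fw : Commute w f := e3
    have B1 : Commute (1 : G) b := Commute.one_left b
    have Bf : Commute f b := S.bf.symm
    have Bd : Commute d b := S.bd.symm
    have Bw : Commute w b := e4.symm
    simp only [List.mem_cons, List.not_mem_nil, or_false] at hy'
    rcases hy' with rfl | rfl | rfl | rfl | rfl | rfl | rfl | rfl
    · exact ⟨A1.eq, F1.eq, B1.eq⟩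
    · exact ⟨Af.eq, Ff.eq, Bf.eq⟩
    · exact ⟨Ad.eq, Fd.eq, Bd.eq⟩
    · exact ⟨(Ad.mul_left Af).eq, (Fd.mul_left Ff).eq, (Bd.mul_left Bf).eq⟩
    · exact ⟨Aw.eq, Fw.eq, Bw.eq⟩
    · exact ⟨(Aw.mul_left Af).eq, (Fw.mul_left Ff).eq, (Bw.mul_left Bf).eq⟩
    · exact ⟨(Ad.mul_left Aw).eq, (Fd.mul_left Fw).eq, (Bd.mul_left Bw).eq⟩
    · exact ⟨((Ad.mul_left Aw).mul_left Af).eq, ((Fd.mul_left Fw).mul_left Ff).eq,
        ((Bd.mul_left Bw).mul_left Bf).eq⟩
  have heq := Set.eq_of_subset_of_ncard_le hsub (by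
    rw [Set.ncard_coe_finset, List.toFinset_card_of_nodup hnd]; exact hcard) hfin
  have hx : x ∈ {x : G | x * a = a * x ∧ x * f = f * x ∧ x * b = b * x} := ⟨ha, hf, hb⟩
  rw [← heq] at hx
  simpa using hx

end Side

end Cfsg.Agent.ONType.CfSide
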