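import Cfsg.Agent.ONType.CfTab
import Cfsg.Agent.ONType.Hom

/-!
# Facts about the centraliser of an involution in a group of O'Nan type

`Side a b c d f g`: `a, b, c, d, g` generate the centraliser of `f`, of order `161280`, and satisfy the relations
of the presentation of the O'Nan group there.
-/

set_option autoImplicit false
set_option maxRecDepth 100000
set_option linter.unusedVariables false

namespace Cfsg.Agent.ONType.CfSide

open Cfsg.Agent.SporadicRecognition.CosetCert Cfsg.Agent.ONType.Hom Cfsg.Agent.ONType.CfTab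

/-- the hypotheses on the centraliser of `f` -/
structure Side {G : Type*} [Group G] (a b c d f g : G) : Prop extends RelF a b c d f g where
  dg4 : (d * g) ^ 4 = f
  cg4 : (c * g) ^ 4 = a
  ne : a ≠ f
  f1 : f ≠ 1
  cent : Subgroup.centralizer {f} = Subgroup.closure {b, c, d, g}
  cardC : Nat.card (Subgroup.centralizer {f}) = 161280
  cardA : Nat.card (Subgroup.centralizer {a} ⊓ Subgroup.centralizer {f} : Subgroup G) = 256

variable {G : Type*} [Group G] {a b c d f g : G}

namespace Side

theorem g2 (S : Side a b c d f g) : g * g = a * f := S.gg.symm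

theorem gf (S : Side a b c d f g) : g * f = f * g := by
  have : g ∈ Subgroup.centralizer {f} := by
    rw [S.cent]; exact Subgroup.subset_closure (by simp)
  exact (Subgroup.mem_centralizer_iff.mp this f rfl).symm

theorem ga (S : Side a b c d f g) : g * a = a * g := by
  have h1 : a = g * g * f := by rw [S.g2, mul_assoc, S.ff, mul_one]
  rw [h1]
  calc g * (g * g * f) = g * g * (g * f) := by simp only [mul_assoc]
    _ = g * g * (f * g) := by rw [S.gf]
    _ = g * g * f * g := by simp only [mul_assoc]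

theorem afaf (S : Side a b c d f g) : (a * f) * (a * f) = 1 := by
  calc (a * f) * (a * f) = a * (f * a) * f := by simp only [mul_assoc]
    _ = a * (a * f) * f := by rw [S.af]
    _ = (a * a) * (f * f) := by simp only [mul_assoc]
    _ = 1 := by rw [S.aa, S.ff, one_mul]

theorem g4 (S : Side a b c d f g) : g * g * (g * g) = 1 := by rw [S.g2, S.afaf]

theorem ginv (S : Side a b c d f g) : g⁻¹ = g * (a * f) := by
  rw [inv_eq_iff_mul_eq_one, ← S.g2]
  have := S.g4
  simpa only [mul_assoc] using this

/-- letters -/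
def gl (b c d g : G) : ℕ → G
  | 0 => b
  | 1 => c
  | 2 => d
  | 3 => g
  | 4 => g⁻¹
  | _ => 1

theorem cinv (S : Side a b c d f g) : c⁻¹ = c := inv_eq_of_mul_eq_one_left S.cc
theorem binv (S : Side a b c d f g) : b⁻¹ = b := inv_eq_of_mul_eq_one_left S.bb
theorem dinv (S : Side a b c d f g) : d⁻¹ = d := inv_eq_of_mul_eq_one_left S.dd
theorem ainv (S : Side a b c d f g) : a⁻¹ = a := inv_eq_of_mul_eq_one_left S.aa
theorem finv (S : Side a b c d f g) : f⁻¹ = f := inv_eq_of_mul_eq_one_left S.ff

theorem pow4 (x y : G) : (x * y) ^ 4 = x * (y * (x * (y * (x * (y * (x * y)))))) := by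
  simp only [pow_succ, pow_zero, one_mul, mul_assoc]

theorem ggx (S : Side a b c d f g) (x : G) : g * (g * x) = a * (f * x) := by
  rw [← mul_assoc, S.g2, mul_assoc]

theorem r_ab (S : Side a b c d f g) : g * (g * (b * (g * (g * (b * (g * (g * b))))))) = f := by
  have h := S.ab
  have hb := S.bf
  have ha := S.af
  rw [S.ggx, S.ggx, S.ggx]
  -- a f b a f b a f b
  have e1 : ∀ x : G, f * (b * x) = b * (f * x) := fun x => by rw [← mul_assoc, ← hb, mul_assoc]
  have e2 : ∀ x : G, f * (a * x) = a * (f * x) := fun x => by rw [← mul_assoc, ← ha, mul_assoc]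
  have e3 : ∀ x : G, f * (f * x) = x := fun x => by rw [← mul_assoc, S.ff, one_mul]
  rw [e1, e2, e3, ← hb]
  have h' : a * (b * (a * (b * (a * b)))) = 1 := by
    rw [← h]; simp only [pow_succ, pow_zero, one_mul, mul_assoc]
  calc a * (b * (a * (b * (a * (b * f))))) = a * (b * (a * (b * (a * b)))) * f := by simp only [mul_assoc]
    _ = f := by rw [h', one_mul]

theorem r_comm (S : Side a b c d f g) {x : G} (hx : x * x = 1) (h1 : a * x = x * a) (h2 : x * f = f * x) :
    g * (g * (x * (g * (g * x)))) = 1 := by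
  rw [S.ggx, S.ggx]
  calc a * (f * (x * (a * (f * x)))) = a * (f * (x * a * (f * x))) := by simp only [mul_assoc]
    _ = a * (f * (a * x * (f * x))) := by rw [← h1]
    _ = a * (f * a) * (x * (f * x)) := by simp only [mul_assoc]
    _ = a * (a * f) * (x * (x * f)) := by rw [S.af, h2]
    _ = (a * a) * (f * (x * x) * f) := by simp only [mul_assoc]
    _ = 1 := by rw [S.aa, hx, mul_one, S.ff, one_mul]

theorem rels_ev (S : Side a b c d f g) : ∀ r ∈ rels, ev (gl b c d g) r = 1 ∨ ev (gl b c d g) r = f := by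
  intro r hr
  simp only [rels, List.mem_cons, List.not_mem_nil, or_false] at hr
  rcases hr with rfl | rfl | rfl | rfl | rfl | rfl | rfl | rfl | rfl | rfl | rfl | rfl | rfl | rfl
  all_goals simp only [ev, List.map_cons, List.map_nil, List.prod_cons, List.prod_nil, gl, mul_one]
  · left; have := S.bc; simpa only [pow_succ, pow_zero, one_mul, mul_assoc] using this
  · left; have := S.cd; simpa only [pow_succ, pow_zero, one_mul, mul_assoc] using this
  · left
    calc b * (d * (b * d)) = b * (d * b * d) := by simp only [mul_assoc]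
      _ = b * (b * d * d) := by rw [S.bd]
      _ = (b * b) * (d * d) := by simp only [mul_assoc]
      _ = 1 := by rw [S.bb, S.dd, one_mul]
  · left; have := S.g4; simpa only [mul_assoc] using this
  · right; exact S.r_ab
  · left; exact S.r_comm S.cc S.ac S.cf
  · left; exact S.r_comm S.dd S.ad S.df
  · left
    have h := S.cd4
    rw [S.ggx]
    have h2 : (c * d) ^ 4 * (d * (c * (d * (c * (d * (c * (d * c))))))) = 1 := by
      rw [← pow4 d c, show d * c = (c * d)⁻¹ by rw [mul_inv_rev, S.cinv, S.dinv], inv_pow, mul_inv_cancel]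
    rw [← h] at h2
    simpa only [mul_assoc] using h2
  · right
    have h := S.dg4
    rw [pow4] at h
    exact h
  · right
    have h := S.cg4
    rw [S.ggx]
    have h2 : (c * g) ^ 4 * (g⁻¹ * (c * (g⁻¹ * (c * (g⁻¹ * (c * (g⁻¹ * c))))))) = 1 := by
      rw [← pow4 g⁻¹ c, show g⁻¹ * c = (c * g)⁻¹ by rw [mul_inv_rev, S.cinv], inv_pow, mul_inv_cancel]
    rw [h] at h2
    calc a * (f * (g⁻¹ * (c * (g⁻¹ * (c * (g⁻¹ * (c * (g⁻¹ * c))))))))
        = a * f * (g⁻¹ * (c * (g⁻¹ * (c * (g⁻¹ * (c * (g⁻¹ * c))))))) := by simp only [mul_assoc]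
      _ = f * (a * (g⁻¹ * (c * (g⁻¹ * (c * (g⁻¹ * (c * (g⁻¹ * c)))))))) := by
        rw [S.af]; simp only [mul_assoc]
      _ = f := by rw [h2, mul_one]
  · left
    have h := S.cg
    simpa only [mul_inv_rev, S.dinv, mul_assoc] using h
  · left
    have h := S.dg
    simpa only [mul_inv_rev, S.cinv, mul_assoc] using h
  · left; have := S.five; simpa only [pow_succ, pow_zero, one_mul, mul_assoc] using this
  · left; have := S.gb; simpa only [S.cinv, S.binv, mul_assoc] using this

theorem mem_cent {x : G} (h : x * f = f * x) : x ∈ Subgroup.centralizer ({f} : Set G) :=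
  Subgroup.mem_centralizer_iff.mpr fun y hy => by
    rw [Set.mem_singleton_iff] at hy; rw [hy]; exact h.symm

theorem of_mem_cent {x : G} (h : x ∈ Subgroup.centralizer ({f} : Set G)) : x * f = f * x :=
  (Subgroup.mem_centralizer_iff.mp h f rfl).symm

theorem gl_comm (S : Side a b c d f g) (s : ℕ) : gl b c d g s * f = f * gl b c d g s := by
  rcases s with _ | _ | _ | _ | _ | s
  · exact S.bf
  · exact S.cf
  · exact S.df
  · exact S.gf
  · show g⁻¹ * f = f * g⁻¹
    rw [inv_mul_eq_iff_eq_mul, ← mul_assoc, S.gf, mul_assoc, mul_inv_cancel, mul_one]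
  · show 1 * f = f * 1
    rw [one_mul, mul_one]

/-- letters in the centraliser -/
noncomputable def gk (S : Side a b c d f g) (s : ℕ) : Subgroup.centralizer ({f} : Set G) :=
  ⟨gl b c d g s, mem_cent (S.gl_comm s)⟩

/-- `a` in the centraliser -/
noncomputable def ak (S : Side a b c d f g) : Subgroup.centralizer ({f} : Set G) := ⟨a, mem_cent S.af⟩

/-- the conjugation action of the letters -/
noncomputable def γ (S : Side a b c d f g) (s : ℕ) : MulAut (Subgroup.centralizer ({f} : Set G)) :=
  MulAut.conj (S.gk s)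

theorem ev_map {A B : Type*} [Group A] [Group B] (φ : A →* B) (x : ℕ → A) (w : List ℕ) :
    ev (fun s => φ (x s)) w = φ (ev x w) := by
  induction w with
  | nil => rw [ev_nil, ev_nil, map_one]
  | cons s w ih => rw [ev_cons, ev_cons, map_mul, ih]

theorem ev_γ (S : Side a b c d f g) (w : List ℕ) : ev S.γ w = MulAut.conj (ev S.gk w) :=
  ev_map MulAut.conj S.gk w

theorem coe_ev (S : Side a b c d f g) (w : List ℕ) : ((ev S.gk w : Subgroup.centralizer ({f} : Set G)) : G) =
    ev (gl b c d g) w :=
  (ev_map (Subgroup.centralizer ({f} : Set G)).subtype S.gk w).symm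

theorem gl_a (S : Side a b c d f g) (s : ℕ) (h : 0 < s) : gl b c d g s * a = a * gl b c d g s := by
  rcases s with _ | _ | _ | _ | _ | s
  · omega
  · exact S.ac.symm
  · exact S.ad.symm
  · exact S.ga
  · show g⁻¹ * a = a * g⁻¹
    rw [inv_mul_eq_iff_eq_mul, ← mul_assoc, S.ga, mul_assoc, mul_inv_cancel, mul_one]
  · show 1 * a = a * 1
    rw [one_mul, mul_one]

theorem gl_inv5 (b c d g : G) (hb : b * b = 1) (hc : c * c = 1) (hd : d * d = 1) :
    ∀ s < 5, gl b c d g s * gl b c d g (inv5 s) = 1 := by
  intro s hs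
  interval_cases s
  · rw [show inv5 0 = 0 by decide +kernel]; exact hb
  · rw [show inv5 1 = 1 by decide +kernel]; exact hc
  · rw [show inv5 2 = 2 by decide +kernel]; exact hd
  · rw [show inv5 3 = 4 by decide +kernel]; exact mul_inv_cancel g
  · rw [show inv5 4 = 3 by decide +kernel]; exact inv_mul_cancel g

theorem hyp (S : Side a b c d f g) : Hyp S.γ S.ak where
  inv s hs := by
    show MulAut.conj (S.gk s) * MulAut.conj (S.gk (inv5 s)) = 1
    rw [← map_mul, show S.gk s * S.gk (inv5 s) = 1 from
      Subtype.ext (gl_inv5 b c d g S.bb S.cc S.dd s hs), map_one]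
  rel r hr := by
    rw [ev_γ]
    ext x
    rw [MulAut.conj_apply, MulAut.one_apply]
    show ((ev S.gk r : Subgroup.centralizer ({f} : Set G)) : G) * (x : G) *
      ((ev S.gk r : Subgroup.centralizer ({f} : Set G)) : G)⁻¹ = x
    rw [coe_ev]
    rcases S.rels_ev r hr with h | h
    · rw [h]; group
    · rw [h, ← of_mem_cent x.2, mul_inv_cancel_right]
  fix s _ hs := by
    show MulAut.conj (S.gk s) S.ak = S.ak
    apply Subtype.ext
    show gl b c d g s * a * (gl b c d g s)⁻¹ = a
    rw [S.gl_a s hs, mul_inv_cancel_right]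

/-- the conjugates of `a` -/
noncomputable def Q (S : Side a b c d f g) (i : ℕ) : G := (q S.γ S.ak i : Subgroup.centralizer ({f} : Set G))

theorem Q_zero (S : Side a b c d f g) : S.Q 0 = a := by
  unfold Q; rw [q_zero]; rfl

theorem Q_comm (S : Side a b c d f g) (i : ℕ) : S.Q i * f = f * S.Q i := of_mem_cent (Subtype.prop _)

theorem coe_smul (S : Side a b c d f g) (w : List ℕ) (x : Subgroup.centralizer ({f} : Set G)) :
    (((ev S.γ w)⁻¹ • x : Subgroup.centralizer ({f} : Set G)) : G) =
      (ev (gl b c d g) w)⁻¹ * x * ev (gl b c d g) w := by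
  rw [ev_γ, ← map_inv]
  show (((ev S.gk w)⁻¹ * x * (ev S.gk w)⁻¹⁻¹ : Subgroup.centralizer ({f} : Set G)) : G) = _
  rw [inv_inv, Subgroup.coe_mul, Subgroup.coe_mul, Subgroup.coe_inv, coe_ev]

theorem walkQ (S : Side a b c d f g) (w : List ℕ) (hw : ∀ s ∈ w, s < 5) {i j : ℕ} (hi : i < 630)
    (h : walk 65536 w i = j + 1) : j < 630 ∧ S.Q j = (ev (gl b c d g) w)⁻¹ * S.Q i * ev (gl b c d g) w := by
  obtain ⟨h1, h2⟩ := walk_q S.hyp w hw hi h
  refine ⟨h1, ?_⟩
  unfold Q
  rw [h2, S.coe_smul]

theorem goodQ (S : Side a b c d f g) {i s : ℕ} (hi : i < 630) (hs : s < 5) :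
    ∃ j < 630, S.Q j = (gl b c d g s)⁻¹ * S.Q i * gl b c d g s := by
  obtain ⟨j, _, hj, h⟩ := good S.hyp i hi s hs
  refine ⟨j, hj, ?_⟩
  unfold Q
  rw [h]
  have := S.coe_smul [s] (q S.γ S.ak i)
  simpa only [ev, List.map_cons, List.map_nil, List.prod_cons, List.prod_nil, mul_one] using this

theorem conjQ (S : Side a b c d f g) {k : G} (hk : k * f = f * k) : ∀ i < 630, ∃ j < 630,
    S.Q j = k⁻¹ * S.Q i * k := by
  have hk' : k ∈ Subgroup.closure {b, c, d, g} := by rw [← S.cent]; exact mem_cent hk
  clear hk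
  induction hk' using Subgroup.closure_induction'' with
  | mem x hx =>
    intro i hi
    simp only [Set.mem_insert_iff, Set.mem_singleton_iff] at hx
    rcases hx with rfl | rfl | rfl | rfl
    · exact S.goodQ hi (s := 0) (by norm_num)
    · exact S.goodQ hi (s := 1) (by norm_num)
    · exact S.goodQ hi (s := 2) (by norm_num)
    · exact S.goodQ hi (s := 3) (by norm_num)
  | inv_mem x hx =>
    intro i hi
    simp only [Set.mem_insert_iff, Set.mem_singleton_iff] at hx
    rcases hx with rfl | rfl | rfl | rfl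
    · rw [S.binv]; exact S.goodQ hi (s := 0) (by norm_num)
    · rw [S.cinv]; exact S.goodQ hi (s := 1) (by norm_num)
    · rw [S.dinv]; exact S.goodQ hi (s := 2) (by norm_num)
    · exact S.goodQ hi (s := 4) (by norm_num)
  | one => intro i hi; exact ⟨i, hi, by group⟩
  | mul x y _ _ hx hy =>
    intro i hi
    obtain ⟨j, hj, h1⟩ := hx i hi
    obtain ⟨l, hl, h2⟩ := hy j hj
    exact ⟨l, hl, by rw [h2, h1]; group⟩

theorem Q_conj (S : Side a b c d f g) (i : ℕ) (hi : i < 630) : ∃ k : G, k * f = f * k ∧ S.Q i = k⁻¹ * a * k := by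
  induction i using Nat.strong_induction_on with
  | _ i ih =>
    by_cases h : par i / 5 < i
    · obtain ⟨k, hk, h2⟩ := ih (par i / 5) h (by omega)
      refine ⟨k * gl b c d g (par i % 5), ?_, ?_⟩
      · rw [mul_assoc, S.gl_comm, ← mul_assoc, hk, mul_assoc]
      · have : S.Q i = (gl b c d g (par i % 5))⁻¹ * S.Q (par i / 5) * gl b c d g (par i % 5) := by
          unfold Q
          rw [q, dif_pos h]
          have := S.coe_smul [par i % 5] (q S.γ S.ak (par i / 5))
          simpa only [ev, List.map_cons, List.map_nil, List.prod_cons, List.prod_nil, mul_one] using this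
        rw [this, h2]; group
    · refine ⟨1, by rw [one_mul, mul_one], ?_⟩
      unfold Q
      rw [q, dif_neg h]
      show a = _
      group

/-- the orbit has 630 elements -/
theorem Q_inj (S : Side a b c d f g) : Set.InjOn S.Q (Set.Iio 630) := by
  classical
  have hfin : Finite (Subgroup.centralizer ({f} : Set G)) :=
    Nat.finite_of_card_ne_zero (by rw [S.cardC]; norm_num)
  let _ : MulAction (Subgroup.centralizer ({f} : Set G)) G :=
    MulAction.compHom G ((MulAut.conj : G →* MulAut G).comp (Subgroup.centralizer ({f} : Set G)).subtype)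
  have hsmul : ∀ (k : Subgroup.centralizer ({f} : Set G)) (x : G), k • x = (k : G) * x * (k : G)⁻¹ :=
    fun k x => rfl
  have horb : MulAction.orbit (Subgroup.centralizer ({f} : Set G)) a = S.Q '' Set.Iio 630 := by
    ext x
    constructor
    · rintro ⟨k, rfl⟩
      have hk := of_mem_cent k.2
      obtain ⟨j, hj, h⟩ := S.conjQ (k := (k : G)⁻¹) (by
        rw [inv_mul_eq_iff_eq_mul, ← mul_assoc, hk, mul_assoc, mul_inv_cancel, mul_one]) 0 (by norm_num)
      refine ⟨j, hj, ?_⟩
      rw [h, S.Q_zero, inv_inv]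
      exact (hsmul k a).symm
    · rintro ⟨i, hi, rfl⟩
      obtain ⟨k, hk, h⟩ := S.Q_conj i hi
      refine ⟨⟨k⁻¹, mem_cent (by
        rw [inv_mul_eq_iff_eq_mul, ← mul_assoc, hk, mul_assoc, mul_inv_cancel, mul_one])⟩, ?_⟩
      show k⁻¹ * a * k⁻¹⁻¹ = _
      rw [inv_inv, h]
  have hstab : MulAction.stabilizer (Subgroup.centralizer ({f} : Set G)) a =
      (Subgroup.centralizer ({a} : Set G)).subgroupOf (Subgroup.centralizer ({f} : Set G)) := by
    ext k
    rw [MulAction.mem_stabilizer_iff, hsmul, Subgroup.mem_subgroupOf, Subgroup.mem_centralizer_iff]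
    constructor
    · intro h y hy
      rw [Set.mem_singleton_iff] at hy
      rw [hy]; exact (mul_inv_eq_iff_eq_mul.mp h).symm
    · intro h
      rw [← h a rfl, mul_inv_cancel_right]
  have hcard : Nat.card (MulAction.stabilizer (Subgroup.centralizer ({f} : Set G)) a) = 256 := by
    rw [hstab, ← S.cardA, ← Subgroup.subgroupOf_map_subtype]
    exact (Subgroup.card_map_of_injective (Subgroup.subtype_injective _)).symm
  have hidx : (MulAction.orbit (Subgroup.centralizer ({f} : Set G)) a).ncard = 630 := by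
    rw [← MulAction.index_stabilizer]
    have := Subgroup.card_mul_index (MulAction.stabilizer (Subgroup.centralizer ({f} : Set G)) a)
    rw [hcard, S.cardC] at this
    omega
  rw [horb] at hidx
  refine (Set.ncard_image_iff (Set.finite_Iio 630)).mp ?_
  rw [hidx]
  simp [Set.ncard_eq_toFinset_card']

end Side

end Cfsg.Agent.ONType.CfSide
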