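import Cfsg.Agent.ONType.Rel

/-!
# O'Nan type groups: elementary facts on the Sylow 2-subgroup `S = T⟨x1, x2, x3, s⟩` (coordinates of `ONType/Rel.lean`)
-/

set_option autoImplicit false

namespace Cfsg.Agent.ONType.Facts

open Cfsg.Agent.ONType.Rel
open scoped commutatorElement

variable {G : Type*} [Group G] {n : ℕ} {T S : Subgroup G} {τ : ℤ → ℤ → ℤ → G} {x1 x2 x3 s : G}

/-! ## Arithmetic in `T` -/

theorem τ_zero (h : Rel n T τ x1 x2 x3 s) : τ 0 0 0 = 1 := (h.one 0 0 0).2 (by simp)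

theorem τ_inv (h : Rel n T τ x1 x2 x3 s) (a b c : ℤ) : (τ a b c)⁻¹ = τ (-a) (-b) (-c) := by
  rw [inv_eq_iff_mul_eq_one, h.mul]
  simpa using τ_zero h

theorem τ_eq (h : Rel n T τ x1 x2 x3 s) (a b c a' b' c' : ℤ) :
    τ a b c = τ a' b' c' ↔ (2 : ℤ) ^ n ∣ a - a' ∧ (2 : ℤ) ^ n ∣ b - b' ∧ (2 : ℤ) ^ n ∣ c - c' := by
  rw [← mul_inv_eq_one, τ_inv h, h.mul, h.one]
  simp only [sub_eq_add_neg]

theorem τ_comm (h : Rel n T τ x1 x2 x3 s) (a b c a' b' c' : ℤ) :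
    τ a b c * τ a' b' c' = τ a' b' c' * τ a b c := by
  rw [h.mul, h.mul, add_comm a, add_comm b, add_comm c]

theorem τ_pow (h : Rel n T τ x1 x2 x3 s) (a b c : ℤ) (k : ℕ) :
    (τ a b c) ^ k = τ (k * a) (k * b) (k * c) := by
  induction k with
  | zero => simpa using (τ_zero h).symm
  | succ k ih =>
    rw [pow_succ, ih, h.mul]
    congr 1 <;> push_cast <;> ring

theorem τ_zpow (h : Rel n T τ x1 x2 x3 s) (a b c : ℤ) (k : ℤ) :
    (τ a b c) ^ k = τ (k * a) (k * b) (k * c) := by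
  obtain ⟨m, rfl | rfl⟩ := k.eq_nat_or_neg
  · rw [zpow_natCast, τ_pow h]
  · rw [zpow_neg, zpow_natCast, τ_pow h, τ_inv h]
    congr 1 <;> ring

theorem mem_τ (h : Rel n T τ x1 x2 x3 s) (a b c : ℤ) : τ a b c ∈ T := (h.mem _).2 ⟨a, b, c, rfl⟩

theorem comm_T (h : Rel n T τ x1 x2 x3 s) : ∀ t ∈ T, ∀ u ∈ T, t * u = u * t := by
  intro t ht u hu
  obtain ⟨a, b, c, rfl⟩ := (h.mem t).1 ht
  obtain ⟨a', b', c', rfl⟩ := (h.mem u).1 hu
  exact τ_comm h _ _ _ _ _ _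

theorem four_dvd (hn : 2 ≤ n) {x : ℤ} (hx : (2 : ℤ) ^ n ∣ x) : (4 : ℤ) ∣ x :=
  dvd_trans (by simpa using pow_dvd_pow (2 : ℤ) hn) hx

/-! ## The eight cosets -/

/-- The eight representatives. -/
def W (x1 x2 x3 s : G) : Fin 8 → G := ![1, x1, x2, x3, s, x1 * s, x2 * s, x3 * s]

/-- The action of the representatives on `T`. -/
def M : Fin 8 → ℤ → ℤ → ℤ → ℤ × ℤ × ℤ :=
  ![fun a b c => (a, b, c), fun a b c => (b, a, -a - b - c), fun a b c => (c, -a - b - c, a),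
    fun a b c => (-a - b - c, c, b), fun a b c => (-a, -c, -b), fun a b c => (-c, -a, a + b + c),
    fun a b c => (-b, a + b + c, -a), fun a b c => (a + b + c, -b, -c)]

/-- `τ` of a triple. -/
abbrev tp (τ : ℤ → ℤ → ℤ → G) (x : ℤ × ℤ × ℤ) : G := τ x.1 x.2.1 x.2.2

theorem rep_iff (w : G) : Cfsg.Agent.ONType.Rel.Rep x1 x2 x3 s w ↔ ∃ i, w = W x1 x2 x3 s i := by
  constructor
  · rintro (rfl | rfl | rfl | rfl | rfl | rfl | rfl | rfl)
    exacts [⟨0, rfl⟩, ⟨1, rfl⟩, ⟨2, rfl⟩, ⟨3, rfl⟩, ⟨4, rfl⟩, ⟨5, rfl⟩, ⟨6, rfl⟩, ⟨7, rfl⟩]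
  · rintro ⟨i, rfl⟩
    fin_cases i <;> simp [Cfsg.Agent.ONType.Rel.Rep, W]

theorem W_τ (h : Rel n T τ x1 x2 x3 s) (i : Fin 8) (a b c : ℤ) :
    W x1 x2 x3 s i * τ a b c = tp τ (M i a b c) * W x1 x2 x3 s i := by
  fin_cases i
  · simp [W, M, tp]
  · simpa [W, M, tp] using h.x1τ a b c
  · simpa [W, M, tp] using h.x2τ a b c
  · simpa [W, M, tp] using h.x3τ a b c
  · simpa [W, M, tp] using h.sτ a b c
  · change x1 * s * τ a b c = τ (-c) (-a) (a + b + c) * (x1 * s)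
    rw [mul_assoc, h.sτ, ← mul_assoc, h.x1τ, mul_assoc]
    congr 2
    ring
  · change x2 * s * τ a b c = τ (-b) (a + b + c) (-a) * (x2 * s)
    rw [mul_assoc, h.sτ, ← mul_assoc, h.x2τ, mul_assoc]
    congr 2
    ring
  · change x3 * s * τ a b c = τ (a + b + c) (-b) (-c) * (x3 * s)
    rw [mul_assoc, h.sτ, ← mul_assoc, h.x3τ, mul_assoc]
    congr 2
    ring

/-- If `τ(t) W_i = τ(t') W_j` then the actions agree modulo `2^n`. -/
theorem act_eq (h : Rel n T τ x1 x2 x3 s) {i j : Fin 8} {t t' : G} (ht : t ∈ T) (ht' : t' ∈ T)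
    (e : t * W x1 x2 x3 s i = t' * W x1 x2 x3 s j) (a b c : ℤ) :
    tp τ (M i a b c) = tp τ (M j a b c) := by
  have e1 : (t * W x1 x2 x3 s i) * τ a b c * (t * W x1 x2 x3 s i)⁻¹ = tp τ (M i a b c) := by
    rw [mul_assoc t, W_τ h, mul_inv_rev]
    have := comm_T h t ht _ (mem_τ h (M i a b c).1 (M i a b c).2.1 (M i a b c).2.2)
    change t * (tp τ (M i a b c) * W x1 x2 x3 s i) * ((W x1 x2 x3 s i)⁻¹ * t⁻¹) = _
    calc t * (tp τ (M i a b c) * W x1 x2 x3 s i) * ((W x1 x2 x3 s i)⁻¹ * t⁻¹)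
        = (t * tp τ (M i a b c)) * t⁻¹ := by group
      _ = _ := by rw [this]; group
  have e2 : (t' * W x1 x2 x3 s j) * τ a b c * (t' * W x1 x2 x3 s j)⁻¹ = tp τ (M j a b c) := by
    rw [mul_assoc t', W_τ h, mul_inv_rev]
    have := comm_T h t' ht' _ (mem_τ h (M j a b c).1 (M j a b c).2.1 (M j a b c).2.2)
    calc t' * (tp τ (M j a b c) * W x1 x2 x3 s j) * ((W x1 x2 x3 s j)⁻¹ * t'⁻¹)
        = (t' * tp τ (M j a b c)) * t'⁻¹ := by group
      _ = _ := by rw [this]; group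
  rw [← e1, ← e2, e]

theorem M_inj (hn : 2 ≤ n) (h : Rel n T τ x1 x2 x3 s) {i j : Fin 8}
    (e : ∀ a b c, tp τ (M i a b c) = tp τ (M j a b c)) : i = j := by
  have e1 := e 1 0 0
  have e2 := e 0 1 0
  rw [tp, tp, τ_eq h] at e1 e2
  obtain ⟨p1, p2, p3⟩ := e1
  obtain ⟨r1, r2, r3⟩ := e2
  replace p1 := four_dvd hn p1
  replace p2 := four_dvd hn p2
  replace p3 := four_dvd hn p3
  replace r1 := four_dvd hn r1
  replace r2 := four_dvd hn r2
  replace r3 := four_dvd hn r3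
  fin_cases i <;> fin_cases j <;> first
    | rfl
    | (exfalso
       simp [M] at p1 p2 p3 r1 r2 r3
       try omega)


theorem W_uniq (hn : 2 ≤ n) (h : Rel n T τ x1 x2 x3 s) {i j : Fin 8} {t t' : G} (ht : t ∈ T) (ht' : t' ∈ T)
    (e : t * W x1 x2 x3 s i = t' * W x1 x2 x3 s j) : i = j :=
  M_inj hn h (act_eq h ht ht' e)

theorem conj_τ (h : Rel n T τ x1 x2 x3 s) (i : Fin 8) {t : G} (ht : t ∈ T) (a b c : ℤ) :
    (t * W x1 x2 x3 s i) * τ a b c * (t * W x1 x2 x3 s i)⁻¹ = tp τ (M i a b c) := by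
  rw [mul_assoc t, W_τ h, mul_inv_rev]
  have := comm_T h t ht _ (mem_τ h (M i a b c).1 (M i a b c).2.1 (M i a b c).2.2)
  calc t * (tp τ (M i a b c) * W x1 x2 x3 s i) * ((W x1 x2 x3 s i)⁻¹ * t⁻¹)
      = (t * tp τ (M i a b c)) * t⁻¹ := by group
    _ = _ := by rw [this]; group

theorem mem_S (h : RelS n T S τ x1 x2 x3 s) (g : G) :
    g ∈ S ↔ ∃ t ∈ T, ∃ i, g = t * W x1 x2 x3 s i := by
  rw [h.memS]
  constructor
  · rintro ⟨a, b, c, w, hw, rfl⟩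
    obtain ⟨i, rfl⟩ := (rep_iff w).1 hw
    exact ⟨_, mem_τ h.toRel a b c, i, rfl⟩
  · rintro ⟨t, ht, i, rfl⟩
    obtain ⟨a, b, c, rfl⟩ := (h.mem t).1 ht
    exact ⟨a, b, c, _, (rep_iff _).2 ⟨i, rfl⟩, rfl⟩

theorem T_le_S (h : RelS n T S τ x1 x2 x3 s) : T ≤ S := fun t ht =>
  (mem_S h t).2 ⟨t, ht, 0, by simp [W]⟩

theorem W_mem_S (h : RelS n T S τ x1 x2 x3 s) (i : Fin 8) : W x1 x2 x3 s i ∈ S :=
  (mem_S h _).2 ⟨1, one_mem T, i, by simp⟩

/-- `T` is normal in `S` -/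
theorem T_normal (h : RelS n T S τ x1 x2 x3 s) : ∀ g ∈ S, ∀ t ∈ T, g * t * g⁻¹ ∈ T := by
  intro g hg t ht
  obtain ⟨u, hu, i, rfl⟩ := (mem_S h g).1 hg
  obtain ⟨a, b, c, rfl⟩ := (h.mem t).1 ht
  rw [conj_τ h.toRel i hu]
  exact mem_τ h.toRel _ _ _

theorem S_le_normalizer (h : RelS n T S τ x1 x2 x3 s) : S ≤ Subgroup.normalizer (T : Set G) := by
  intro g hg
  rw [Subgroup.mem_normalizer_iff]
  intro t
  refine ⟨fun ht => T_normal h g hg t ht, fun ht => ?_⟩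
  have := T_normal h g⁻¹ (inv_mem hg) _ ht
  simpa [mul_assoc] using this

/-! ## Counting -/

theorem card_range {Z Z' : Type*} [AddCommGroup Z] [AddCommGroup Z'] (f : Z →+ Z') (hf : Function.Surjective f)
    (P : Z → G) (hP : ∀ x y, P (x + y) = P x * P y) (h1 : ∀ x, P x = 1 ↔ f x = 0) (H : Subgroup G)
    (hH : ∀ g, g ∈ H ↔ ∃ x, g = P x) : Nat.card H = Nat.card Z' := by
  have h0 : P 0 = 1 := (h1 0).2 (map_zero f)
  have hneg : ∀ x, P (-x) = (P x)⁻¹ := fun x => by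
    rw [eq_comm, inv_eq_iff_mul_eq_one, ← hP, add_neg_cancel, h0]
  have key : ∀ x y, P x = P y ↔ f x = f y := fun x y => by
    rw [← mul_inv_eq_one, ← hneg, ← hP, h1, ← sub_eq_add_neg, map_sub, sub_eq_zero]
  symm
  refine Nat.card_congr (Equiv.ofBijective
    (fun y : Z' => (⟨P (Function.surjInv hf y), (hH _).2 ⟨_, rfl⟩⟩ : H)) ⟨?_, ?_⟩)
  · intro y y' e
    have e' : P (Function.surjInv hf y) = P (Function.surjInv hf y') := congrArg Subtype.val e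
    rw [key, Function.surjInv_eq hf, Function.surjInv_eq hf] at e'
    exact e'
  · rintro ⟨g, hg⟩
    obtain ⟨x, rfl⟩ := (hH g).1 hg
    refine ⟨f x, Subtype.ext ?_⟩
    change P (Function.surjInv hf (f x)) = P x
    rw [key, Function.surjInv_eq hf]


theorem intCast_surj (m : ℕ) : Function.Surjective (Int.castAddHom (ZMod m)) := ZMod.intCast_surjective

theorem card_T (h : Rel n T τ x1 x2 x3 s) : Nat.card T = 8 ^ n := by
  have key := card_range ((Int.castAddHom (ZMod (2 ^ n))).prodMap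
    ((Int.castAddHom (ZMod (2 ^ n))).prodMap (Int.castAddHom (ZMod (2 ^ n)))))
    ((intCast_surj _).prodMap ((intCast_surj _).prodMap (intCast_surj _)))
    (fun x : ℤ × ℤ × ℤ => tp τ x) (fun x y => by simp [tp, h.mul]) (fun x => by
      simp only [tp, h.one]
      simp [Prod.ext_iff, ZMod.intCast_zmod_eq_zero_iff_dvd]) T (fun g => by
      rw [h.mem]
      constructor
      · rintro ⟨a, b, c, rfl⟩
        exact ⟨(a, b, c), rfl⟩
      · rintro ⟨x, rfl⟩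
        exact ⟨_, _, _, rfl⟩)
  rw [key, Nat.card_prod, Nat.card_prod, Nat.card_zmod, ← pow_add, ← pow_add, show (8 : ℕ) = 2 ^ 3 from rfl,
    ← pow_mul]
  congr 1
  ring

theorem two_pow_eq (hn : 1 ≤ n) : (2 : ℤ) ^ n = 2 * 2 ^ (n - 1) := by
  conv_lhs => rw [← Nat.sub_add_cancel hn, pow_succ]
  ring

theorem half_dvd (hn : 1 ≤ n) {x : ℤ} (hx : (2 : ℤ) ^ n ∣ 2 * x) : (2 : ℤ) ^ (n - 1) ∣ x := by
  rw [two_pow_eq hn] at hx
  exact (mul_dvd_mul_iff_left two_ne_zero).1 hx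

theorem dvd_half_iff (hn : 1 ≤ n) (x : ℤ) : (2 : ℤ) ^ n ∣ 2 ^ (n - 1) * x ↔ (2 : ℤ) ∣ x := by
  rw [two_pow_eq hn, mul_comm (2 : ℤ)]
  exact mul_dvd_mul_iff_left (by positivity)

/-- counting with parameters `(i, δ)` modulo `(2^n, 2)` -/
theorem card_two (hn : 1 ≤ n) (P : ℤ → ℤ → G) (hP : ∀ i j i' j', P (i + i') (j + j') = P i j * P i' j')
    (h1 : ∀ i j, P i j = 1 ↔ (2 : ℤ) ^ n ∣ i ∧ (2 : ℤ) ∣ j) (H : Subgroup G)
    (hH : ∀ g, g ∈ H ↔ ∃ i j, g = P i j) : Nat.card H = 2 ^ (n + 1) := by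
  have key := card_range ((Int.castAddHom (ZMod (2 ^ n))).prodMap (Int.castAddHom (ZMod 2)))
    ((intCast_surj _).prodMap (intCast_surj _))
    (fun x : ℤ × ℤ => P x.1 x.2) (fun x y => hP _ _ _ _) (fun x => by
      rw [h1]
      have e1 := ZMod.intCast_zmod_eq_zero_iff_dvd x.1 (2 ^ n)
      have e2 := ZMod.intCast_zmod_eq_zero_iff_dvd x.2 2
      push_cast at e1 e2
      simp [Prod.ext_iff, e1, e2]) H (fun g => by
      rw [hH]
      constructor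
      · rintro ⟨a, b, rfl⟩
        exact ⟨(a, b), rfl⟩
      · rintro ⟨x, rfl⟩
        exact ⟨_, _, rfl⟩)
  rw [key, Nat.card_prod, Nat.card_zmod, Nat.card_zmod, pow_succ]

/-- counting with a parameter modulo `2^n` -/
theorem card_one (P : ℤ → G) (hP : ∀ i i', P (i + i') = P i * P i')
    (h1 : ∀ i, P i = 1 ↔ (2 : ℤ) ^ n ∣ i) (H : Subgroup G)
    (hH : ∀ g, g ∈ H ↔ ∃ i, g = P i) : Nat.card H = 2 ^ n := by
  have key := card_range (Int.castAddHom (ZMod (2 ^ n))) (intCast_surj _) P hP (fun x => by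
      rw [h1]
      have e1 := ZMod.intCast_zmod_eq_zero_iff_dvd x (2 ^ n)
      push_cast at e1
      simp [e1]) H hH
  rw [key, Nat.card_zmod]

/-- the centraliser of `t W_i` in `T` -/
theorem mem_cenT (h : Rel n T τ x1 x2 x3 s) (i : Fin 8) {t : G} (ht : t ∈ T) (a b c : ℤ) :
    τ a b c ∈ T ⊓ Subgroup.centralizer {t * W x1 x2 x3 s i} ↔ tp τ (M i a b c) = τ a b c := by
  rw [Subgroup.mem_inf, Subgroup.mem_centralizer_singleton_iff]
  have e := conj_τ h i ht a b c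
  constructor
  · rintro ⟨-, e1⟩
    rw [← e]
    rw [mul_inv_eq_iff_eq_mul]
    exact e1.symm
  · intro e1
    refine ⟨mem_τ h _ _ _, ?_⟩
    rw [e1, mul_inv_eq_iff_eq_mul] at e
    exact e.symm

theorem mem_cenT' (h : Rel n T τ x1 x2 x3 s) (i : Fin 8) {t : G} (ht : t ∈ T) (g : G) :
    g ∈ T ⊓ Subgroup.centralizer {t * W x1 x2 x3 s i} ↔ ∃ a b c, g = τ a b c ∧ tp τ (M i a b c) = τ a b c := by
  constructor
  · intro hg
    obtain ⟨a, b, c, rfl⟩ := (h.mem g).1 (Subgroup.mem_inf.1 hg).1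
    exact ⟨a, b, c, rfl, (mem_cenT h i ht a b c).1 hg⟩
  · rintro ⟨a, b, c, rfl, e⟩
    exact (mem_cenT h i ht a b c).2 e


theorem card_cen (hn : 1 ≤ n) (h : Rel n T τ x1 x2 x3 s) (i : Fin 8)
    (hi : i = 1 ∨ i = 2 ∨ i = 3 ∨ i = 4 ∨ i = 7) {t : G} (ht : t ∈ T) :
    Nat.card (T ⊓ Subgroup.centralizer {t * W x1 x2 x3 s i} : Subgroup G) = 2 ^ (n + 1) := by
  have E := two_pow_eq hn
  rcases hi with rfl | rfl | rfl | rfl | rfl
  · refine card_two hn (fun i j => τ i i (-i + 2 ^ (n - 1) * j)) (fun i j i' j' => ?_) (fun i j => ?_) _ fun g => ?_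
    · rw [h.mul]; congr 1; ring
    · rw [h.one]
      constructor
      · rintro ⟨h1, -, h2⟩
        refine ⟨h1, (dvd_half_iff hn j).1 ?_⟩
        have := dvd_add h1 h2
        rwa [← add_assoc, add_neg_cancel, zero_add] at this
      · rintro ⟨h1, h2⟩
        exact ⟨h1, h1, dvd_add (dvd_neg.2 h1) ((dvd_half_iff hn j).2 h2)⟩
    · rw [mem_cenT' h _ ht]
      constructor
      · rintro ⟨a, b, c, rfl, e⟩
        change τ b a (-a - b - c) = τ a b c at e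
        rw [τ_eq h] at e
        obtain ⟨e1, -, e3⟩ := e
        have e4 : (2 : ℤ) ^ n ∣ 2 * (a + c) := by
          obtain ⟨k1, hk1⟩ := e1
          obtain ⟨k3, hk3⟩ := e3
          exact ⟨-k1 - k3, by linear_combination -hk1 - hk3⟩
        obtain ⟨k, hk⟩ := half_dvd hn e4
        refine ⟨a, k, ?_⟩
        rw [τ_eq h]
        refine ⟨by simp, e1, ⟨0, by linear_combination hk⟩⟩
      · rintro ⟨a, k, rfl⟩
        refine ⟨_, _, _, rfl, ?_⟩
        change τ a a (-a - a - (-a + 2 ^ (n - 1) * k)) = _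
        rw [τ_eq h]
        exact ⟨by simp, by simp, ⟨-k, by rw [E]; ring⟩⟩
  · refine card_two hn (fun i j => τ i (-i + 2 ^ (n - 1) * j) i) (fun i j i' j' => ?_) (fun i j => ?_) _ fun g => ?_
    · rw [h.mul]; congr 1; ring
    · rw [h.one]
      constructor
      · rintro ⟨h1, h2, -⟩
        refine ⟨h1, (dvd_half_iff hn j).1 ?_⟩
        have := dvd_add h1 h2
        rwa [← add_assoc, add_neg_cancel, zero_add] at this
      · rintro ⟨h1, h2⟩
        exact ⟨h1, dvd_add (dvd_neg.2 h1) ((dvd_half_iff hn j).2 h2), h1⟩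
    · rw [mem_cenT' h _ ht]
      constructor
      · rintro ⟨a, b, c, rfl, e⟩
        change τ c (-a - b - c) a = τ a b c at e
        rw [τ_eq h] at e
        obtain ⟨e1, e3, -⟩ := e
        have e4 : (2 : ℤ) ^ n ∣ 2 * (a + b) := by
          obtain ⟨k1, hk1⟩ := e1
          obtain ⟨k3, hk3⟩ := e3
          exact ⟨-k1 - k3, by linear_combination -hk1 - hk3⟩
        obtain ⟨k, hk⟩ := half_dvd hn e4
        refine ⟨a, k, ?_⟩
        rw [τ_eq h]
        refine ⟨by simp, ⟨0, by linear_combination hk⟩, e1⟩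
      · rintro ⟨a, k, rfl⟩
        refine ⟨_, _, _, rfl, ?_⟩
        change τ a (-a - (-a + 2 ^ (n - 1) * k) - a) a = _
        rw [τ_eq h]
        exact ⟨by simp, ⟨-k, by rw [E]; ring⟩, by simp⟩
  · refine card_two hn (fun i j => τ (-i + 2 ^ (n - 1) * j) i i) (fun i j i' j' => ?_) (fun i j => ?_) _ fun g => ?_
    · rw [h.mul]; congr 1; ring
    · rw [h.one]
      constructor
      · rintro ⟨h2, h1, -⟩
        refine ⟨h1, (dvd_half_iff hn j).1 ?_⟩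
        have := dvd_add h1 h2
        rwa [← add_assoc, add_neg_cancel, zero_add] at this
      · rintro ⟨h1, h2⟩
        exact ⟨dvd_add (dvd_neg.2 h1) ((dvd_half_iff hn j).2 h2), h1, h1⟩
    · rw [mem_cenT' h _ ht]
      constructor
      · rintro ⟨a, b, c, rfl, e⟩
        change τ (-a - b - c) c b = τ a b c at e
        rw [τ_eq h] at e
        obtain ⟨e3, e1, -⟩ := e
        have e4 : (2 : ℤ) ^ n ∣ 2 * (b + a) := by
          obtain ⟨k1, hk1⟩ := e1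
          obtain ⟨k3, hk3⟩ := e3
          exact ⟨-k1 - k3, by linear_combination -hk1 - hk3⟩
        obtain ⟨k, hk⟩ := half_dvd hn e4
        refine ⟨b, k, ?_⟩
        rw [τ_eq h]
        refine ⟨⟨0, by linear_combination hk⟩, by simp, e1⟩
      · rintro ⟨a, k, rfl⟩
        refine ⟨_, _, _, rfl, ?_⟩
        change τ (-(-a + 2 ^ (n - 1) * k) - a - a) a a = _
        rw [τ_eq h]
        exact ⟨⟨-k, by rw [E]; ring⟩, by simp, by simp⟩
  · refine card_two hn (fun i j => τ (2 ^ (n - 1) * j) i (-i)) (fun i j i' j' => ?_) (fun i j => ?_) _ fun g => ?_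
    · rw [h.mul]; congr 1 <;> ring
    · rw [h.one]
      constructor
      · rintro ⟨h2, h1, -⟩
        exact ⟨h1, (dvd_half_iff hn j).1 h2⟩
      · rintro ⟨h1, h2⟩
        exact ⟨(dvd_half_iff hn j).2 h2, h1, dvd_neg.2 h1⟩
    · rw [mem_cenT' h _ ht]
      constructor
      · rintro ⟨a, b, c, rfl, e⟩
        change τ (-a) (-c) (-b) = τ a b c at e
        rw [τ_eq h] at e
        obtain ⟨e3, e1, -⟩ := e
        have e4 : (2 : ℤ) ^ n ∣ 2 * a := by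
          obtain ⟨k3, hk3⟩ := e3
          exact ⟨-k3, by linear_combination -hk3⟩
        obtain ⟨k, hk⟩ := half_dvd hn e4
        refine ⟨b, k, ?_⟩
        rw [τ_eq h]
        obtain ⟨k1, hk1⟩ := e1
        refine ⟨⟨0, by linear_combination hk⟩, by simp, ⟨-k1, by linear_combination -hk1⟩⟩
      · rintro ⟨a, k, rfl⟩
        refine ⟨_, _, _, rfl, ?_⟩
        change τ (-(2 ^ (n - 1) * k)) (- -a) (-a) = _
        rw [τ_eq h]
        exact ⟨⟨-k, by rw [E]; ring⟩, by simp, by simp⟩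
  · refine card_two hn (fun i j => τ i (2 ^ (n - 1) * j) (-(2 ^ (n - 1) * j))) (fun i j i' j' => ?_) (fun i j => ?_)
      _ fun g => ?_
    · rw [h.mul]; congr 1 <;> ring
    · rw [h.one]
      constructor
      · rintro ⟨h1, h2, -⟩
        exact ⟨h1, (dvd_half_iff hn j).1 h2⟩
      · rintro ⟨h1, h2⟩
        exact ⟨h1, (dvd_half_iff hn j).2 h2, dvd_neg.2 ((dvd_half_iff hn j).2 h2)⟩
    · rw [mem_cenT' h _ ht]
      constructor
      · rintro ⟨a, b, c, rfl, e⟩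
        change τ (a + b + c) (-b) (-c) = τ a b c at e
        rw [τ_eq h] at e
        obtain ⟨e1, e3, -⟩ := e
        have e4 : (2 : ℤ) ^ n ∣ 2 * b := by
          obtain ⟨k3, hk3⟩ := e3
          exact ⟨-k3, by linear_combination -hk3⟩
        obtain ⟨k, hk⟩ := half_dvd hn e4
        refine ⟨a, k, ?_⟩
        rw [τ_eq h]
        obtain ⟨k1, hk1⟩ := e1
        refine ⟨by simp, ⟨0, by linear_combination hk⟩, ⟨k1, by linear_combination hk1 - hk⟩⟩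
      · rintro ⟨a, k, rfl⟩
        refine ⟨_, _, _, rfl, ?_⟩
        change τ (a + 2 ^ (n - 1) * k + -(2 ^ (n - 1) * k)) (-(2 ^ (n - 1) * k)) (- -(2 ^ (n - 1) * k)) = _
        rw [τ_eq h]
        exact ⟨by simp, ⟨-k, by rw [E]; ring⟩, ⟨k, by rw [E]; ring⟩⟩

theorem card_cen' (h : Rel n T τ x1 x2 x3 s) (i : Fin 8)
    (hi : i = 5 ∨ i = 6) {t : G} (ht : t ∈ T) :
    Nat.card (T ⊓ Subgroup.centralizer {t * W x1 x2 x3 s i} : Subgroup G) = 2 ^ n := by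
  have E : ∀ i : Fin 8, i = 5 ∨ i = 6 → Nat.card (T ⊓ Subgroup.centralizer {t * W x1 x2 x3 s i} : Subgroup G) = 2 ^ n := by
    rintro i (rfl | rfl)
    · refine card_one (fun i => τ i (-i) (-i)) (fun i i' => ?_) (fun i => ?_) _ fun g => ?_
      · rw [h.mul]; congr 1 <;> ring
      · rw [h.one]
        exact ⟨fun e => e.1, fun e => ⟨e, dvd_neg.2 e, dvd_neg.2 e⟩⟩
      · rw [mem_cenT' h _ ht]
        constructor
        · rintro ⟨a, b, c, rfl, e⟩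
          change τ (-c) (-a) (a + b + c) = τ a b c at e
          rw [τ_eq h] at e
          obtain ⟨⟨k1, hk1⟩, ⟨k2, hk2⟩, -⟩ := e
          refine ⟨a, ?_⟩
          rw [τ_eq h]
          exact ⟨by simp, ⟨-k2, by linear_combination -hk2⟩, ⟨-k1, by linear_combination -hk1⟩⟩
        · rintro ⟨a, rfl⟩
          refine ⟨_, _, _, rfl, ?_⟩
          change τ (- -a) (-a) (a + -a + -a) = _
          congr 1 <;> ring
    · refine card_one (fun i => τ i (-i) (-i)) (fun i i' => ?_) (fun i => ?_) _ fun g => ?_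
      · rw [h.mul]; congr 1 <;> ring
      · rw [h.one]
        exact ⟨fun e => e.1, fun e => ⟨e, dvd_neg.2 e, dvd_neg.2 e⟩⟩
      · rw [mem_cenT' h _ ht]
        constructor
        · rintro ⟨a, b, c, rfl, e⟩
          change τ (-b) (a + b + c) (-a) = τ a b c at e
          rw [τ_eq h] at e
          obtain ⟨⟨k1, hk1⟩, -, ⟨k2, hk2⟩⟩ := e
          refine ⟨a, ?_⟩
          rw [τ_eq h]
          exact ⟨by simp, ⟨-k1, by linear_combination -hk1⟩, ⟨-k2, by linear_combination -hk2⟩⟩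
        · rintro ⟨a, rfl⟩
          refine ⟨_, _, _, rfl, ?_⟩
          change τ (- -a) (a + -a + -a) (-a) = _
          congr 1 <;> ring
  exact E i hi

theorem card_cen_le (hn : 1 ≤ n) (h : Rel n T τ x1 x2 x3 s) (i : Fin 8) (hi : i ≠ 0) {t : G} (ht : t ∈ T) :
    Nat.card (T ⊓ Subgroup.centralizer {t * W x1 x2 x3 s i} : Subgroup G) ≤ 2 ^ (n + 1) := by
  by_cases h5 : i = 5 ∨ i = 6
  · rw [card_cen' h i h5 ht]
    exact Nat.pow_le_pow_right (by norm_num) (Nat.le_succ n)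
  · refine (card_cen hn h i ?_ ht).le
    revert hi h5
    fin_cases i <;> simp


theorem card_S (hn : 2 ≤ n) (h : RelS n T S τ x1 x2 x3 s) : Nat.card S = 8 ^ (n + 1) := by
  have e : Nat.card (T × Fin 8) = Nat.card S := by
    refine Nat.card_congr (Equiv.ofBijective
      (fun p : T × Fin 8 => (⟨(p.1 : G) * W x1 x2 x3 s p.2, (mem_S h _).2 ⟨_, p.1.2, _, rfl⟩⟩ : S)) ⟨?_, ?_⟩)
    · rintro ⟨⟨t, ht⟩, i⟩ ⟨⟨t', ht'⟩, j⟩ e
      have e' : t * W x1 x2 x3 s i = t' * W x1 x2 x3 s j := congrArg Subtype.val e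
      obtain rfl := W_uniq hn h.toRel ht ht' e'
      have := mul_right_cancel e'
      subst this
      rfl
    · rintro ⟨g, hg⟩
      obtain ⟨t, ht, i, rfl⟩ := (mem_S h g).1 hg
      exact ⟨(⟨t, ht⟩, i), rfl⟩
  rw [← e, Nat.card_prod, card_T h.toRel, Nat.card_eq_fintype_card, Fintype.card_fin, pow_succ]

theorem card_le_of_codes [Finite G] (h : RelS n T S τ x1 x2 x3 s) (H : Subgroup G) (hH : H ≤ S)
    (J : Finset (Fin 8)) (hJ : ∀ i, (∃ t ∈ T, t * W x1 x2 x3 s i ∈ H) → i ∈ J) :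
    Nat.card H ≤ Nat.card (T ⊓ H : Subgroup G) * J.card := by
  classical
  have hc : ∀ g : H, ∃ j : J, ∃ t ∈ T, (g : G) = t * W x1 x2 x3 s (j : Fin 8) := by
    intro g
    obtain ⟨t, ht, i, e⟩ := (mem_S h (g : G)).1 (hH g.2)
    exact ⟨⟨i, hJ i ⟨t, ht, e ▸ g.2⟩⟩, t, ht, e⟩
  choose c hc using hc
  have hr : ∀ j : J, ∃ r : G, (∃ g : H, c g = j) → r ∈ H ∧ ∃ t ∈ T, r = t * W x1 x2 x3 s (j : Fin 8) := by
    intro j
    by_cases hj : ∃ g : H, c g = j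
    · obtain ⟨g, rfl⟩ := hj
      exact ⟨g, fun _ => ⟨g.2, hc g⟩⟩
    · exact ⟨1, fun hj' => absurd hj' hj⟩
  choose r hr using hr
  have key : ∀ g : H, (g : G) * (r (c g))⁻¹ ∈ T ⊓ H := by
    intro g
    obtain ⟨h1, t', ht', e'⟩ := hr (c g) ⟨g, rfl⟩
    obtain ⟨t, ht, e⟩ := hc g
    refine Subgroup.mem_inf.2 ⟨?_, H.mul_mem g.2 (H.inv_mem h1)⟩
    have : (g : G) * (r (c g))⁻¹ = t * t'⁻¹ := by
      rw [e', e]
      group
    rw [this]
    exact T.mul_mem ht (T.inv_mem ht')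
  have hinj : Function.Injective (fun g : H => ((⟨_, key g⟩ : (T ⊓ H : Subgroup G)), c g)) := by
    intro g g' e
    obtain ⟨e1, e2⟩ := Prod.mk.inj e
    have e1' : (g : G) * (r (c g))⁻¹ = (g' : G) * (r (c g'))⁻¹ := congrArg Subtype.val e1
    rw [e2] at e1'
    exact Subtype.ext (mul_right_cancel e1')
  have := Nat.card_le_card_of_injective _ hinj
  rwa [Nat.card_prod, Nat.card_eq_fintype_card (α := J), Fintype.card_coe] at this

/-- action on triples -/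
abbrev M' (i : Fin 8) (x : ℤ × ℤ × ℤ) : ℤ × ℤ × ℤ := M i x.1 x.2.1 x.2.2

theorem act_comm (h : Rel n T τ x1 x2 x3 s) {i j : Fin 8} {t t' : G} (ht : t ∈ T) (ht' : t' ∈ T)
    (e : (t * W x1 x2 x3 s i) * (t' * W x1 x2 x3 s j) = (t' * W x1 x2 x3 s j) * (t * W x1 x2 x3 s i))
    (x : ℤ × ℤ × ℤ) : tp τ (M' i (M' j x)) = tp τ (M' j (M' i x)) := by
  have e1 : ∀ i j : Fin 8, ∀ t ∈ T, ∀ t' ∈ T, ((t * W x1 x2 x3 s i) * (t' * W x1 x2 x3 s j)) * tp τ x *
      ((t * W x1 x2 x3 s i) * (t' * W x1 x2 x3 s j))⁻¹ = tp τ (M' i (M' j x)) := by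
    intro i j t ht t' ht'
    have a1 := conj_τ h j ht' x.1 x.2.1 x.2.2
    have a2 := conj_τ h i ht (M' j x).1 (M' j x).2.1 (M' j x).2.2
    rw [← a2]
    change _ = t * W x1 x2 x3 s i * tp τ (M j x.1 x.2.1 x.2.2) * (t * W x1 x2 x3 s i)⁻¹
    rw [← a1]
    group
  rw [← e1 i j t ht t' ht', ← e1 j i t' ht' t ht, e]

theorem codes_aux (hn : 2 ≤ n) (h : Rel n T τ x1 x2 x3 s) {i j : Fin 8} {t t' : G} (ht : t ∈ T) (ht' : t' ∈ T)
    (e : (t * W x1 x2 x3 s i) * (t' * W x1 x2 x3 s j) = (t' * W x1 x2 x3 s j) * (t * W x1 x2 x3 s i)) :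
    (i = 1 ∨ i = 2 → j ∈ ({0, 1, 2, 3} : Finset (Fin 8))) ∧ (i = 4 ∨ i = 7 → j ∈ ({0, 3, 4, 7} : Finset (Fin 8))) ∧
      (i = 5 ∨ i = 6 → j ∈ ({0, 3, 5, 6} : Finset (Fin 8))) := by
  have e1 := act_comm h ht ht' e (1, 0, 0)
  have e2 := act_comm h ht ht' e (0, 1, 0)
  rw [tp, tp, τ_eq h] at e1 e2
  obtain ⟨p1, p2, p3⟩ := e1
  obtain ⟨r1, r2, r3⟩ := e2
  replace p1 := four_dvd hn p1
  replace p2 := four_dvd hn p2
  replace p3 := four_dvd hn p3
  replace r1 := four_dvd hn r1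
  replace r2 := four_dvd hn r2
  replace r3 := four_dvd hn r3
  clear e ht ht'
  refine ⟨?_, ?_, ?_⟩
  · rintro (rfl | rfl) <;> fin_cases j <;> first
      | decide
      | (exfalso
         simp [M, M'] at p1 p2 p3 r1 r2 r3
         try omega)
  · rintro (rfl | rfl) <;> fin_cases j <;> first
      | decide
      | (exfalso
         simp [M, M'] at p1 p2 p3 r1 r2 r3
         try omega)
  · rintro (rfl | rfl) <;> fin_cases j <;> first
      | decide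
      | (exfalso
         simp [M, M'] at p1 p2 p3 r1 r2 r3
         try omega)


theorem card_ge_of_codes [Finite G] (hn : 2 ≤ n) (h : RelS n T S τ x1 x2 x3 s) (H : Subgroup G)
    (J : Finset (Fin 8)) (hJ : ∀ i ∈ J, ∃ t ∈ T, t * W x1 x2 x3 s i ∈ H) :
    Nat.card (T ⊓ H : Subgroup G) * J.card ≤ Nat.card H := by
  classical
  have hr : ∀ j : J, ∃ r ∈ H, ∃ t ∈ T, r = t * W x1 x2 x3 s (j : Fin 8) := by
    rintro ⟨j, hj⟩
    obtain ⟨t, ht, hH⟩ := hJ j hj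
    exact ⟨_, hH, t, ht, rfl⟩
  choose r hrH hr using hr
  have hinj : Function.Injective (fun p : (T ⊓ H : Subgroup G) × J =>
      (⟨(p.1 : G) * r p.2, H.mul_mem (Subgroup.mem_inf.1 p.1.2).2 (hrH _)⟩ : H)) := by
    rintro ⟨⟨t, ht⟩, j⟩ ⟨⟨t', ht'⟩, j'⟩ e
    have e' : t * r j = t' * r j' := congrArg Subtype.val e
    obtain ⟨u, hu, hru⟩ := hr j
    obtain ⟨u', hu', hru'⟩ := hr j'
    have e2 : (t * u) * W x1 x2 x3 s (j : Fin 8) = (t' * u') * W x1 x2 x3 s (j' : Fin 8) := by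
      rw [mul_assoc, mul_assoc, ← hru, ← hru', e']
    have hj : (j : Fin 8) = j' := W_uniq hn h.toRel (T.mul_mem (Subgroup.mem_inf.1 ht).1 hu)
      (T.mul_mem (Subgroup.mem_inf.1 ht').1 hu') e2
    obtain rfl := Subtype.ext hj
    have := mul_right_cancel e'
    subst this
    rfl
  have := Nat.card_le_card_of_injective _ hinj
  rwa [Nat.card_prod, Nat.card_eq_fintype_card (α := J), Fintype.card_coe] at this

/-! ## Involutions -/

theorem sq_eq_one_iff (hn : 1 ≤ n) (h : Rel n T τ x1 x2 x3 s) (a b c : ℤ) :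
    τ a b c * τ a b c = 1 ↔ (2 : ℤ) ^ (n - 1) ∣ a ∧ (2 : ℤ) ^ (n - 1) ∣ b ∧ (2 : ℤ) ^ (n - 1) ∣ c := by
  rw [h.mul, h.one, ← two_mul, ← two_mul, ← two_mul, two_pow_eq hn]
  simp only [mul_dvd_mul_iff_left (two_ne_zero (α := ℤ))]

/-- the involutions of `T` -/
theorem invol_T (hn : 1 ≤ n) (h : Rel n T τ x1 x2 x3 s) (t : G) :
    (t ∈ T ∧ t * t = 1) ↔ ∃ i j k : ℤ, (i = 0 ∨ i = 1) ∧ (j = 0 ∨ j = 1) ∧ (k = 0 ∨ k = 1) ∧
      t = τ (2 ^ (n - 1) * i) (2 ^ (n - 1) * j) (2 ^ (n - 1) * k) := by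
  constructor
  · rintro ⟨ht, e⟩
    obtain ⟨a, b, c, rfl⟩ := (h.mem t).1 ht
    obtain ⟨⟨i, rfl⟩, ⟨j, rfl⟩, ⟨k, rfl⟩⟩ := (sq_eq_one_iff hn h a b c).1 e
    refine ⟨i % 2, j % 2, k % 2, by omega, by omega, by omega, ?_⟩
    rw [τ_eq h, ← mul_sub, ← mul_sub, ← mul_sub, dvd_half_iff hn, dvd_half_iff hn, dvd_half_iff hn]
    refine ⟨by omega, by omega, by omega⟩
  · rintro ⟨i, j, k, -, -, -, rfl⟩
    exact ⟨mem_τ h _ _ _, (sq_eq_one_iff hn h _ _ _).2 ⟨dvd_mul_right _ _, dvd_mul_right _ _, dvd_mul_right _ _⟩⟩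

theorem x21 (h : Rel n T τ x1 x2 x3 s) : x2 * x1 = x3 := by
  rw [← h.x23, ← mul_assoc, h.x2x2, one_mul]

theorem x13 (h : Rel n T τ x1 x2 x3 s) : x1 * x3 = x2 := by
  rw [← h.x12, ← mul_assoc, h.x1x1, one_mul]

theorem x32 (h : Rel n T τ x1 x2 x3 s) : x3 * x2 = x1 := by
  rw [← h.x12, mul_assoc, h.x2x2, mul_one]

theorem W55 (h : Rel n T τ x1 x2 x3 s) :
    W x1 x2 x3 s 5 * W x1 x2 x3 s 5 = tp τ (0, 1, 0) * W x1 x2 x3 s 3 := by
  change x1 * s * (x1 * s) = τ 0 1 0 * x3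
  calc x1 * s * (x1 * s) = x1 * (s * x1) * s := by group
    _ = x1 * (τ 1 0 (-1) * x2 * s) * s := by rw [h.sx1]
    _ = (x1 * τ 1 0 (-1)) * x2 * (s * s) := by group
    _ = τ 0 1 0 * x3 := by
      rw [h.ss, h.x1τ, mul_one, mul_assoc, h.x12]
      congr 2

theorem W66 (h : Rel n T τ x1 x2 x3 s) :
    W x1 x2 x3 s 6 * W x1 x2 x3 s 6 = tp τ (0, 0, 1) * W x1 x2 x3 s 3 := by
  change x2 * s * (x2 * s) = τ 0 0 1 * x3
  calc x2 * s * (x2 * s) = x2 * (s * x2) * s := by group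
    _ = x2 * (τ 1 (-1) 0 * x1 * s) * s := by rw [h.sx2]
    _ = (x2 * τ 1 (-1) 0) * x1 * (s * s) := by group
    _ = τ 0 0 1 * x3 := by
      rw [h.ss, h.x2τ, mul_one, mul_assoc, x21 h]
      congr 2

/-- the cosets of `x1 s` and `x2 s` contain no involution -/
theorem no_invol (hn : 2 ≤ n) (h : Rel n T τ x1 x2 x3 s) {i : Fin 8} (hi : i = 5 ∨ i = 6) {t : G} (ht : t ∈ T) :
    (t * W x1 x2 x3 s i) * (t * W x1 x2 x3 s i) ≠ 1 := by
  intro e
  obtain ⟨a, b, c, rfl⟩ := (h.mem t).1 ht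
  have e1 : (τ a b c * W x1 x2 x3 s i) * (τ a b c * W x1 x2 x3 s i) =
      (τ a b c * tp τ (M i a b c)) * (W x1 x2 x3 s i * W x1 x2 x3 s i) := by
    calc (τ a b c * W x1 x2 x3 s i) * (τ a b c * W x1 x2 x3 s i)
        = τ a b c * (W x1 x2 x3 s i * τ a b c) * W x1 x2 x3 s i := by group
      _ = _ := by rw [W_τ h]; group
  rw [e1] at e
  have hm := mem_τ h (M i a b c).1 (M i a b c).2.1 (M i a b c).2.2
  have e0 : (1 : G) = 1 * W x1 x2 x3 s 0 := by simp [W]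
  rcases hi with rfl | rfl
  · rw [W55 h, ← mul_assoc, e0] at e
    have := W_uniq hn h (T.mul_mem (T.mul_mem ht hm) (mem_τ h _ _ _)) T.one_mem e
    revert this
    decide
  · rw [W66 h, ← mul_assoc, e0] at e
    have := W_uniq hn h (T.mul_mem (T.mul_mem ht hm) (mem_τ h _ _ _)) T.one_mem e
    revert this
    decide

/-- the cocycle of `x3` -/
def cc : Fin 8 → ℤ × ℤ × ℤ :=
  ![(0, 0, 0), (0, 0, 0), (0, 0, 0), (0, 0, 0), (1, 0, 0), (0, 1, -1), (0, -1, 1), (-1, 0, 0)]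

theorem W_x3 (h : Rel n T τ x1 x2 x3 s) (i : Fin 8) :
    W x1 x2 x3 s i * x3 = tp τ (cc i) * (x3 * W x1 x2 x3 s i) := by
  have h0 := τ_zero h
  fin_cases i
  · change 1 * x3 = τ 0 0 0 * (x3 * 1)
    rw [h0]; group
  · change x1 * x3 = τ 0 0 0 * (x3 * x1)
    rw [h0, x13 h, h.x31, one_mul]
  · change x2 * x3 = τ 0 0 0 * (x3 * x2)
    rw [h0, x32 h, h.x23, one_mul]
  · change x3 * x3 = τ 0 0 0 * (x3 * x3)
    rw [h0, one_mul]
  · change s * x3 = τ 1 0 0 * (x3 * s)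
    rw [h.sx3, mul_assoc]
  · change x1 * s * x3 = τ 0 1 (-1) * (x3 * (x1 * s))
    rw [mul_assoc, h.sx3, ← mul_assoc, ← mul_assoc, h.x1τ, mul_assoc _ x1 x3, x13 h, ← mul_assoc x3, h.x31, mul_assoc]
    congr 2
  · change x2 * s * x3 = τ 0 (-1) 1 * (x3 * (x2 * s))
    rw [mul_assoc, h.sx3, ← mul_assoc, ← mul_assoc, h.x2τ, mul_assoc _ x2 x3, h.x23, ← mul_assoc x3, x32 h, mul_assoc]
    congr 2
  · change x3 * s * x3 = τ (-1) 0 0 * (x3 * (x3 * s))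
    rw [mul_assoc, h.sx3, ← mul_assoc, ← mul_assoc, h.x3τ, mul_assoc _ x3 x3, ← mul_assoc x3, mul_assoc]
    congr 2

/-- the parity argument: an involution `τ a b c * x3` commutes with no element of the cosets of `s, x1 s, x2 s, x3 s` -/
theorem not_comm_x3 (hn : 2 ≤ n) (h : Rel n T τ x1 x2 x3 s) {i : Fin 8} (hi : 4 ≤ (i : ℕ)) {t : G} (ht : t ∈ T)
    (a b c : ℤ) (hbc : (2 : ℤ) ∣ b + c) :
    (t * W x1 x2 x3 s i) * (τ a b c * x3) ≠ (τ a b c * x3) * (t * W x1 x2 x3 s i) := by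
  intro e
  obtain ⟨u, v, w, rfl⟩ := (h.mem t).1 ht
  have e1 : (τ u v w * W x1 x2 x3 s i) * (τ a b c * x3) =
      (τ u v w * tp τ (M i a b c) * tp τ (cc i)) * (x3 * W x1 x2 x3 s i) := by
    calc (τ u v w * W x1 x2 x3 s i) * (τ a b c * x3)
        = τ u v w * (W x1 x2 x3 s i * τ a b c) * x3 := by group
      _ = τ u v w * tp τ (M i a b c) * (W x1 x2 x3 s i * x3) := by rw [W_τ h]; group
      _ = _ := by rw [W_x3 h]; group
  have e2 : (τ a b c * x3) * (τ u v w * W x1 x2 x3 s i) =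
      (τ a b c * τ (-u - v - w) w v) * (x3 * W x1 x2 x3 s i) := by
    calc (τ a b c * x3) * (τ u v w * W x1 x2 x3 s i)
        = τ a b c * (x3 * τ u v w) * W x1 x2 x3 s i := by group
      _ = _ := by rw [h.x3τ]; group
  rw [e1, e2] at e
  replace e := mul_right_cancel e
  rw [tp, tp, h.mul, h.mul, h.mul, τ_eq h] at e
  obtain ⟨p1, p2, -⟩ := e
  replace p1 := four_dvd hn p1
  replace p2 := four_dvd hn p2
  clear e1 e2 ht
  fin_cases i
  · simp at hi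
  · simp at hi
  · simp at hi
  · simp at hi
  all_goals
    simp [M, cc] at p1 p2
    omega


/-! ## The centraliser `D` of `x3` in `S` -/

theorem W_comm_x3 (h : Rel n T τ x1 x2 x3 s) {i : Fin 8} (hi : (i : ℕ) < 4) :
    W x1 x2 x3 s i * x3 = x3 * W x1 x2 x3 s i := by
  have := W_x3 h i
  rw [this]
  have h0 : tp τ (cc i) = 1 := by
    rw [← τ_zero h]
    fin_cases i <;> simp_all [cc, tp]
  rw [h0, one_mul]

/-- (F2) -/
theorem mem_D (hn : 2 ≤ n) (h : RelS n T S τ x1 x2 x3 s) (g : G) :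
    (g ∈ S ∧ g * x3 = x3 * g) ↔ ∃ a b c w, (w = 1 ∨ w = x1 ∨ w = x2 ∨ w = x3) ∧ g = τ a b c * w ∧
      (2 : ℤ) ^ n ∣ 2 * a + b + c ∧ (2 : ℤ) ^ n ∣ b - c := by
  have hR := h.toRel
  constructor
  · rintro ⟨hg, e⟩
    obtain ⟨t, ht, i, rfl⟩ := (mem_S h g).1 hg
    by_cases hi : 4 ≤ (i : ℕ)
    · refine absurd ?_ (not_comm_x3 hn hR hi ht 0 0 0 (by simp))
      rw [τ_zero hR, one_mul]
      exact e
    push Not at hi
    have hw : W x1 x2 x3 s i = 1 ∨ W x1 x2 x3 s i = x1 ∨ W x1 x2 x3 s i = x2 ∨ W x1 x2 x3 s i = x3 := by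
      clear e hg
      fin_cases i <;> simp_all [W]
    obtain ⟨a, b, c, rfl⟩ := (hR.mem t).1 ht
    refine ⟨a, b, c, _, hw, rfl, ?_⟩
    have e1 : τ a b c * x3 = x3 * τ a b c := by
      rw [mul_assoc, W_comm_x3 hR hi, ← mul_assoc, ← mul_assoc] at e
      exact mul_right_cancel e
    rw [hR.x3τ] at e1
    have e2 := mul_right_cancel e1
    rw [τ_eq hR] at e2
    obtain ⟨⟨k1, hk1⟩, e3, -⟩ := e2
    exact ⟨⟨k1, by linear_combination hk1⟩, e3⟩
  · rintro ⟨a, b, c, w, hw, rfl, hd1, hd2⟩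
    have e1 : τ a b c * x3 = x3 * τ a b c := by
      rw [hR.x3τ]
      congr 1
      rw [τ_eq hR]
      obtain ⟨k1, hk1⟩ := hd1
      obtain ⟨k2, hk2⟩ := hd2
      exact ⟨⟨k1, by linear_combination hk1⟩, ⟨k2, hk2⟩, ⟨-k2, by linear_combination -hk2⟩⟩
    have e2 : w * x3 = x3 * w ∧ ∃ i, w = W x1 x2 x3 s i := by
      rcases hw with rfl | rfl | rfl | rfl
      · exact ⟨by group, 0, rfl⟩
      · exact ⟨W_comm_x3 hR (i := 1) (by decide), 1, rfl⟩
      · exact ⟨W_comm_x3 hR (i := 2) (by decide), 2, rfl⟩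
      · exact ⟨rfl, 3, rfl⟩
    obtain ⟨e2, i, rfl⟩ := e2
    refine ⟨(mem_S h _).2 ⟨_, mem_τ hR _ _ _, i, rfl⟩, ?_⟩
    rw [mul_assoc, e2, ← mul_assoc, e1, mul_assoc]

theorem inf_cen_eq (h : RelS n T S τ x1 x2 x3 s) (y : G) :
    T ⊓ (S ⊓ Subgroup.centralizer {y}) = T ⊓ Subgroup.centralizer {y} := by
  rw [← inf_assoc, inf_eq_left.2 (T_le_S h)]

theorem card_D [Finite G] (hn : 2 ≤ n) (h : RelS n T S τ x1 x2 x3 s) :
    Nat.card (S ⊓ Subgroup.centralizer {x3} : Subgroup G) = 2 ^ (n + 3) := by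
  have hR := h.toRel
  have hC : Nat.card (T ⊓ (S ⊓ Subgroup.centralizer {x3}) : Subgroup G) = 2 ^ (n + 1) := by
    rw [inf_cen_eq h]
    have := card_cen (by omega) hR 3 (by simp) T.one_mem
    rw [one_mul] at this
    exact this
  have hJ : (({0, 1, 2, 3} : Finset (Fin 8))).card = 4 := by decide
  refine le_antisymm ?_ ?_
  · refine (card_le_of_codes h _ inf_le_left {0, 1, 2, 3} ?_).trans (by rw [hC, hJ]; exact (by ring_nf; rfl))
    rintro i ⟨t, ht, hi⟩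
    by_contra hne
    have h4 : 4 ≤ (i : ℕ) := by
      clear hi
      revert hne
      fin_cases i <;> simp
    refine not_comm_x3 hn hR h4 ht 0 0 0 (by simp) ?_
    rw [τ_zero hR, one_mul]
    exact Subgroup.mem_centralizer_singleton_iff.1 (Subgroup.mem_inf.1 hi).2 
  · refine le_trans (by rw [hC, hJ]; exact (by ring_nf; rfl)) (card_ge_of_codes hn h _ {0, 1, 2, 3} ?_)
    intro i hi
    refine ⟨1, T.one_mem, ?_⟩
    rw [one_mul]
    refine Subgroup.mem_inf.2 ⟨W_mem_S h i, Subgroup.mem_centralizer_singleton_iff.2 ?_⟩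
    refine W_comm_x3 hR ?_
    revert hi
    fin_cases i <;> simp

/-- (F3) -/
theorem card_cen_invol [Finite G] (hn : 2 ≤ n) (h : RelS n T S τ x1 x2 x3 s) {y : G} (hy : y ∈ S) (hyT : y ∉ T)
    (hyy : y * y = 1) : Nat.card (S ⊓ Subgroup.centralizer {y} : Subgroup G) ≤ 2 ^ (n + 3) := by
  have hR := h.toRel
  obtain ⟨t, ht, i, rfl⟩ := (mem_S h y).1 hy
  have hi0 : i ≠ 0 := by
    rintro rfl
    exact hyT (by simpa [W] using ht)
  have hi56 : ¬(i = 5 ∨ i = 6) := fun hi => no_invol hn hR hi ht hyy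
  have hC : Nat.card (T ⊓ (S ⊓ Subgroup.centralizer {t * W x1 x2 x3 s i}) : Subgroup G) ≤ 2 ^ (n + 1) := by
    rw [inf_cen_eq h]
    exact card_cen_le (by omega) hR i hi0 ht
  have main : ∀ J : Finset (Fin 8), J.card = 4 →
      (∀ j, (∃ u ∈ T, u * W x1 x2 x3 s j ∈ S ⊓ Subgroup.centralizer {t * W x1 x2 x3 s i}) → j ∈ J) →
      Nat.card (S ⊓ Subgroup.centralizer {t * W x1 x2 x3 s i} : Subgroup G) ≤ 2 ^ (n + 3) := by
    intro J hJ hJ'
    refine (card_le_of_codes h _ inf_le_left J hJ').trans ?_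
    rw [hJ]
    refine (Nat.mul_le_mul_right 4 hC).trans ?_
    exact (by ring_nf; rfl)
  have hcomm : ∀ j, ∀ u ∈ T, u * W x1 x2 x3 s j ∈ S ⊓ Subgroup.centralizer {t * W x1 x2 x3 s i} →
      (t * W x1 x2 x3 s i) * (u * W x1 x2 x3 s j) = (u * W x1 x2 x3 s j) * (t * W x1 x2 x3 s i) := by
    intro j u _ hu
    exact (Subgroup.mem_centralizer_singleton_iff.1 (Subgroup.mem_inf.1 hu).2).symm
  by_cases hi3 : i = 3
  · subst hi3
    refine main {0, 1, 2, 3} (by decide) ?_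
    rintro j ⟨u, hu, hj⟩
    by_contra hne
    have h4 : 4 ≤ (j : ℕ) := by
      clear hj
      revert hne
      fin_cases j <;> simp
    obtain ⟨a, b, c, rfl⟩ := (hR.mem t).1 ht
    have hsq : (2 : ℤ) ^ n ∣ b + c := by
      have e1 : τ a b c * W x1 x2 x3 s 3 * (τ a b c * W x1 x2 x3 s 3) = τ (-b - c) (b + c) (b + c) := by
        change τ a b c * x3 * (τ a b c * x3) = _
        calc τ a b c * x3 * (τ a b c * x3) = τ a b c * (x3 * τ a b c) * x3 := by group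
          _ = τ a b c * τ (-a - b - c) c b * (x3 * x3) := by rw [hR.x3τ]; group
          _ = _ := by
            rw [hR.x3x3, mul_one, hR.mul]
            congr 1 <;> ring
      rw [e1, hR.one] at hyy
      exact hyy.2.1
    have h2 : (2 : ℤ) ∣ b + c := dvd_trans (dvd_pow_self 2 (by omega)) hsq
    exact not_comm_x3 hn hR h4 hu a b c h2 (hcomm j u hu hj).symm
  · by_cases hi12 : i = 1 ∨ i = 2
    · refine main {0, 1, 2, 3} (by decide) ?_
      rintro j ⟨u, hu, hj⟩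
      exact (codes_aux hn hR ht hu (hcomm j u hu hj)).1 hi12
    · refine main {0, 3, 4, 7} (by decide) ?_
      rintro j ⟨u, hu, hj⟩
      refine (codes_aux hn hR ht hu (hcomm j u hu hj)).2.1 ?_
      clear hj hcomm main hC hyy hyT hy
      revert hi0 hi3 hi12 hi56
      fin_cases i <;> simp

/-- (F4): `T` is the only commutative subgroup of its order in `S` -/
theorem eq_T_of_comm [Finite G] (hn : 2 ≤ n) (h : RelS n T S τ x1 x2 x3 s) {X : Subgroup G} (hX : X ≤ S)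
    (hc : ∀ a ∈ X, ∀ b ∈ X, a * b = b * a) (hcard : Nat.card X = 8 ^ n) : X = T := by
  have hR := h.toRel
  have hle : X ≤ T := by
    by_contra hXT
    obtain ⟨g, hgX, hgT⟩ := SetLike.not_le_iff_exists.1 hXT
    have hsmall : ∀ g ∈ X, g ∉ T → Nat.card (T ⊓ X : Subgroup G) ≤ 2 ^ (n + 1) := by
      intro g hgX hgT
      obtain ⟨t, ht, i, rfl⟩ := (mem_S h g).1 (hX hgX)
      have hi0 : i ≠ 0 := by
        rintro rfl
        exact hgT (by simpa [W] using ht)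
      refine le_trans ?_ (card_cen_le (by omega) hR i hi0 ht)
      refine Nat.card_mono (Set.toFinite _) ?_
      intro u hu
      refine Subgroup.mem_inf.2 ⟨(Subgroup.mem_inf.1 hu).1, Subgroup.mem_centralizer_singleton_iff.2 ?_⟩
      exact hc _ (Subgroup.mem_inf.1 hu).2 _ hgX
    have hX4 : ∃ J : Finset (Fin 8), J.card ≤ 4 ∧ ∀ j, (∃ u ∈ T, u * W x1 x2 x3 s j ∈ X) → j ∈ J := by
      by_cases hj : ∃ j, (∃ u ∈ T, u * W x1 x2 x3 s j ∈ X) ∧ j ≠ 0 ∧ j ≠ 3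
      · obtain ⟨i, ⟨t, ht, hti⟩, hi0, hi3⟩ := hj
        by_cases h12 : i = 1 ∨ i = 2
        · refine ⟨{0, 1, 2, 3}, by decide, ?_⟩
          rintro j ⟨u, hu, hj⟩
          exact (codes_aux hn hR ht hu (hc _ hti _ hj)).1 h12
        · by_cases h47 : i = 4 ∨ i = 7
          · refine ⟨{0, 3, 4, 7}, by decide, ?_⟩
            rintro j ⟨u, hu, hj⟩
            exact (codes_aux hn hR ht hu (hc _ hti _ hj)).2.1 h47
          · refine ⟨{0, 3, 5, 6}, by decide, ?_⟩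
            rintro j ⟨u, hu, hj⟩
            refine (codes_aux hn hR ht hu (hc _ hti _ hj)).2.2 ?_
            clear hj hti
            revert hi0 hi3 h12 h47
            fin_cases i <;> simp
      · refine ⟨{0, 3}, by decide, ?_⟩
        intro j hj'
        by_contra hne
        refine hj ⟨j, hj', ?_, ?_⟩
        · rintro rfl
          exact hne (by decide)
        · rintro rfl
          exact hne (by decide)
    obtain ⟨J, hJ4, hJ⟩ := hX4
    have h1 := card_le_of_codes h X hX J hJ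
    have h2 : 8 ^ n ≤ 2 ^ (n + 1) * 4 := by
      rw [← hcard]
      exact h1.trans (Nat.mul_le_mul (hsmall g hgX hgT) hJ4)
    have h3 : (8 : ℕ) ^ n = 2 ^ (3 * n) := by rw [show (8 : ℕ) = 2 ^ 3 from rfl, ← pow_mul]
    have h4 : (2 : ℕ) ^ (n + 1) * 4 = 2 ^ (n + 3) := by ring
    rw [h3, h4] at h2
    have := (Nat.pow_le_pow_iff_right (by norm_num : 1 < 2)).1 h2
    omega
  refine Subgroup.eq_of_le_of_card_ge hle ?_
  rw [hcard, card_T hR]


/-! ## The derived subgroup of `D` -/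

theorem mem_D' (hn : 2 ≤ n) (h : RelS n T S τ x1 x2 x3 s) (g : G) :
    g ∈ S ⊓ Subgroup.centralizer {x3} ↔ ∃ a b c w, (w = 1 ∨ w = x1 ∨ w = x2 ∨ w = x3) ∧ g = τ a b c * w ∧
      (2 : ℤ) ^ n ∣ 2 * a + b + c ∧ (2 : ℤ) ^ n ∣ b - c := by
  rw [← mem_D hn h, Subgroup.mem_inf, Subgroup.mem_centralizer_singleton_iff]

/-- `⟨c⟩`, `c = τ 1 (-1) (-1)`: `τ a b c ∈ ⟨c ^ 2⟩`. -/
theorem mem_zpowers_iff (h : Rel n T τ x1 x2 x3 s) (g : G) :
    g ∈ Subgroup.zpowers (τ 1 (-1) (-1) ^ 2) ↔ ∃ k : ℤ, g = τ (2 * k) (-(2 * k)) (-(2 * k)) := by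
  rw [Subgroup.mem_zpowers_iff]
  constructor
  · rintro ⟨k, rfl⟩
    refine ⟨k, ?_⟩
    rw [τ_pow h, τ_zpow h]
    congr 1 <;> push_cast <;> ring
  · rintro ⟨k, rfl⟩
    refine ⟨k, ?_⟩
    rw [τ_pow h, τ_zpow h]
    congr 1 <;> push_cast <;> ring

theorem V_comm (h : Rel n T τ x1 x2 x3 s) {w w' : G} (hw : w = 1 ∨ w = x1 ∨ w = x2 ∨ w = x3)
    (hw' : w' = 1 ∨ w' = x1 ∨ w' = x2 ∨ w' = x3) : w * w' = w' * w := by
  rcases hw with rfl | rfl | rfl | rfl <;> rcases hw' with rfl | rfl | rfl | rfl <;>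
    simp [h.x12, h.x23, h.x31, x13 h, x21 h, x32 h]

theorem V_inv (h : Rel n T τ x1 x2 x3 s) {w : G} (hw : w = 1 ∨ w = x1 ∨ w = x2 ∨ w = x3) : w⁻¹ = w := by
  rw [inv_eq_iff_mul_eq_one]
  rcases hw with rfl | rfl | rfl | rfl
  exacts [one_mul 1, h.x1x1, h.x2x2, h.x3x3]

theorem V_commutator (hn : 2 ≤ n) (h : Rel n T τ x1 x2 x3 s) {w : G} (hw : w = 1 ∨ w = x1 ∨ w = x2 ∨ w = x3)
    {a b c : ℤ} (h1 : (2 : ℤ) ^ n ∣ 2 * a + b + c) (h2 : (2 : ℤ) ^ n ∣ b - c) :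
    w * τ a b c * w⁻¹ * (τ a b c)⁻¹ ∈ Subgroup.zpowers (τ 1 (-1) (-1) ^ 2) := by
  rw [mem_zpowers_iff h]
  have h4 : (4 : ℤ) ∣ 2 ^ n := by simpa using pow_dvd_pow (2 : ℤ) hn
  obtain ⟨k1, hk1⟩ := h1
  obtain ⟨k2, hk2⟩ := h2
  obtain ⟨m, hm⟩ := h4
  have hb : b - a = 2 * (m * (k1 + k2) - a) := by
    have : 2 * b = 2 * (2 * m * (k1 + k2) - a) := by linear_combination hk1 + hk2 + (k1 + k2) * hm
    linarith
  have he : ∀ g : G, w * τ a b c = g * w → w * τ a b c * w⁻¹ * (τ a b c)⁻¹ = g * (τ a b c)⁻¹ := by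
    intro g e
    rw [e, mul_inv_cancel_right]
  rcases hw with rfl | rfl | rfl | rfl
  · refine ⟨0, ?_⟩
    have : (1 : G) * τ a b c * 1⁻¹ * (τ a b c)⁻¹ = 1 := by group
    rw [this]
    simpa using (τ_zero h).symm
  · refine ⟨m * (k1 + k2) - a, ?_⟩
    rw [he _ (h.x1τ a b c), τ_inv h, h.mul, τ_eq h]
    exact ⟨⟨0, by linear_combination hb⟩, ⟨0, by linear_combination -hb⟩,
      ⟨k2 - k1, by linear_combination -hb - hk1 + hk2⟩⟩
  · refine ⟨m * (k1 + k2) - a, ?_⟩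
    rw [he _ (h.x2τ a b c), τ_inv h, h.mul, τ_eq h]
    exact ⟨⟨-k2, by linear_combination hb - hk2⟩, ⟨-k1, by linear_combination -hb - hk1⟩,
      ⟨k2, by linear_combination -hb + hk2⟩⟩
  · refine ⟨0, ?_⟩
    rw [he _ (h.x3τ a b c), τ_inv h, h.mul, τ_eq h]
    exact ⟨⟨-k1, by linear_combination -hk1⟩, ⟨-k2, by linear_combination -hk2⟩, ⟨k2, by linear_combination hk2⟩⟩

/-- (F5) the derived subgroup of `D` -/
theorem commutator_D (hn : 2 ≤ n) (h : RelS n T S τ x1 x2 x3 s) :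
    ⁅S ⊓ Subgroup.centralizer {x3}, S ⊓ Subgroup.centralizer {x3}⁆ = Subgroup.zpowers (τ 1 (-1) (-1) ^ 2) := by
  have hR := h.toRel
  apply le_antisymm
  · rw [Subgroup.commutator_le]
    intro g1 hg1 g2 hg2
    obtain ⟨a, b, c, w, hw, rfl, h1, h2⟩ := (mem_D' hn h g1).1 hg1
    obtain ⟨a', b', c', w', hw', rfl, h1', h2'⟩ := (mem_D' hn h g2).1 hg2
    have e1 := V_commutator hn hR hw h1' h2'
    have e2 := V_commutator hn hR hw' h1 h2
    have hmem : ∀ (v : G), (v = 1 ∨ v = x1 ∨ v = x2 ∨ v = x3) → ∀ p q r, v * τ p q r * v⁻¹ ∈ T := by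
      intro v hv p q r
      have : ∃ i, v = W x1 x2 x3 s i := by
        rcases hv with rfl | rfl | rfl | rfl
        exacts [⟨0, rfl⟩, ⟨1, rfl⟩, ⟨2, rfl⟩, ⟨3, rfl⟩]
      obtain ⟨i, rfl⟩ := this
      have := conj_τ hR i T.one_mem p q r
      rw [one_mul] at this
      rw [this]
      exact mem_τ hR _ _ _
    have key : ⁅τ a b c * w, τ a' b' c' * w'⁆ =
        (w * τ a' b' c' * w⁻¹ * (τ a' b' c')⁻¹) * (w' * τ a b c * w'⁻¹ * (τ a b c)⁻¹)⁻¹ := by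
      have c1 := V_comm hR hw hw'
      have m1 := hmem w hw a' b' c'
      have m2 := hmem w' hw' a b c
      have t1 := mem_τ hR a b c
      have t2 := mem_τ hR a' b' c'
      generalize τ a b c = t at *
      generalize τ a' b' c' = t' at *
      have cT := comm_T hR
      have d1 : w⁻¹ * w'⁻¹ = w'⁻¹ * w⁻¹ := by
        rw [← mul_inv_rev, ← mul_inv_rev, c1]
      calc ⁅t * w, t' * w'⁆ = t * (w * t' * w⁻¹) * (w * w' * w⁻¹ * t⁻¹ * w'⁻¹) * t'⁻¹ := by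
            rw [commutatorElement_def]; group
        _ = t * (w * t' * w⁻¹) * (w' * t * w'⁻¹)⁻¹ * t'⁻¹ := by
            rw [c1]; group
        _ = (w * t' * w⁻¹ * t) * (w' * t * w'⁻¹)⁻¹ * t'⁻¹ := by rw [cT t t1 _ m1]
        _ = w * t' * w⁻¹ * (t * (w' * t * w'⁻¹)⁻¹) * t'⁻¹ := by group
        _ = w * t' * w⁻¹ * (t'⁻¹ * (t * (w' * t * w'⁻¹)⁻¹)) := by
            rw [mul_assoc, cT _ (T.mul_mem t1 (T.inv_mem m2)) _ (T.inv_mem t2)]
        _ = _ := by group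
    rw [key]
    exact Subgroup.mul_mem _ e1 (Subgroup.inv_mem _ e2)
  · rw [Subgroup.zpowers_le]
    have hc : τ 1 (-1) (-1) ∈ S ⊓ Subgroup.centralizer {x3} :=
      (mem_D' hn h _).2 ⟨1, -1, -1, 1, Or.inl rfl, by rw [mul_one], by simp, by simp⟩
    have hx : x1 ∈ S ⊓ Subgroup.centralizer {x3} :=
      (mem_D' hn h _).2 ⟨0, 0, 0, x1, Or.inr (Or.inl rfl), by rw [τ_zero hR, one_mul], by simp, by simp⟩
    have := Subgroup.commutator_mem_commutator hc hx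
    have e : ⁅τ 1 (-1) (-1), x1⁆ = τ 1 (-1) (-1) ^ 2 := by
      rw [commutatorElement_def, τ_inv hR, mul_assoc (τ 1 (-1) (-1)) x1, hR.x1τ, pow_two, ← mul_assoc,
        mul_inv_cancel_right]
      congr 2
    rwa [e] at this

theorem z_mem (hn : 2 ≤ n) (h : Rel n T τ x1 x2 x3 s) :
    τ (2 ^ (n - 1)) (2 ^ (n - 1)) (2 ^ (n - 1)) ∈ Subgroup.zpowers (τ 1 (-1) (-1) ^ 2) := by
  rw [mem_zpowers_iff h]
  have E := two_pow_eq (n := n) (by omega)
  have E' := two_pow_eq (n := n - 1) (by omega)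
  refine ⟨2 ^ (n - 1 - 1), ?_⟩
  rw [τ_eq h]
  exact ⟨⟨0, by linear_combination E'⟩, ⟨1, by linear_combination -E - E'⟩,
    ⟨1, by linear_combination -E - E'⟩⟩

/-- `z` is the only involution of `⟨c ^ 2⟩` -/
theorem eq_z_of_sq (hn : 2 ≤ n) (h : Rel n T τ x1 x2 x3 s) {g : G}
    (hg : g ∈ Subgroup.zpowers (τ 1 (-1) (-1) ^ 2)) (hgg : g * g = 1) (hg1 : g ≠ 1) :
    g = τ (2 ^ (n - 1)) (2 ^ (n - 1)) (2 ^ (n - 1)) := by
  obtain ⟨k, rfl⟩ := (mem_zpowers_iff h g).1 hg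
  rw [sq_eq_one_iff (by omega) h] at hgg
  obtain ⟨m, hm⟩ := hgg.1
  have hm2 : ¬ (2 : ℤ) ∣ m := by
    intro hd
    refine hg1 ((h.one _ _ _).2 ?_)
    have : (2 : ℤ) ^ n ∣ 2 * k := by
      rw [hm]
      exact (dvd_half_iff (by omega) m).2 hd
    exact ⟨this, dvd_neg.2 this, dvd_neg.2 this⟩
  obtain ⟨j, rfl⟩ : ∃ j, m = 2 * j + 1 := ⟨m / 2, by omega⟩
  have E := two_pow_eq (n := n) (by omega)
  rw [τ_eq h]
  exact ⟨⟨j, by linear_combination hm - j * E⟩, ⟨-j - 1, by linear_combination -hm + (j + 1) * E⟩,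
    ⟨-j - 1, by linear_combination -hm + (j + 1) * E⟩⟩

theorem z_ne_one (hn : 1 ≤ n) (h : Rel n T τ x1 x2 x3 s) :
    τ (2 ^ (n - 1)) (2 ^ (n - 1)) (2 ^ (n - 1)) ≠ 1 := by
  intro e
  have := ((h.one _ _ _).1 e).1
  have h2 := (dvd_half_iff hn 1).1 (by simpa using this)
  omega

theorem z_sq (hn : 1 ≤ n) (h : Rel n T τ x1 x2 x3 s) :
    τ (2 ^ (n - 1)) (2 ^ (n - 1)) (2 ^ (n - 1)) * τ (2 ^ (n - 1)) (2 ^ (n - 1)) (2 ^ (n - 1)) = 1 :=
  (sq_eq_one_iff hn h _ _ _).2 ⟨dvd_rfl, dvd_rfl, dvd_rfl⟩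

/-- `z = v ^ 2`, `v = τ e' e' e'`, `e' = 2 ^ (n - 2)` -/
theorem v_sq (hn : 2 ≤ n) (h : Rel n T τ x1 x2 x3 s) :
    τ (2 ^ (n - 2)) (2 ^ (n - 2)) (2 ^ (n - 2)) * τ (2 ^ (n - 2)) (2 ^ (n - 2)) (2 ^ (n - 2)) =
      τ (2 ^ (n - 1)) (2 ^ (n - 1)) (2 ^ (n - 1)) := by
  have E' : (2 : ℤ) ^ (n - 1) = 2 * 2 ^ (n - 2) := by
    have := two_pow_eq (n := n - 1) (by omega)
    rwa [show n - 1 - 1 = n - 2 by omega] at this
  rw [h.mul, E', two_mul]

/-- every element which normalises `D = C_S(x3)` commutes with `z` -/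
theorem comm_z_of_normalizes (hn : 2 ≤ n) (h : RelS n T S τ x1 x2 x3 s) {g : G}
    (hg : g ∈ Subgroup.normalizer ((S ⊓ Subgroup.centralizer {x3} : Subgroup G) : Set G)) :
    g * τ (2 ^ (n - 1)) (2 ^ (n - 1)) (2 ^ (n - 1)) = τ (2 ^ (n - 1)) (2 ^ (n - 1)) (2 ^ (n - 1)) * g := by
  have hR := h.toRel
  set D : Subgroup G := S ⊓ Subgroup.centralizer {x3} with hD
  set z := τ (2 ^ (n - 1)) (2 ^ (n - 1)) (2 ^ (n - 1)) with hz
  have hmap : D.map (MulAut.conj g).toMonoidHom = D := by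
    ext y
    rw [Subgroup.mem_map]
    constructor
    · rintro ⟨d, hd, rfl⟩
      exact (Subgroup.mem_normalizer_iff.1 hg d).1 hd
    · intro hy
      refine ⟨g⁻¹ * y * g, ?_, ?_⟩
      · have := (Subgroup.mem_normalizer_iff.1 (inv_mem hg) y).1 hy
        simpa using this
      · simp [mul_assoc]
  have hmap2 : (⁅D, D⁆ : Subgroup G).map (MulAut.conj g).toMonoidHom = ⁅D, D⁆ := by
    rw [Subgroup.map_commutator, hmap]
  have hz1 : z ∈ (⁅D, D⁆ : Subgroup G) := by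
    rw [commutator_D hn h]
    exact z_mem hn hR
  have hz2 : g * z * g⁻¹ ∈ Subgroup.zpowers (τ 1 (-1) (-1) ^ 2) := by
    rw [← commutator_D hn h, ← hmap2]
    exact ⟨z, hz1, rfl⟩
  have e := eq_z_of_sq hn hR hz2 (by
    have := z_sq (n := n) (by omega) hR
    rw [← hz] at this
    calc g * z * g⁻¹ * (g * z * g⁻¹) = g * (z * z) * g⁻¹ := by group
      _ = 1 := by rw [this]; group) (by
    intro e1
    refine z_ne_one (n := n) (by omega) hR ?_
    rw [← hz]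
    have : z = g⁻¹ * (g * z * g⁻¹) * g := by group
    rw [this, e1]
    group)
  rw [← hz] at e
  exact (mul_inv_eq_iff_eq_mul.1 e)

end Cfsg.Agent.ONType.Facts
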