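import Cfsg.Agent.ONType.Sit
import Cfsg.Agent.ONType.Facts

/-!
# O'Nan type groups: control of fusion by `N_G(T)`

(WT) `weakly`, `weakly'`; (TC) `control`; (AZ) `exists_dec`; (INV) `exists_conj_x3`; (TR) `trans`.
-/

set_option autoImplicit false
set_option linter.dupNamespace false

open scoped Pointwise

namespace Cfsg.Agent.ONType.Control

open Subgroup
open Cfsg.Agent.ONType.Rel Cfsg.Agent.ONType.Span Cfsg.Agent.ONType.Sit Cfsg.Agent.ONType.Facts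

/-- the elements of order two of `T` -/
def el {G : Type*} (n : ℕ) (τ : ℤ → ℤ → ℤ → G) (i j k : ℤ) : G :=
  τ (2 ^ (n - 1) * i) (2 ^ (n - 1) * j) (2 ^ (n - 1) * k)

theorem el_111 {G : Type*} (n : ℕ) (τ : ℤ → ℤ → ℤ → G) :
    el n τ 1 1 1 = τ (2 ^ (n - 1)) (2 ^ (n - 1)) (2 ^ (n - 1)) := by
  unfold el; rw [mul_one]

theorem el_100 {G : Type*} (n : ℕ) (τ : ℤ → ℤ → ℤ → G) : el n τ 1 0 0 = τ (2 ^ (n - 1)) 0 0 := by
  unfold el; rw [mul_one, mul_zero]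

theorem M_0 (a b c : ℤ) : M 0 a b c = (a, b, c) := rfl
theorem M_1 (a b c : ℤ) : M 1 a b c = (b, a, -a - b - c) := rfl
theorem M_2 (a b c : ℤ) : M 2 a b c = (c, -a - b - c, a) := rfl
theorem M_3 (a b c : ℤ) : M 3 a b c = (-a - b - c, c, b) := rfl
theorem M_4 (a b c : ℤ) : M 4 a b c = (-a, -c, -b) := rfl
theorem M_7 (a b c : ℤ) : M 7 a b c = (a + b + c, -b, -c) := rfl

section RelLemmas

variable {G : Type*} [Group G] {n : ℕ} {T : Subgroup G} {τ : ℤ → ℤ → ℤ → G} {x1 x2 x3 s : G}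

variable (R : Rel n T τ x1 x2 x3 s)
include R

theorem el_mem (i j k : ℤ) : el n τ i j k ∈ T := mem_τ R _ _ _

theorem el_mul (i j k i' j' k' : ℤ) : el n τ i j k * el n τ i' j' k' = el n τ (i + i') (j + j') (k + k') := by
  unfold el; rw [R.mul, ← mul_add, ← mul_add, ← mul_add]

/-- only the parities matter -/
theorem el_eq (hn : 1 ≤ n) {i j k i' j' k' : ℤ} : el n τ i j k = el n τ i' j' k' ↔
    (2 : ℤ) ∣ i - i' ∧ (2 : ℤ) ∣ j - j' ∧ (2 : ℤ) ∣ k - k' := by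
  have hp : (2 : ℤ) ^ n = 2 ^ (n - 1) * 2 := by rw [← pow_succ, Nat.sub_add_cancel hn]
  have key : ∀ i i' : ℤ, (2 : ℤ) ^ n ∣ 2 ^ (n - 1) * i - 2 ^ (n - 1) * i' ↔ (2 : ℤ) ∣ i - i' := by
    intro i i'
    rw [← mul_sub, hp]
    exact mul_dvd_mul_iff_left (by positivity)
  unfold el
  rw [τ_eq R, key, key, key]

theorem el_000 : el n τ 0 0 0 = 1 := by
  unfold el; rw [mul_zero]; exact τ_zero R

theorem el_one (hn : 1 ≤ n) {i j k : ℤ} : el n τ i j k = 1 ↔ (2 : ℤ) ∣ i ∧ (2 : ℤ) ∣ j ∧ (2 : ℤ) ∣ k := by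
  rw [← el_000 R, el_eq R hn, sub_zero, sub_zero, sub_zero]

theorem el_sq (hn : 1 ≤ n) (i j k : ℤ) : el n τ i j k * el n τ i j k = 1 := by
  rw [el_mul R, el_one R hn]
  exact ⟨⟨i, by ring⟩, ⟨j, by ring⟩, ⟨k, by ring⟩⟩

theorem exists_el (hn : 1 ≤ n) {t : G} (ht : t ∈ T) (h2 : t * t = 1) :
    ∃ i j k : ℤ, (i = 0 ∨ i = 1) ∧ (j = 0 ∨ j = 1) ∧ (k = 0 ∨ k = 1) ∧ t = el n τ i j k :=
  (invol_T hn R t).1 ⟨ht, h2⟩

theorem indep (hn : 1 ≤ n) {i j k i' j' k' i'' j'' k'' : ℤ}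
    (h1 : ¬ ((2 : ℤ) ∣ i ∧ (2 : ℤ) ∣ j ∧ (2 : ℤ) ∣ k)) (h2 : ¬ ((2 : ℤ) ∣ i' ∧ (2 : ℤ) ∣ j' ∧ (2 : ℤ) ∣ k'))
    (h3 : ¬ ((2 : ℤ) ∣ i' - i ∧ (2 : ℤ) ∣ j' - j ∧ (2 : ℤ) ∣ k' - k))
    (h4 : ¬ ((2 : ℤ) ∣ i'' ∧ (2 : ℤ) ∣ j'' ∧ (2 : ℤ) ∣ k''))
    (h5 : ¬ ((2 : ℤ) ∣ i'' - i ∧ (2 : ℤ) ∣ j'' - j ∧ (2 : ℤ) ∣ k'' - k))
    (h6 : ¬ ((2 : ℤ) ∣ i'' - i' ∧ (2 : ℤ) ∣ j'' - j' ∧ (2 : ℤ) ∣ k'' - k'))
    (h7 : ¬ ((2 : ℤ) ∣ i'' - (i + i') ∧ (2 : ℤ) ∣ j'' - (j + j') ∧ (2 : ℤ) ∣ k'' - (k + k'))) :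
    Indep (el n τ i j k) (el n τ i' j' k') (el n τ i'' j'' k'') := by
  refine ⟨?_, ?_, ?_, ?_, ?_, ?_, ?_⟩
  · rw [Ne, el_one R hn]; exact h1
  · rw [Ne, el_one R hn]; exact h2
  · rw [Ne, el_eq R hn]; exact h3
  · rw [Ne, el_one R hn]; exact h4
  · rw [Ne, el_eq R hn]; exact h5
  · rw [Ne, el_eq R hn]; exact h6
  · rw [el_mul R, Ne, el_eq R hn]; exact h7

/-- the action of `S` on the elements of order two -/
theorem W_el (i : Fin 8) {t : G} (ht : t ∈ T) (a b c : ℤ) :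
    (t * W x1 x2 x3 s i) * el n τ a b c * (t * W x1 x2 x3 s i)⁻¹ =
      el n τ (M i a b c).1 (M i a b c).2.1 (M i a b c).2.2 := by
  unfold el
  rw [conj_τ R i ht]
  fin_cases i <;> simp [M, tp] <;> ring_nf

/-- An element commuting with `el 1 0 0`, `el 0 1 0`, `el 0 0 1` centralises `Ω₁(T)`. -/
theorem comm_om (hn : 1 ≤ n) {g : G} (h1 : g * el n τ 1 0 0 = el n τ 1 0 0 * g)
    (h2 : g * el n τ 0 1 0 = el n τ 0 1 0 * g) (h3 : g * el n τ 0 0 1 = el n τ 0 0 1 * g) :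
    ∀ t ∈ T, t * t = 1 → g * t = t * g := by
  intro t ht htt
  obtain ⟨i, j, k, hi, hj, hk, rfl⟩ := exists_el R hn ht htt
  have e1 : Commute g (el n τ i 0 0) := by
    rcases hi with rfl | rfl
    · rw [el_000 R]; exact Commute.one_right g
    · exact h1
  have e2 : Commute g (el n τ 0 j 0) := by
    rcases hj with rfl | rfl
    · rw [el_000 R]; exact Commute.one_right g
    · exact h2
  have e3 : Commute g (el n τ 0 0 k) := by
    rcases hk with rfl | rfl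
    · rw [el_000 R]; exact Commute.one_right g
    · exact h3
  have e4 : el n τ i j k = el n τ i 0 0 * el n τ 0 j 0 * el n τ 0 0 k := by
    rw [el_mul R, el_mul R]; simp
  rw [e4]
  exact ((e1.mul_right e2).mul_right e3).eq

end RelLemmas

variable {G : Type*} [Group G] [Finite G] {n : ℕ} {S : Sylow 2 G} {T O : Subgroup G} {τ : ℤ → ℤ → ℤ → G}
  {x1 x2 x3 s ξ : G} (h : Sit n S T O τ x1 x2 x3 s ξ)

include h

/-- `T` is weakly closed in `S`. -/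
theorem weakly {g : G} (hg : ∀ y ∈ T, g * y * g⁻¹ ∈ (S : Subgroup G)) :
    g ∈ normalizer (T : Set G) := by
  have R := h.rel.toRel
  have hX : T.map (MulAut.conj g).toMonoidHom = T := by
    apply eq_T_of_comm h.hn h.rel
    · rintro _ ⟨y, hy, rfl⟩
      exact hg y hy
    · rintro _ ⟨y, hy, rfl⟩ _ ⟨z, hz, rfl⟩
      rw [← map_mul, comm_T R y hy z hz, map_mul]
    · rw [card_map_of_injective (MulAut.conj g).injective, card_T R]
  rw [mem_normalizer_iff]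
  intro y
  constructor
  · intro hy
    rw [← hX]
    exact ⟨y, hy, rfl⟩
  · intro hy
    rw [← hX] at hy
    obtain ⟨y', hy', he⟩ := hy
    have : y = y' := by
      have he' : g * y' * g⁻¹ = g * y * g⁻¹ := he
      exact (mul_left_cancel (mul_right_cancel he')).symm
    rwa [this]

/-- If a 2-subgroup contains `T` and `T^g` then `g` normalises `T`. -/
theorem weakly' {P : Subgroup G} (hP : IsPGroup 2 P) (hTP : T ≤ P) {g : G}
    (hg : ∀ y ∈ T, g * y * g⁻¹ ∈ P) : g ∈ normalizer (T : Set G) := by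
  obtain ⟨Q, hQ⟩ := hP.exists_le_sylow
  obtain ⟨k, hk⟩ := MulAction.exists_smul_eq G Q S
  have hkQ : ∀ q ∈ Q, k * q * k⁻¹ ∈ (S : Subgroup G) := by
    intro q hq
    rw [← hk, Sylow.coe_subgroup_smul]
    exact Subgroup.smul_mem_pointwise_smul _ (MulAut.conj k) _ hq
  have h1 : k ∈ normalizer (T : Set G) := weakly h (fun y hy => hkQ _ (hQ (hTP hy)))
  have h2 : k * g ∈ normalizer (T : Set G) := by
    apply weakly h
    intro y hy
    have := hkQ _ (hQ (hg y hy))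
    rwa [show k * (g * y * g⁻¹) * k⁻¹ = k * g * y * (k * g)⁻¹ by group] at this
  have := mul_mem (inv_mem h1) h2
  rwa [inv_mul_cancel_left] at this

/-- Fusion in `T` is controlled by `N_G(T)`. -/
theorem control (X : Set G) (hX : ∀ x ∈ X, x ∈ T) {g : G}
    (hg : ∀ x ∈ X, g * x * g⁻¹ ∈ T) : ∃ m ∈ normalizer (T : Set G), ∀ x ∈ X, m * x * m⁻¹ = g * x * g⁻¹ := by
  have R := h.rel.toRel
  let C : Subgroup G := centralizer ((fun x => g * x * g⁻¹) '' X)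
  have hT2 : IsPGroup 2 T := S.2.to_le (T_le_S h.rel)
  have hTC : T ≤ C := by
    intro t ht
    rw [mem_centralizer_iff]
    rintro _ ⟨x, hx, rfl⟩
    exact comm_T R _ (hg x hx) _ ht
  have hTgC : T.map (MulAut.conj g).toMonoidHom ≤ C := by
    rintro _ ⟨t, ht, rfl⟩
    rw [mem_centralizer_iff]
    rintro _ ⟨x, hx, rfl⟩
    change g * x * g⁻¹ * (g * t * g⁻¹) = g * t * g⁻¹ * (g * x * g⁻¹)
    calc g * x * g⁻¹ * (g * t * g⁻¹) = g * (x * t) * g⁻¹ := by group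
      _ = g * (t * x) * g⁻¹ := by rw [comm_T R _ (hX x hx) _ ht]
      _ = g * t * g⁻¹ * (g * x * g⁻¹) := by group
  obtain ⟨P1, hP1⟩ := (hT2.comap_of_injective C.subtype C.subtype_injective).exists_le_sylow
  obtain ⟨P2, hP2⟩ := ((hT2.map (MulAut.conj g).toMonoidHom).comap_of_injective C.subtype
    C.subtype_injective).exists_le_sylow
  obtain ⟨c, hc⟩ := MulAction.exists_smul_eq C P2 P1
  have hm : (c : G) * g ∈ normalizer (T : Set G) := by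
    apply weakly' h (P1.2.map C.subtype)
    · intro t ht
      exact ⟨⟨t, hTC ht⟩, hP1 (mem_comap.mpr ht), rfl⟩
    · intro t ht
      have h1 : (⟨g * t * g⁻¹, hTgC ⟨t, ht, rfl⟩⟩ : C) ∈ P2 := hP2 (mem_comap.mpr ⟨t, ht, rfl⟩)
      have h2 : c * ⟨g * t * g⁻¹, hTgC ⟨t, ht, rfl⟩⟩ * c⁻¹ ∈ P1 := by
        rw [← hc]
        change _ ∈ ((c • P2 : Sylow 2 C) : Subgroup C)
        rw [Sylow.coe_subgroup_smul]
        exact Subgroup.smul_mem_pointwise_smul _ (MulAut.conj c) _ h1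
      refine ⟨_, h2, ?_⟩
      change (c : G) * (g * t * g⁻¹) * (c : G)⁻¹ = _
      group
  refine ⟨(c : G) * g, hm, ?_⟩
  intro x hx
  have h3 := (mem_centralizer_iff.mp c.2) _ ⟨x, hx, rfl⟩
  have h3' : g * x * g⁻¹ * (c : G) = (c : G) * (g * x * g⁻¹) := h3
  calc (c : G) * g * x * ((c : G) * g)⁻¹ = (c : G) * (g * x * g⁻¹) * (c : G)⁻¹ := by group
    _ = g * x * g⁻¹ := by rw [← h3', mul_inv_cancel_right]

omit [Finite G]

omit h in
theorem conj_mem {k t : G} (hk : k ∈ normalizer (T : Set G)) (ht : t ∈ T) : k * t * k⁻¹ ∈ T :=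
  (mem_normalizer_iff.mp hk t).mp ht

omit h in
theorem conj_mem' {k t : G} (hk : k ∈ normalizer (T : Set G)) (ht : t ∈ T) : k⁻¹ * t * k ∈ T := by
  have := (mem_normalizer_iff.mp (inv_mem hk) t).mp ht
  rwa [inv_inv] at this

theorem ξ_mem : ξ ∈ normalizer (T : Set G) := by
  have R := h.rel.toRel
  have key : ∀ y ∈ T, ξ * y * ξ⁻¹ ∈ T := by
    intro y hy
    obtain ⟨a, b, c, rfl⟩ := (R.mem _).1 hy
    rw [h.ξτ, mul_inv_cancel_right]
    exact mem_τ R _ _ _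
  rw [mem_normalizer_iff]
  intro y
  refine ⟨key y, fun hy => ?_⟩
  obtain ⟨a, b, c, hc⟩ := (R.mem _).1 hy
  have h1 : ξ * τ a c (-a - b - c) = τ a b c * ξ := by
    rw [h.ξτ]
    congr 2; ring
  have : y = τ a c (-a - b - c) := by
    have h2 : ξ * y = τ a b c * ξ := by rw [← hc]; group
    rw [← h1] at h2
    exact mul_left_cancel h2
  rw [this]
  exact mem_τ R _ _ _

theorem ξ_el (a b c : ℤ) : ξ * el n τ a b c * ξ⁻¹ = el n τ a (-a - b - c) b := by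
  unfold el
  rw [h.ξτ, mul_inv_cancel_right]
  congr 1; ring

theorem O_le_normalizer : O ≤ normalizer (T : Set G) := by
  intro o ho
  rw [mem_normalizer_iff]
  intro y
  constructor
  · intro hy
    rw [h.O_le o ho y hy, mul_inv_cancel_right]; exact hy
  · intro hy
    have h1 := h.O_le o ho _ hy
    have : y = o * y * o⁻¹ := by
      have h2 : o * (o * y * o⁻¹) = (o * y * o⁻¹) * o := h1
      have h3 : o * y * o⁻¹ * o = o * y := by group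
      rw [h3] at h2
      exact (mul_left_cancel h2).symm
    rw [this]; exact hy

theorem el_ne (hn : 1 ≤ n) {i j k i' j' k' : ℤ} (hne : ¬ ((2 : ℤ) ∣ i - i' ∧ (2 : ℤ) ∣ j - j' ∧ (2 : ℤ) ∣ k - k')) :
    el n τ i j k ≠ el n τ i' j' k' := fun h0 => hne ((el_eq h.rel.toRel hn).1 h0)

theorem el_congr (hn : 1 ≤ n) {i j k : ℤ} (i' j' k' : ℤ) (he : (2 : ℤ) ∣ i - i' ∧ (2 : ℤ) ∣ j - j' ∧ (2 : ℤ) ∣ k - k') :
    el n τ i j k = el n τ i' j' k' := (el_eq h.rel.toRel hn).2 he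

theorem W_mem_normalizer (i : Fin 8) : W x1 x2 x3 s i ∈ normalizer (T : Set G) :=
  S_le_normalizer h.rel (W_mem_S h.rel i)

theorem W_el' (i : Fin 8) (a b c : ℤ) :
    W x1 x2 x3 s i * el n τ a b c * (W x1 x2 x3 s i)⁻¹ =
      el n τ (M i a b c).1 (M i a b c).2.1 (M i a b c).2.2 := by
  have := W_el h.rel.toRel i (one_mem T) a b c
  rwa [one_mul] at this

theorem O_conj {k o : G} (hk : k ∈ normalizer (T : Set G)) (ho : o ∈ O) : k * o * k⁻¹ ∈ O :=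
  (mem_normalizer_iff.mp (h.O_norm hk) o).mp ho

theorem dec_one {k : G} (hk : k ∈ normalizer (T : Set G)) (hkz : k * el n τ 1 1 1 * k⁻¹ = el n τ 1 1 1)
    (hk1 : k * el n τ 1 0 0 * k⁻¹ = el n τ 1 0 0) : ∃ o ∈ O, ∃ g ∈ (S : Subgroup G), k = o * g := by
  have R := h.rel.toRel
  have hn1 : 1 ≤ n := by have := h.hn; omega
  obtain ⟨i, j, l, hi, hj, hl, he⟩ := exists_el R hn1 (conj_mem hk (el_mem R 1 1 0)) (by
    calc k * el n τ 1 1 0 * k⁻¹ * (k * el n τ 1 1 0 * k⁻¹) = k * (el n τ 1 1 0 * el n τ 1 1 0) * k⁻¹ := by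
          group
      _ = 1 := by rw [el_sq R hn1]; group)
  have hinj : ∀ u v : G, k * u * k⁻¹ = k * v * k⁻¹ → u = v := fun u v huv =>
    mul_left_cancel (mul_right_cancel huv)
  have h011 : k * el n τ 0 1 1 * k⁻¹ = el n τ 0 1 1 := by
    have e : el n τ 0 1 1 = el n τ 1 1 1 * el n τ 1 0 0 := by
      rw [el_mul R]; exact el_congr h hn1 _ _ _ (by norm_num)
    calc k * el n τ 0 1 1 * k⁻¹ = (k * el n τ 1 1 1 * k⁻¹) * (k * el n τ 1 0 0 * k⁻¹) := by rw [e]; group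
      _ = el n τ 0 1 1 := by rw [hkz, hk1, ← e]
  -- the element `r`
  obtain ⟨w, hw1, hw2, hw3⟩ : ∃ w : Fin 8,
      (W x1 x2 x3 s w * el n τ 1 1 1 * (W x1 x2 x3 s w)⁻¹ = el n τ 1 1 1) ∧
      (W x1 x2 x3 s w * el n τ 1 0 0 * (W x1 x2 x3 s w)⁻¹ = el n τ 1 0 0) ∧
      (W x1 x2 x3 s w * el n τ 1 1 0 * (W x1 x2 x3 s w)⁻¹ = k * el n τ 1 1 0 * k⁻¹) := by
    have hbad : ∀ u, k * u * k⁻¹ = u → u ≠ el n τ 1 1 0 → k * el n τ 1 1 0 * k⁻¹ ≠ u := by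
      intro u hu hne h0
      apply hne
      apply hinj
      rw [hu, h0]
    have key : ∀ w : Fin 8, ∀ a b c a' b' c' : ℤ, ((2 : ℤ) ∣ (M w a b c).1 - a' ∧ (2 : ℤ) ∣ (M w a b c).2.1 - b' ∧
        (2 : ℤ) ∣ (M w a b c).2.2 - c') →
        W x1 x2 x3 s w * el n τ a b c * (W x1 x2 x3 s w)⁻¹ = el n τ a' b' c' := by
      intro w a b c a' b' c' hd
      rw [W_el' h w]
      exact el_congr h hn1 _ _ _ hd
    rw [he]
    rcases hi with rfl | rfl <;> rcases hj with rfl | rfl <;> rcases hl with rfl | rfl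
    · exact absurd (he.trans (el_000 R)) (hbad 1 (by group) (by
        rw [← el_000 R]; exact el_ne h hn1 (by norm_num)))
    · exact ⟨3, key _ _ _ _ _ _ _ (by norm_num [M_0, M_1, M_3, M_4, M_7]), key _ _ _ _ _ _ _ (by norm_num [M_0, M_1, M_3, M_4, M_7]),
        key _ _ _ _ _ _ _ (by norm_num [M_0, M_1, M_3, M_4, M_7])⟩
    · exact ⟨7, key _ _ _ _ _ _ _ (by norm_num [M_0, M_1, M_3, M_4, M_7]), key _ _ _ _ _ _ _ (by norm_num [M_0, M_1, M_3, M_4, M_7]),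
        key _ _ _ _ _ _ _ (by norm_num [M_0, M_1, M_3, M_4, M_7])⟩
    · exact absurd he (hbad _ h011 (el_ne h hn1 (by norm_num)))
    · exact absurd he (hbad _ hk1 (el_ne h hn1 (by norm_num)))
    · exact ⟨4, key _ _ _ _ _ _ _ (by norm_num [M_0, M_1, M_3, M_4, M_7]), key _ _ _ _ _ _ _ (by norm_num [M_0, M_1, M_3, M_4, M_7]),
        key _ _ _ _ _ _ _ (by norm_num [M_0, M_1, M_3, M_4, M_7])⟩
    · exact ⟨0, key _ _ _ _ _ _ _ (by norm_num [M_0, M_1, M_3, M_4, M_7]), key _ _ _ _ _ _ _ (by norm_num [M_0, M_1, M_3, M_4, M_7]),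
        key _ _ _ _ _ _ _ (by norm_num [M_0, M_1, M_3, M_4, M_7])⟩
    · exact absurd he (hbad _ hkz (el_ne h hn1 (by norm_num)))
  set r := W x1 x2 x3 s w with hr
  have hrN : r ∈ normalizer (T : Set G) := W_mem_normalizer h w
  have hcomm : ∀ u, r * u * r⁻¹ = k * u * k⁻¹ → (r⁻¹ * k) * u = u * (r⁻¹ * k) := by
    intro u hu
    calc r⁻¹ * k * u = r⁻¹ * (k * u * k⁻¹) * k := by group
      _ = u * (r⁻¹ * k) := by rw [← hu]; group
  have c1 := hcomm _ (hw1.trans hkz.symm)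
  have c2 := hcomm _ (hw2.trans hk1.symm)
  have c3 := hcomm _ hw3
  obtain ⟨t, ht, o, ho, hto⟩ := h.faith (r⁻¹ * k) (mul_mem (inv_mem hrN) hk) (by
    apply comm_om R hn1 c2
    · have e : el n τ 0 1 0 = el n τ 1 0 0 * el n τ 1 1 0 := by
        rw [el_mul R]; exact el_congr h hn1 _ _ _ (by norm_num)
      rw [e]
      exact ((show Commute (r⁻¹ * k) _ from c2).mul_right c3).eq
    · have e : el n τ 0 0 1 = el n τ 1 1 1 * el n τ 1 1 0 := by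
        rw [el_mul R]; exact el_congr h hn1 _ _ _ (by norm_num)
      rw [e]
      exact ((show Commute (r⁻¹ * k) _ from c1).mul_right c3).eq)
  have hrt : r * t ∈ (S : Subgroup G) := mul_mem (W_mem_S h.rel w) (T_le_S h.rel ht)
  refine ⟨(r * t) * o * (r * t)⁻¹, O_conj h (S_le_normalizer h.rel hrt) ho, r * t, hrt, ?_⟩
  calc k = r * (r⁻¹ * k) := by group
    _ = r * (t * o) := by rw [hto]
    _ = _ := by group

theorem dec_two {k : G} (hk : k ∈ normalizer (T : Set G)) (hkz : k * el n τ 1 1 1 * k⁻¹ = el n τ 1 1 1)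
    (hk1 : k⁻¹ * el n τ 1 0 0 * k = el n τ 1 0 0 ∨ k⁻¹ * el n τ 1 0 0 * k = el n τ 0 1 1) :
    ∃ o ∈ O, ∃ g ∈ (S : Subgroup G), k = o * g := by
  have R := h.rel.toRel
  have hn1 : 1 ≤ n := by have := h.hn; omega
  rcases hk1 with hk1 | hk1
  · apply dec_one h hk hkz
    nth_rewrite 1 [← hk1]; group
  · have e1 : k * el n τ 0 1 1 * k⁻¹ = el n τ 1 0 0 := by rw [← hk1]; group
    have e : el n τ 1 0 0 = el n τ 1 1 1 * el n τ 0 1 1 := by
      rw [el_mul R]; exact el_congr h hn1 _ _ _ (by norm_num)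
    have e' : el n τ 0 1 1 = el n τ 1 1 1 * el n τ 1 0 0 := by
      rw [el_mul R]; exact el_congr h hn1 _ _ _ (by norm_num)
    have e2 : k * el n τ 1 0 0 * k⁻¹ = el n τ 0 1 1 := by
      calc k * el n τ 1 0 0 * k⁻¹ = (k * el n τ 1 1 1 * k⁻¹) * (k * el n τ 0 1 1 * k⁻¹) := by rw [e]; group
        _ = _ := by rw [hkz, e1, ← e']
    have hW := W_el' h (1 : Fin 8) 0 1 1
    have hWz := W_el' h (1 : Fin 8) 1 1 1
    have hW1 : W x1 x2 x3 s 1 * el n τ 0 1 1 * (W x1 x2 x3 s 1)⁻¹ = el n τ 1 0 0 := by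
      rw [hW]; exact el_congr h hn1 _ _ _ (by norm_num [M_0, M_1, M_3, M_4, M_7])
    have hWz1 : W x1 x2 x3 s 1 * el n τ 1 1 1 * (W x1 x2 x3 s 1)⁻¹ = el n τ 1 1 1 := by
      rw [hWz]; exact el_congr h hn1 _ _ _ (by norm_num [M_0, M_1, M_3, M_4, M_7])
    set r := W x1 x2 x3 s 1
    have hrN : r ∈ normalizer (T : Set G) := W_mem_normalizer h 1
    obtain ⟨o, ho, g, hg, hog⟩ := dec_one h (mul_mem hrN hk) (by
      calc r * k * el n τ 1 1 1 * (r * k)⁻¹ = r * (k * el n τ 1 1 1 * k⁻¹) * r⁻¹ := by group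
        _ = _ := by rw [hkz, hWz1]) (by
      calc r * k * el n τ 1 0 0 * (r * k)⁻¹ = r * (k * el n τ 1 0 0 * k⁻¹) * r⁻¹ := by group
        _ = _ := by rw [e2, hW1])
    have hr' : r⁻¹ ∈ normalizer (T : Set G) := inv_mem hrN
    refine ⟨r⁻¹ * o * r⁻¹⁻¹, O_conj h hr' ho, r⁻¹ * g, mul_mem (inv_mem (W_mem_S h.rel 1)) hg, ?_⟩
    calc k = r⁻¹ * (r * k) := by group
      _ = r⁻¹ * (o * g) := by rw [hog]
      _ = _ := by group

/-- (AZ) -/
theorem exists_dec {k : G} (hk : k ∈ normalizer (T : Set G))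
    (hkz : k * τ (2 ^ (n - 1)) (2 ^ (n - 1)) (2 ^ (n - 1)) = τ (2 ^ (n - 1)) (2 ^ (n - 1)) (2 ^ (n - 1)) * k) :
    ∃ o ∈ O, ∃ g ∈ (S : Subgroup G), ∃ i : ℕ, i < 3 ∧ k = o * g * ξ ^ i := by
  have R := h.rel.toRel
  have hn1 : 1 ≤ n := by have := h.hn; omega
  rw [← el_111 n τ] at hkz
  have hkz' : k * el n τ 1 1 1 * k⁻¹ = el n τ 1 1 1 := by rw [hkz, mul_inv_cancel_right]
  have hξ := ξ_mem h
  have hξz : ξ⁻¹ * el n τ 1 1 1 * ξ⁻¹⁻¹ = el n τ 1 1 1 := by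
    have h1 : ξ * el n τ 1 1 1 * ξ⁻¹ = el n τ 1 1 1 := by
      rw [ξ_el h]; exact el_congr h hn1 _ _ _ (by norm_num)
    nth_rewrite 1 [← h1]; group
  obtain ⟨i, j, l, hi, hj, hl, he⟩ := exists_el R hn1 (conj_mem' hk (el_mem R 1 0 0)) (by
    calc k⁻¹ * el n τ 1 0 0 * k * (k⁻¹ * el n τ 1 0 0 * k) = k⁻¹ * (el n τ 1 0 0 * el n τ 1 0 0) * k := by
          group
      _ = 1 := by rw [el_sq R hn1]; group)
  have he' : el n τ 1 0 0 = k * el n τ i j l * k⁻¹ := by rw [← he]; group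
  -- apply `dec_two` to `k ξ⁻¹`
  have step : ∀ k : G, k ∈ normalizer (T : Set G) → k * el n τ 1 1 1 * k⁻¹ = el n τ 1 1 1 →
      k * ξ⁻¹ ∈ normalizer (T : Set G) ∧ k * ξ⁻¹ * el n τ 1 1 1 * (k * ξ⁻¹)⁻¹ = el n τ 1 1 1 := by
    intro k hk hkz
    refine ⟨mul_mem hk (inv_mem hξ), ?_⟩
    calc k * ξ⁻¹ * el n τ 1 1 1 * (k * ξ⁻¹)⁻¹ = k * (ξ⁻¹ * el n τ 1 1 1 * ξ⁻¹⁻¹) * k⁻¹ := by group
      _ = _ := by rw [hξz, hkz]
  have e1 : (k * ξ⁻¹)⁻¹ * el n τ 1 0 0 * (k * ξ⁻¹) = el n τ i (-i - j - l) j := by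
    calc (k * ξ⁻¹)⁻¹ * el n τ 1 0 0 * (k * ξ⁻¹) = ξ * (k⁻¹ * el n τ 1 0 0 * k) * ξ⁻¹ := by group
      _ = _ := by rw [he, ξ_el h]
  have e2 : (k * ξ⁻¹ * ξ⁻¹)⁻¹ * el n τ 1 0 0 * (k * ξ⁻¹ * ξ⁻¹) = el n τ i l (-i - j - l) := by
    calc (k * ξ⁻¹ * ξ⁻¹)⁻¹ * el n τ 1 0 0 * (k * ξ⁻¹ * ξ⁻¹) =
          ξ * ((k * ξ⁻¹)⁻¹ * el n τ 1 0 0 * (k * ξ⁻¹)) * ξ⁻¹ := by simp only [mul_inv_rev, inv_inv, mul_assoc]
      _ = _ := by rw [e1, ξ_el h]; congr 1; ring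
  have fin0 : (k⁻¹ * el n τ 1 0 0 * k = el n τ 1 0 0 ∨ k⁻¹ * el n τ 1 0 0 * k = el n τ 0 1 1) →
      ∃ o ∈ O, ∃ g ∈ (S : Subgroup G), ∃ i : ℕ, i < 3 ∧ k = o * g * ξ ^ i := by
    intro hh
    obtain ⟨o, ho, g, hg, hog⟩ := dec_two h hk hkz' hh
    exact ⟨o, ho, g, hg, 0, by norm_num, by rw [pow_zero, mul_one, hog]⟩
  have fin1 : ((k * ξ⁻¹)⁻¹ * el n τ 1 0 0 * (k * ξ⁻¹) = el n τ 1 0 0 ∨
      (k * ξ⁻¹)⁻¹ * el n τ 1 0 0 * (k * ξ⁻¹) = el n τ 0 1 1) →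
      ∃ o ∈ O, ∃ g ∈ (S : Subgroup G), ∃ i : ℕ, i < 3 ∧ k = o * g * ξ ^ i := by
    intro hh
    obtain ⟨hN, hz⟩ := step k hk hkz'
    obtain ⟨o, ho, g, hg, hog⟩ := dec_two h hN hz hh
    exact ⟨o, ho, g, hg, 1, by norm_num, by rw [pow_one, ← hog]; group⟩
  have fin2 : ((k * ξ⁻¹ * ξ⁻¹)⁻¹ * el n τ 1 0 0 * (k * ξ⁻¹ * ξ⁻¹) = el n τ 1 0 0 ∨
      (k * ξ⁻¹ * ξ⁻¹)⁻¹ * el n τ 1 0 0 * (k * ξ⁻¹ * ξ⁻¹) = el n τ 0 1 1) →
      ∃ o ∈ O, ∃ g ∈ (S : Subgroup G), ∃ i : ℕ, i < 3 ∧ k = o * g * ξ ^ i := by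
    intro hh
    obtain ⟨hN, hz⟩ := step k hk hkz'
    obtain ⟨hN, hz⟩ := step _ hN hz
    obtain ⟨o, ho, g, hg, hog⟩ := dec_two h hN hz hh
    exact ⟨o, ho, g, hg, 2, by norm_num, by rw [pow_two, ← hog]; group⟩
  rcases hi with rfl | rfl <;> rcases hj with rfl | rfl <;> rcases hl with rfl | rfl
  · exfalso
    rw [el_000 R, mul_one, mul_inv_cancel] at he'
    rw [← el_000 R] at he'
    exact el_ne h hn1 (by norm_num) he'
  · -- 001
    apply fin2; right; rw [e2]; exact el_congr h hn1 _ _ _ (by norm_num)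
  · -- 010
    apply fin1; right; rw [e1]; exact el_congr h hn1 _ _ _ (by norm_num)
  · -- 011
    apply fin0; right; exact he
  · -- 100
    apply fin0; left; exact he
  · -- 101
    apply fin1; left; rw [e1]; exact el_congr h hn1 _ _ _ (by norm_num)
  · -- 110
    apply fin2; left; rw [e2]; exact el_congr h hn1 _ _ _ (by norm_num)
  · exfalso
    rw [hkz'] at he'
    exact el_ne h hn1 (by norm_num) he'

/-! ### (TR) -/

theorem trans_one {t : G} (ht : t ∈ T) (ht1 : t ≠ 1) (htt : t * t = 1) :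
    ∃ m ∈ normalizer (T : Set G), m * t * m⁻¹ = el n τ 1 1 1 := by
  have R := h.rel.toRel
  have hn1 : 1 ≤ n := by have := h.hn; omega
  have key : ∀ i j k i' j' k' i'' j'' k'' : ℤ, Indep (el n τ i j k) (el n τ i' j' k') (el n τ i'' j'' k'') →
      ∃ m ∈ normalizer (T : Set G), m * el n τ i j k * m⁻¹ = el n τ 1 1 1 := by
    intro i j k i' j' k' i'' j'' k'' hI
    obtain ⟨m, hm, h1, -, -⟩ := h.full _ _ _ (el n τ 1 1 1) (el n τ 0 1 0) (el n τ 0 0 1)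
      (el_mem R i j k) (el_sq R hn1 i j k) (el_mem R i' j' k') (el_sq R hn1 i' j' k')
      (el_mem R i'' j'' k'') (el_sq R hn1 i'' j'' k'')
      (el_mem R _ _ _) (el_sq R hn1 _ _ _) (el_mem R _ _ _) (el_sq R hn1 _ _ _)
      (el_mem R _ _ _) (el_sq R hn1 _ _ _) hI
      (indep R hn1 (by norm_num) (by norm_num) (by norm_num) (by norm_num) (by norm_num) (by norm_num) (by norm_num))
    exact ⟨m, hm, h1⟩
  obtain ⟨i, j, k, hi, hj, hk, rfl⟩ := exists_el R hn1 ht htt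
  rcases hi with rfl | rfl <;> rcases hj with rfl | rfl <;> rcases hk with rfl | rfl
  · exact absurd (el_000 R) ht1
  · exact key _ _ _ 1 0 0 0 1 0 (indep R hn1 (by norm_num) (by norm_num) (by norm_num) (by norm_num)
      (by norm_num) (by norm_num) (by norm_num))
  · exact key _ _ _ 1 0 0 0 0 1 (indep R hn1 (by norm_num) (by norm_num) (by norm_num) (by norm_num)
      (by norm_num) (by norm_num) (by norm_num))
  · exact key _ _ _ 1 0 0 0 0 1 (indep R hn1 (by norm_num) (by norm_num) (by norm_num) (by norm_num)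
      (by norm_num) (by norm_num) (by norm_num))
  · exact key _ _ _ 0 1 0 0 0 1 (indep R hn1 (by norm_num) (by norm_num) (by norm_num) (by norm_num)
      (by norm_num) (by norm_num) (by norm_num))
  · exact key _ _ _ 0 1 0 0 0 1 (indep R hn1 (by norm_num) (by norm_num) (by norm_num) (by norm_num)
      (by norm_num) (by norm_num) (by norm_num))
  · exact key _ _ _ 0 1 0 0 0 1 (indep R hn1 (by norm_num) (by norm_num) (by norm_num) (by norm_num)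
      (by norm_num) (by norm_num) (by norm_num))
  · exact key _ _ _ 0 1 0 0 0 1 (indep R hn1 (by norm_num) (by norm_num) (by norm_num) (by norm_num)
      (by norm_num) (by norm_num) (by norm_num))

/-- (TR) `N_G(T)` is transitive on the involutions of `T`. -/
theorem trans {t t' : G} (ht : t ∈ T) (ht1 : t ≠ 1) (htt : t * t = 1) (ht' : t' ∈ T) (ht1' : t' ≠ 1)
    (htt' : t' * t' = 1) : ∃ m ∈ normalizer (T : Set G), m * t * m⁻¹ = t' := by
  obtain ⟨m, hm, e⟩ := trans_one h ht ht1 htt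
  obtain ⟨m', hm', e'⟩ := trans_one h ht' ht1' htt'
  refine ⟨m'⁻¹ * m, mul_mem (inv_mem hm') hm, ?_⟩
  calc m'⁻¹ * m * t * (m'⁻¹ * m)⁻¹ = m'⁻¹ * (m * t * m⁻¹) * m' := by group
    _ = t' := by rw [e, ← e']; group

/-! ### (INV) -/

/-- every element of `S` which is an involution outside `T` acts on `Ω₁(T)` as a transvection -/
theorem exists_triple {i : Fin 8} (hi : i = 1 ∨ i = 2 ∨ i = 3 ∨ i = 4 ∨ i = 7) {t : G} (ht : t ∈ T) :
    ∃ u v w : G, u ∈ T ∧ u * u = 1 ∧ v ∈ T ∧ v * v = 1 ∧ w ∈ T ∧ w * w = 1 ∧ Indep u v w ∧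
      (t * W x1 x2 x3 s i) * u * (t * W x1 x2 x3 s i)⁻¹ = u * v ∧
      (t * W x1 x2 x3 s i) * v * (t * W x1 x2 x3 s i)⁻¹ = v ∧
      (t * W x1 x2 x3 s i) * w * (t * W x1 x2 x3 s i)⁻¹ = w := by
  have R := h.rel.toRel
  have hn1 : 1 ≤ n := by have := h.hn; omega
  have key : ∀ a b c a' b' c' a'' b'' c'' : ℤ,
      Indep (el n τ a b c) (el n τ a' b' c') (el n τ a'' b'' c'') →
      ((2 : ℤ) ∣ (M i a b c).1 - (a + a') ∧ (2 : ℤ) ∣ (M i a b c).2.1 - (b + b') ∧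
        (2 : ℤ) ∣ (M i a b c).2.2 - (c + c')) →
      ((2 : ℤ) ∣ (M i a' b' c').1 - a' ∧ (2 : ℤ) ∣ (M i a' b' c').2.1 - b' ∧
        (2 : ℤ) ∣ (M i a' b' c').2.2 - c') →
      ((2 : ℤ) ∣ (M i a'' b'' c'').1 - a'' ∧ (2 : ℤ) ∣ (M i a'' b'' c'').2.1 - b'' ∧
        (2 : ℤ) ∣ (M i a'' b'' c'').2.2 - c'') →
      ∃ u v w : G, u ∈ T ∧ u * u = 1 ∧ v ∈ T ∧ v * v = 1 ∧ w ∈ T ∧ w * w = 1 ∧ Indep u v w ∧
      (t * W x1 x2 x3 s i) * u * (t * W x1 x2 x3 s i)⁻¹ = u * v ∧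
      (t * W x1 x2 x3 s i) * v * (t * W x1 x2 x3 s i)⁻¹ = v ∧
      (t * W x1 x2 x3 s i) * w * (t * W x1 x2 x3 s i)⁻¹ = w := by
    intro a b c a' b' c' a'' b'' c'' hI h1 h2 h3
    refine ⟨_, _, _, el_mem R a b c, el_sq R hn1 a b c, el_mem R a' b' c', el_sq R hn1 a' b' c',
      el_mem R a'' b'' c'', el_sq R hn1 a'' b'' c'', hI, ?_, ?_, ?_⟩
    · rw [W_el R i ht, el_mul R]; exact el_congr h hn1 _ _ _ h1
    · rw [W_el R i ht]; exact el_congr h hn1 _ _ _ h2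
    · rw [W_el R i ht]; exact el_congr h hn1 _ _ _ h3
  rcases hi with rfl | rfl | rfl | rfl | rfl
  · exact key 1 0 0 1 1 1 0 0 1 (indep R hn1 (by norm_num) (by norm_num) (by norm_num) (by norm_num)
      (by norm_num) (by norm_num) (by norm_num)) (by norm_num [M_1]) (by norm_num [M_1]) (by norm_num [M_1])
  · exact key 1 0 0 1 1 1 0 1 0 (indep R hn1 (by norm_num) (by norm_num) (by norm_num) (by norm_num)
      (by norm_num) (by norm_num) (by norm_num)) (by norm_num [M_2]) (by norm_num [M_2]) (by norm_num [M_2])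
  · exact key 0 1 0 1 1 1 1 0 0 (indep R hn1 (by norm_num) (by norm_num) (by norm_num) (by norm_num)
      (by norm_num) (by norm_num) (by norm_num)) (by norm_num [M_3]) (by norm_num [M_3]) (by norm_num [M_3])
  · exact key 0 1 0 0 1 1 1 0 0 (indep R hn1 (by norm_num) (by norm_num) (by norm_num) (by norm_num)
      (by norm_num) (by norm_num) (by norm_num)) (by norm_num [M_4]) (by norm_num [M_4]) (by norm_num [M_4])
  · exact key 0 1 0 1 0 0 0 1 1 (indep R hn1 (by norm_num) (by norm_num) (by norm_num) (by norm_num)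
      (by norm_num) (by norm_num) (by norm_num)) (by norm_num [M_7]) (by norm_num [M_7]) (by norm_num [M_7])

/-- elements of `T` have 2-power order -/
theorem T_inf_O {t : G} (ht : t ∈ T) (ho : Odd (orderOf t)) : t = 1 := by
  have R := h.rel.toRel
  obtain ⟨a, b, c, rfl⟩ := (R.mem _).1 ht
  have h1 : (τ a b c) ^ (2 ^ n) = 1 := by
    rw [τ_pow R, R.one]
    push_cast
    exact ⟨dvd_mul_right _ _, dvd_mul_right _ _, dvd_mul_right _ _⟩
  have h2 : orderOf (τ a b c) ∣ 2 ^ n := orderOf_dvd_of_pow_eq_one h1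
  have h3 : Nat.Coprime (orderOf (τ a b c)) (2 ^ n) := (Nat.coprime_two_right.mpr ho).pow_right n
  have h4 := Nat.Coprime.eq_one_of_dvd h3 h2
  exact orderOf_eq_one_iff.mp h4

theorem x3_el (a b c : ℤ) : x3 * el n τ a b c * x3⁻¹ = el n τ (-a - b - c) c b := by
  have := W_el' h 3 a b c
  rw [M_3] at this
  exact this

/-- the last step: in the coset of `x3` -/
theorem conj_coset {t : G} (ht : t ∈ T) (h2 : t * (x3 * t * x3) = 1) :
    ∃ m ∈ normalizer (T : Set G), m * x3 * m⁻¹ = t * x3 := by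
  have R := h.rel.toRel
  have hS : (S : Subgroup G) ≤ normalizer (T : Set G) := S_le_normalizer h.rel
  have hs : s ∈ (S : Subgroup G) := W_mem_S h.rel 4
  obtain ⟨a, b, c, rfl⟩ := (R.mem _).1 ht
  have e1 : x3 * τ a b c * x3 = τ (-a - b - c) c b := by
    rw [R.x3τ, mul_assoc, R.x3x3, mul_one]
  rw [e1, R.mul, R.one] at h2
  have hbc : (2 : ℤ) ^ n ∣ b + c := h2.2.1
  have hc : τ a b c = τ a b (-b) := by
    rw [τ_eq R]
    refine ⟨by simp, by simp, ?_⟩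
    rw [sub_neg_eq_add, add_comm]; exact hbc
  have hu : ∀ p q r : ℤ, τ p q r * x3 * (τ p q r)⁻¹ = τ (2 * p + q + r) (q - r) (r - q) * x3 := by
    intro p q r
    rw [τ_inv R, mul_assoc, R.x3τ, ← mul_assoc, R.mul]
    (congr 2; ring)
  rcases Int.even_or_odd' (a - b) with ⟨p, hp | hp⟩
  · refine ⟨τ p b 0, hS (T_le_S h.rel (mem_τ R _ _ _)), ?_⟩
    rw [hu, hc]
    congr 2 <;> linarith
  · refine ⟨τ p b 0 * s, mul_mem (hS (T_le_S h.rel (mem_τ R _ _ _))) (hS hs), ?_⟩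
    have hsi : s⁻¹ = s := by rw [inv_eq_iff_mul_eq_one, R.ss]
    calc τ p b 0 * s * x3 * (τ p b 0 * s)⁻¹ = τ p b 0 * (s * x3) * s⁻¹ * (τ p b 0)⁻¹ := by group
      _ = τ p b 0 * (τ 1 0 0 * x3 * s) * s⁻¹ * (τ p b 0)⁻¹ := by rw [R.sx3]
      _ = (τ p b 0 * τ 1 0 0) * x3 * (τ p b 0)⁻¹ := by group
      _ = (τ 1 0 0 * τ p b 0) * x3 * (τ p b 0)⁻¹ := by rw [τ_comm R]
      _ = τ 1 0 0 * (τ p b 0 * x3 * (τ p b 0)⁻¹) := by group
      _ = τ a b c * x3 := by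
        rw [hu, hc, ← mul_assoc, R.mul]
        congr 2 <;> linarith

/-- (INV) every involution of `S` outside `T` is conjugate to `x3` by an element of `N_G(T)`. -/
theorem exists_conj_x3 {y : G} (hy : y ∈ (S : Subgroup G)) (hyT : y ∉ T) (hyy : y * y = 1) :
    ∃ m ∈ normalizer (T : Set G), m * y * m⁻¹ = x3 := by
  have R := h.rel.toRel
  have hn1 : 1 ≤ n := by have := h.hn; omega
  obtain ⟨t, ht, i, rfl⟩ := (mem_S h.rel y).1 hy
  have hi : i = 1 ∨ i = 2 ∨ i = 3 ∨ i = 4 ∨ i = 7 := by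
    by_contra hcon
    have h0 : i ≠ 0 := by
      rintro rfl
      apply hyT
      have : W x1 x2 x3 s 0 = 1 := rfl
      rw [this, mul_one]; exact ht
    have h56 : i = 5 ∨ i = 6 := by omega
    exact no_invol h.hn R h56 ht hyy
  obtain ⟨u, v, w, hu, huu, hv, hvv, hw, hww, hI, e1, e2, e3⟩ := exists_triple h hi ht
  set y := t * W x1 x2 x3 s i with hydef
  have hyN : y ∈ normalizer (T : Set G) := S_le_normalizer h.rel hy
  obtain ⟨m, hm, m1, m2, m3⟩ := h.full u v w (el n τ 0 1 0) (el n τ 1 1 1) (el n τ 1 0 0) hu huu hv hvv hw hww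
    (el_mem R _ _ _) (el_sq R hn1 _ _ _) (el_mem R _ _ _) (el_sq R hn1 _ _ _)
    (el_mem R _ _ _) (el_sq R hn1 _ _ _) hI
    (indep R hn1 (by norm_num) (by norm_num) (by norm_num) (by norm_num) (by norm_num) (by norm_num) (by norm_num))
  set y' := m * y * m⁻¹ with hy'
  have hy'N : y' ∈ normalizer (T : Set G) := mul_mem (mul_mem hm hyN) (inv_mem hm)
  have hy'2 : y' * y' = 1 := by
    calc y' * y' = m * (y * y) * m⁻¹ := by rw [hy']; group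
      _ = 1 := by rw [hyy]; group
  have f1 : y' * el n τ 0 1 0 * y'⁻¹ = x3 * el n τ 0 1 0 * x3⁻¹ := by
    rw [x3_el h]
    calc y' * el n τ 0 1 0 * y'⁻¹ = m * (y * (m⁻¹ * el n τ 0 1 0 * m) * y⁻¹) * m⁻¹ := by rw [hy']; group
      _ = m * (y * u * y⁻¹) * m⁻¹ := by rw [← m1]; group
      _ = (m * u * m⁻¹) * (m * v * m⁻¹) := by rw [e1]; group
      _ = _ := by rw [m1, m2, el_mul R]; exact el_congr h hn1 _ _ _ (by norm_num)
  have f2 : y' * el n τ 1 1 1 * y'⁻¹ = x3 * el n τ 1 1 1 * x3⁻¹ := by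
    rw [x3_el h]
    calc y' * el n τ 1 1 1 * y'⁻¹ = m * (y * (m⁻¹ * el n τ 1 1 1 * m) * y⁻¹) * m⁻¹ := by rw [hy']; group
      _ = m * (y * v * y⁻¹) * m⁻¹ := by rw [← m2]; group
      _ = m * v * m⁻¹ := by rw [e2]
      _ = _ := by rw [m2]; exact el_congr h hn1 _ _ _ (by norm_num)
  have f3 : y' * el n τ 1 0 0 * y'⁻¹ = x3 * el n τ 1 0 0 * x3⁻¹ := by
    rw [x3_el h]
    calc y' * el n τ 1 0 0 * y'⁻¹ = m * (y * (m⁻¹ * el n τ 1 0 0 * m) * y⁻¹) * m⁻¹ := by rw [hy']; group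
      _ = m * (y * w * y⁻¹) * m⁻¹ := by rw [← m3]; group
      _ = m * w * m⁻¹ := by rw [e3]
      _ = _ := by rw [m3]; exact el_congr h hn1 _ _ _ (by norm_num)
  have hx3N : x3 ∈ normalizer (T : Set G) := W_mem_normalizer h 3
  have hx3i : x3⁻¹ = x3 := by rw [inv_eq_iff_mul_eq_one, R.x3x3]
  have hcomm : ∀ u, y' * u * y'⁻¹ = x3 * u * x3⁻¹ → (x3⁻¹ * y') * u = u * (x3⁻¹ * y') := by
    intro u hu
    calc x3⁻¹ * y' * u = x3⁻¹ * (y' * u * y'⁻¹) * y' := by group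
      _ = u * (x3⁻¹ * y') := by rw [hu]; group
  have c1 := hcomm _ f1
  have c2 := hcomm _ f2
  have c3 := hcomm _ f3
  obtain ⟨t', ht', o, ho, hto⟩ := h.faith (x3⁻¹ * y') (mul_mem (inv_mem hx3N) hy'N) (by
    apply comm_om R hn1 c3 c1
    have e : el n τ 0 0 1 = el n τ 1 0 0 * el n τ 0 1 0 * el n τ 1 1 1 := by
      rw [el_mul R, el_mul R]; exact el_congr h hn1 _ _ _ (by norm_num)
    rw [e]
    exact (((show Commute (x3⁻¹ * y') _ from c3).mul_right c1).mul_right c2).eq)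
  -- `y' = x3 t' o = t1 o1 x3`
  set t1 := x3 * t' * x3⁻¹ with ht1d
  set o1 := x3 * o * x3⁻¹ with ho1d
  have ht1 : t1 ∈ T := conj_mem hx3N ht'
  have ho1 : o1 ∈ O := O_conj h hx3N ho
  have ey : y' = t1 * o1 * x3 := by
    calc y' = x3 * (x3⁻¹ * y') := by group
      _ = x3 * (t' * o) := by rw [hto]
      _ = _ := by rw [ht1d, ho1d]; group
  set t2 := x3 * t1 * x3 with ht2d
  set o2 := x3 * o1 * x3 with ho2d
  have ht2 : t2 ∈ T := by
    have := conj_mem hx3N ht1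
    rwa [hx3i] at this
  have ho2 : o2 ∈ O := by
    have := O_conj h hx3N ho1
    rwa [hx3i] at this
  have hprod : (t1 * t2) * (o1 * o2) = 1 := by
    calc (t1 * t2) * (o1 * o2) = t1 * (t2 * o1) * o2 := by group
      _ = t1 * (o1 * t2) * o2 := by rw [h.O_le _ ho1 _ ht2]
      _ = t1 * (o1 * (x3 * t1 * x3)) * (x3 * o1 * x3) := rfl
      _ = (t1 * o1 * x3) * t1 * (x3 * x3) * o1 * x3 := by group
      _ = (t1 * o1 * x3) * (t1 * o1 * x3) := by rw [R.x3x3]; group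
      _ = 1 := by rw [← ey, hy'2]
  have ht12 : t1 * t2 = 1 := by
    apply T_inf_O h (mul_mem ht1 ht2)
    rw [eq_inv_of_mul_eq_one_left hprod, orderOf_inv]
    exact h.O_odd _ (mul_mem ho1 ho2)
  have ho12 : o1 * o2 = 1 := by rwa [ht12, one_mul] at hprod
  -- the square root of `o1`
  obtain ⟨l, hl⟩ := h.O_odd _ ho1
  set p := o1 ^ (l + 1) with hp
  have hpO : p ∈ O := pow_mem ho1 _
  have hpp : p * p = o1 := by
    rw [hp, ← pow_add, show l + 1 + (l + 1) = (2 * l + 1) + 1 by ring, pow_succ, ← hl, pow_orderOf_eq_one, one_mul]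
  have hx3o : x3 * o1 = o1⁻¹ * x3 := by
    have : o2 = o1⁻¹ := (inv_eq_of_mul_eq_one_right ho12).symm
    rw [← this, ho2d]
    calc x3 * o1 = x3 * o1 * (x3 * x3) := by rw [R.x3x3, mul_one]
      _ = _ := by group
  have hx3p : x3 * p = p⁻¹ * x3 := by
    have key : ∀ k : ℕ, x3 * o1 ^ k = (o1 ^ k)⁻¹ * x3 := by
      intro k
      induction k with
      | zero => simp
      | succ k ih =>
        calc x3 * o1 ^ (k + 1) = (x3 * o1 ^ k) * o1 := by rw [pow_succ, mul_assoc]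
          _ = (o1 ^ k)⁻¹ * (x3 * o1) := by rw [ih, mul_assoc]
          _ = (o1 ^ k)⁻¹ * o1⁻¹ * x3 := by rw [hx3o, mul_assoc]
          _ = (o1 ^ (k + 1))⁻¹ * x3 := by rw [← mul_inv_rev, ← pow_succ']
    exact key _
  obtain ⟨g, hg, hgx⟩ := conj_coset h ht1 ht12
  have hpy : p⁻¹ * y' * p = t1 * x3 := by
    calc p⁻¹ * y' * p = p⁻¹ * (t1 * o1 * x3) * p := by rw [ey]
      _ = (p⁻¹ * t1) * (o1 * (x3 * p)) := by group
      _ = (t1 * p⁻¹) * (p * p * (p⁻¹ * x3)) := by rw [h.O_le _ (inv_mem hpO) _ ht1, hpp, hx3p]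
      _ = t1 * x3 := by group
  have hpN : p ∈ normalizer (T : Set G) := O_le_normalizer h hpO
  refine ⟨g⁻¹ * p⁻¹ * m, mul_mem (mul_mem (inv_mem hg) (inv_mem hpN)) hm, ?_⟩
  calc g⁻¹ * p⁻¹ * m * y * (g⁻¹ * p⁻¹ * m)⁻¹ = g⁻¹ * (p⁻¹ * (m * y * m⁻¹) * p) * g := by group
    _ = g⁻¹ * (g * x3 * g⁻¹) * g := by rw [← hy', hpy, hgx]
    _ = x3 := by group

end Cfsg.Agent.ONType.Control
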