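import Cfsg.Agent.ONType.Sit
import Cfsg.Agent.Lib.GoldschmidtFusion

/-!
# O'Nan type groups: control of fusion in `T`

From the situation `Sit`: `T` is weakly closed, `N_G(T)` controls fusion in `T`, the elements of `N_G(T) ∩ C(z)`, the
involutions of `S ∖ T`.
-/

set_option autoImplicit false
set_option linter.dupNamespace false
set_option linter.unusedSectionVars false

namespace Cfsg.Agent.ONType.ControlB

open Subgroup
open Cfsg.Agent.ONType.Rel Cfsg.Agent.ONType.Span Cfsg.Agent.ONType.Sit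

/-! ### The elementary abelian group `Ω₁(T)` in coordinates -/

abbrev V := ZMod 2 × ZMod 2 × ZMod 2

/-- the elements of `Ω₁(T)` -/
def al {G : Type*} (n : ℕ) (τ : ℤ → ℤ → ℤ → G) (v : V) : G :=
  τ (2 ^ (n - 1) * (v.1.val : ℤ)) (2 ^ (n - 1) * (v.2.1.val : ℤ)) (2 ^ (n - 1) * (v.2.2.val : ℤ))

/-- the action of the representatives on `Ω₁(T)` -/
def act : Fin 8 → V → V
  | 0, v => v
  | 1, v => (v.2.1, v.1, v.1 + v.2.1 + v.2.2)
  | 2, v => (v.2.2, v.1 + v.2.1 + v.2.2, v.1)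
  | 3, v => (v.1 + v.2.1 + v.2.2, v.2.2, v.2.1)
  | 4, v => (v.1, v.2.2, v.2.1)
  | 5, v => (v.2.2, v.1, v.1 + v.2.1 + v.2.2)
  | 6, v => (v.2.1, v.1 + v.2.1 + v.2.2, v.1)
  | 7, v => (v.1 + v.2.1 + v.2.2, v.2.1, v.2.2)

/-- the representatives of the cosets of `T` in `S` -/
def rep {G : Type*} [Group G] (x1 x2 x3 s : G) : Fin 8 → G
  | 0 => 1
  | 1 => x1
  | 2 => x2
  | 3 => x3
  | 4 => s
  | 5 => x1 * s
  | 6 => x2 * s
  | 7 => x3 * s

/-- the action of `ξ` -/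
def axi (v : V) : V := (v.1, v.1 + v.2.1 + v.2.2, v.2.1)

def vz : V := (1, 1, 1)
def v3 : V := (1, 0, 0)
def v1 : V := (1, 1, 0)

/-- independent vectors -/
def IndV (a b c : V) : Prop := a ≠ 0 ∧ b ≠ 0 ∧ b ≠ a ∧ c ≠ 0 ∧ c ≠ a ∧ c ≠ b ∧ c ≠ a + b

instance (a b c : V) : Decidable (IndV a b c) := by unfold IndV; infer_instance

/-- the action of the powers of `ξ` -/
def axin : Fin 3 → V → V
  | 0, v => v
  | 1, v => axi v
  | 2, v => axi (axi v)

def AzH (p q : V) : Prop := p ≠ 0 ∧ p ≠ vz ∧ q ≠ 0 ∧ q ≠ vz ∧ q ≠ p ∧ q ≠ p + vz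

instance (p q : V) : Decidable (AzH p q) := by unfold AzH; infer_instance

def AzC (p q : V) : Prop := ∃ w : Fin 8, ∃ i : Fin 3, act w (axin i v3) = p ∧ act w (axin i v1) = q

instance (p q : V) : Decidable (AzC p q) := by unfold AzC; infer_instance

theorem dec_az : ∀ p q : V, AzH p q → AzC p q := by
  decide

theorem dec_inv : ∀ w : Fin 8, w ≠ 0 → (∀ v : V, act w (act w v) = v) →
    ∃ a b c : V, IndV a b c ∧ act w a = a ∧ act w b = b ∧ act w c = a + c := by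
  decide

theorem dec_ind : ∀ v : V, v ≠ 0 → ∃ b c : V, IndV v b c := by
  decide

theorem dec_basis : ∀ v : V, v = 0 ∨ v = vz ∨ v = v3 ∨ v = v1 ∨ v = vz + v3 ∨ v = vz + v1 ∨ v = v3 + v1 ∨
    v = vz + (v3 + v1) := by
  decide

theorem act_vz : ∀ (w : Fin 8) (i : Fin 3), act w (axin i vz) = vz := by decide
theorem act2 : ∀ v : V, act 2 v = act 3 (act 1 v) := by decide
theorem act5 : ∀ v : V, act 5 v = act 1 (act 4 v) := by decide
theorem act6 : ∀ v : V, act 6 v = act 2 (act 4 v) := by decide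
theorem act7 : ∀ v : V, act 7 v = act 3 (act 4 v) := by decide
theorem eq_of_add : ∀ u v : V, u + v = 0 → u = v := by decide
theorem add_self : ∀ u : V, u + u = 0 := by decide

section Rel

variable {G : Type*} [Group G] {n : ℕ} {T : Subgroup G} {τ : ℤ → ℤ → ℤ → G} {x1 x2 x3 s : G}

theorem inv (R : Rel n T τ x1 x2 x3 s) (a b c : ℤ) : (τ a b c)⁻¹ = τ (-a) (-b) (-c) := by
  rw [inv_eq_iff_mul_eq_one, R.mul]
  have : τ (a + -a) (b + -b) (c + -c) = τ 0 0 0 := by congr 1 <;> ring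
  rw [this, R.one]
  exact ⟨dvd_zero _, dvd_zero _, dvd_zero _⟩

theorem cong (R : Rel n T τ x1 x2 x3 s) {a b c a' b' c' : ℤ} : τ a b c = τ a' b' c' ↔
    (2 : ℤ) ^ n ∣ a - a' ∧ (2 : ℤ) ^ n ∣ b - b' ∧ (2 : ℤ) ^ n ∣ c - c' := by
  rw [← R.one, ← mul_inv_eq_one, inv R, R.mul]
  simp only [sub_eq_add_neg]

theorem two_e (hn : 1 ≤ n) : (2 : ℤ) ^ n = 2 ^ (n - 1) * 2 := by
  obtain ⟨m, rfl⟩ : ∃ m, n = m + 1 := ⟨n - 1, by omega⟩
  rw [Nat.add_sub_cancel, pow_succ]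

theorem dvd_aux (hn : 1 ≤ n) (i : ℤ) : (2 : ℤ) ^ n ∣ 2 ^ (n - 1) * i ↔ 2 ∣ i := by
  rw [two_e hn]
  exact mul_dvd_mul_iff_left (by positivity)

theorem al_eq (R : Rel n T τ x1 x2 x3 s) (hn : 1 ≤ n) (i j k : ℤ) :
    τ (2 ^ (n - 1) * i) (2 ^ (n - 1) * j) (2 ^ (n - 1) * k) = al n τ ((i : ZMod 2), (j : ZMod 2), (k : ZMod 2)) := by
  have key : ∀ i : ℤ, (2 : ℤ) ^ n ∣ 2 ^ (n - 1) * i - 2 ^ (n - 1) * (((i : ZMod 2).val : ℕ) : ℤ) := by
    intro i
    rw [← mul_sub, dvd_aux hn, ZMod.val_intCast]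
    exact ⟨i / 2, by have := Int.emod_add_mul_ediv i 2; push_cast; linarith⟩
  rw [al, cong R]
  exact ⟨key i, key j, key k⟩

theorem cast_val (a : ZMod 2) : (((a.val : ℕ) : ℤ) : ZMod 2) = a := by
  rw [Int.cast_natCast, ZMod.natCast_zmod_val]

theorem cast3 (a b c : ZMod 2) : ((-(a.val : ℤ) - b.val - c.val : ℤ) : ZMod 2) = a + b + c := by
  revert a b c; decide

theorem cast1 (a : ZMod 2) : ((-(a.val : ℤ) : ℤ) : ZMod 2) = a := by
  revert a; decide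

theorem al_add (R : Rel n T τ x1 x2 x3 s) (hn : 1 ≤ n) (u v : V) : al n τ (u + v) = al n τ u * al n τ v := by
  have h : al n τ u * al n τ v = τ (2 ^ (n - 1) * ((u.1.val : ℤ) + v.1.val))
      (2 ^ (n - 1) * ((u.2.1.val : ℤ) + v.2.1.val)) (2 ^ (n - 1) * ((u.2.2.val : ℤ) + v.2.2.val)) := by
    rw [al, al, R.mul]
    congr 1 <;> ring
  rw [h, al_eq R hn]
  simp only [Int.cast_add, cast_val]
  rfl

theorem al_one (R : Rel n T τ x1 x2 x3 s) (hn : 1 ≤ n) (v : V) : al n τ v = 1 ↔ v = 0 := by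
  have key : ∀ a : ZMod 2, (2 : ℤ) ∣ (a.val : ℤ) ↔ a = 0 := by decide
  rw [al, R.one, dvd_aux hn, dvd_aux hn, dvd_aux hn, key, key, key, Prod.ext_iff, Prod.ext_iff]
  rfl

theorem al_sq (R : Rel n T τ x1 x2 x3 s) (hn : 1 ≤ n) (v : V) : al n τ v * al n τ v = 1 := by
  rw [← al_add R hn, al_one R hn]
  exact add_self v

theorem al_inj (R : Rel n T τ x1 x2 x3 s) (hn : 1 ≤ n) {u v : V} : al n τ u = al n τ v ↔ u = v := by
  constructor
  · intro h
    have h1 : al n τ (u + v) = 1 := by rw [al_add R hn, h, al_sq R hn]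
    rw [al_one R hn] at h1
    exact eq_of_add _ _ h1
  · rintro rfl; rfl

theorem al_mem (R : Rel n T τ x1 x2 x3 s) (v : V) : al n τ v ∈ T := (R.mem _).2 ⟨_, _, _, rfl⟩

theorem exists_al (R : Rel n T τ x1 x2 x3 s) (hn : 1 ≤ n) {t : G} (ht : t ∈ T) (h2 : t * t = 1) :
    ∃ v, t = al n τ v := by
  obtain ⟨a, b, c, rfl⟩ := (R.mem t).1 ht
  rw [R.mul, R.one] at h2
  have key : ∀ a : ℤ, (2 : ℤ) ^ n ∣ a + a → ∃ i, a = 2 ^ (n - 1) * i := by
    intro a h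
    rw [two_e hn, ← two_mul, mul_comm (2 : ℤ) a] at h
    obtain ⟨i, hi⟩ := (mul_dvd_mul_iff_right (by norm_num : (2 : ℤ) ≠ 0)).1 h
    exact ⟨i, hi⟩
  obtain ⟨i, rfl⟩ := key a h2.1
  obtain ⟨j, rfl⟩ := key b h2.2.1
  obtain ⟨k, rfl⟩ := key c h2.2.2
  exact ⟨_, al_eq R hn i j k⟩

theorem x1_al (R : Rel n T τ x1 x2 x3 s) (hn : 1 ≤ n) (v : V) : x1 * al n τ v = al n τ (act 1 v) * x1 := by
  have h : al n τ (act 1 v) = τ (2 ^ (n - 1) * (v.2.1.val : ℤ)) (2 ^ (n - 1) * (v.1.val : ℤ))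
      (2 ^ (n - 1) * (-(v.1.val : ℤ) - v.2.1.val - v.2.2.val)) := by
    rw [al_eq R hn]
    simp only [cast3, cast_val]
    rfl
  rw [h, al, R.x1τ]
  congr 2; ring

theorem x3_al (R : Rel n T τ x1 x2 x3 s) (hn : 1 ≤ n) (v : V) : x3 * al n τ v = al n τ (act 3 v) * x3 := by
  have h : al n τ (act 3 v) = τ (2 ^ (n - 1) * (-(v.1.val : ℤ) - v.2.1.val - v.2.2.val))
      (2 ^ (n - 1) * (v.2.2.val : ℤ)) (2 ^ (n - 1) * (v.2.1.val : ℤ)) := by
    rw [al_eq R hn]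
    simp only [cast3, cast_val]
    rfl
  rw [h, al, R.x3τ]
  congr 2; ring

theorem s_al (R : Rel n T τ x1 x2 x3 s) (hn : 1 ≤ n) (v : V) : s * al n τ v = al n τ (act 4 v) * s := by
  have h : al n τ (act 4 v) = τ (2 ^ (n - 1) * (-(v.1.val : ℤ)))
      (2 ^ (n - 1) * (-(v.2.2.val : ℤ))) (2 ^ (n - 1) * (-(v.2.1.val : ℤ))) := by
    rw [al_eq R hn]
    simp only [cast1]
    rfl
  rw [h, al, R.sτ]
  congr 2 <;> ring

theorem ξ_al (R : Rel n T τ x1 x2 x3 s) (hn : 1 ≤ n) {ξ : G} (hξ : ∀ a b c, ξ * τ a b c = τ a (-a - b - c) b * ξ)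
    (v : V) : ξ * al n τ v = al n τ (axi v) * ξ := by
  have h : al n τ (axi v) = τ (2 ^ (n - 1) * (v.1.val : ℤ)) (2 ^ (n - 1) * (-(v.1.val : ℤ) - v.2.1.val - v.2.2.val))
      (2 ^ (n - 1) * (v.2.1.val : ℤ)) := by
    rw [al_eq R hn]
    simp only [cast3, cast_val]
    rfl
  rw [h, al, hξ]
  congr 2; ring

theorem rep_al (R : Rel n T τ x1 x2 x3 s) (hn : 1 ≤ n) (w : Fin 8) (v : V) :
    rep x1 x2 x3 s w * al n τ v = al n τ (act w v) * rep x1 x2 x3 s w := by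
  have h1 := x1_al R hn
  have h3 := x3_al R hn
  have hs := s_al R hn
  have h2 : ∀ v, x2 * al n τ v = al n τ (act 2 v) * x2 := by
    intro v
    rw [← R.x31, mul_assoc, h1, ← mul_assoc, h3, mul_assoc, act2]
  have comp : ∀ (x : G) (f : V → V), (∀ v, x * al n τ v = al n τ (f v) * x) →
      x * s * al n τ v = al n τ (f (act 4 v)) * (x * s) := by
    intro x f hx
    rw [mul_assoc, hs, ← mul_assoc, hx, mul_assoc]
  fin_cases w
  · show 1 * al n τ v = al n τ v * 1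
    rw [one_mul, mul_one]
  · exact h1 v
  · exact h2 v
  · exact h3 v
  · exact hs v
  · rw [show al n τ (act ((fun i => i) ⟨5, by decide⟩) v) = al n τ (act 1 (act 4 v)) from
      congrArg _ (act5 v)]
    exact comp x1 _ h1
  · rw [show al n τ (act ((fun i => i) ⟨6, by decide⟩) v) = al n τ (act 2 (act 4 v)) from
      congrArg _ (act6 v)]
    exact comp x2 _ h2
  · rw [show al n τ (act ((fun i => i) ⟨7, by decide⟩) v) = al n τ (act 3 (act 4 v)) from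
      congrArg _ (act7 v)]
    exact comp x3 _ h3

theorem al_vz (n : ℕ) (τ : ℤ → ℤ → ℤ → G) : al n τ vz = τ (2 ^ (n - 1)) (2 ^ (n - 1)) (2 ^ (n - 1)) := by
  have h : (((1 : ZMod 2).val : ℕ) : ℤ) = 1 := by decide
  show τ _ _ _ = _
  simp only [vz, h, mul_one]

theorem al_v3 (n : ℕ) (τ : ℤ → ℤ → ℤ → G) : al n τ v3 = τ (2 ^ (n - 1)) 0 0 := by
  have h : (((1 : ZMod 2).val : ℕ) : ℤ) = 1 := by decide
  have h0 : (((0 : ZMod 2).val : ℕ) : ℤ) = 0 := by decide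
  show τ _ _ _ = _
  simp only [v3, h, h0, mul_one, mul_zero]

theorem indep_al (R : Rel n T τ x1 x2 x3 s) (hn : 1 ≤ n) {a b c : V} (h : IndV a b c) :
    Indep (al n τ a) (al n τ b) (al n τ c) := by
  obtain ⟨h1, h2, h3, h4, h5, h6, h7⟩ := h
  rw [Indep, ← al_add R hn]
  simp only [ne_eq, al_one R hn, al_inj R hn]
  exact ⟨h1, h2, h3, h4, h5, h6, h7⟩

theorem exists_rep {w : G} (hw : Rel.Rep x1 x2 x3 s w) : ∃ i : Fin 8, w = rep x1 x2 x3 s i := by
  rcases hw with h | h | h | h | h | h | h | h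
  · exact ⟨0, h⟩
  · exact ⟨1, h⟩
  · exact ⟨2, h⟩
  · exact ⟨3, h⟩
  · exact ⟨4, h⟩
  · exact ⟨5, h⟩
  · exact ⟨6, h⟩
  · exact ⟨7, h⟩

theorem rep_Rep (i : Fin 8) : Rel.Rep x1 x2 x3 s (rep x1 x2 x3 s i) := by
  unfold Rel.Rep
  fin_cases i <;> simp [rep]

theorem T_comm (R : Rel n T τ x1 x2 x3 s) {x y : G} (hx : x ∈ T) (hy : y ∈ T) : x * y = y * x := by
  obtain ⟨a, b, c, rfl⟩ := (R.mem x).1 hx
  obtain ⟨a', b', c', rfl⟩ := (R.mem y).1 hy
  rw [R.mul, R.mul, add_comm a, add_comm b, add_comm c]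

theorem mem_normalizer_of [Finite G] {X : Subgroup G} {g : G} (h : ∀ x ∈ X, g * x * g⁻¹ ∈ X) :
    g ∈ normalizer (X : Set G) := by
  rw [Cfsg.Agent.Lib.GoldschmidtFusion.mem_normalizer_iff_map_conj]
  refine Subgroup.eq_of_le_of_card_ge ?_ (by rw [Cfsg.Agent.Lib.GoldschmidtFusion.card_map_conj])
  rintro _ ⟨x, hx, rfl⟩
  exact h x hx

theorem conj_mem {X : Subgroup G} {g x : G} (hg : g ∈ normalizer (X : Set G)) (hx : x ∈ X) : g * x * g⁻¹ ∈ X :=
  (Subgroup.mem_normalizer_iff.1 hg x).1 hx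

end Rel

section Sit

variable {G : Type*} [Group G] {n : ℕ} {S : Sylow 2 G} {T O : Subgroup G} {τ : ℤ → ℤ → ℤ → G}
  {x1 x2 x3 s ξ : G} (H : Sit n S T O τ x1 x2 x3 s ξ)

include H

theorem hn1 : 1 ≤ n := le_trans (by norm_num) H.hn

theorem T_le_S : T ≤ (S : Subgroup G) := by
  intro t ht
  obtain ⟨a, b, c, rfl⟩ := (H.rel.mem t).1 ht
  exact (H.rel.memS _).2 ⟨a, b, c, 1, Or.inl rfl, (mul_one _).symm⟩

theorem mem_S {g : G} : g ∈ (S : Subgroup G) ↔ ∃ t ∈ T, ∃ w : Fin 8, g = t * rep x1 x2 x3 s w := by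
  rw [H.rel.memS]
  constructor
  · rintro ⟨a, b, c, w, hw, rfl⟩
    obtain ⟨i, rfl⟩ := exists_rep hw
    exact ⟨_, (H.rel.mem _).2 ⟨a, b, c, rfl⟩, i, rfl⟩
  · rintro ⟨t, ht, i, rfl⟩
    obtain ⟨a, b, c, rfl⟩ := (H.rel.mem t).1 ht
    exact ⟨a, b, c, _, rep_Rep i, rfl⟩

theorem rep_mem (w : Fin 8) : rep x1 x2 x3 s w ∈ (S : Subgroup G) :=
  (mem_S H).2 ⟨1, one_mem _, w, (one_mul _).symm⟩

theorem x3_mem : x3 ∈ (S : Subgroup G) := rep_mem H 3

theorem s_mem : s ∈ (S : Subgroup G) := rep_mem H 4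

variable [Finite G]

theorem S_le_N : (S : Subgroup G) ≤ normalizer (T : Set G) := by
  have key : ∀ g : G, (∀ a b c, ∃ a' b' c', g * τ a b c = τ a' b' c' * g) → g ∈ normalizer (T : Set G) := by
    intro g hg
    apply mem_normalizer_of
    intro x hx
    obtain ⟨a, b, c, rfl⟩ := (H.rel.mem x).1 hx
    obtain ⟨a', b', c', e⟩ := hg a b c
    rw [e, mul_inv_cancel_right]
    exact (H.rel.mem _).2 ⟨_, _, _, rfl⟩
  have k1 : x1 ∈ normalizer (T : Set G) := key x1 fun a b c => ⟨_, _, _, H.rel.x1τ a b c⟩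
  have k2 : x2 ∈ normalizer (T : Set G) := key x2 fun a b c => ⟨_, _, _, H.rel.x2τ a b c⟩
  have k3 : x3 ∈ normalizer (T : Set G) := key x3 fun a b c => ⟨_, _, _, H.rel.x3τ a b c⟩
  have ks : s ∈ normalizer (T : Set G) := key s fun a b c => ⟨_, _, _, H.rel.sτ a b c⟩
  intro g hg
  obtain ⟨a, b, c, w, hw, rfl⟩ := (H.rel.memS g).1 hg
  refine mul_mem (le_normalizer ((H.rel.mem _).2 ⟨_, _, _, rfl⟩)) ?_
  rcases hw with rfl | rfl | rfl | rfl | rfl | rfl | rfl | rfl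
  · exact one_mem _
  · exact k1
  · exact k2
  · exact k3
  · exact ks
  · exact mul_mem k1 ks
  · exact mul_mem k2 ks
  · exact mul_mem k3 ks

theorem ξ_mem_N : ξ ∈ normalizer (T : Set G) := by
  apply mem_normalizer_of
  intro x hx
  obtain ⟨a, b, c, rfl⟩ := (H.rel.mem x).1 hx
  rw [H.ξτ, mul_inv_cancel_right]
  exact (H.rel.mem _).2 ⟨_, _, _, rfl⟩

omit [Finite G] in
theorem eq_one_of_odd {u : G} (hu : u ∈ (S : Subgroup G)) (ho : Odd (orderOf u)) : u = 1 := by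
  obtain ⟨j, hj⟩ := S.isPGroup' ⟨u, hu⟩
  have h2 : orderOf u ∣ 2 ^ j := orderOf_dvd_of_pow_eq_one (congrArg Subtype.val hj)
  have h3 : orderOf u ∣ Nat.gcd (orderOf u) (2 ^ j) := Nat.dvd_gcd dvd_rfl h2
  rw [Nat.Coprime.pow_right j (Nat.coprime_two_right.2 ho)] at h3
  exact orderOf_eq_one_iff.1 (Nat.dvd_one.1 h3)

omit [Finite G] in
/-- an element of `N_G(T)` acts on `Ω₁(T)` -/
theorem exists_map {k : G} (hk : k ∈ normalizer (T : Set G)) (v : V) : ∃ u, k * al n τ v * k⁻¹ = al n τ u := by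
  apply exists_al H.rel.toRel (hn1 H) (conj_mem hk (al_mem H.rel.toRel v))
  have := al_sq H.rel.toRel (hn1 H) v
  calc k * al n τ v * k⁻¹ * (k * al n τ v * k⁻¹) = k * (al n τ v * al n τ v) * k⁻¹ := by group
    _ = 1 := by rw [this]; group

omit [Finite G] in
/-- an element of `N_G(T)` which centralises a basis of `Ω₁(T)` is in `T O` -/
theorem faith' {k : G} (hk : k ∈ normalizer (T : Set G)) (h1 : k * al n τ vz = al n τ vz * k)
    (h2 : k * al n τ v3 = al n τ v3 * k) (h3 : k * al n τ v1 = al n τ v1 * k) : ∃ t ∈ T, ∃ o ∈ O, k = t * o := by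
  apply H.faith k hk
  intro t ht ht2
  obtain ⟨v, rfl⟩ := exists_al H.rel.toRel (hn1 H) ht ht2
  have key : ∀ u v, k * al n τ u = al n τ u * k → k * al n τ v = al n τ v * k →
      k * al n τ (u + v) = al n τ (u + v) * k := by
    intro u v hu hv
    rw [al_add H.rel.toRel (hn1 H), ← mul_assoc, hu, mul_assoc, hv, mul_assoc]
  rcases dec_basis v with rfl | rfl | rfl | rfl | rfl | rfl | rfl | rfl
  · rw [(al_one H.rel.toRel (hn1 H) 0).2 rfl, one_mul, mul_one]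
  · exact h1
  · exact h2
  · exact h3
  · exact key _ _ h1 h2
  · exact key _ _ h1 h3
  · exact key _ _ h2 h3
  · exact key _ _ h1 (key _ _ h2 h3)

omit [Finite G] in
theorem axin_al (i : Fin 3) (v : V) : ξ ^ (i : ℕ) * al n τ v = al n τ (axin i v) * ξ ^ (i : ℕ) := by
  have h := ξ_al H.rel.toRel (hn1 H) H.ξτ
  fin_cases i
  · show ξ ^ 0 * _ = _ * ξ ^ 0
    rw [pow_zero, one_mul, mul_one]
    rfl
  · show ξ ^ 1 * _ = _ * ξ ^ 1
    rw [pow_one]
    exact h v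
  · show ξ ^ 2 * _ = _ * ξ ^ 2
    rw [pow_two, mul_assoc, h, ← mul_assoc, h, mul_assoc]
    rfl

/-- **(AZ)** the elements of `N_G(T) ∩ C(z)` -/
theorem az {k : G} (hk : k ∈ normalizer (T : Set G))
    (hkz : k * τ (2 ^ (n - 1)) (2 ^ (n - 1)) (2 ^ (n - 1)) = τ (2 ^ (n - 1)) (2 ^ (n - 1)) (2 ^ (n - 1)) * k) :
    ∃ o ∈ O, ∃ g ∈ (S : Subgroup G), ∃ i : ℕ, i < 3 ∧ k = o * g * ξ ^ i := by
  have R := H.rel.toRel
  have hn := hn1 H
  rw [← al_vz n τ] at hkz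
  obtain ⟨p, hp⟩ := exists_map H hk v3
  obtain ⟨q, hq⟩ := exists_map H hk v1
  have hp' : k * al n τ v3 = al n τ p * k := by rw [← hp]; group
  have hq' : k * al n τ v1 = al n τ q * k := by rw [← hq]; group
  have inj : ∀ {u u' v v' : V}, k * al n τ u = al n τ u' * k → k * al n τ v = al n τ v' * k → u' = v' → u = v := by
    rintro u u' v _ h1 h2 rfl
    rw [← al_inj R hn]
    exact mul_left_cancel (h1.trans h2.symm)
  have h0 : k * al n τ 0 = al n τ 0 * k := by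
    rw [(al_one R hn 0).2 rfl, one_mul, mul_one]
  have h3z : k * al n τ (v3 + vz) = al n τ (p + vz) * k := by
    rw [al_add R hn, al_add R hn, ← mul_assoc, hp', mul_assoc, hkz, mul_assoc]
  have hAz : AzH p q := by
    refine ⟨fun h => ?_, fun h => ?_, fun h => ?_, fun h => ?_, fun h => ?_, fun h => ?_⟩
    · exact absurd (inj hp' h0 h) (by decide)
    · exact absurd (inj hp' hkz h) (by decide)
    · exact absurd (inj hq' h0 h) (by decide)
    · exact absurd (inj hq' hkz h) (by decide)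
    · exact absurd (inj hq' hp' h) (by decide)
    · exact absurd (inj hq' h3z h) (by decide)
  obtain ⟨w, i, e3, e1⟩ := dec_az p q hAz
  set g := rep x1 x2 x3 s w * ξ ^ (i : ℕ) with hg
  have hgal : ∀ v, g * al n τ v = al n τ (act w (axin i v)) * g := by
    intro v
    rw [hg, mul_assoc, axin_al H, ← mul_assoc, rep_al R hn, mul_assoc]
  have hgN : g ∈ normalizer (T : Set G) := mul_mem (S_le_N H (rep_mem H w)) (pow_mem (ξ_mem_N H) _)
  have key : ∀ u v, k * al n τ u = al n τ v * k → g * al n τ u = al n τ v * g →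
      g⁻¹ * k * al n τ u = al n τ u * (g⁻¹ * k) := by
    intro u v h1 h2
    calc g⁻¹ * k * al n τ u = g⁻¹ * (k * al n τ u) := by group
      _ = g⁻¹ * (al n τ v * g) * g⁻¹ * k := by rw [h1]; group
      _ = al n τ u * (g⁻¹ * k) := by rw [← h2]; group
  obtain ⟨t, ht, o, ho, e⟩ := faith' H (mul_mem (inv_mem hgN) hk)
    (key _ _ hkz (by rw [hgal, act_vz])) (key _ _ hp' (by rw [hgal, e3])) (key _ _ hq' (by rw [hgal, e1]))
  have hO := H.O_norm hgN
  have ht' : g * t * g⁻¹ ∈ T := conj_mem hgN ht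
  have ho' : g * o * g⁻¹ ∈ O := conj_mem hO ho
  refine ⟨g * o * g⁻¹, ho', g * t * g⁻¹ * rep x1 x2 x3 s w, mul_mem (T_le_S H ht') (rep_mem H w), i, i.2, ?_⟩
  have h1 := H.O_le _ ho' _ ht'
  calc k = g * (g⁻¹ * k) := by group
    _ = (g * t * g⁻¹) * (g * o * g⁻¹) * g := by rw [e]; group
    _ = (g * o * g⁻¹) * (g * t * g⁻¹) * g := by rw [h1]
    _ = _ := by rw [hg]; group

omit [Finite G] in
theorem eq_one_of_mem_of_mem {u : G} (hT : u ∈ T) (hO : u ∈ O) : u = 1 :=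
  eq_one_of_odd H (T_le_S H hT) (H.O_odd u hO)

/-- the involutions in `T x₃` -/
theorem conj_Tx3 {t : G} (ht : t ∈ T) (h2 : t * x3 * (t * x3) = 1) :
    ∃ m ∈ normalizer (T : Set G), m * (t * x3) * m⁻¹ = x3 := by
  have R := H.rel.toRel
  have h22 : (2 : ℤ) ∣ 2 ^ n := dvd_pow_self 2 (by have := hn1 H; omega)
  have hx3' : x3⁻¹ = x3 := inv_eq_of_mul_eq_one_left R.x3x3
  have hs' : s⁻¹ = s := inv_eq_of_mul_eq_one_left R.ss
  have sq : ∀ a b c : ℤ, τ a b c * x3 * (τ a b c * x3) = 1 → (2 : ℤ) ^ n ∣ b + c := by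
    intro a b c h
    have h1 : τ a b c * x3 * (τ a b c * x3) = τ (a + (-a - b - c)) (b + c) (c + b) := by
      calc τ a b c * x3 * (τ a b c * x3) = τ a b c * (x3 * τ a b c) * x3 := by group
        _ = τ a b c * τ (-a - b - c) c b * (x3 * x3) := by rw [R.x3τ]; group
        _ = _ := by rw [R.x3x3, R.mul, mul_one]
    rw [h1, R.one] at h
    exact h.2.1
  -- the case `a ≡ b`
  have even : ∀ a b c : ℤ, (2 : ℤ) ^ n ∣ b + c → (2 : ℤ) ∣ a - b →
      ∃ m ∈ normalizer (T : Set G), m * (τ a b c * x3) * m⁻¹ = x3 := by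
    rintro a b c hbc ⟨p, hp⟩
    refine ⟨τ (-p) (-b) 0, le_normalizer ((R.mem _).2 ⟨_, _, _, rfl⟩), ?_⟩
    rw [inv R]
    have h1 : τ (-p) (-b) 0 * (τ a b c * x3) * τ (- -p) (- -b) (-0) =
        τ (-p + a + (- -p * -1 - - -b - -0)) (-b + b + -0) (0 + c + - -b) * x3 := by
      calc τ (-p) (-b) 0 * (τ a b c * x3) * τ (- -p) (- -b) (-0) =
          τ (-p) (-b) 0 * τ a b c * (x3 * τ (- -p) (- -b) (-0)) := by group
        _ = τ (-p) (-b) 0 * τ a b c * τ (-(- -p) - - -b - -0) (-0) (- -b) * x3 := by rw [R.x3τ]; group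
        _ = _ := by rw [R.mul, R.mul]; congr 2; ring
    rw [h1]
    have h3 : τ (-p + a + (- -p * -1 - - -b - -0)) (-b + b + -0) (0 + c + - -b) = 1 := by
      rw [R.one]
      refine ⟨⟨0, by linear_combination hp⟩, ⟨0, by ring⟩, ?_⟩
      have : 0 + c + - -b = b + c := by ring
      rw [this]; exact hbc
    rw [h3, one_mul]
  obtain ⟨a, b, c, rfl⟩ := (R.mem t).1 ht
  have hbc := sq a b c h2
  by_cases hab : (2 : ℤ) ∣ a - b
  · exact even a b c hbc hab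
  · have h4 : (2 : ℤ) ∣ b + c := h22.trans hbc
    obtain ⟨m, hm, e⟩ := even (1 - a) (-c) (-b) (by
      have : -c + -b = -(b + c) := by ring
      rw [this]; exact (dvd_neg).2 hbc) (by omega)
    refine ⟨m * s, mul_mem hm (S_le_N H (s_mem H)), ?_⟩
    have h5 : s * (τ a b c * x3) * s⁻¹ = τ (1 - a) (-c) (-b) * x3 := by
      calc s * (τ a b c * x3) * s⁻¹ = s * τ a b c * (x3 * s⁻¹) := by group
        _ = τ (-a) (-c) (-b) * (s * x3) * s⁻¹ := by rw [R.sτ]; group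
        _ = τ (-a) (-c) (-b) * τ 1 0 0 * x3 * (s * s⁻¹) := by rw [R.sx3]; group
        _ = _ := by rw [R.mul, mul_inv_cancel, mul_one]; congr 2 <;> ring
    calc m * s * (τ a b c * x3) * (m * s)⁻¹ = m * (s * (τ a b c * x3) * s⁻¹) * m⁻¹ := by group
      _ = x3 := by rw [h5, e]

/-- **(INV)** every involution of `S ∖ T` is conjugate to `x₃` in `N_G(T)` -/
theorem inv_conj {y : G} (hy : y ∈ (S : Subgroup G)) (hyT : y ∉ T) (h2 : y * y = 1) :
    ∃ m ∈ normalizer (T : Set G), m * y * m⁻¹ = x3 := by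
  have R := H.rel.toRel
  have hn := hn1 H
  obtain ⟨t0, ht0, w, rfl⟩ := (mem_S H).1 hy
  have hw0 : w ≠ 0 := by
    rintro rfl
    exact hyT (by simpa [rep] using ht0)
  have hyal : ∀ v, t0 * rep x1 x2 x3 s w * al n τ v = al n τ (act w v) * (t0 * rep x1 x2 x3 s w) := by
    intro v
    rw [mul_assoc, rep_al R hn, ← mul_assoc, T_comm R ht0 (al_mem R _), mul_assoc]
  set y := t0 * rep x1 x2 x3 s w with hydef
  have hinv : ∀ v, act w (act w v) = v := by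
    intro v
    rw [← al_inj R hn]
    have h1 : y * y * al n τ v = al n τ (act w (act w v)) * (y * y) := by
      rw [mul_assoc, hyal, ← mul_assoc, hyal, mul_assoc]
    rw [h2, one_mul, mul_one] at h1
    exact h1.symm
  obtain ⟨a, b, c, hI, ha, hb, hc⟩ := dec_inv w hw0 hinv
  have hI0 : IndV vz v3 v1 := by decide
  obtain ⟨m, hm, ea, eb, ec⟩ := H.full (al n τ a) (al n τ b) (al n τ c) (al n τ vz) (al n τ v3) (al n τ v1)
    (al_mem R _) (al_sq R hn _) (al_mem R _) (al_sq R hn _) (al_mem R _) (al_sq R hn _)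
    (al_mem R _) (al_sq R hn _) (al_mem R _) (al_sq R hn _) (al_mem R _) (al_sq R hn _)
    (indep_al R hn hI) (indep_al R hn hI0)
  set y' := m * y * m⁻¹ with hy'
  have hyN : y ∈ normalizer (T : Set G) := S_le_N H hy
  have hy'N : y' ∈ normalizer (T : Set G) := mul_mem (mul_mem hm hyN) (inv_mem hm)
  have hx3N : x3 ∈ normalizer (T : Set G) := S_le_N H (x3_mem H)
  have ey : ∀ u u' v v' : V, m * al n τ u * m⁻¹ = al n τ u' → act w u = v → m * al n τ v * m⁻¹ = al n τ v' →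
      y' * al n τ u' = al n τ v' * y' := by
    intro u u' v v' h1 h3 h4
    rw [← h1, ← h4]
    calc y' * (m * al n τ u * m⁻¹) = m * (y * al n τ u) * m⁻¹ := by rw [hy']; group
      _ = m * al n τ v * m⁻¹ * y' := by rw [hyal, h3, hy']; group
  have e1 := ey a vz a vz ea ha ea
  have e2 := ey b v3 b v3 eb hb eb
  have e3 := ey c v1 (a + c) (vz + v1) ec hc (by
    rw [al_add R hn, al_add R hn, ← ea, ← ec]; group)
  have f : ∀ v, x3 * al n τ v = al n τ (act 3 v) * x3 := rep_al R hn 3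
  obtain ⟨t, ht, o, ho, e⟩ := faith' H (mul_mem hy'N hx3N)
    (by rw [mul_assoc, f, show act 3 vz = vz by decide, ← mul_assoc, e1, mul_assoc])
    (by rw [mul_assoc, f, show act 3 v3 = v3 by decide, ← mul_assoc, e2, mul_assoc])
    (by rw [mul_assoc, f, show act 3 v1 = vz + v1 by decide, al_add R hn, ← mul_assoc, ← mul_assoc, e1,
          mul_assoc (al n τ vz), e3, ← mul_assoc, ← al_add R hn, show vz + (vz + v1) = v1 by decide, mul_assoc])
  have e' : y' = t * o * x3 := by rw [← e, mul_assoc, R.x3x3, mul_one]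
  have hx3' : x3⁻¹ = x3 := inv_eq_of_mul_eq_one_left R.x3x3
  have hy'2 : y' * y' = 1 := by
    calc y' * y' = m * (y * y) * m⁻¹ := by rw [hy']; group
      _ = 1 := by rw [h2]; group
  have ht' : x3 * t * x3⁻¹ ∈ T := conj_mem hx3N ht
  have ho' : x3 * o * x3⁻¹ ∈ O := conj_mem (H.O_norm hx3N) ho
  have hoT := H.O_le o ho
  have key : (t * (x3 * t * x3⁻¹)) * (o * (x3 * o * x3⁻¹)) = 1 := by
    have h3 := hoT _ ht'
    calc (t * (x3 * t * x3⁻¹)) * (o * (x3 * o * x3⁻¹)) = t * ((x3 * t * x3⁻¹) * o) * (x3 * o * x3⁻¹) := by group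
      _ = t * o * x3 * (t * o * x3⁻¹) := by rw [← h3]; group
      _ = y' * y' := by rw [hx3', e']
      _ = 1 := hy'2
  have hT1 : t * (x3 * t * x3⁻¹) ∈ T := mul_mem ht ht'
  have hO1 : o * (x3 * o * x3⁻¹) ∈ O := mul_mem ho ho'
  have hO2 : o * (x3 * o * x3⁻¹) = 1 := by
    apply eq_one_of_mem_of_mem H _ hO1
    rw [← inv_eq_of_mul_eq_one_right key]
    exact inv_mem hT1
  obtain ⟨r, hr⟩ := H.O_odd o ho
  set u := o ^ (r + 1) with hu
  have huu : u * u = o := by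
    rw [hu, ← pow_add]
    have : r + 1 + (r + 1) = orderOf o + 1 := by omega
    rw [this, pow_succ, pow_orderOf_eq_one, one_mul]
  have hu3 : x3 * u * x3⁻¹ = u⁻¹ := by
    have h3 : x3 * o * x3⁻¹ = o⁻¹ := (inv_eq_of_mul_eq_one_right hO2).symm
    rw [hu, ← conj_pow, h3, inv_pow]
  have huO : u ∈ O := pow_mem ho _
  have huT := H.O_le u huO t ht
  have huN : u ∈ normalizer (T : Set G) := by
    apply mem_normalizer_of
    intro x hx
    rw [H.O_le u huO x hx, mul_inv_cancel_right]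
    exact hx
  have h6 : u⁻¹ * y' * u = t * x3 := by
    have h7 : x3 * u = u⁻¹ * x3 := by rw [← hu3]; group
    have h8 : u⁻¹ * t = t * u⁻¹ := by
      calc u⁻¹ * t = u⁻¹ * (t * u) * u⁻¹ := by group
        _ = t * u⁻¹ := by rw [← huT]; group
    calc u⁻¹ * y' * u = u⁻¹ * t * o * (x3 * u) := by rw [e']; group
      _ = t * (u⁻¹ * (u * u) * u⁻¹) * x3 := by rw [h7, h8, huu]; group
      _ = t * x3 := by group
  have h9 : t * x3 * (t * x3) = 1 := by
    rw [← h6]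
    calc u⁻¹ * y' * u * (u⁻¹ * y' * u) = u⁻¹ * (y' * y') * u := by group
      _ = 1 := by rw [hy'2]; group
  obtain ⟨m', hm', e''⟩ := conj_Tx3 H ht h9
  refine ⟨m' * u⁻¹ * m, mul_mem (mul_mem hm' (inv_mem huN)) hm, ?_⟩
  calc m' * u⁻¹ * m * y * (m' * u⁻¹ * m)⁻¹ = m' * (u⁻¹ * y' * u) * m'⁻¹ := by rw [hy']; group
    _ = x3 := by rw [h6, e'']

omit [Finite G] in
/-- **(TR)** `N_G(T)` is transitive on the involutions of `T` -/
theorem trans {a b : G} (ha : a ∈ T) (ha2 : a * a = 1) (ha1 : a ≠ 1) (hb : b ∈ T) (hb2 : b * b = 1) (hb1 : b ≠ 1) :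
    ∃ m ∈ normalizer (T : Set G), m * a * m⁻¹ = b := by
  have R := H.rel.toRel
  have hn := hn1 H
  obtain ⟨u, rfl⟩ := exists_al R hn ha ha2
  obtain ⟨v, rfl⟩ := exists_al R hn hb hb2
  obtain ⟨u2, u3, hu⟩ := dec_ind u (fun h => ha1 ((al_one R hn u).2 h))
  obtain ⟨w2, w3, hv⟩ := dec_ind v (fun h => hb1 ((al_one R hn v).2 h))
  obtain ⟨m, hm, e, -, -⟩ := H.full (al n τ u) (al n τ u2) (al n τ u3) (al n τ v) (al n τ w2) (al n τ w3)
    (al_mem R _) (al_sq R hn _) (al_mem R _) (al_sq R hn _) (al_mem R _) (al_sq R hn _)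
    (al_mem R _) (al_sq R hn _) (al_mem R _) (al_sq R hn _) (al_mem R _) (al_sq R hn _)
    (indep_al R hn hu) (indep_al R hn hv)
  exact ⟨m, hm, e⟩

/-- **(WT)** `T` is weakly closed in `S` -/
theorem weak (hF4 : ∀ X : Subgroup G, X ≤ (S : Subgroup G) → (∀ x ∈ X, ∀ y ∈ X, x * y = y * x) →
      Nat.card X = Nat.card T → X = T) {g : G} (hg : ∀ y ∈ T, g * y * g⁻¹ ∈ (S : Subgroup G)) :
    g ∈ normalizer (T : Set G) := by
  rw [Cfsg.Agent.Lib.GoldschmidtFusion.mem_normalizer_iff_map_conj]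
  apply hF4
  · rintro _ ⟨x, hx, rfl⟩
    exact hg x hx
  · rintro _ ⟨x, hx, rfl⟩ _ ⟨y, hy, rfl⟩
    rw [← map_mul, ← map_mul, T_comm H.rel.toRel hx hy]
  · exact Cfsg.Agent.Lib.GoldschmidtFusion.card_map_conj _ _

theorem weak' (hF4 : ∀ X : Subgroup G, X ≤ (S : Subgroup G) → (∀ x ∈ X, ∀ y ∈ X, x * y = y * x) →
      Nat.card X = Nat.card T → X = T) {P : Subgroup G} (hP : IsPGroup 2 P) {g h : G}
    (hg : ∀ y ∈ T, g * y * g⁻¹ ∈ P) (hh : ∀ y ∈ T, h * y * h⁻¹ ∈ P) :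
    h⁻¹ * g ∈ normalizer (T : Set G) := by
  obtain ⟨P', hP'⟩ := hP.exists_le_sylow
  obtain ⟨k, hk⟩ := MulAction.exists_smul_eq G P' S
  have hkS : ∀ x ∈ P, k * x * k⁻¹ ∈ (S : Subgroup G) := by
    intro x hx
    rw [← hk]
    exact ⟨x, hP' hx, rfl⟩
  have h1 : k * g ∈ normalizer (T : Set G) := by
    apply weak H hF4
    intro y hy
    have := hkS _ (hg y hy)
    have e : k * (g * y * g⁻¹) * k⁻¹ = k * g * y * (k * g)⁻¹ := by group
    rwa [e] at this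
  have h2 : k * h ∈ normalizer (T : Set G) := by
    apply weak H hF4
    intro y hy
    have := hkS _ (hh y hy)
    have e : k * (h * y * h⁻¹) * k⁻¹ = k * h * y * (k * h)⁻¹ := by group
    rwa [e] at this
  have h3 := mul_mem (inv_mem h2) h1
  have e : (k * h)⁻¹ * (k * g) = h⁻¹ * g := by group
  rwa [e] at h3

/-- **(TC)** `N_G(T)` controls fusion in `T` -/
theorem control (hF4 : ∀ X : Subgroup G, X ≤ (S : Subgroup G) → (∀ x ∈ X, ∀ y ∈ X, x * y = y * x) →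
      Nat.card X = Nat.card T → X = T) {X : Set G} (hX : ∀ x ∈ X, x ∈ T) {g : G} (hg : ∀ x ∈ X, g * x * g⁻¹ ∈ T) :
    ∃ m ∈ normalizer (T : Set G), ∀ x ∈ X, m * x * m⁻¹ = g * x * g⁻¹ := by
  have R := H.rel.toRel
  set C := centralizer ((fun x => g * x * g⁻¹) '' X) with hC
  have hTC : T ≤ C := by
    intro t ht
    rw [hC, mem_centralizer_iff]
    rintro _ ⟨x, hx, rfl⟩
    exact T_comm R (hg x hx) ht
  have hTgC : T.map (MulAut.conj g).toMonoidHom ≤ C := by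
    rintro _ ⟨t, ht, rfl⟩
    rw [hC, mem_centralizer_iff]
    rintro _ ⟨x, hx, rfl⟩
    show g * x * g⁻¹ * (g * t * g⁻¹) = g * t * g⁻¹ * (g * x * g⁻¹)
    have := T_comm R (hX x hx) ht
    calc g * x * g⁻¹ * (g * t * g⁻¹) = g * (x * t) * g⁻¹ := by group
      _ = g * t * g⁻¹ * (g * x * g⁻¹) := by rw [this]; group
  have hT2 : IsPGroup 2 T := S.isPGroup'.to_le (T_le_S H)
  obtain ⟨P, hTP, hPC, hP, hidx⟩ := Cfsg.Agent.Lib.GoldschmidtFusion.exists_sylow_in (p := 2) hTC hT2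
  obtain ⟨c, hc, hle⟩ := Cfsg.Agent.Lib.GoldschmidtFusion.exists_conj_le_in (p := 2) hP hidx hTgC (hT2.map _)
  have h1 : (1 : G)⁻¹ * (c * g) ∈ normalizer (T : Set G) := by
    apply weak' H hF4 hP
    · intro y hy
      have := hle ⟨_, ⟨y, hy, rfl⟩, rfl⟩
      have e : (MulAut.conj c).toMonoidHom ((MulAut.conj g).toMonoidHom y) = c * g * y * (c * g)⁻¹ := by
        show c * (g * y * g⁻¹) * c⁻¹ = _
        group
      rwa [e] at this
    · intro y hy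
      rw [one_mul, inv_one, mul_one]
      exact hTP hy
  rw [inv_one, one_mul] at h1
  refine ⟨c * g, h1, fun x hx => ?_⟩
  have h2 : g * x * g⁻¹ * c = c * (g * x * g⁻¹) := mem_centralizer_iff.1 hc _ ⟨x, hx, rfl⟩
  calc c * g * x * (c * g)⁻¹ = c * (g * x * g⁻¹) * c⁻¹ := by group
    _ = g * x * g⁻¹ := by rw [← h2]; group

end Sit

end Cfsg.Agent.ONType.ControlB
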