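import Mathlib

/-!
# O'Nan type groups: coordinates on the homocyclic group

`M` is a homocyclic abelian group of rank 3 and exponent `2^n`, on which the stabiliser `S4 = V4 : S3` in `L3(2)` of an
involution `z` acts.  We find `φ : ℤ³ → M`, additive, onto, with kernel `(2^n ℤ)³` such that the action is by signed
permutations of the four coordinates `a, b, c, -a-b-c`.
-/

set_option autoImplicit false

namespace Cfsg.Agent.ONType.Coord

section homocyclic

variable {M : Type*} [AddCommGroup M]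

/-- multiplication by `2^k` -/
def pw (M : Type*) [AddCommGroup M] (k : ℕ) : M →+ M where
  toFun m := (2 ^ k : ℕ) • m
  map_zero' := smul_zero _
  map_add' := fun a b => smul_add _ a b

theorem pw_apply (k : ℕ) (m : M) : pw M k m = (2 ^ k : ℕ) • m := rfl

theorem pw_succ_apply (k : ℕ) (m : M) : pw M (k + 1) m = pw M k (2 • m) := by
  rw [pw_apply, pw_apply, smul_smul, pow_succ]

variable [Finite M]

/-- orders of the torsion subgroups -/
theorem card_ker_le (h8 : Nat.card (pw M 1).ker ≤ 8) (k : ℕ) : Nat.card (pw M k).ker ≤ 8 ^ k := by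
  induction k with
  | zero =>
    have : (pw M 0).ker = ⊥ := by
      ext m; simp [AddMonoidHom.mem_ker, pw_apply]
    rw [this]; simp
  | succ k ih =>
    -- multiplication by 2 maps `ker (k+1)` to `ker k`
    have hmap : ∀ m ∈ (pw M (k + 1)).ker, pw M 1 m ∈ (pw M k).ker := by
      intro m hm
      rw [AddMonoidHom.mem_ker] at hm ⊢
      rw [pw_succ_apply] at hm
      have h2 : pw M 1 m = 2 • m := by rw [pw_apply, pow_one]
      rw [h2]; exact hm
    let g : (pw M (k + 1)).ker →+ (pw M k).ker :=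
      ((pw M 1).comp (pw M (k + 1)).ker.subtype).codRestrict (pw M k).ker (fun m => hmap m m.2)
    have h1 : Nat.card (pw M (k + 1)).ker = Nat.card g.ker * Nat.card g.range := by
      rw [← Nat.card_congr (QuotientAddGroup.quotientKerEquivRange g).toEquiv]
      rw [mul_comm]
      exact AddSubgroup.card_eq_card_quotient_mul_card_addSubgroup g.ker
    have h2 : Nat.card g.ker ≤ 8 := by
      refine le_trans ?_ h8
      refine Nat.card_le_card_of_injective (fun x : g.ker => (⟨((x : (pw M (k+1)).ker) : M), ?_⟩ : (pw M 1).ker)) ?_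
      · have := x.2
        rw [AddMonoidHom.mem_ker] at this ⊢
        exact congrArg Subtype.val this
      · intro x y h
        exact Subtype.ext (Subtype.ext (congrArg (fun t : (pw M 1).ker => (t : M)) h))
    have h3 : Nat.card g.range ≤ 8 ^ k := le_trans (AddSubgroup.card_le_card_addGroup _) ih
    rw [h1, pow_succ, mul_comm]
    exact Nat.mul_le_mul h3 h2

variable {n : ℕ}

theorem card_facts (hn : 1 ≤ n) (hcard : Nat.card M = 8 ^ n) (hexp : ∀ m : M, (2 ^ n : ℕ) • m = 0)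
    (h8 : Nat.card (pw M 1).ker ≤ 8) :
    (pw M (n - 1)).range = (pw M 1).ker ∧ (pw M (n - 1)).ker = (pw M 1).range := by
  obtain ⟨k, rfl⟩ : ∃ k, n = k + 1 := ⟨n - 1, by omega⟩
  simp only [Nat.add_sub_cancel]
  have hle : (pw M k).range ≤ (pw M 1).ker := by
    rintro _ ⟨m, rfl⟩
    rw [AddMonoidHom.mem_ker, pw_apply, pow_one, pw_apply, smul_smul, ← pow_succ']
    exact hexp m
  have hle2 : (pw M 1).range ≤ (pw M k).ker := by
    rintro _ ⟨m, rfl⟩
    rw [AddMonoidHom.mem_ker, pw_apply, pw_apply, smul_smul, pow_one, ← pow_succ]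
    exact hexp m
  have hk := card_ker_le h8 k
  have h1 : Nat.card M = Nat.card (pw M k).ker * Nat.card (pw M k).range := by
    rw [← Nat.card_congr (QuotientAddGroup.quotientKerEquivRange (pw M k)).toEquiv, mul_comm]
    exact AddSubgroup.card_eq_card_quotient_mul_card_addSubgroup _
  have h2 : Nat.card M = Nat.card (pw M 1).ker * Nat.card (pw M 1).range := by
    rw [← Nat.card_congr (QuotientAddGroup.quotientKerEquivRange (pw M 1)).toEquiv, mul_comm]
    exact AddSubgroup.card_eq_card_quotient_mul_card_addSubgroup _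
  have hr : Nat.card (pw M k).range ≤ Nat.card (pw M 1).ker := AddSubgroup.card_le_of_le hle
  have hr2 : Nat.card (pw M 1).range ≤ Nat.card (pw M k).ker := AddSubgroup.card_le_of_le hle2
  rw [hcard, pow_succ] at h1 h2
  have h8k : 0 < 8 ^ k := by positivity
  have e1 : Nat.card (pw M k).range = 8 := by
    have : 8 ^ k * 8 ≤ 8 ^ k * Nat.card (pw M k).range := by rw [h1]; exact Nat.mul_le_mul_right _ hk
    have := Nat.le_of_mul_le_mul_left this h8k
    omega
  have e2 : Nat.card (pw M k).ker = 8 ^ k := by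
    rw [e1] at h1
    exact (Nat.eq_of_mul_eq_mul_right (by norm_num) h1).symm
  have e3 : Nat.card (pw M 1).ker = 8 := by omega
  have e4 : Nat.card (pw M 1).range = 8 ^ k := by
    rw [e3, mul_comm] at h2
    exact (Nat.eq_of_mul_eq_mul_left (by norm_num) h2).symm
  exact ⟨AddSubgroup.eq_of_le_of_card_ge hle (by rw [e1, e3]), (AddSubgroup.eq_of_le_of_card_ge hle2 (by rw [e2, e4])).symm⟩

end homocyclic

/-- The action of the stabiliser of `z`. -/
structure Act (M : Type*) [AddCommGroup M] (n : ℕ) (R1 R2 R3 X s : M →+ M) (z : M) : Prop where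
  hn : 1 ≤ n
  card : Nat.card M = 8 ^ n
  exp : ∀ m : M, (2 ^ n : ℕ) • m = 0
  h8 : Nat.card (pw M 1).ker ≤ 8
  R11 : ∀ m, R1 (R1 m) = m
  R22 : ∀ m, R2 (R2 m) = m
  R33 : ∀ m, R3 (R3 m) = m
  R12 : ∀ m, R1 (R2 m) = R3 m
  R21 : ∀ m, R2 (R1 m) = R3 m
  R13 : ∀ m, R1 (R3 m) = R2 m
  R31 : ∀ m, R3 (R1 m) = R2 m
  R23 : ∀ m, R2 (R3 m) = R1 m
  R32 : ∀ m, R3 (R2 m) = R1 m
  XXX : ∀ m, X (X (X m)) = m
  XR1 : ∀ m, X (R1 m) = R2 (X m)
  XR2 : ∀ m, X (R2 m) = R3 (X m)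
  XR3 : ∀ m, X (R3 m) = R1 (X m)
  sX : ∀ m, s (X m) = X (X (s m))
  sR1 : ∀ m, s (R1 m) = R2 (s m)
  sR2 : ∀ m, s (R2 m) = R1 (s m)
  sR3 : ∀ m, s (R3 m) = R3 (s m)
  z2 : 2 • z = 0
  z0 : z ≠ 0
  R1z : R1 z = z
  R2z : R2 z = z
  Xz : X z = z
  sz : s z = z
  fixV : ∀ m, 2 • m = 0 → R1 m = m → R2 m = m → m = 0 ∨ m = z
  fixX : ∀ m, 2 • m = 0 → X m = m → m = 0 ∨ m = z
  tr1 : ∀ m, 2 • m = 0 → R1 m = m ∨ R1 m = m + z
  tr2 : ∀ m, 2 • m = 0 → R2 m = m ∨ R2 m = m + z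
  ne1 : ∃ m, 2 • m = 0 ∧ R1 m = m + z

namespace Act

variable {M : Type*} [AddCommGroup M] [Finite M] {n : ℕ} {R1 R2 R3 X s : M →+ M} {z : M}
  (h : Act M n R1 R2 R3 X s z)
include h

theorem exists_half (a : M) (ha : 2 • a = 0) : ∃ m, (2 ^ (n - 1) : ℕ) • m = a := by
  have h1 := (card_facts h.hn h.card h.exp h.h8).1
  have h2 : a ∈ (pw M 1).ker := by
    rw [AddMonoidHom.mem_ker, pw_apply, pow_one]; exact ha
  rw [← h1] at h2
  exact h2

theorem exists_two (m : M) (hm : (2 ^ (n - 1) : ℕ) • m = 0) : ∃ m', m = 2 • m' := by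
  have h1 := (card_facts h.hn h.card h.exp h.h8).2
  have h2 : m ∈ (pw M (n - 1)).ker := hm
  rw [h1] at h2
  obtain ⟨m', hm'⟩ := h2
  rw [pw_apply, pow_one] at hm'
  exact ⟨m', hm'.symm⟩

/-- the functional, with values in the fixed points of `X`. -/
def lam (X : M →+ M) : M →+ M := AddMonoidHom.id M + X + X.comp X

omit [Finite M] h in
theorem lam_apply (X : M →+ M) (m : M) : lam X m = m + X m + X (X m) := rfl

omit [Finite M] in
theorem X_lam (m : M) : X (lam X m) = lam X m := by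
  rw [lam_apply, map_add, map_add, h.XXX]
  abel

omit [Finite M] in
theorem lam_X (m : M) : lam X (X m) = lam X m := by
  rw [lam_apply, lam_apply, h.XXX]
  abel

omit [Finite M] in
theorem neg_z : -z = z := by
  have := h.z2
  rw [two_smul] at this
  exact neg_eq_of_add_eq_zero_left this

omit [Finite M] in
theorem R3z : R3 z = z := by rw [← h.R12, h.R2z, h.R1z]

/-- `f` generates the fixed points of `X` -/
theorem exists_f : ∃ f, X f = f ∧ (2 ^ (n - 1) : ℕ) • f = z := by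
  obtain ⟨m, hm⟩ := h.exists_half z h.z2
  refine ⟨lam X m, h.X_lam m, ?_⟩
  rw [lam_apply, smul_add, smul_add, ← map_nsmul, ← map_nsmul, ← map_nsmul, hm, h.Xz, h.Xz]
  have := h.z2
  rw [two_smul] at this
  rw [this, zero_add]

omit [Finite M] in
/-- powers of two: `2^(n-1) f = z` implies that `k f = 0` iff `2^n ∣ k` -/
theorem zsmul_eq_zero {f : M} (hf : (2 ^ (n - 1) : ℕ) • f = z) (k : ℤ) : k • f = 0 ↔ (2 : ℤ) ^ n ∣ k := by
  have hn := h.hn
  have hexp : ((2 : ℤ) ^ n) • f = 0 := by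
    have h1 := h.exp f
    rw [← natCast_zsmul] at h1
    push_cast at h1
    exact h1
  constructor
  · intro hk
    have hg : ((Int.gcd k ((2 : ℤ) ^ n) : ℕ) : ℤ) • f = 0 := by
      rw [Int.gcd_eq_gcd_ab, add_smul, mul_comm, mul_smul, hk, mul_comm ((2 : ℤ) ^ n), mul_smul, hexp]
      simp
    have hdvd : Int.gcd k ((2 : ℤ) ^ n) ∣ 2 ^ n := by
      have := Int.gcd_dvd_right k ((2 : ℤ) ^ n)
      exact_mod_cast this
    obtain ⟨j, hj, hgj⟩ := (Nat.dvd_prime_pow Nat.prime_two).mp hdvd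
    rcases Nat.lt_or_ge j n with hlt | hge
    · exfalso
      apply h.z0
      obtain ⟨d, hd⟩ : ∃ d, n - 1 = j + d := ⟨n - 1 - j, by omega⟩
      rw [← hf, hd, pow_add, mul_comm, mul_smul]
      rw [hgj, natCast_zsmul] at hg
      rw [hg, smul_zero]
    · have : j = n := le_antisymm hj hge
      rw [this] at hgj
      have h2 := Int.gcd_dvd_left k ((2 : ℤ) ^ n)
      rw [hgj] at h2
      exact_mod_cast h2
  · rintro ⟨m, rfl⟩
    rw [mul_comm, mul_smul, hexp, smul_zero]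

omit [Finite M] in
theorem fix_aux {f : M} (hXf : X f = f) (hf : (2 ^ (n - 1) : ℕ) • f = z) (j : ℕ) :
    ∀ u, X u = u → (2 ^ j : ℕ) • u = 0 → ∃ k : ℤ, u = k • f := by
  have hn := h.hn
  induction j with
  | zero => intro u _ hu; exact ⟨0, by simpa using hu⟩
  | succ j ih =>
    intro u hXu hu
    obtain ⟨k, hk⟩ := ih (2 • u) (by rw [map_nsmul, hXu]) (by rw [smul_smul, ← pow_succ]; exact hu)
    have h1 : (2 : ℤ) ^ n ∣ 2 ^ (n - 1) * k := by
      rw [← h.zsmul_eq_zero hf, mul_smul, ← hk]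
      have := h.exp u
      rw [← natCast_zsmul] at this
      rw [← natCast_zsmul u 2, smul_smul]
      have e : (2 : ℤ) ^ (n - 1) * ((2 : ℕ) : ℤ) = ((2 ^ n : ℕ) : ℤ) := by
        push_cast
        rw [← pow_succ, Nat.sub_add_cancel hn]
      rw [e]; exact this
    have h2 : (2 : ℤ) ∣ k := by
      have e : (2 : ℤ) ^ n = 2 ^ (n - 1) * 2 := by rw [← pow_succ, Nat.sub_add_cancel hn]
      rw [e] at h1
      exact Int.dvd_of_mul_dvd_mul_left (by positivity) h1 |> id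
    obtain ⟨k', rfl⟩ := h2
    have h3 : 2 • (u - k' • f) = 0 := by
      rw [smul_sub, hk, mul_smul, ← natCast_zsmul (k' • f) 2]
      simp
    rcases h.fixX _ h3 (by rw [map_sub, map_zsmul, hXu, hXf]) with h4 | h4
    · exact ⟨k', sub_eq_zero.mp h4⟩
    · refine ⟨k' + 2 ^ (n - 1), ?_⟩
      rw [add_smul]
      have : ((2 : ℤ) ^ (n - 1)) • f = z := by
        rw [← hf, ← natCast_zsmul]; push_cast; rfl
      rw [this, ← h4]
      abel

omit [Finite M] in
theorem exists_zsmul {f : M} (hXf : X f = f) (hf : (2 ^ (n - 1) : ℕ) • f = z) {u : M} (hu : X u = u) :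
    ∃ k : ℤ, u = k • f :=
  h.fix_aux hXf hf n u hu (h.exp u)

omit [Finite M] in
theorem exists_inv {w : M} (hw : w ≠ 0) : ∃ j : ℕ, (2 ^ j : ℕ) • w ≠ 0 ∧ 2 • ((2 ^ j : ℕ) • w) = 0 := by
  by_contra hcon
  push Not at hcon
  have : ∀ j : ℕ, (2 ^ j : ℕ) • w ≠ 0 := by
    intro j
    induction j with
    | zero => simpa using hw
    | succ j ih => rw [pow_succ', mul_smul]; exact hcon j ih
  exact this n (h.exp w)

omit [Finite M] in
theorem lam_z : lam X z = z := by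
  rw [lam_apply, h.Xz, h.Xz]
  have := h.z2
  rw [two_smul] at this
  rw [this, zero_add]

omit [Finite M] in
/-- the fixed points of `V` are fixed by `X` -/
theorem X_of_fixV {u : M} (h1 : R1 u = u) (h2 : R2 u = u) : X u = u := by
  by_contra hne
  have hw : u - X u ≠ 0 := fun h0 => hne (sub_eq_zero.mp h0).symm
  have h3 : R3 u = u := by rw [← h.R12, h2, h1]
  obtain ⟨j, hj, hj2⟩ := h.exists_inv hw
  have f1 : R1 (u - X u) = u - X u := by rw [map_sub, h1, ← h.XR3, h3]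
  have f2 : R2 (u - X u) = u - X u := by rw [map_sub, h2, ← h.XR1, h1]
  rcases h.fixV _ hj2 (by rw [map_nsmul, f1]) (by rw [map_nsmul, f2]) with h4 | h4
  · exact hj h4
  · apply h.z0
    rw [← h.lam_z, ← h4, map_nsmul, map_sub, h.lam_X, sub_self, smul_zero]

/-- the norm -/
def nu (R1 R2 R3 : M →+ M) : M →+ M := AddMonoidHom.id M + R1 + R2 + R3

omit [Finite M] h in
theorem nu_apply (m : M) : nu R1 R2 R3 m = m + R1 m + R2 m + R3 m := rfl

omit [Finite M] in
theorem nu_R1 (m : M) : nu R1 R2 R3 (R1 m) = nu R1 R2 R3 m := by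
  rw [nu_apply, nu_apply, h.R11, h.R21, h.R31]; abel

omit [Finite M] in
theorem R1_nu (m : M) : R1 (nu R1 R2 R3 m) = nu R1 R2 R3 m := by
  rw [nu_apply, map_add, map_add, map_add, h.R11, h.R12, h.R13]; abel

omit [Finite M] in
theorem R2_nu (m : M) : R2 (nu R1 R2 R3 m) = nu R1 R2 R3 m := by
  rw [nu_apply, map_add, map_add, map_add, h.R21, h.R22, h.R23]; abel

omit [Finite M] in
theorem nu_X (m : M) : nu R1 R2 R3 (X m) = nu R1 R2 R3 m := by
  rw [← h.X_of_fixV (h.R1_nu m) (h.R2_nu m), nu_apply, nu_apply, map_add, map_add, map_add, h.XR1, h.XR2, h.XR3]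
  abel

theorem exists_dec (m : M) : ∃ m' m'', nu R1 R2 R3 m' = 0 ∧ m = m' + 2 • m'' := by
  obtain ⟨f, hXf, hf⟩ := h.exists_f
  obtain ⟨k, hk⟩ := h.exists_zsmul hXf hf (h.X_lam m)
  obtain ⟨a, ha, ha1⟩ := h.ne1
  obtain ⟨m1, hm1⟩ := h.exists_half a ha
  obtain ⟨m2, hm2⟩ := h.exists_two (f - (m1 - R1 m1)) (by
    rw [smul_sub, smul_sub, hf, ← map_nsmul, hm1, ha1]
    have := h.neg_z
    have e : a - (a + z) = -z := by abel
    rw [e, this, sub_self])
  refine ⟨k • (m1 - R1 m1) + (m - X m) + (m - X (X m)), k • m2 - m, ?_, ?_⟩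
  · rw [map_add, map_add, map_zsmul, map_sub, map_sub, map_sub, h.nu_R1, h.nu_X, h.nu_X, h.nu_X]
    simp
  · have h3 : lam X m = k • (m1 - R1 m1) + 2 • (k • m2) := by
      rw [hk, smul_comm 2 k m2, ← smul_add, ← hm2]
      congr 1
      abel
    rw [lam_apply] at h3
    have h4 : m = (m + X m + X (X m)) + (m - X m) + (m - X (X m)) - 2 • m := by
      rw [two_smul]; abel
    calc m = (m + X m + X (X m)) + (m - X m) + (m - X (X m)) - 2 • m := h4
      _ = _ := by rw [h3, smul_sub]; abel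

/-- the norm vanishes -/
theorem nu_eq_zero (m : M) : nu R1 R2 R3 m = 0 := by
  have key : ∀ j : ℕ, ∀ m : M, ∃ m', nu R1 R2 R3 m = (2 ^ j : ℕ) • nu R1 R2 R3 m' := by
    intro j
    induction j with
    | zero => intro m; exact ⟨m, by simp⟩
    | succ j ih =>
      intro m
      obtain ⟨m', hm'⟩ := ih m
      obtain ⟨a, b, ha, hb⟩ := h.exists_dec m'
      refine ⟨b, ?_⟩
      rw [hm', hb, map_add, ha, zero_add, map_nsmul, smul_smul, ← pow_succ]
  obtain ⟨m', hm'⟩ := key n m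
  rw [hm', h.exp]

theorem lam_R3 (m : M) : lam X (R3 m) = -(lam X m + lam X (R1 m) + lam X (R2 m)) := by
  have h1 := congrArg (lam X) (h.nu_eq_zero m)
  rw [nu_apply, map_add, map_add, map_add, map_zero] at h1
  rw [eq_neg_iff_add_eq_zero, add_comm]
  exact h1

omit [Finite M] in
/-- the coordinates are injective -/
theorem eq_zero_of_lam {m : M} (h0 : lam X m = 0) (h1 : lam X (R1 m) = 0) (h2 : lam X (R2 m) = 0) : m = 0 := by
  by_contra hm
  obtain ⟨j, hj, hj2⟩ := h.exists_inv hm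
  set a := (2 ^ j : ℕ) • m with ha
  have l0 : lam X a = 0 := by rw [ha, map_nsmul, h0, smul_zero]
  have l1 : lam X (R1 a) = 0 := by rw [ha, map_nsmul, map_nsmul, h1, smul_zero]
  have l2 : lam X (R2 a) = 0 := by rw [ha, map_nsmul, map_nsmul, h2, smul_zero]
  have r1 : R1 a = a := by
    rcases h.tr1 a hj2 with h5 | h5
    · exact h5
    · exfalso
      rw [h5, map_add, l0, zero_add, h.lam_z] at l1
      exact h.z0 l1
  have r2 : R2 a = a := by
    rcases h.tr2 a hj2 with h5 | h5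
    · exact h5
    · exfalso
      rw [h5, map_add, l0, zero_add, h.lam_z] at l2
      exact h.z0 l2
  rcases h.fixV a hj2 r1 r2 with h5 | h5
  · exact hj h5
  · rw [h5, h.lam_z] at l0
    exact h.z0 l0

/-- the coordinates are surjective -/
theorem exists_lam {f : M} (hXf : X f = f) (hf : (2 ^ (n - 1) : ℕ) • f = z) (a b c : ℤ) :
    ∃ m, lam X m = a • f ∧ lam X (R1 m) = b • f ∧ lam X (R2 m) = c • f := by
  let C : AddSubgroup M := AddSubgroup.zmultiples f
  have hmem : ∀ u, X u = u → u ∈ C := by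
    intro u hu
    obtain ⟨k, hk⟩ := h.exists_zsmul hXf hf hu
    exact ⟨k, hk.symm⟩
  let Λ : M → C × C × C := fun m =>
    (⟨lam X m, hmem _ (h.X_lam m)⟩, ⟨lam X (R1 m), hmem _ (h.X_lam _)⟩, ⟨lam X (R2 m), hmem _ (h.X_lam _)⟩)
  have hinj : Function.Injective Λ := by
    intro m m' hmm
    simp only [Λ, Prod.mk.injEq, Subtype.mk.injEq] at hmm
    obtain ⟨e1, e2, e3⟩ := hmm
    rw [← sub_eq_zero]
    apply h.eq_zero_of_lam
    · rw [map_sub, e1, sub_self]
    · rw [map_sub, map_sub, e2, sub_self]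
    · rw [map_sub, map_sub, e3, sub_self]
  have hC : Nat.card C = 2 ^ n := by
    rw [Nat.card_zmultiples]
    apply Nat.dvd_antisymm
    · exact addOrderOf_dvd_of_nsmul_eq_zero (h.exp f)
    · have h1 := addOrderOf_nsmul_eq_zero f
      have h2 : ((addOrderOf f : ℕ) : ℤ) • f = 0 := by rw [natCast_zsmul]; exact h1
      rw [h.zsmul_eq_zero hf] at h2
      exact_mod_cast h2
  have hcard : Nat.card (C × C × C) = Nat.card M := by
    rw [Nat.card_prod, Nat.card_prod, hC, h.card, ← mul_assoc, ← mul_pow, ← mul_pow]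
    norm_num
  have hbij : Function.Bijective Λ := by
    rw [Nat.bijective_iff_injective_and_card]
    exact ⟨hinj, hcard.symm⟩
  obtain ⟨m, hm⟩ := hbij.2 (⟨a • f, ⟨a, rfl⟩⟩, ⟨b • f, ⟨b, rfl⟩⟩, ⟨c • f, ⟨c, rfl⟩⟩)
  simp only [Λ, Prod.mk.injEq] at hm
  exact ⟨m, congrArg Subtype.val hm.1, congrArg Subtype.val hm.2.1, congrArg Subtype.val hm.2.2⟩

end Act

/-- coordinates: `φ a b c` has the four coordinates `a, b, c, -a-b-c`. -/
structure IsCoord {M : Type*} [AddCommGroup M] (n : ℕ) (R1 R2 R3 X s : M →+ M) (φ : ℤ → ℤ → ℤ → M) : Prop where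
  add : ∀ a b c a' b' c', φ a b c + φ a' b' c' = φ (a + a') (b + b') (c + c')
  eq_zero : ∀ a b c, φ a b c = 0 ↔ (2 : ℤ) ^ n ∣ a ∧ (2 : ℤ) ^ n ∣ b ∧ (2 : ℤ) ^ n ∣ c
  surj : ∀ m, ∃ a b c, m = φ a b c
  R1_φ : ∀ a b c, R1 (φ a b c) = φ b a (-a - b - c)
  R2_φ : ∀ a b c, R2 (φ a b c) = φ c (-a - b - c) a
  R3_φ : ∀ a b c, R3 (φ a b c) = φ (-a - b - c) c b
  X_φ : ∀ a b c, X (φ a b c) = φ a (-a - b - c) b
  s_φ : ∀ a b c, s (φ a b c) = φ (-a) (-c) (-b)

namespace Act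

variable {M : Type*} [AddCommGroup M] [Finite M] {n : ℕ} {R1 R2 R3 X s : M →+ M} {z : M}
  (h : Act M n R1 R2 R3 X s z)
include h

/-- everything except the sign of `s`. -/
theorem exists_pre : ∃ φ : ℤ → ℤ → ℤ → M, ∃ ε : ℤ,
    (∀ a b c a' b' c', φ a b c + φ a' b' c' = φ (a + a') (b + b') (c + c')) ∧
    (∀ a b c, φ a b c = 0 ↔ (2 : ℤ) ^ n ∣ a ∧ (2 : ℤ) ^ n ∣ b ∧ (2 : ℤ) ^ n ∣ c) ∧
    (∀ m, ∃ a b c, m = φ a b c) ∧
    (∀ a b c, R1 (φ a b c) = φ b a (-a - b - c)) ∧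
    (∀ a b c, R2 (φ a b c) = φ c (-a - b - c) a) ∧
    (∀ a b c, R3 (φ a b c) = φ (-a - b - c) c b) ∧
    (∀ a b c, X (φ a b c) = φ a (-a - b - c) b) ∧
    (∀ a b c, s (φ a b c) = φ (ε * a) (ε * c) (ε * b)) ∧ ¬ (2 : ℤ) ∣ ε := by
  obtain ⟨f, hXf, hf⟩ := h.exists_f
  choose φ hφ0 hφ1 hφ2 using h.exists_lam hXf hf
  have hφ3 : ∀ a b c, lam X (R3 (φ a b c)) = (-a - b - c) • f := by
    intro a b c
    rw [h.lam_R3, hφ0, hφ1, hφ2, ← add_smul, ← add_smul, ← neg_smul]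
    congr 1; ring
  -- uniqueness
  have huniq : ∀ m m', lam X m = lam X m' → lam X (R1 m) = lam X (R1 m') → lam X (R2 m) = lam X (R2 m') → m = m' := by
    intro m m' e1 e2 e3
    rw [← sub_eq_zero]
    apply h.eq_zero_of_lam
    · rw [map_sub, e1, sub_self]
    · rw [map_sub, map_sub, e2, sub_self]
    · rw [map_sub, map_sub, e3, sub_self]
  obtain ⟨ε, hε⟩ := h.exists_zsmul hXf hf (u := s f) (by
    have h3 : s f = X (X (s f)) := by
      have := h.sX f
      rwa [hXf] at this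
    calc X (s f) = X (X (X (s f))) := by rw [← h3]
      _ = s f := h.XXX _)
  have slam : ∀ m, lam X (s m) = s (lam X m) := by
    intro m
    have e1 : s (X m) = X (X (s m)) := h.sX m
    have e2 : s (X (X m)) = X (s m) := by
      rw [h.sX, h.sX, h.XXX]
    rw [lam_apply, lam_apply, map_add, map_add, e1, e2]
    abel
  refine ⟨φ, ε, ?_, ?_, ?_, ?_, ?_, ?_, ?_, ?_, ?_⟩
  · intro a b c a' b' c'
    apply huniq
    · rw [map_add, hφ0, hφ0, hφ0, add_smul]
    · rw [map_add, map_add, hφ1, hφ1, hφ1, add_smul]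
    · rw [map_add, map_add, hφ2, hφ2, hφ2, add_smul]
  · intro a b c
    rw [← h.zsmul_eq_zero hf, ← h.zsmul_eq_zero hf, ← h.zsmul_eq_zero hf]
    constructor
    · intro h0
      rw [← hφ0 a b c, ← hφ1 a b c, ← hφ2 a b c, h0]
      simp
    · rintro ⟨e1, e2, e3⟩
      apply h.eq_zero_of_lam
      · rw [hφ0, e1]
      · rw [hφ1, e2]
      · rw [hφ2, e3]
  · intro m
    obtain ⟨a, ha⟩ := h.exists_zsmul hXf hf (h.X_lam m)
    obtain ⟨b, hb⟩ := h.exists_zsmul hXf hf (h.X_lam (R1 m))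
    obtain ⟨c, hc⟩ := h.exists_zsmul hXf hf (h.X_lam (R2 m))
    refine ⟨a, b, c, huniq _ _ ?_ ?_ ?_⟩
    · rw [hφ0, ha]
    · rw [hφ1, hb]
    · rw [hφ2, hc]
  · intro a b c
    apply huniq
    · rw [hφ1, hφ0]
    · rw [h.R11, hφ0, hφ1]
    · rw [h.R21, hφ3, hφ2]
  · intro a b c
    apply huniq
    · rw [hφ2, hφ0]
    · rw [h.R12, hφ3, hφ1]
    · rw [h.R22, hφ0, hφ2]
  · intro a b c
    apply huniq
    · rw [hφ3, hφ0]
    · rw [h.R13, hφ2, hφ1]
    · rw [h.R23, hφ1, hφ2]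
  · intro a b c
    apply huniq
    · rw [h.lam_X, hφ0, hφ0]
    · rw [← h.XR3, h.lam_X, hφ3, hφ1]
    · rw [← h.XR1, h.lam_X, hφ1, hφ2]
  · intro a b c
    apply huniq
    · rw [slam, hφ0, hφ0, map_zsmul, hε, smul_smul, mul_comm]
    · rw [← h.sR2, slam, hφ2, hφ1, map_zsmul, hε, smul_smul, mul_comm]
    · rw [← h.sR1, slam, hφ1, hφ2, map_zsmul, hε, smul_smul, mul_comm]
  · rintro ⟨k, rfl⟩
    apply h.z0
    have h1 : s z = (2 ^ (n - 1) : ℕ) • (s f) := by rw [← map_nsmul, hf]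
    rw [h.sz, hε, smul_comm, hf, mul_smul] at h1
    rw [h1, smul_comm]
    have := h.z2
    rw [← natCast_zsmul] at this
    have e : (2 : ℤ) • z = 0 := by exact_mod_cast this
    rw [e, smul_zero]

/-- **Coordinates.** `K` is an automorphism which conjugates `R3` to `s`. -/
theorem exists_coord (K : M → M) (hK0 : K 0 = 0) (hKadd : ∀ a b, K (a + b) = K a + K b) (hKsurj : Function.Surjective K)
    (hK : ∀ m, K (R3 m) = s (K m)) : ∃ φ : ℤ → ℤ → ℤ → M, IsCoord n R1 R2 R3 X s φ := by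
  obtain ⟨φ, ε, hadd, hzero, hsurj, hR1, hR2, hR3, hX, hs, hε⟩ := h.exists_pre
  have hn := h.hn
  have hKinj : Function.Injective K := Finite.injective_iff_surjective.mpr hKsurj
  have hpow : (2 : ℤ) ^ n = 2 ^ (n - 1) * 2 := by rw [← pow_succ, Nat.sub_add_cancel hn]
  have hnsmul : ∀ (k : ℕ) a b c, k • φ a b c = φ (k * a) (k * b) (k * c) := by
    intro k
    induction k with
    | zero => intro a b c; rw [zero_smul, eq_comm, hzero]; simp
    | succ k ih =>
      intro a b c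
      rw [add_smul, one_smul, ih, hadd]
      push_cast
      congr 1 <;> ring
  have hcongr : ∀ a b c a' b' c', (2 : ℤ) ^ n ∣ a - a' → (2 : ℤ) ^ n ∣ b - b' → (2 : ℤ) ^ n ∣ c - c' →
      φ a b c = φ a' b' c' := by
    intro a b c a' b' c' h1 h2 h3
    have : φ a b c = φ (a - a') (b - b') (c - c') + φ a' b' c' := by
      rw [hadd]; congr 1 <;> ring
    rw [this, (hzero _ _ _).mpr ⟨h1, h2, h3⟩, zero_add]
  -- `1 + R3`
  have hP : ∀ m', 2 • (m' + R3 m') = 0 → m' + R3 m' = 0 ∨ m' + R3 m' = φ (-2 ^ (n - 1)) (2 ^ (n - 1)) (2 ^ (n - 1)) := by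
    intro m' hm'
    obtain ⟨a, b, c, rfl⟩ := hsurj m'
    rw [hR3, hadd, hnsmul, hzero] at hm'
    rw [hR3, hadd]
    obtain ⟨_, h2, _⟩ := hm'
    obtain ⟨j, hj⟩ := h2
    rw [hpow] at hj
    have hj' : b + c = 2 ^ (n - 1) * j := by
      push_cast at hj
      linarith
    rcases Int.even_or_odd' j with ⟨i, hi | hi⟩
    · left
      rw [hzero, hpow]
      refine ⟨⟨-i, ?_⟩, ⟨i, ?_⟩, ⟨i, ?_⟩⟩
      · have : a + (-a - b - c) = -(b + c) := by ring
        rw [this, hj', hi]; ring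
      · rw [hj', hi]; ring
      · have : c + b = b + c := by ring
        rw [this, hj', hi]; ring
    · right
      apply hcongr
      · refine ⟨-i, ?_⟩
        have : a + (-a - b - c) - -2 ^ (n - 1) = -(b + c) + 2 ^ (n - 1) := by ring
        rw [this, hj', hi, hpow]; ring
      · refine ⟨i, ?_⟩
        rw [hj', hi, hpow]; ring
      · refine ⟨i, ?_⟩
        have : c + b = b + c := by ring
        rw [this, hj', hi, hpow]; ring
  have hPs : ∀ m t, t = m + s m → 2 • t = 0 → t ≠ 0 →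
      t = K (φ (-2 ^ (n - 1)) (2 ^ (n - 1)) (2 ^ (n - 1))) := by
    intro m t ht ht2 ht0
    obtain ⟨m', rfl⟩ := hKsurj m
    rw [← hK, ← hKadd] at ht
    have h2 : 2 • (m' + R3 m') = 0 := by
      apply hKinj
      rw [hK0, two_smul, hKadd, ← ht, ← two_smul ℕ, ht2]
    rcases hP m' h2 with h3 | h3
    · rw [h3, hK0] at ht
      exact absurd ht ht0
    · rw [ht, h3]
  have hdiv : (2 : ℤ) ^ n ∣ 1 + ε := by
    by_contra hcon
    have hw : φ (1 + ε) 0 0 ≠ 0 := by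
      intro h0
      rw [hzero] at h0
      exact hcon h0.1
    obtain ⟨j, hj, hj2⟩ := h.exists_inv hw
    have e1 := hPs ((2 ^ j : ℕ) • φ 1 0 0) ((2 ^ j : ℕ) • φ (1 + ε) 0 0) (by
      rw [map_nsmul, hs, ← smul_add, hadd]
      simp) hj2 hj
    have e2 := hPs ((2 ^ (n - 1) : ℕ) • φ 1 (-1) 0) ((2 ^ (n - 1) : ℕ) • φ (1 + ε) (-1) (-ε)) (by
      rw [map_nsmul, hs, ← smul_add, hadd]
      simp) (by
      rw [smul_smul, hnsmul, hzero]
      push_cast
      rw [← pow_succ', Nat.sub_add_cancel hn]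
      exact ⟨dvd_mul_right _ _, dvd_mul_right _ _, dvd_mul_right _ _⟩) (by
      intro h0
      rw [hnsmul, hzero] at h0
      obtain ⟨_, h2, _⟩ := h0
      rw [hpow] at h2
      push_cast at h2
      rw [mul_dvd_mul_iff_left (by positivity)] at h2
      omega)
    have e3 : (2 ^ j : ℕ) • φ (1 + ε) 0 0 = (2 ^ (n - 1) : ℕ) • φ (1 + ε) (-1) (-ε) := e1.trans e2.symm
    rw [hnsmul, hnsmul] at e3
    have e4 : φ (((2 ^ (n - 1) : ℕ) : ℤ) * (1 + ε) - ((2 ^ j : ℕ) : ℤ) * (1 + ε)) (((2 ^ (n - 1) : ℕ) : ℤ) * (-1))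
        (((2 ^ (n - 1) : ℕ) : ℤ) * (-ε)) = 0 := by
      have e5 : φ (((2 ^ (n - 1) : ℕ) : ℤ) * (1 + ε) - ((2 ^ j : ℕ) : ℤ) * (1 + ε)) (((2 ^ (n - 1) : ℕ) : ℤ) * (-1))
        (((2 ^ (n - 1) : ℕ) : ℤ) * (-ε)) + φ (((2 ^ j : ℕ) : ℤ) * (1 + ε)) (((2 ^ j : ℕ) : ℤ) * 0) (((2 ^ j : ℕ) : ℤ) * 0) =
          φ (((2 ^ (n - 1) : ℕ) : ℤ) * (1 + ε)) (((2 ^ (n - 1) : ℕ) : ℤ) * (-1)) (((2 ^ (n - 1) : ℕ) : ℤ) * (-ε)) := by
        rw [hadd]; congr 1 <;> ring
      rw [e3] at e5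
      exact add_eq_right.mp e5
    rw [hzero] at e4
    obtain ⟨_, h2, _⟩ := e4
    rw [hpow] at h2
    push_cast at h2
    rw [mul_dvd_mul_iff_left (by positivity)] at h2
    omega
  refine ⟨φ, hadd, hzero, hsurj, hR1, hR2, hR3, hX, ?_⟩
  intro a b c
  rw [hs]
  apply hcongr
  · have : ε * a - -a = (1 + ε) * a := by ring
    rw [this]; exact Dvd.dvd.mul_right hdiv _
  · have : ε * c - -c = (1 + ε) * c := by ring
    rw [this]; exact Dvd.dvd.mul_right hdiv _
  · have : ε * b - -b = (1 + ε) * b := by ring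
    rw [this]; exact Dvd.dvd.mul_right hdiv _

end Act

end Cfsg.Agent.ONType.Coord
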