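import Mathlib
import Cfsg.Prelude.Def_Local
import Cfsg.Agent.S0058
import Cfsg.Agent.Dichotomy.Functor

set_option autoImplicit false

/-!
# Groups of O'Nan type: the cores of the centralisers of involutions

`A` is a normal elementary abelian subgroup of order 8 of the Sylow 2-subgroup `S`, `z ∈ A`, and
`C_G(z) / O(C_G(z))` looks like `4.L₃(4).2`.  The subgroup `W_A` generated by the `O(C_G(a))` is the
largest `A`-invariant subgroup of odd order, so that `W_A = W_{gAg⁻¹}` as soon as `gAg⁻¹ ≤ N(A)`.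
The solvability of the groups of odd order is a hypothesis here.
-/

namespace Cfsg.Agent.ONType.Core

open Cfsg
open Cfsg.Agent.Dichotomy
open Cfsg.Agent.Dichotomy.Elem
open Cfsg.Agent.Dichotomy.Functor

variable {G : Type*} [Group G]

/-- The input of the killing of the core in a group of O'Nan type. -/
structure Input (S : Sylow 2 G) (A : Subgroup G) (z : G) : Prop where
  z_mem : z ∈ A
  z_ne : z ≠ 1
  elem : IsElementaryAbelian 2 A
  card : Nat.card A = 8
  norm : (S : Subgroup G) ≤ Subgroup.normalizer (A : Set G)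
  trans : ∀ a ∈ A, a ≠ 1 → ∃ n ∈ Subgroup.normalizer (A : Set G), n * a * n⁻¹ = z
  good : ∀ b ∈ A, b ≠ 1 → b ≠ z → ∀ w : G, Odd (orderOf w) → w * z = z * w → w * b = b * w →
    w ∈ centralizerPPrimeCore 2 z
  fus : ∀ y ∈ (S : Subgroup G), y * y = 1 →
    ∃ g : G, (∀ a ∈ A, g * a * g⁻¹ ∈ Subgroup.normalizer (A : Set G)) ∧ g⁻¹ * y * g ∈ A

theorem mem_cent {x w : G} : w ∈ Subgroup.centralizer ({x} : Set G) ↔ w * x = x * w :=
  Subgroup.mem_centralizer_singleton_iff

theorem odd_of_mem {H : Subgroup G} [Finite H] (hH : Odd (Nat.card H)) {w : G} (hw : w ∈ H) :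
    Odd (orderOf w) := by
  have h1 : orderOf (⟨w, hw⟩ : H) ∣ Nat.card H := orderOf_dvd_natCard _
  rw [Subgroup.orderOf_mk] at h1
  exact Odd.of_dvd_nat hH h1

theorem orderOf_conj (g w : G) : orderOf (g * w * g⁻¹) = orderOf w :=
  orderOf_injective (MulAut.conj g).toMonoidHom (MulAut.conj g).injective w

theorem mem_normalizer_conj {A : Subgroup G} {n : G} (hn : n ∈ Subgroup.normalizer (A : Set G))
    {a : G} (ha : a ∈ A) : n * a * n⁻¹ ∈ A :=
  (Subgroup.mem_normalizer_iff.1 hn a).1 ha

theorem mem_normalizer_conj' {A : Subgroup G} {n : G}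
    (hn : n ∈ Subgroup.normalizer (A : Set G)) {a : G} (ha : a ∈ A) : n⁻¹ * a * n ∈ A := by
  have := mem_normalizer_conj (inv_mem hn) ha
  rwa [inv_inv] at this

theorem map_eq_of_mem_normalizer {A : Subgroup G} {n : G}
    (hn : n ∈ Subgroup.normalizer (A : Set G)) : A.map (MulAut.conj n).toMonoidHom = A := by
  apply le_antisymm
  · rintro _ ⟨a, ha, rfl⟩
    exact mem_normalizer_conj hn ha
  · intro a ha
    exact ⟨n⁻¹ * a * n, mem_normalizer_conj' hn ha, by simp [mul_assoc]⟩

theorem th_card [Finite G] (x : G) : Odd (Nat.card ↥(centralizerPPrimeCore 2 x)) := by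
  have := th_odd x
  rwa [← even_iff_two_dvd, Nat.not_even_iff_odd] at this

/-- a noncyclic elementary abelian 2-group of order 4 acting on a group of odd order -/
theorem le_of_four [Finite G] {E D H : Subgroup G} (hE : IsElementaryAbelian 2 E)
    (hE4 : 4 ≤ Nat.card E) (hED : E ≤ Subgroup.normalizer (D : Set G)) (hD : Odd (Nat.card D))
    (h : ∀ a ∈ E, a ≠ 1 → D ⊓ Subgroup.centralizer {a} ≤ H) : D ≤ H := by
  haveI := hE.1
  have hncyc : ¬ IsCyclic E := by
    intro hcyc
    obtain ⟨g, hg⟩ := IsCyclic.exists_generator (α := E)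
    have h3 : orderOf g = Nat.card E := orderOf_eq_card_of_forall_mem_zpowers hg
    have h4 : g ^ 2 = 1 := by
      ext
      simpa using hE.2 g g.2
    have h5 : orderOf g ≤ 2 := orderOf_le_of_pow_eq_one (by norm_num) h4
    omega
  have hcop : (Nat.card E).Coprime (Nat.card D) := by
    obtain ⟨n, hn⟩ := (IsPGroup.iff_card (p := 2)).1 (isPGroup_of_elem hE)
    rw [hn]
    exact Nat.Coprime.pow_left n (Nat.coprime_two_left.2 hD)
  rw [← S0058.result E D hncyc hED hcop]
  refine iSup₂_le ?_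
  rintro a ⟨ha, ha1⟩
  exact h a ha ha1

namespace Input

variable [Finite G] {S : Sylow 2 G} {A : Subgroup G} {z : G}

theorem big (h : Input S A z) : Big A := ⟨h.elem, by rw [h.card]; norm_num⟩

/-- the condition `good` for all pairs of elements of `A` -/
theorem good' (h : Input S A z) {a b : G} (ha : a ∈ A) (hb : b ∈ A) (ha1 : a ≠ 1) (hb1 : b ≠ 1)
    (hab : b ≠ a) {w : G} (hw : Odd (orderOf w)) (hwa : w * a = a * w) (hwb : w * b = b * w) :
    w ∈ centralizerPPrimeCore 2 a := by
  obtain ⟨n, hn, hna⟩ := h.trans a ha ha1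
  have h1 : n * w * n⁻¹ ∈ centralizerPPrimeCore 2 z := by
    refine h.good (n * b * n⁻¹) (mem_normalizer_conj hn hb) ?_ ?_ _ ?_ ?_ ?_
    · intro h0
      apply hb1
      have := congrArg (fun v => n⁻¹ * v * n) h0
      simpa [mul_assoc] using this
    · rw [← hna]
      intro h0
      apply hab
      have := congrArg (fun v => n⁻¹ * v * n) h0
      simpa [mul_assoc] using this
    · rwa [orderOf_conj]
    · rw [← hna]
      have := congrArg (fun v => n * v * n⁻¹) hwa
      simpa [mul_assoc] using this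
    · have := congrArg (fun v => n * v * n⁻¹) hwb
      simpa [mul_assoc] using this
  rw [← hna, th_conj] at h1
  obtain ⟨v, hv, hvw⟩ := h1
  have h2 : n * v * n⁻¹ = n * w * n⁻¹ := hvw
  have h3 : v = w := by simpa using h2
  rwa [← h3]

/-- the signalizer functor on `A` is complete -/
theorem complete (h : Input S A z)
    (hsolv : ∀ a ∈ A, a ≠ 1 → Group.IsSolvable ↥(centralizerPPrimeCore 2 a)) :
    Odd (Nat.card ↥(W A)) ∧
      ∀ a ∈ A, a ≠ 1 → W A ⊓ Subgroup.centralizer {a} = centralizerPPrimeCore 2 a := by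
  have h1 := SignalizersComponents.SolFunctorTwo.solvable_signalizer_functor_two A
    (elem_comm h.elem) h.elem.2 h.big.2 (fun a => centralizerPPrimeCore 2 a)
    (fun a _ _ => th_le a) (fun a _ _ => th_odd a)
    (by
      intro a ha ha1 b hb x hx
      have h2 : b * a * b⁻¹ = a := by rw [elem_comm h.elem b hb a ha, mul_inv_cancel_right]
      have h3 := th_conj a b
      rw [h2] at h3
      rw [h3]
      exact ⟨x, hx, rfl⟩)
    hsolv
    (by
      intro a ha ha1 b hb hb1
      by_cases hab : a = b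
      · subst hab; exact inf_le_left
      · rintro w ⟨hw1, hw2⟩
        exact h.good' hb ha hb1 ha1 hab (odd_of_mem (th_card a) hw1) (mem_cent.1 hw2)
          (mem_cent.1 (th_le a hw1)))
  refine ⟨?_, h1.2.1⟩
  have h2 := h1.1
  rwa [← even_iff_two_dvd, Nat.not_even_iff_odd] at h2

omit [Finite G] in
theorem exists_notMem_of_card (h : Input S A z) {E : Subgroup G} (hE : Nat.card E = 4) :
    ∃ c ∈ A, c ∉ E := by
  by_contra hcon
  push Not at hcon
  have h1 : A ≤ E := hcon
  haveI : Finite E := Nat.finite_of_card_ne_zero (by rw [hE]; norm_num)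
  have h2 := Subgroup.card_le_of_le h1
  rw [h.card, hE] at h2
  omega

omit [Finite G] in
/-- there is a four-subgroup of `A` avoiding `a` -/
theorem exists_four (h : Input S A z) {a : G} (ha : a ∈ A) (ha1 : a ≠ 1) :
    ∃ E ≤ A, IsElementaryAbelian 2 E ∧ Nat.card E = 4 ∧ a ∉ E := by
  have hsq : ∀ x ∈ A, x * x = 1 := fun x hx => elem_sq h.elem hx
  have hcomm := elem_comm h.elem
  obtain ⟨b, hb, hb1, hba⟩ : ∃ b ∈ A, b ≠ 1 ∧ b ≠ a := by
    by_contra hcon
    push Not at hcon
    have h1 : A ≤ Subgroup.zpowers a := by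
      intro x hx
      by_cases hx1 : x = 1
      · rw [hx1]; exact one_mem _
      · rw [hcon x hx hx1]; exact Subgroup.mem_zpowers a
    have hoa : orderOf a = 2 := orderOf_two (hsq a ha) ha1
    have hca : Nat.card (Subgroup.zpowers a) = 2 := by rw [Nat.card_zpowers, hoa]
    haveI : Finite (Subgroup.zpowers a) := Nat.finite_of_card_ne_zero (by rw [hca]; norm_num)
    have h2 := Subgroup.card_le_of_le h1
    rw [h.card, hca] at h2
    omega
  have hab4 := card_four (hsq a ha) (hsq b hb) (hcomm a ha b hb) ha1 hb1 hba.symm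
  obtain ⟨c, hc, hcE⟩ := h.exists_notMem_of_card hab4
  rw [mem_four_iff (hsq a ha) (hsq b hb) (hcomm a ha b hb)] at hcE
  push Not at hcE
  obtain ⟨hc1, hca, hcb, hcab⟩ := hcE
  refine ⟨four b c, four_le hb hc, elem_four (hsq b hb) (hsq c hc) (hcomm b hb c hc),
    card_four (hsq b hb) (hsq c hc) (hcomm b hb c hc) hb1 hc1 hcb.symm, ?_⟩
  rw [mem_four_iff (hsq b hb) (hsq c hc) (hcomm b hb c hc)]
  push Not
  refine ⟨ha1, hba.symm, hca.symm, ?_⟩
  intro h0
  apply hcab
  rw [h0, hcomm b hb c hc, mul_assoc, hsq b hb, mul_one]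

/-- every `A`-invariant subgroup of odd order is contained in `W_A` -/
theorem le_W (h : Input S A z) {D : Subgroup G} (hD : Odd (Nat.card D))
    (hAD : A ≤ Subgroup.normalizer (D : Set G)) : D ≤ W A := by
  refine le_of_four h.elem (by rw [h.card]; norm_num) hAD hD ?_
  intro a ha ha1
  refine le_trans ?_ (Functor.le_W A ha ha1)
  obtain ⟨E, hEA, hE, hE4, haE⟩ := h.exists_four ha ha1
  have hDa : Odd (Nat.card ↥(D ⊓ Subgroup.centralizer ({a} : Set G))) :=
    Odd.of_dvd_nat hD (Subgroup.card_dvd_of_le inf_le_left)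
  refine le_of_four hE hE4.ge ?_ hDa ?_
  · intro b hb
    have hb1 : b ∈ Subgroup.normalizer (D : Set G) := hAD (hEA hb)
    have hb2 : b ∈ Subgroup.centralizer ({a} : Set G) :=
      mem_cent.2 (elem_comm h.elem b (hEA hb) a ha)
    rw [Subgroup.mem_normalizer_iff]
    intro x
    have key : x ∈ Subgroup.centralizer ({a} : Set G) ↔
        b * x * b⁻¹ ∈ Subgroup.centralizer ({a} : Set G) := by
      constructor
      · intro hx
        exact mul_mem (mul_mem hb2 hx) (inv_mem hb2)
      · intro hx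
        have := mul_mem (mul_mem (inv_mem hb2) hx) hb2
        simpa [mul_assoc] using this
    constructor
    · rintro ⟨h1, h2⟩
      exact ⟨(Subgroup.mem_normalizer_iff.1 hb1 x).1 h1, key.1 h2⟩
    · rintro ⟨h1, h2⟩
      exact ⟨(Subgroup.mem_normalizer_iff.1 hb1 x).2 h1, key.2 h2⟩
  · rintro b hb hb1 w ⟨⟨hwD, hwa⟩, hwb⟩
    have hba : b ≠ a := fun h0 => haE (h0 ▸ hb)
    exact h.good' ha (hEA hb) ha1 hb1 hba (odd_of_mem hD hwD) (mem_cent.1 hwa) (mem_cent.1 hwb)

/-- the normaliser of `A` normalises `W_A` -/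
theorem normalizer_le {n : G} (hn : n ∈ Subgroup.normalizer (A : Set G)) :
    n ∈ Subgroup.normalizer (W A : Set G) := by
  have h1 := W_conj A n
  rw [map_eq_of_mem_normalizer hn] at h1
  exact mem_normalizer_of_map_eq h1

/-- if `gAg⁻¹ ≤ N(A)` then `g` normalises `W_A` -/
theorem mem_normalizer_W (h : Input S A z)
    (hsolv : ∀ a ∈ A, a ≠ 1 → Group.IsSolvable ↥(centralizerPPrimeCore 2 a)) {g : G}
    (hg : ∀ a ∈ A, g * a * g⁻¹ ∈ Subgroup.normalizer (A : Set G)) :
    g ∈ Subgroup.normalizer (W A : Set G) := by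
  obtain ⟨hodd, -⟩ := h.complete hsolv
  -- `A` normalises `g⁻¹ W_A g`
  have h1 : (W A).map (MulAut.conj g⁻¹).toMonoidHom ≤ W A := by
    refine h.le_W ?_ ?_
    · rw [Subgroup.card_map_of_injective (MulAut.conj g⁻¹).injective]
      exact hodd
    · intro a ha
      have h2 : g * a * g⁻¹ ∈ Subgroup.normalizer (W A : Set G) := normalizer_le (hg a ha)
      have h3 := map_eq_of_mem_normalizer h2
      refine mem_normalizer_of_map_eq ?_
      rw [Subgroup.map_map]
      have h4 : (MulAut.conj a).toMonoidHom.comp (MulAut.conj g⁻¹).toMonoidHom =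
          ((MulAut.conj g⁻¹).toMonoidHom).comp (MulAut.conj (g * a * g⁻¹)).toMonoidHom := by
        ext x
        simp [mul_assoc]
      rw [h4, ← Subgroup.map_map, h3]
  have h5 : (W A).map (MulAut.conj g⁻¹).toMonoidHom = W A := by
    refine Subgroup.eq_of_le_of_card_ge h1 ?_
    rw [Subgroup.card_map_of_injective (MulAut.conj g⁻¹).injective]
  have h6 := mem_normalizer_of_map_eq h5
  have := inv_mem h6
  rwa [inv_inv] at this

end Input

end Cfsg.Agent.ONType.Core
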