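import Cfsg.Agent.ONType.CoreMain
import Cfsg.Agent.S0205
import Cfsg.Agent.S1221

set_option autoImplicit false

/-!
# Groups of O'Nan type: the cores of the centralisers of involutions are trivial (final form)
-/

namespace Cfsg.Agent.ONType.CoreEnd

open Cfsg
open Cfsg.Agent.ONType.Core

variable {G : Type*} [Group G] [Finite G] {S : Sylow 2 G} {A : Subgroup G} {z : G}

theorem hsolv (a : G) : Group.IsSolvable ↥(centralizerPPrimeCore 2 a) :=
  S0205.result (th_card a)

/-- `G` is balanced. -/
theorem balanced (h : Input S A z) : IsBalanced G :=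
  CoreMain.balanced h (fun a _ _ => hsolv a)

/-- The cores of the centralisers of the involutions of a group of O'Nan type are trivial. -/
theorem core_eq_bot (h : Input S A z)
    (hgen : Subgroup.centralizer ({z} : Set G) ≤
      Subgroup.closure ({w | w ∈ centralizerPPrimeCore 2 z} ∪
        {g | ∀ a ∈ A, g * a * g⁻¹ ∈ Subgroup.normalizer (A : Set G)}))
    (hO : oddCore G = ⊥) {t : G} (ht : orderOf t = 2) : centralizerPPrimeCore 2 t = ⊥ :=
  CoreMain.core_eq_bot h (fun a _ _ => hsolv a) hgen hO (fun H hH => S1221.result H hH) ht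

end Cfsg.Agent.ONType.CoreEnd
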