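import Cfsg.Prelude.Def_Involutions
import Cfsg.Agent.ONType.Core
import Cfsg.Agent.SignalizersComponents.RelSylow

set_option autoImplicit false

/-!
# Groups of O'Nan type: the cores of the centralisers of involutions are trivial
-/

namespace Cfsg.Agent.ONType.CoreMain

open Cfsg
open Cfsg.Agent.Dichotomy
open Cfsg.Agent.Dichotomy.Elem
open Cfsg.Agent.Dichotomy.Functor
open Cfsg.Agent.ONType.Core

variable {G : Type*} [Group G] [Finite G] {S : Sylow 2 G} {A : Subgroup G} {z : G}

/-- `C_{W_A}(y) = O(C_G(y))` for all the involutions `y` of `S` -/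
theorem cent_W (h : Input S A z)
    (hsolv : ∀ a ∈ A, a ≠ 1 → Group.IsSolvable ↥(centralizerPPrimeCore 2 a))
    {y : G} (hy : y ∈ (S : Subgroup G)) (hy2 : y * y = 1) (hy1 : y ≠ 1) :
    W A ⊓ Subgroup.centralizer {y} = centralizerPPrimeCore 2 y := by
  obtain ⟨g, hg, hga⟩ := h.fus y hy hy2
  have hgW := h.mem_normalizer_W hsolv hg
  have ha1 : g⁻¹ * y * g ≠ 1 := by
    intro h0
    apply hy1
    have := congrArg (fun v => g * v * g⁻¹) h0
    simpa [mul_assoc] using this
  have hya : g * (g⁻¹ * y * g) * g⁻¹ = y := by group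
  have h1 := (h.complete hsolv).2 _ hga ha1
  have h2 : (W A ⊓ Subgroup.centralizer {g⁻¹ * y * g}).map (MulAut.conj g).toMonoidHom =
      (centralizerPPrimeCore 2 (g⁻¹ * y * g)).map (MulAut.conj g).toMonoidHom := by rw [h1]
  rw [Subgroup.map_inf _ _ _ (MulAut.conj g).injective, Core.map_eq_of_mem_normalizer hgW,
    CoreTools.centralizer_conj, ← th_conj, hya] at h2
  exact h2

/-- every involution is conjugate into `S` -/
theorem exists_conj_mem (S : Sylow 2 G) {P : Subgroup G} (hP : IsPGroup 2 P) :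
    ∃ g : G, ∀ x ∈ P, g * x * g⁻¹ ∈ (S : Subgroup G) := by
  obtain ⟨Q, hQ⟩ := hP.exists_le_sylow
  obtain ⟨g, hg⟩ := MulAction.exists_smul_eq G Q S
  refine ⟨g, ?_⟩
  intro x hx
  rw [← hg]
  exact ⟨x, hQ hx, rfl⟩

theorem bal (h : Input S A z)
    (hsolv : ∀ a ∈ A, a ≠ 1 → Group.IsSolvable ↥(centralizerPPrimeCore 2 a))
    {x y : G} (hx : orderOf x = 2) (hy : orderOf y = 2) (hxy : x * y = y * x) :
    centralizerPPrimeCore 2 x ⊓ Subgroup.centralizer ({y} : Set G) =
      centralizerPPrimeCore 2 y ⊓ Subgroup.centralizer ({x} : Set G) := by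
  have hx2 := sq_of_orderOf hx
  have hy2 := sq_of_orderOf hy
  obtain ⟨g, hg⟩ := exists_conj_mem S (isPGroup_of_elem (elem_four hx2 hy2 hxy))
  have hne : ∀ {v : G}, v ≠ 1 → g * v * g⁻¹ ≠ 1 := by
    intro v hv h0
    apply hv
    have := congrArg (fun w => g⁻¹ * w * g) h0
    simpa [mul_assoc] using this
  have hsq : ∀ {v : G}, v * v = 1 → (g * v * g⁻¹) * (g * v * g⁻¹) = 1 := by
    intro v hv
    calc (g * v * g⁻¹) * (g * v * g⁻¹) = g * (v * v) * g⁻¹ := by group
      _ = 1 := by rw [hv]; group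
  have h1 := cent_W h hsolv (hg x (left_mem_four x y)) (hsq hx2) (hne (ne_one_of_orderOf hx))
  have h2 := cent_W h hsolv (hg y (right_mem_four x y)) (hsq hy2) (hne (ne_one_of_orderOf hy))
  have h3 : centralizerPPrimeCore 2 (g * x * g⁻¹) ⊓
      Subgroup.centralizer ({g * y * g⁻¹} : Set G) =
      centralizerPPrimeCore 2 (g * y * g⁻¹) ⊓
      Subgroup.centralizer ({g * x * g⁻¹} : Set G) := by
    rw [← h1, ← h2]
    rw [inf_assoc, inf_assoc, inf_comm (Subgroup.centralizer {g * x * g⁻¹})]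
  rw [th_conj, th_conj, ← CoreTools.centralizer_conj, ← CoreTools.centralizer_conj,
    ← Subgroup.map_inf _ _ _ (MulAut.conj g).injective,
    ← Subgroup.map_inf _ _ _ (MulAut.conj g).injective] at h3
  exact Subgroup.map_injective (MulAut.conj g).injective h3

/-- **`G` is balanced.** -/
theorem balanced (h : Input S A z)
    (hsolv : ∀ a ∈ A, a ≠ 1 → Group.IsSolvable ↥(centralizerPPrimeCore 2 a)) : IsBalanced G :=
  fun _ _ hx hy hxy => bal h hsolv hx hy hxy

/-- **The cores of the centralisers of the involutions are trivial**, if `C_G(z)` is generated by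
`O(C_G(z))` and elements `g` with `gAg⁻¹ ≤ N(A)`. -/
theorem core_eq_bot (h : Input S A z)
    (hsolv : ∀ a ∈ A, a ≠ 1 → Group.IsSolvable ↥(centralizerPPrimeCore 2 a))
    (hgen : Subgroup.centralizer ({z} : Set G) ≤
      Subgroup.closure ({w | w ∈ centralizerPPrimeCore 2 z} ∪
        {g | ∀ a ∈ A, g * a * g⁻¹ ∈ Subgroup.normalizer (A : Set G)}))
    (hO : oddCore G = ⊥)
    (hSE : ∀ H : Subgroup G, IsStronglyEmbedded H → (oddCore ↥H).map H.subtype ≤ oddCore G)
    {t : G} (ht : orderOf t = 2) : centralizerPPrimeCore 2 t = ⊥ := by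
  obtain ⟨hodd, hcomp⟩ := h.complete hsolv
  obtain ⟨H, hH⟩ : ∃ H, H = Subgroup.normalizer (W A : Set G) := ⟨_, rfl⟩
  have hz2 : z * z = 1 := elem_sq h.elem h.z_mem
  have hoz : orderOf z = 2 := orderOf_two hz2 h.z_ne
  have hWH : W A ≤ H := by rw [hH]; exact Subgroup.le_normalizer
  have hAH : ∀ n ∈ Subgroup.normalizer (A : Set G), n ∈ H := by
    intro n hn
    rw [hH]
    exact Input.normalizer_le hn
  have hSH : (S : Subgroup G) ≤ H := fun s hs => hAH s (h.norm hs)
  have hgH : ∀ g : G, (∀ a ∈ A, g * a * g⁻¹ ∈ Subgroup.normalizer (A : Set G)) → g ∈ H := by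
    intro g hg
    rw [hH]
    exact h.mem_normalizer_W hsolv hg
  have hCH : Subgroup.centralizer ({z} : Set G) ≤ H := by
    refine hgen.trans ((Subgroup.closure_le H).2 ?_)
    rintro g (hg | hg)
    · exact hWH (Functor.le_W A h.z_mem h.z_ne hg)
    · exact hgH g hg
  -- involutions of `H` are conjugate in `H` to `z`
  have hconjS : ∀ y ∈ (S : Subgroup G), orderOf y = 2 → ∃ k ∈ H, k * y * k⁻¹ = z := by
    intro y hy hoy
    obtain ⟨g, hg, hga⟩ := h.fus y hy (sq_of_orderOf hoy)
    have ha1 : g⁻¹ * y * g ≠ 1 := by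
      intro h0
      apply ne_one_of_orderOf hoy
      have := congrArg (fun v => g * v * g⁻¹) h0
      simpa [mul_assoc] using this
    obtain ⟨n, hn, hnz⟩ := h.trans _ hga ha1
    refine ⟨n * g⁻¹, mul_mem (hAH n hn) (inv_mem (hgH g hg)), ?_⟩
    rw [← hnz]
    group
  have hmaxH : SignalizersComponents.RelSylow.IsMaxP 2 H (S : Subgroup G) :=
    ⟨S.2, hSH, fun R' h1 _ h3 => (S.3 h1 h3).le⟩
  have hconjH : ∀ y ∈ H, orderOf y = 2 → ∃ k ∈ H, k * y * k⁻¹ = z := by
    intro y hy hoy
    have hyP : IsPGroup 2 (Subgroup.zpowers y) := by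
      refine IsPGroup.of_card (n := 1) ?_
      rw [Nat.card_zpowers, hoy, pow_one]
    obtain ⟨k, hk, hle⟩ := hmaxH.exists_conj_le hyP (by rwa [Subgroup.zpowers_le])
    have h1 : k * y * k⁻¹ ∈ (S : Subgroup G) := hle ⟨y, Subgroup.mem_zpowers y, rfl⟩
    obtain ⟨k', hk', hkz⟩ := hconjS _ h1 (by rw [orderOf_conj, hoy])
    refine ⟨k' * k, mul_mem hk' hk, ?_⟩
    rw [← hkz]
    group
  have hfus : ∀ s g : G, orderOf s = 2 → s ∈ H → g * s * g⁻¹ ∈ H → g ∈ H := by
    intro s g hs hsH hgH'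
    obtain ⟨k, hk, hkz⟩ := hconjH s hsH hs
    obtain ⟨l, hl, hlz⟩ := hconjH _ hgH' (by rw [orderOf_conj, hs])
    have h1 : (l * g * k⁻¹) ∈ Subgroup.centralizer ({z} : Set G) := by
      rw [mem_cent]
      calc l * g * k⁻¹ * z = l * g * k⁻¹ * (k * s * k⁻¹) := by rw [hkz]
        _ = l * (g * s * g⁻¹) * l⁻¹ * (l * g * k⁻¹) := by group
        _ = z * (l * g * k⁻¹) := by rw [hlz]
    have h4 := mul_mem (mul_mem (inv_mem hl) (hCH h1)) hk
    have h5 : l⁻¹ * (l * g * k⁻¹) * k = g := by group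
    rwa [h5] at h4
  have hWcop : (Nat.card ↥(W A)).Coprime 2 := Nat.coprime_two_right.2 hodd
  have hWbot : W A = ⊥ := by
    by_cases hHt : H = ⊤
    · have hn : (W A).Normal := Subgroup.normalizer_eq_top_iff.1 (hH ▸ hHt)
      have h3 : W A ≤ oddCore G := Lib.Cores.le_pPrimeCore hn hWcop
      rw [hO] at h3
      exact le_bot_iff.1 h3
    · have hse : IsStronglyEmbedded H := by
        refine ⟨hHt, ?_, ?_⟩
        · rw [even_iff_two_dvd]
          have h3 : orderOf (⟨z, hCH (mem_cent.2 rfl)⟩ : H) = 2 := by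
            rw [← Subgroup.orderOf_coe]; exact hoz
          rw [← h3]
          exact orderOf_dvd_natCard _
        · intro g hg
          by_contra hodd'
          rw [Nat.not_odd_iff_even, even_iff_two_dvd] at hodd'
          obtain ⟨u, hu⟩ := exists_prime_orderOf_dvd_card' 2 hodd'
          have hu' : orderOf (u : G) = 2 := by rw [Subgroup.orderOf_coe, hu]
          have h3 := u.2.1
          obtain ⟨v, hv, hvu⟩ := u.2.2
          have hvu' : g * v * g⁻¹ = (u : G) := hvu
          apply hg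
          refine hfus v g ?_ hv ?_
          · rw [← orderOf_conj g v, hvu', hu']
          · rw [hvu']; exact h3
      have h3 := hSE _ hse
      rw [hO] at h3
      have hn : ((W A).subgroupOf H).Normal := by
        rw [Subgroup.normal_subgroupOf_iff_le_normalizer hWH, hH]
      have h4 : (W A).subgroupOf H ≤ oddCore H := by
        refine Lib.Cores.le_pPrimeCore hn ?_
        rwa [Nat.card_congr (Subgroup.subgroupOfEquivOfLe hWH).toEquiv]
      have h5 := (Subgroup.map_mono (f := H.subtype) h4).trans h3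
      rw [Subgroup.subgroupOf_map_subtype, inf_eq_left.mpr hWH] at h5
      exact le_bot_iff.1 h5
  -- conclusion
  have htP : IsPGroup 2 (Subgroup.zpowers t) := by
    refine IsPGroup.of_card (n := 1) ?_
    rw [Nat.card_zpowers, ht, pow_one]
  obtain ⟨g, hg⟩ := exists_conj_mem S htP
  have hgt := hg t (Subgroup.mem_zpowers t)
  have hog : orderOf (g * t * g⁻¹) = 2 := by rw [orderOf_conj, ht]
  have h4 := cent_W h hsolv hgt (sq_of_orderOf hog) (ne_one_of_orderOf hog)
  rw [hWbot, bot_inf_eq, th_conj] at h4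
  exact (Subgroup.map_eq_bot_iff_of_injective _ (MulAut.conj g).injective).1 h4.symm

end Cfsg.Agent.ONType.CoreMain
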