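import Mathlib
import Cfsg.Agent.TypeL3.Deliver
import Cfsg.Agent.TypeL3.Model
import Cfsg.Agent.Lib.FieldFour

/-!
# The Sylow 2-subgroup of `C_X(v)/⟨v⟩` has type `L₃(4)`
-/

set_option autoImplicit false

namespace Cfsg.Agent.ONType.Cz

open Subgroup Cfsg.Agent.TypeL3 Cfsg.Agent.TypeL3.Local Cfsg.Agent.Lib.FieldFour Cfsg.Agent.Lib.GoldschmidtFusion
open Cfsg.Agent.SylowL.Lev Cfsg.Agent.SylowL.UT

/-- the image modulo `v = τ 1 1 1` of `T ⟨x1, x2, x3⟩` -/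
structure RelQ {G : Type*} [Group G] (T P : Subgroup G) (τ : ℤ → ℤ → ℤ → G) (x1 x2 x3 : G) : Prop where
  mul : ∀ a b c a' b' c', τ a b c * τ a' b' c' = τ (a + a') (b + b') (c + c')
  one : ∀ a b c, τ a b c = 1 ↔ 4 ∣ a - b ∧ 4 ∣ a - c
  mem : ∀ g, g ∈ T ↔ ∃ a b c, g = τ a b c
  x1_sq : x1 * x1 = 1
  x2_sq : x2 * x2 = 1
  x3_sq : x3 * x3 = 1
  x12 : x1 * x2 = x3
  x23 : x2 * x3 = x1
  x31 : x3 * x1 = x2
  x1_t : ∀ a b c, x1 * τ a b c = τ b a (-a - b - c) * x1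
  x2_t : ∀ a b c, x2 * τ a b c = τ c (-a - b - c) a * x2
  x3_t : ∀ a b c, x3 * τ a b c = τ (-a - b - c) c b * x3
  P_mem : ∀ g, g ∈ P ↔ ∃ a b c, g = τ a b c ∨ g = τ a b c * x1 ∨ g = τ a b c * x2 ∨ g = τ a b c * x3

namespace RelQ

variable {G : Type*} [Group G] {T P : Subgroup G} {τ : ℤ → ℤ → ℤ → G} {x1 x2 x3 : G}

theorem τ_zero (R : RelQ T P τ x1 x2 x3) : τ 0 0 0 = 1 := (R.one 0 0 0).2 (by norm_num)

theorem τ_inv (R : RelQ T P τ x1 x2 x3) (a b c : ℤ) : (τ a b c)⁻¹ = τ (-a) (-b) (-c) := by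
  rw [inv_eq_iff_mul_eq_one, R.mul, R.one]
  simp

theorem τ_eq (R : RelQ T P τ x1 x2 x3) {a b c a' b' c' : ℤ} :
    τ a b c = τ a' b' c' ↔ 4 ∣ (a - a') - (b - b') ∧ 4 ∣ (a - a') - (c - c') := by
  rw [← mul_inv_eq_one, R.τ_inv, R.mul, R.one]
  simp only [sub_eq_add_neg]

theorem τ_mem (R : RelQ T P τ x1 x2 x3) (a b c : ℤ) : τ a b c ∈ T := (R.mem _).2 ⟨a, b, c, rfl⟩

theorem τ_comm (R : RelQ T P τ x1 x2 x3) (a b c a' b' c' : ℤ) :
    τ a b c * τ a' b' c' = τ a' b' c' * τ a b c := by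
  rw [R.mul, R.mul, add_comm a, add_comm b, add_comm c]

theorem T_le (R : RelQ T P τ x1 x2 x3) : T ≤ P := by
  intro g hg
  obtain ⟨a, b, c, rfl⟩ := (R.mem _).1 hg
  exact (R.P_mem _).2 ⟨a, b, c, Or.inl rfl⟩

theorem x1_mem (R : RelQ T P τ x1 x2 x3) : x1 ∈ P :=
  (R.P_mem _).2 ⟨0, 0, 0, Or.inr (Or.inl (by rw [R.τ_zero, one_mul]))⟩
theorem x2_mem (R : RelQ T P τ x1 x2 x3) : x2 ∈ P :=
  (R.P_mem _).2 ⟨0, 0, 0, Or.inr (Or.inr (Or.inl (by rw [R.τ_zero, one_mul])))⟩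
theorem x3_mem (R : RelQ T P τ x1 x2 x3) : x3 ∈ P :=
  (R.P_mem _).2 ⟨0, 0, 0, Or.inr (Or.inr (Or.inr (by rw [R.τ_zero, one_mul])))⟩

theorem x1_inv (R : RelQ T P τ x1 x2 x3) : x1⁻¹ = x1 := inv_eq_of_mul_eq_one_left R.x1_sq
theorem x2_inv (R : RelQ T P τ x1 x2 x3) : x2⁻¹ = x2 := inv_eq_of_mul_eq_one_left R.x2_sq
theorem x3_inv (R : RelQ T P τ x1 x2 x3) : x3⁻¹ = x3 := inv_eq_of_mul_eq_one_left R.x3_sq

theorem x21 (R : RelQ T P τ x1 x2 x3) : x2 * x1 = x3 := by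
  have h := congrArg (·⁻¹) R.x12
  simp only [mul_inv_rev] at h
  rwa [R.x1_inv, R.x2_inv, R.x3_inv] at h
theorem x32 (R : RelQ T P τ x1 x2 x3) : x3 * x2 = x1 := by
  have h := congrArg (·⁻¹) R.x23
  simp only [mul_inv_rev] at h
  rwa [R.x1_inv, R.x2_inv, R.x3_inv] at h
theorem x13 (R : RelQ T P τ x1 x2 x3) : x1 * x3 = x2 := by
  have h := congrArg (·⁻¹) R.x31
  simp only [mul_inv_rev] at h
  rwa [R.x1_inv, R.x2_inv, R.x3_inv] at h

theorem x3_notMem (R : RelQ T P τ x1 x2 x3) (a b c : ℤ) : τ a b c * x3 ∉ T := by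
  intro h
  have h0 : x3 ∈ T := by
    have := mul_mem (inv_mem (R.τ_mem a b c)) h
    rwa [inv_mul_cancel_left] at this
  obtain ⟨a', b', c', h'⟩ := (R.mem _).1 h0
  have h1 := R.x3_t 1 0 0
  rw [h', R.τ_comm, mul_left_inj, R.τ_eq] at h1
  omega

theorem x2_notMem (R : RelQ T P τ x1 x2 x3) (a b c : ℤ) : τ a b c * x2 ∉ T := by
  intro h
  have h0 : x2 ∈ T := by
    have := mul_mem (inv_mem (R.τ_mem a b c)) h
    rwa [inv_mul_cancel_left] at this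
  obtain ⟨a', b', c', h'⟩ := (R.mem _).1 h0
  have h1 := R.x2_t 1 0 0
  rw [h', R.τ_comm, mul_left_inj, R.τ_eq] at h1
  omega

theorem x1_notMem (R : RelQ T P τ x1 x2 x3) (a b c : ℤ) : τ a b c * x1 ∉ T := by
  intro h
  have h0 : x1 ∈ T := by
    have := mul_mem (inv_mem (R.τ_mem a b c)) h
    rwa [inv_mul_cancel_left] at this
  obtain ⟨a', b', c', h'⟩ := (R.mem _).1 h0
  have h1 := R.x1_t 1 0 0
  rw [h', R.τ_comm, mul_left_inj, R.τ_eq] at h1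
  omega

/-- `T` is normal in `P` -/
theorem T_normal (R : RelQ T P τ x1 x2 x3) {g t : G} (hg : g ∈ P) (ht : t ∈ T) : g * t * g⁻¹ ∈ T := by
  obtain ⟨a', b', c', rfl⟩ := (R.mem _).1 ht
  obtain ⟨a, b, c, h⟩ := (R.P_mem g).1 hg
  rcases h with rfl | rfl | rfl | rfl
  · exact mul_mem (mul_mem (R.τ_mem _ _ _) (R.τ_mem _ _ _)) (inv_mem (R.τ_mem _ _ _))
  · rw [show τ a b c * x1 * τ a' b' c' * (τ a b c * x1)⁻¹ = τ a b c * (x1 * τ a' b' c') * x1⁻¹ * (τ a b c)⁻¹ by group,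
      R.x1_t, ← mul_assoc, mul_inv_cancel_right]
    exact mul_mem (mul_mem (R.τ_mem _ _ _) (R.τ_mem _ _ _)) (inv_mem (R.τ_mem _ _ _))
  · rw [show τ a b c * x2 * τ a' b' c' * (τ a b c * x2)⁻¹ = τ a b c * (x2 * τ a' b' c') * x2⁻¹ * (τ a b c)⁻¹ by group,
      R.x2_t, ← mul_assoc, mul_inv_cancel_right]
    exact mul_mem (mul_mem (R.τ_mem _ _ _) (R.τ_mem _ _ _)) (inv_mem (R.τ_mem _ _ _))
  · rw [show τ a b c * x3 * τ a' b' c' * (τ a b c * x3)⁻¹ = τ a b c * (x3 * τ a' b' c') * x3⁻¹ * (τ a b c)⁻¹ by group,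
      R.x3_t, ← mul_assoc, mul_inv_cancel_right]
    exact mul_mem (mul_mem (R.τ_mem _ _ _) (R.τ_mem _ _ _)) (inv_mem (R.τ_mem _ _ _))

/-- `T` is self-centralising in `P` -/
theorem T_cent (R : RelQ T P τ x1 x2 x3) {g : G} (hg : g ∈ P) (hc : ∀ t ∈ T, g * t = t * g) : g ∈ T := by
  obtain ⟨a, b, c, h⟩ := (R.P_mem g).1 hg
  have h1 := hc _ (R.τ_mem 1 0 0)
  rcases h with rfl | rfl | rfl | rfl
  · exact R.τ_mem _ _ _
  · exfalso
    rw [mul_assoc, R.x1_t, ← mul_assoc, ← mul_assoc, R.mul, R.mul, mul_left_inj, R.τ_eq] at h1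
    omega
  · exfalso
    rw [mul_assoc, R.x2_t, ← mul_assoc, ← mul_assoc, R.mul, R.mul, mul_left_inj, R.τ_eq] at h1
    omega
  · exfalso
    rw [mul_assoc, R.x3_t, ← mul_assoc, ← mul_assoc, R.mul, R.mul, mul_left_inj, R.τ_eq] at h1
    omega

end RelQ

section coord

variable {G : Type*} [Group G]

def cX (x1 x2 x3 : G) : F4 → G
  | .o => 1
  | .i => x3
  | .w => x1
  | .v => x2

def cY (τ : ℤ → ℤ → ℤ → G) (x1 x2 x3 : G) : F4 → G
  | .o => 1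
  | .i => τ 1 0 0 * x3
  | .w => τ 1 (-1) 0 * x1
  | .v => τ 1 0 (-1) * x2

def cZ (τ : ℤ → ℤ → ℤ → G) : F4 → G
  | .o => τ 0 0 0
  | .i => τ 2 0 0
  | .w => τ 2 0 2
  | .v => τ 2 2 0

variable {T P : Subgroup G} {τ : ℤ → ℤ → ℤ → G} {x1 x2 x3 : G}

theorem F4_cases (p : F4 → Prop) (h0 : p .o) (h1 : p .i) (h2 : p .w) (h3 : p .v) (a : F4) : p a := by
  cases a <;> assumption

theorem cX_add (R : RelQ T P τ x1 x2 x3) (a b : F4) : cX x1 x2 x3 (a + b) = cX x1 x2 x3 a * cX x1 x2 x3 b := by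
  have h1 := R.x1_sq
  have h2 := R.x2_sq
  have h3 := R.x3_sq
  have h12 := R.x12
  have h23 := R.x23
  have h31 := R.x31
  have h21 := R.x21
  have h32 := R.x32
  have h13 := R.x13
  cases a <;> cases b <;> change cX x1 x2 x3 (F4.add _ _) = _ <;> simp [F4.add, cX, h1, h2, h3, h12, h23, h31, h21, h32, h13]

theorem cY_add (R : RelQ T P τ x1 x2 x3) (a b : F4) :
    cY τ x1 x2 x3 (a + b) = cY τ x1 x2 x3 a * cY τ x1 x2 x3 b := by
  have key : ∀ (p q r p' q' r' : ℤ) (x y : G), τ p q r * x * (τ p' q' r' * y) = τ p q r * (x * τ p' q' r') * y :=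
    fun _ _ _ _ _ _ _ _ => by group
  cases a <;> cases b <;> change cY τ x1 x2 x3 (F4.add _ _) = _ <;> simp only [F4.add, cY, one_mul, mul_one]
  all_goals
    rw [key]
    simp only [R.x1_t, R.x2_t, R.x3_t]
    rw [← mul_assoc, R.mul, mul_assoc]
    simp only [R.x1_sq, R.x2_sq, R.x3_sq, R.x12, R.x23, R.x31, R.x21, R.x32, R.x13, mul_one]
    first
      | (rw [mul_left_inj, R.τ_eq]; omega)
      | (rw [eq_comm, R.one]; omega)

theorem cZ_add (R : RelQ T P τ x1 x2 x3) (a b : F4) : cZ τ (a + b) = cZ τ a * cZ τ b := by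
  cases a <;> cases b <;> change cZ τ (F4.add _ _) = _ <;> simp only [F4.add, cZ] <;> rw [R.mul, R.τ_eq] <;> omega

theorem cZ_cX (R : RelQ T P τ x1 x2 x3) (a b : F4) : cZ τ a * cX x1 x2 x3 b = cX x1 x2 x3 b * cZ τ a := by
  cases a <;> cases b <;> simp only [cX, cZ, one_mul, mul_one, R.x1_t, R.x2_t, R.x3_t]
  all_goals (rw [mul_left_inj, R.τ_eq]; omega)

theorem cZ_cY (R : RelQ T P τ x1 x2 x3) (a b : F4) :
    cZ τ a * cY τ x1 x2 x3 b = cY τ x1 x2 x3 b * cZ τ a := by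
  have key : ∀ (p q r p' q' r' : ℤ) (x : G), τ p q r * x * τ p' q' r' = τ p q r * (x * τ p' q' r') :=
    fun _ _ _ _ _ _ _ => by group
  cases a <;> cases b <;> simp only [cY, cZ, one_mul, mul_one]
  all_goals
    rw [key]
    simp only [R.x1_t, R.x2_t, R.x3_t]
    rw [← mul_assoc, ← mul_assoc, mul_left_inj, R.mul, R.mul, R.τ_eq]
    omega

/-- `x(a) y(b) = z(ab) y(b) x(a)` -/
theorem cXY (R : RelQ T P τ x1 x2 x3) (a b : F4) :
    cX x1 x2 x3 a * cY τ x1 x2 x3 b = cZ τ (a * b) * cY τ x1 x2 x3 b * cX x1 x2 x3 a := by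
  have key : ∀ (p q r : ℤ) (x y : G), x * (τ p q r * y) = (x * τ p q r) * y := fun _ _ _ _ _ => by group
  cases a <;> cases b <;> change _ = cZ τ (F4.mul _ _) * _ * _ <;>
    simp only [F4.mul, cY, cX, cZ, one_mul, mul_one, R.τ_zero]
  all_goals
    rw [key]
    simp only [R.x1_t, R.x2_t, R.x3_t]
    rw [mul_assoc, ← mul_assoc (τ _ _ _) (τ _ _ _), R.mul, mul_assoc]
    simp only [R.x1_sq, R.x2_sq, R.x3_sq, R.x12, R.x23, R.x31, R.x21, R.x32, R.x13, mul_one]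
    first
      | (rw [mul_left_inj, R.τ_eq]; omega)
      | (rw [R.τ_eq]; omega)

theorem cZ_cZ (R : RelQ T P τ x1 x2 x3) (a b : F4) : cZ τ a * cZ τ b = cZ τ b * cZ τ a := by
  rw [← cZ_add R, add_comm, cZ_add R]

/-- the element `y(b) x(a) z(c)` -/
def cF (τ : ℤ → ℤ → ℤ → G) (x1 x2 x3 : G) (a b c : F4) : G := cY τ x1 x2 x3 b * cX x1 x2 x3 a * cZ τ c

theorem cF_mul (R : RelQ T P τ x1 x2 x3) (a b c a' b' c' : F4) :
    cF τ x1 x2 x3 a b c * cF τ x1 x2 x3 a' b' c' = cF τ x1 x2 x3 (a + a') (b + b') (c + c' + a * b') := by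
  unfold cF
  rw [cX_add R, cY_add R, cZ_add R, cZ_add R]
  have h1 := cXY R a b'
  have h2 := cZ_cX R
  have h3 := cZ_cY R
  have h4 := cZ_cZ R
  set X := cX x1 x2 x3
  set Y := cY τ x1 x2 x3
  set Z := cZ τ
  calc Y b * X a * Z c * (Y b' * X a' * Z c') = Y b * X a * (Z c * Y b') * X a' * Z c' := by group
    _ = Y b * (X a * Y b') * (Z c * X a') * Z c' := by rw [h3]; group
    _ = Y b * (Z (a * b') * Y b' * X a) * (X a' * Z c) * Z c' := by rw [h1, h2 c a']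
    _ = Y b * (Z (a * b') * Y b') * X a * X a' * Z c * Z c' := by group
    _ = Y b * Y b' * (Z (a * b') * X a) * X a' * Z c * Z c' := by rw [h3]; group
    _ = Y b * Y b' * X a * (Z (a * b') * X a') * Z c * Z c' := by rw [h2 (a * b') a]; group
    _ = Y b * Y b' * (X a * X a') * (Z (a * b') * (Z c * Z c')) := by rw [h2 (a * b') a']; group
    _ = Y b * Y b' * (X a * X a') * (Z c * Z c' * Z (a * b')) := by rw [← mul_assoc (Z (a * b')), h4 (a * b') c, mul_assoc (Z c), h4 (a * b') c', mul_assoc (Z c)]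

theorem cF_one (R : RelQ T P τ x1 x2 x3) {a b c : F4} (h : cF τ x1 x2 x3 a b c = 1) : a = 0 ∧ b = 0 ∧ c = 0 := by
  have e1 : ∀ (p q r p' q' r' : ℤ) (x y : G), τ p q r * x * y * τ p' q' r' = 1 →
      x * y = τ (-p - p') (-q - q') (-r - r') := by
    intro p q r p' q' r' x y h
    have : x * y = (τ p q r)⁻¹ * (τ p' q' r')⁻¹ := by
      have h5 : τ p q r * x * y * τ p' q' r' = τ p q r * (x * y) * τ p' q' r' := by group
      rw [h5, mul_eq_one_iff_eq_inv] at h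
      exact eq_inv_mul_iff_mul_eq.2 h
    rw [this, R.τ_inv, R.τ_inv, R.mul]
    congr 1 <;> ring
  have e2 : ∀ (p' q' r' : ℤ) (y : G), y * τ p' q' r' = 1 → y = τ (-p') (-q') (-r') := by
    intro p' q' r' y h
    rw [mul_eq_one_iff_eq_inv, R.τ_inv] at h
    exact h
  have e3 : ∀ (p q r p' q' r' : ℤ) (x : G), τ p q r * x * τ p' q' r' = 1 →
      x = τ (-p - p') (-q - q') (-r - r') := by
    intro p q r p' q' r' x h
    have h6 := e1 p q r p' q' r' x 1 (by rw [mul_one]; exact h)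
    rwa [mul_one] at h6
  have n1 : ∀ p q r, x1 ≠ τ p q r := fun p q r h => R.x1_notMem 0 0 0 (by
    rw [R.τ_zero, one_mul, h]; exact R.τ_mem _ _ _)
  have n2 : ∀ p q r, x2 ≠ τ p q r := fun p q r h => R.x2_notMem 0 0 0 (by
    rw [R.τ_zero, one_mul, h]; exact R.τ_mem _ _ _)
  have n3 : ∀ p q r, x3 ≠ τ p q r := fun p q r h => R.x3_notMem 0 0 0 (by
    rw [R.τ_zero, one_mul, h]; exact R.τ_mem _ _ _)
  unfold cF at h
  cases a <;> cases b <;> simp only [cX, cY, one_mul, mul_one] at h <;>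
    cases c <;> simp only [cZ] at h
  all_goals first
    | exact ⟨rfl, rfl, rfl⟩
    | (exfalso; rw [R.one] at h; omega)
    | (exfalso; exact n1 _ _ _ (e2 _ _ _ _ h))
    | (exfalso; exact n2 _ _ _ (e2 _ _ _ _ h))
    | (exfalso; exact n3 _ _ _ (e2 _ _ _ _ h))
    | (exfalso; exact n1 _ _ _ (e3 _ _ _ _ _ _ _ h))
    | (exfalso; exact n2 _ _ _ (e3 _ _ _ _ _ _ _ h))
    | (exfalso; exact n3 _ _ _ (e3 _ _ _ _ _ _ _ h))
    | (exfalso
       have h7 := e1 _ _ _ _ _ _ _ _ h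
       simp only [R.x1_sq, R.x2_sq, R.x3_sq, R.x12, R.x23, R.x31, R.x21, R.x32, R.x13] at h7
       first
         | exact n1 _ _ _ h7
         | exact n2 _ _ _ h7
         | exact n3 _ _ _ h7
         | (rw [eq_comm, R.one] at h7; omega))

/-- every element of `P` is a `cF` -/
theorem exists_cF (R : RelQ T P τ x1 x2 x3) {g : G} (hg : g ∈ P) : ∃ a b c, g = cF τ x1 x2 x3 a b c := by
  -- elements of `T`
  have hT : ∀ p q r : ℤ, ∃ a c, τ p q r = cF τ x1 x2 x3 a a c := by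
    intro p q r
    have e0 : ∀ c, cF τ x1 x2 x3 .o .o c = cZ τ c := fun c => by simp only [cF, cX, cY, one_mul]
    have e1 : ∀ c, cF τ x1 x2 x3 .i .i c = τ 1 0 0 * cZ τ c := fun c => by
      simp only [cF, cX, cY]; rw [mul_assoc (τ 1 0 0), R.x3_sq, mul_one]
    have e2 : ∀ c, cF τ x1 x2 x3 .w .w c = τ 1 (-1) 0 * cZ τ c := fun c => by
      simp only [cF, cX, cY]; rw [mul_assoc (τ _ _ _), R.x1_sq, mul_one]
    have e3 : ∀ c, cF τ x1 x2 x3 .v .v c = τ 1 0 (-1) * cZ τ c := fun c => by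
      simp only [cF, cX, cY]; rw [mul_assoc (τ _ _ _), R.x2_sq, mul_one]
    have hcase : ∃ a c : F4, ∃ u v w u' v' w' : ℤ, cF τ x1 x2 x3 a a c = τ u v w * τ u' v' w' ∧
        4 ∣ (p - (u + u')) - (q - (v + v')) ∧ 4 ∣ (p - (u + u')) - (r - (w + w')) := by
      have hq : (q - p) % 4 = 0 ∨ (q - p) % 4 = 1 ∨ (q - p) % 4 = 2 ∨ (q - p) % 4 = 3 := by omega
      have hr : (r - p) % 4 = 0 ∨ (r - p) % 4 = 1 ∨ (r - p) % 4 = 2 ∨ (r - p) % 4 = 3 := by omega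
      rcases hq with hq | hq | hq | hq <;> rcases hr with hr | hr | hr | hr
      all_goals first
        | exact ⟨.o, .o, 0, 0, 0, 0, 0, 0, by rw [e0, cZ, R.τ_zero, one_mul], by omega, by omega⟩
        | exact ⟨.o, .i, 0, 0, 0, 2, 0, 0, by rw [e0, cZ, R.τ_zero, one_mul], by omega, by omega⟩
        | exact ⟨.o, .w, 0, 0, 0, 2, 0, 2, by rw [e0, cZ, R.τ_zero, one_mul], by omega, by omega⟩
        | exact ⟨.o, .v, 0, 0, 0, 2, 2, 0, by rw [e0, cZ, R.τ_zero, one_mul], by omega, by omega⟩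
        | exact ⟨.i, .o, 1, 0, 0, 0, 0, 0, by rw [e1, cZ], by omega, by omega⟩
        | exact ⟨.i, .i, 1, 0, 0, 2, 0, 0, by rw [e1, cZ], by omega, by omega⟩
        | exact ⟨.i, .w, 1, 0, 0, 2, 0, 2, by rw [e1, cZ], by omega, by omega⟩
        | exact ⟨.i, .v, 1, 0, 0, 2, 2, 0, by rw [e1, cZ], by omega, by omega⟩
        | exact ⟨.w, .o, 1, -1, 0, 0, 0, 0, by rw [e2, cZ], by omega, by omega⟩
        | exact ⟨.w, .i, 1, -1, 0, 2, 0, 0, by rw [e2, cZ], by omega, by omega⟩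
        | exact ⟨.w, .w, 1, -1, 0, 2, 0, 2, by rw [e2, cZ], by omega, by omega⟩
        | exact ⟨.w, .v, 1, -1, 0, 2, 2, 0, by rw [e2, cZ], by omega, by omega⟩
        | exact ⟨.v, .o, 1, 0, -1, 0, 0, 0, by rw [e3, cZ], by omega, by omega⟩
        | exact ⟨.v, .i, 1, 0, -1, 2, 0, 0, by rw [e3, cZ], by omega, by omega⟩
        | exact ⟨.v, .w, 1, 0, -1, 2, 0, 2, by rw [e3, cZ], by omega, by omega⟩
        | exact ⟨.v, .v, 1, 0, -1, 2, 2, 0, by rw [e3, cZ], by omega, by omega⟩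
    obtain ⟨a, c, u, v, w, u', v', w', h1, h2, h3⟩ := hcase
    refine ⟨a, c, ?_⟩
    rw [h1, R.mul, R.τ_eq]
    exact ⟨h2, h3⟩
  have hx : ∀ (a : F4) (p q r : ℤ), ∃ a' b' c', τ p q r * cX x1 x2 x3 a = cF τ x1 x2 x3 a' b' c' := by
    intro a p q r
    obtain ⟨a', c', h⟩ := hT p q r
    refine ⟨a' + a, a', c', ?_⟩
    have h1 : cX x1 x2 x3 a = cF τ x1 x2 x3 a 0 0 := by
      unfold cF
      change _ = cY τ x1 x2 x3 .o * _ * cZ τ .o
      simp only [cY, cZ, one_mul]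
      rw [R.τ_zero, mul_one]
    rw [h, h1, cF_mul R, add_zero, add_zero, mul_zero, add_zero]
  obtain ⟨p, q, r, h⟩ := (R.P_mem g).1 hg
  rcases h with h | h | h | h
  · obtain ⟨a, b, c, h'⟩ := hx .o p q r
    exact ⟨a, b, c, by rw [h, ← h', cX, mul_one]⟩
  · obtain ⟨a, b, c, h'⟩ := hx .w p q r
    exact ⟨a, b, c, by rw [h, ← h', cX]⟩
  · obtain ⟨a, b, c, h'⟩ := hx .v p q r
    exact ⟨a, b, c, by rw [h, ← h', cX]⟩
  · obtain ⟨a, b, c, h'⟩ := hx .i p q r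
    exact ⟨a, b, c, by rw [h, ← h', cX]⟩

theorem cX_mem (R : RelQ T P τ x1 x2 x3) (a : F4) : cX x1 x2 x3 a ∈ P := by
  cases a
  · exact one_mem _
  · exact R.x3_mem
  · exact R.x1_mem
  · exact R.x2_mem

theorem cY_mem (R : RelQ T P τ x1 x2 x3) (a : F4) : cY τ x1 x2 x3 a ∈ P := by
  cases a
  · exact one_mem _
  · exact mul_mem (R.T_le (R.τ_mem _ _ _)) R.x3_mem
  · exact mul_mem (R.T_le (R.τ_mem _ _ _)) R.x1_mem
  · exact mul_mem (R.T_le (R.τ_mem _ _ _)) R.x2_mem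

theorem cZ_mem (R : RelQ T P τ x1 x2 x3) (a : F4) : cZ τ a ∈ P := by
  cases a <;> exact R.T_le (R.τ_mem _ _ _)

theorem cF_mem (R : RelQ T P τ x1 x2 x3) (a b c : F4) : cF τ x1 x2 x3 a b c ∈ P :=
  mul_mem (mul_mem (cY_mem R _) (cX_mem R _)) (cZ_mem R _)

/-- a function of three coordinates with the multiplication of `UT₃(4)` gives the type `L₃(4)` -/
theorem isL3_of_mul {P : Subgroup G} (f : F4 → F4 → F4 → G)
    (hmul : ∀ a b c a' b' c', f a b c * f a' b' c' = f (a + a') (b + b') (c + c' + a * b'))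
    (hone : ∀ a b c, f a b c = 1 → a = 0 ∧ b = 0 ∧ c = 0) (hP : ∀ g, g ∈ P ↔ ∃ a b c, g = f a b c) :
    ∃ A B : Subgroup G, (∀ g, g ∈ A ↔ ∃ a c, g = f a 0 c) ∧ (∀ g, g ∈ B ↔ ∃ b c, g = f 0 b c) ∧
      (∀ g, g ∈ A ⊓ B ↔ ∃ c, g = f 0 0 c) ∧ IsL3 P A B 4 ∧
      LThreeCoord A B (fun a => f a 0 0) (fun b => f 0 b 0) (fun c => f 0 0 c) := by
  have hchar : CharP F4 2 := CharTwo.of_one_ne_zero_of_two_eq_zero one_ne_zero (by decide)
  have h0 : f 0 0 0 = 1 := by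
    have h := hmul 0 0 0 0 0 0
    rw [add_zero, mul_zero, add_zero] at h
    exact mul_eq_left.1 h
  let φ : UT 3 F4 →* G :=
    { toFun := fun g => f (N g 0 1) (N g 1 2) (N g 0 2)
      map_one' := by
        rw [N_one]
        exact h0
      map_mul' := by
        intro g h
        obtain ⟨a, b, c, rfl⟩ := exists_el g
        obtain ⟨a', b', c', rfl⟩ := exists_el h
        rw [el_mul, N_el, N_el, N_el]
        exact (hmul a b c a' b' c').symm }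
  have hφ : ∀ a b c, φ (el a b c) = f a b c := by
    intro a b c
    change f (N (el a b c) 0 1) (N (el a b c) 1 2) (N (el a b c) 0 2) = _
    rw [N_el]
    rfl
  have hker : ∀ x ∈ (⊤ : Subgroup (UT 3 F4)), φ x = 1 → x = 1 := by
    intro x _ hx
    obtain ⟨a, b, c, rfl⟩ := exists_el x
    rw [hφ] at hx
    obtain ⟨rfl, rfl, rfl⟩ := hone _ _ _ hx
    exact el_zero
  have hS : (⊤ : Subgroup (UT 3 F4)).map φ = P := by
    ext s
    rw [hP]
    constructor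
    · rintro ⟨g, -, rfl⟩
      obtain ⟨a, b, c, rfl⟩ := exists_el g
      exact ⟨a, b, c, hφ _ _ _⟩
    · rintro ⟨a, b, c, rfl⟩
      exact ⟨el a b c, mem_top _, hφ _ _ _⟩
  have h := (isL3_model (F := F4)).map φ hker
  rw [hS] at h
  have hA : ∀ g, g ∈ (A0 F4).map φ ↔ ∃ a c, g = f a 0 c := by
    intro g
    constructor
    · rintro ⟨_, ⟨a, c, rfl⟩, rfl⟩
      exact ⟨a, c, hφ _ _ _⟩
    · rintro ⟨a, c, rfl⟩
      exact ⟨el a 0 c, ⟨a, c, rfl⟩, hφ _ _ _⟩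
  have hB : ∀ g, g ∈ (B0 F4).map φ ↔ ∃ a c, g = f 0 a c := by
    intro g
    constructor
    · rintro ⟨_, ⟨a, c, rfl⟩, rfl⟩
      exact ⟨a, c, hφ _ _ _⟩
    · rintro ⟨a, c, rfl⟩
      exact ⟨el 0 a c, ⟨a, c, rfl⟩, hφ _ _ _⟩
  have hinj : ∀ {a b c a' b' c' : F4}, f a b c = f a' b' c' → a = a' ∧ b = b' ∧ c = c' := by
    intro a b c a' b' c' h1
    rw [← hφ, ← hφ] at h1
    have h2 : el a b c = el a' b' c' := by
      have h3 : φ (el a b c * (el a' b' c')⁻¹) = 1 := by rw [map_mul, map_inv, h1, mul_inv_cancel]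
      exact mul_inv_eq_one.1 (hker _ (mem_top _) h3)
    exact el_inj.1 h2
  refine ⟨_, _, hA, hB, ?_, h, ?_⟩
  · intro g
    rw [mem_inf, hA, hB]
    constructor
    · rintro ⟨⟨a, c, rfl⟩, ⟨b, d, h1⟩⟩
      obtain ⟨rfl, -, -⟩ := hinj h1
      exact ⟨c, rfl⟩
    · rintro ⟨c, rfl⟩
      exact ⟨⟨0, c, rfl⟩, ⟨0, c, rfl⟩⟩
  · refine ⟨?_, ?_, ?_, ?_, ?_, ?_⟩
    · intro a b
      rw [hmul]
      simp
    · intro a b
      rw [hmul]
      simp
    · intro a b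
      rw [hmul]
      simp
    · intro g
      rw [hA]
      constructor
      · rintro ⟨a, c, rfl⟩
        exact ⟨a, c, by rw [hmul]; simp⟩
      · rintro ⟨a, c, rfl⟩
        exact ⟨a, c, by rw [hmul]; simp⟩
    · intro g
      rw [hB]
      constructor
      · rintro ⟨a, c, rfl⟩
        exact ⟨a, c, by rw [hmul]; simp⟩
      · rintro ⟨a, c, rfl⟩
        exact ⟨a, c, by rw [hmul]; simp⟩
    · intro a b
      have hinv : ∀ a b c, (f a b c)⁻¹ = f (-a) (-b) (-c + a * b) := by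
        intro a b c
        rw [inv_eq_iff_mul_eq_one, hmul, ← h0]
        congr 1 <;> ring
      rw [hinv, hinv, hmul, hmul, hmul]
      congr 1 <;> ring

end coord

end Cfsg.Agent.ONType.Cz
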