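import Mathlib
import Cfsg.Agent.ONType.CzQ

/-!
# Fusion of an element of `A ∖ Z` into `Z` is achieved in `N(A)`
-/

set_option autoImplicit false

namespace Cfsg.Agent.ONType.Cz

open Subgroup Cfsg.Agent.TypeL3 Cfsg.Agent.TypeL3.Local Cfsg.Agent.Lib.FieldFour Cfsg.Agent.Lib.GoldschmidtFusion

universe u

variable {Q : Type u} [Group Q] [Finite Q] {S : Sylow 2 Q} {A B : Subgroup Q} {q : ℕ}

theorem exists_normalizer (h : IsL3 (S : Subgroup Q) A B q) {a z g : Q} (ha : a ∈ A) (hz : z ∈ A ⊓ B)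
    (hg : g * a * g⁻¹ = z) : ∃ n ∈ normalizer (A : Set Q), n * a * n⁻¹ = z := by
  set C := centralizer ({z} : Set Q) with hC
  have hSC : (S : Subgroup Q) ≤ C := by
    intro s hs
    rw [hC, mem_centralizer_singleton_iff]
    exact (h.comm_Z hz hs).symm
  have hAC : A.map (MulAut.conj g).toMonoidHom ≤ C := by
    rintro _ ⟨b, hb, rfl⟩
    rw [hC, mem_centralizer_singleton_iff]
    change g * b * g⁻¹ * z = z * (g * b * g⁻¹)
    rw [← hg]
    have := h.A_comm b hb a ha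
    calc g * b * g⁻¹ * (g * a * g⁻¹) = g * (b * a) * g⁻¹ := by group
      _ = g * (a * b) * g⁻¹ := by rw [this]
      _ = _ := by group
  have hA2 : IsPGroup 2 A := S.isPGroup'.to_le h.A_le
  obtain ⟨c, hc, hle⟩ := exists_conj_le_in (p := 2) S.isPGroup' (sylow_not_dvd_relIndex S hSC) hAC (hA2.map _)
  rw [map_conj_map_conj] at hle
  have hsq : ∀ e ∈ A.map (MulAut.conj (c * g)).toMonoidHom, e * e = 1 := by
    rintro _ ⟨b, hb, rfl⟩
    change c * g * b * (c * g)⁻¹ * (c * g * b * (c * g)⁻¹) = 1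
    calc c * g * b * (c * g)⁻¹ * (c * g * b * (c * g)⁻¹) = c * g * (b * b) * (c * g)⁻¹ := by group
      _ = 1 := by rw [h.A_sq b hb]; group
  have hcz : c * z * c⁻¹ = z := by
    rw [hC, mem_centralizer_singleton_iff] at hc
    rw [hc, mul_inv_cancel_right]
  have hconj : c * g * a * (c * g)⁻¹ = z := by
    rw [show c * g * a * (c * g)⁻¹ = c * (g * a * g⁻¹) * c⁻¹ by group, hg, hcz]
  rcases h.le_or_le hle hsq with h1 | h1
  · refine ⟨c * g, ?_, hconj⟩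
    rw [mem_normalizer_iff_map_conj]
    exact Subgroup.eq_of_le_of_card_ge h1 (by rw [card_map_conj])
  · exfalso
    obtain ⟨b, hb, hb'⟩ := h.not_conj (c * g)
    exact hb' (h1 ⟨b, hb, rfl⟩)

theorem not_normalizer_le (h : IsL3 (S : Subgroup Q) A B q) {a z g : Q} (ha : a ∈ A) (haB : a ∉ B)
    (hz : z ∈ A ⊓ B) (hg : g * a * g⁻¹ = z) :
    ¬ normalizer (A : Set Q) ≤ normalizer ((A ⊓ B : Subgroup Q) : Set Q) := by
  intro hle
  obtain ⟨n, hn, hnz⟩ := exists_normalizer h ha hz hg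
  have h1 := inv_mem (hle hn)
  have h2 := conj_mem_of_mem_normalizer h1 hz
  rw [← hnz, inv_inv, show n⁻¹ * (n * a * n⁻¹) * n = a by group] at h2
  exact haB (mem_inf.1 h2).2

theorem not_normalizer_le' (h : IsL3 (S : Subgroup Q) A B q) {b z g : Q} (hb : b ∈ B) (hbA : b ∉ A)
    (hz : z ∈ A ⊓ B) (hg : g * b * g⁻¹ = z) :
    ¬ normalizer (B : Set Q) ≤ normalizer ((A ⊓ B : Subgroup Q) : Set Q) := by
  rw [inf_comm] at hz ⊢
  exact not_normalizer_le h.symm hb hbA hz hg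

variable {T : Subgroup Q} {τ : ℤ → ℤ → ℤ → Q} {x1 x2 x3 : Q}

/-- the subgroups `A`, `B` of a Sylow 2-subgroup with the relations `RelQ` -/
theorem exists_AB {P : Subgroup Q} (R : RelQ T P τ x1 x2 x3) : ∃ A B : Subgroup Q,
    (∀ g, g ∈ A ↔ ∃ a c, g = cX x1 x2 x3 a * cZ τ c) ∧ (∀ g, g ∈ B ↔ ∃ b c, g = cY τ x1 x2 x3 b * cZ τ c) ∧
      (∀ g, g ∈ A ⊓ B ↔ ∃ c, g = cZ τ c) ∧ IsL3 P A B 4 ∧
      ∃ x y z : F4 → Q, LThreeCoord A B x y z := by
  have e0 : cZ τ 0 = 1 := R.τ_zero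
  have hA : ∀ a c, cF τ x1 x2 x3 a 0 c = cX x1 x2 x3 a * cZ τ c := by
    intro a c
    unfold cF
    change cY τ x1 x2 x3 .o * _ * _ = _
    rw [cY, one_mul]
  have hB : ∀ b c, cF τ x1 x2 x3 0 b c = cY τ x1 x2 x3 b * cZ τ c := by
    intro b c
    unfold cF
    change _ * cX x1 x2 x3 .o * _ = _
    rw [cX, mul_one]
  have hZ : ∀ c, cF τ x1 x2 x3 0 0 c = cZ τ c := by
    intro c
    rw [hA]
    change cX x1 x2 x3 .o * _ = _
    rw [cX, one_mul]
  obtain ⟨A, B, h1, h2, h3, h4, h5⟩ := isL3_of_mul (P := P) (cF τ x1 x2 x3) (cF_mul R)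
    (fun a b c => cF_one R) (fun g => ⟨exists_cF R, fun ⟨a, b, c, h⟩ => h ▸ cF_mem R a b c⟩)
  refine ⟨A, B, ?_, ?_, ?_, h4, _, _, _, h5⟩
  · intro g
    rw [h1]
    simp only [hA]
  · intro g
    rw [h2]
    simp only [hB]
  · intro g
    rw [h3]
    simp only [hZ]

end Cfsg.Agent.ONType.Cz
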