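import Mathlib
import Cfsg.Agent.Lib.GoldschmidtFusion

/-!
# Lifting normalizers of 2-subgroups modulo a normal subgroup of odd order
-/

set_option autoImplicit false

namespace Cfsg.Agent.ONType.Cz

open Subgroup Cfsg.Agent.Lib.GoldschmidtFusion

variable {H X : Type*} [Group H] [Finite H] [Group X] [Finite X]

theorem eq_one_of_ker (f : H →* X) (hodd : Odd (Nat.card f.ker)) {W : Subgroup H} (hW : IsPGroup 2 W) {g : H}
    (hg : g ∈ W) (h1 : f g = 1) : g = 1 := by
  obtain ⟨k, hk⟩ := hW ⟨g, hg⟩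
  have h3 : g ^ 2 ^ k = 1 := congrArg Subtype.val hk
  have h4 : orderOf g ∣ 2 ^ k := orderOf_dvd_of_pow_eq_one h3
  have h5 : orderOf g ∣ Nat.card f.ker := by
    have := orderOf_dvd_natCard (⟨g, MonoidHom.mem_ker.2 h1⟩ : f.ker)
    rwa [Subgroup.orderOf_mk] at this
  have h6 : Nat.Coprime (Nat.card f.ker) (2 ^ k) := Nat.Coprime.pow_right k (Nat.coprime_two_right.2 hodd)
  exact orderOf_eq_one_iff.1 (Nat.eq_one_of_dvd_coprimes h6 h5 h4)

theorem inj_of_ker (f : H →* X) (hodd : Odd (Nat.card f.ker)) {W : Subgroup H} (hW : IsPGroup 2 W) {g g' : H}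
    (hg : g ∈ W) (hg' : g' ∈ W) (h1 : f g = f g') : g = g' := by
  have h2 : f (g * g'⁻¹) = 1 := by rw [map_mul, map_inv, h1, mul_inv_cancel]
  exact mul_inv_eq_one.1 (eq_one_of_ker f hodd hW (mul_mem hg (inv_mem hg')) h2)

/-- `N_X(f(W)) = f(N_H(W))` -/
theorem exists_normalizer_lift (f : H →* X) (hf : Function.Surjective f) (hodd : Odd (Nat.card f.ker))
    {P : Subgroup H} (hPp : IsPGroup 2 P) {n : X} (hn : n ∈ normalizer ((P.map f : Subgroup X) : Set X)) :
    ∃ n' ∈ normalizer (P : Set H), f n' = n := by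
  obtain ⟨n₁, rfl⟩ := hf n
  set N := (P.map f).comap f with hN
  have hPN : P ≤ N := le_comap_map _ _
  have hidx : ¬ 2 ∣ P.relIndex N := by
    intro h2
    have hcard : P.relIndex N = Nat.card f.ker := by
      have e1 := Subgroup.relIndex_mul_index hPN
      have e2 := Subgroup.card_mul_index P
      have e3 := Subgroup.card_mul_index (P.map f)
      have e4 : N.index = (P.map f).index := Subgroup.index_comap_of_surjective _ hf
      have e5 : Nat.card (P.map f) = Nat.card P := by
        refine (Nat.card_congr (Equiv.ofBijective (fun x : P => (⟨f x, mem_map_of_mem f x.2⟩ : P.map f)) ⟨?_, ?_⟩)).symm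
        · intro x y hxy
          exact Subtype.ext (inj_of_ker f hodd hPp x.2 y.2 (congrArg Subtype.val hxy))
        · rintro ⟨_, x, hx, rfl⟩
          exact ⟨⟨x, hx⟩, rfl⟩
      have e6 : Nat.card H = Nat.card X * Nat.card f.ker := by
        rw [Subgroup.card_eq_card_quotient_mul_card_subgroup f.ker,
          Nat.card_congr (QuotientGroup.quotientKerEquivOfSurjective f hf).toEquiv]
      have hpos : 0 < (P.map f).index * Nat.card P :=
        Nat.mul_pos (Nat.pos_of_ne_zero Subgroup.index_ne_zero_of_finite) Nat.card_pos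
      apply Nat.eq_of_mul_eq_mul_right hpos
      rw [← mul_assoc, ← e4, e1, mul_comm _ (Nat.card P), e2, e6, ← e3, e5, e4]
      ring
    rw [hcard] at h2
    rw [← Nat.not_even_iff_odd, even_iff_two_dvd] at hodd
    exact hodd h2
  have hle : P.map (MulAut.conj n₁).toMonoidHom ≤ N := by
    rintro _ ⟨y, hy, rfl⟩
    rw [hN, mem_comap]
    change f (n₁ * y * n₁⁻¹) ∈ _
    rw [map_mul, map_mul, map_inv]
    exact (mem_normalizer_iff.1 hn _).1 (mem_map_of_mem f hy)
  obtain ⟨u, hu, hule⟩ := exists_conj_le_in (p := 2) hPp hidx hle (hPp.map _)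
  rw [map_conj_map_conj] at hule
  obtain ⟨y, hy, hyu⟩ := hu
  have h1 : u * n₁ ∈ normalizer (P : Set H) := by
    rw [mem_normalizer_iff_map_conj]
    exact Subgroup.eq_of_le_of_card_ge hule (by rw [card_map_conj])
  refine ⟨y⁻¹ * (u * n₁), mul_mem (inv_mem (le_normalizer hy)) h1, ?_⟩
  rw [map_mul, map_inv, map_mul, hyu, inv_mul_cancel_left]

end Cfsg.Agent.ONType.Cz
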