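import Mathlib

/-!
# Relations of the Sylow 2-subgroup, and the elements with square `z`

`Rel q T S τ x1 x2 x3 s`: `T` homocyclic of exponent `q` and rank 3 with coordinates `(a, b, c, -a-b-c)`, `V₄ = {1, x1, x2, x3}`
acting by the regular permutations of the four coordinates, `s` by `y ↦ -(y0, y2, y1, y3)`.
-/

set_option autoImplicit false

namespace Cfsg.Agent.ONType.Cz

open Subgroup

structure Rel {G : Type*} [Group G] (q : ℤ) (T S : Subgroup G) (τ : ℤ → ℤ → ℤ → G) (x1 x2 x3 s : G) : Prop where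
  mul : ∀ a b c a' b' c', τ a b c * τ a' b' c' = τ (a + a') (b + b') (c + c')
  one : ∀ a b c, τ a b c = 1 ↔ q ∣ a ∧ q ∣ b ∧ q ∣ c
  mem : ∀ g, g ∈ T ↔ ∃ a b c, g = τ a b c
  x1_sq : x1 * x1 = 1
  x2_sq : x2 * x2 = 1
  x3_sq : x3 * x3 = 1
  x12 : x1 * x2 = x3
  x23 : x2 * x3 = x1
  x31 : x3 * x1 = x2
  x1_t : ∀ a b c, x1 * τ a b c = τ b a (-a - b - c) * x1
  x2_t : ∀ a b c, x2 * τ a b c = τ c (-a - b - c) a * x2
  x3_t : ∀ a b c, x3 * τ a b c = τ (-a - b - c) c b * x3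
  s_sq : s * s = 1
  s_t : ∀ a b c, s * τ a b c = τ (-a) (-c) (-b) * s
  s_x3 : s * x3 = τ 1 0 0 * x3 * s
  s_x1 : s * x1 = τ 1 0 (-1) * x2 * s
  s_x2 : s * x2 = τ 1 (-1) 0 * x1 * s
  S_mem : ∀ g, g ∈ S ↔ ∃ a b c, ∃ w, (w = 1 ∨ w = x1 ∨ w = x2 ∨ w = x3 ∨ w = s ∨ w = x1 * s ∨ w = x2 * s ∨ w = x3 * s) ∧
    g = τ a b c * w

variable {G : Type*} [Group G] {T S : Subgroup G} {τ : ℤ → ℤ → ℤ → G} {x1 x2 x3 s : G} {q : ℤ}

namespace Rel

theorem τ_zero (R : Rel q T S τ x1 x2 x3 s) : τ 0 0 0 = 1 := (R.one 0 0 0).2 ⟨dvd_zero _, dvd_zero _, dvd_zero _⟩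

theorem τ_inv (R : Rel q T S τ x1 x2 x3 s) (a b c : ℤ) : (τ a b c)⁻¹ = τ (-a) (-b) (-c) := by
  rw [inv_eq_iff_mul_eq_one, R.mul, R.one]
  simp

theorem τ_eq (R : Rel q T S τ x1 x2 x3 s) {a b c a' b' c' : ℤ} :
    τ a b c = τ a' b' c' ↔ q ∣ a - a' ∧ q ∣ b - b' ∧ q ∣ c - c' := by
  rw [← mul_inv_eq_one, R.τ_inv, R.mul, R.one]
  simp only [sub_eq_add_neg]

theorem τ_mem (R : Rel q T S τ x1 x2 x3 s) (a b c : ℤ) : τ a b c ∈ T := (R.mem _).2 ⟨a, b, c, rfl⟩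

theorem τ_comm (R : Rel q T S τ x1 x2 x3 s) (a b c a' b' c' : ℤ) :
    τ a b c * τ a' b' c' = τ a' b' c' * τ a b c := by
  rw [R.mul, R.mul, add_comm a, add_comm b, add_comm c]

theorem T_comm (R : Rel q T S τ x1 x2 x3 s) {g h : G} (hg : g ∈ T) (hh : h ∈ T) : g * h = h * g := by
  obtain ⟨a, b, c, rfl⟩ := (R.mem _).1 hg
  obtain ⟨a', b', c', rfl⟩ := (R.mem _).1 hh
  exact R.τ_comm _ _ _ _ _ _

theorem S_of (R : Rel q T S τ x1 x2 x3 s) (a b c : ℤ) {w : G}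
    (hw : w = 1 ∨ w = x1 ∨ w = x2 ∨ w = x3 ∨ w = s ∨ w = x1 * s ∨ w = x2 * s ∨ w = x3 * s) : τ a b c * w ∈ S :=
  (R.S_mem _).2 ⟨a, b, c, w, hw, rfl⟩

theorem S_of' (R : Rel q T S τ x1 x2 x3 s) {w : G}
    (hw : w = 1 ∨ w = x1 ∨ w = x2 ∨ w = x3 ∨ w = s ∨ w = x1 * s ∨ w = x2 * s ∨ w = x3 * s) : w ∈ S := by
  have := R.S_of 0 0 0 hw
  rwa [R.τ_zero, one_mul] at this

theorem S_cases (R : Rel q T S τ x1 x2 x3 s) {g : G} (hg : g ∈ S) : ∃ a b c, g = τ a b c ∨ g = τ a b c * x1 ∨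
    g = τ a b c * x2 ∨ g = τ a b c * x3 ∨ g = τ a b c * s ∨ g = τ a b c * (x1 * s) ∨ g = τ a b c * (x2 * s) ∨
    g = τ a b c * (x3 * s) := by
  obtain ⟨a, b, c, w, hw, hgw⟩ := (R.S_mem g).1 hg
  refine ⟨a, b, c, ?_⟩
  rw [hgw]
  rcases hw with hw | hw | hw | hw | hw | hw | hw | hw <;> rw [hw] <;> simp

theorem T_le (R : Rel q T S τ x1 x2 x3 s) : T ≤ S := by
  intro g hg
  obtain ⟨a, b, c, rfl⟩ := (R.mem _).1 hg
  have := R.S_of a b c (w := 1) (Or.inl rfl)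
  rwa [mul_one] at this

theorem x1_mem (R : Rel q T S τ x1 x2 x3 s) : x1 ∈ S := R.S_of' (by simp)
theorem x2_mem (R : Rel q T S τ x1 x2 x3 s) : x2 ∈ S := R.S_of' (by simp)
theorem x3_mem (R : Rel q T S τ x1 x2 x3 s) : x3 ∈ S := R.S_of' (by simp)
theorem s_mem (R : Rel q T S τ x1 x2 x3 s) : s ∈ S := R.S_of' (by simp)

theorem x1_inv (R : Rel q T S τ x1 x2 x3 s) : x1⁻¹ = x1 := inv_eq_of_mul_eq_one_left R.x1_sq
theorem x2_inv (R : Rel q T S τ x1 x2 x3 s) : x2⁻¹ = x2 := inv_eq_of_mul_eq_one_left R.x2_sq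
theorem x3_inv (R : Rel q T S τ x1 x2 x3 s) : x3⁻¹ = x3 := inv_eq_of_mul_eq_one_left R.x3_sq
theorem s_inv (R : Rel q T S τ x1 x2 x3 s) : s⁻¹ = s := inv_eq_of_mul_eq_one_left R.s_sq

theorem x21 (R : Rel q T S τ x1 x2 x3 s) : x2 * x1 = x3 := by
  have h := congrArg (·⁻¹) R.x12
  simp only [mul_inv_rev] at h
  rwa [R.x1_inv, R.x2_inv, R.x3_inv] at h
theorem x32 (R : Rel q T S τ x1 x2 x3 s) : x3 * x2 = x1 := by
  have h := congrArg (·⁻¹) R.x23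
  simp only [mul_inv_rev] at h
  rwa [R.x1_inv, R.x2_inv, R.x3_inv] at h
theorem x13 (R : Rel q T S τ x1 x2 x3 s) : x1 * x3 = x2 := by
  have h := congrArg (·⁻¹) R.x31
  simp only [mul_inv_rev] at h
  rwa [R.x1_inv, R.x2_inv, R.x3_inv] at h

/-- `x3` is not in `T` -/
theorem x3_notMem (R : Rel 4 T S τ x1 x2 x3 s) : x3 ∉ T := by
  intro h
  have h1 := R.T_comm h (R.τ_mem 1 0 0)
  rw [R.x3_t, mul_left_inj, R.τ_eq] at h1
  omega

theorem x2_notMem (R : Rel 4 T S τ x1 x2 x3 s) : x2 ∉ T := by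
  intro h
  have h1 := R.T_comm h (R.τ_mem 1 0 0)
  rw [R.x2_t, mul_left_inj, R.τ_eq] at h1
  omega

theorem x1_notMem (R : Rel 4 T S τ x1 x2 x3 s) : x1 ∉ T := by
  intro h
  have h1 := R.T_comm h (R.τ_mem 1 0 0)
  rw [R.x1_t, mul_left_inj, R.τ_eq] at h1
  omega

/-- an element over `x3` with square `z` is conjugate to `v * x3` in `S` -/
theorem conj_vx3 (R : Rel 4 T S τ x1 x2 x3 s) {a b c : ℤ}
    (h : τ a b c * x3 * (τ a b c * x3) = τ 2 2 2) : ∃ g ∈ S, g * (τ a b c * x3) * g⁻¹ = τ 1 1 1 * x3 := by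
  have hsq : τ a b c * x3 * (τ a b c * x3) = τ (-b - c) (b + c) (b + c) := by
    rw [show τ a b c * x3 * (τ a b c * x3) = τ a b c * (x3 * τ a b c) * x3 by group, R.x3_t, ← mul_assoc, R.mul,
      mul_assoc, R.x3_sq, mul_one]
    congr 1 <;> ring
  rw [hsq, R.τ_eq] at h
  have key : ∀ a b c : ℤ, (4 : ℤ) ∣ b + c - 2 → (2 : ℤ) ∣ b - a → ∃ g ∈ S, g * (τ a b c * x3) * g⁻¹ = τ 1 1 1 * x3 := by
    intro a b c h1 h2
    obtain ⟨m, hm⟩ := h2
    refine ⟨τ m (1 - b) 0, R.T_le (R.τ_mem _ _ _), ?_⟩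
    rw [R.τ_inv, show τ m (1 - b) 0 * (τ a b c * x3) * τ (-m) (-(1 - b)) (-0) =
      τ m (1 - b) 0 * τ a b c * (x3 * τ (-m) (-(1 - b)) (-0)) by group, R.x3_t, ← mul_assoc, R.mul, R.mul,
      mul_left_inj, R.τ_eq]
    omega
  rcases Int.even_or_odd (b - a) with h2 | h2
  · exact key a b c (by omega) h2.two_dvd
  · obtain ⟨g, hg, e⟩ := key (1 - a) (-c) (-b) (by omega) (by obtain ⟨m, hm⟩ := h2; omega)
    refine ⟨g * s, mul_mem hg R.s_mem, ?_⟩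
    rw [← e, mul_inv_rev, R.s_inv]
    have : s * (τ a b c * x3) * s = τ (1 - a) (-c) (-b) * x3 := by
      rw [show s * (τ a b c * x3) * s = s * τ a b c * x3 * s by group, R.s_t,
        show τ (-a) (-c) (-b) * s * x3 * s = τ (-a) (-c) (-b) * (s * x3) * s by group, R.s_x3,
        show τ (-a) (-c) (-b) * (τ 1 0 0 * x3 * s) * s = τ (-a) (-c) (-b) * τ 1 0 0 * x3 * (s * s) by group,
        R.s_sq, mul_one, R.mul]
      congr 2 <;> ring
    rw [← this]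
    group

end Rel

/-- the element of order three -/
structure RelXi {G : Type*} [Group G] (τ : ℤ → ℤ → ℤ → G) (x1 x2 x3 ξ : G) : Prop where
  ct : ∀ a b c, ξ * τ a b c = τ a (-a - b - c) b * ξ
  c3 : ξ * x3 * ξ⁻¹ = x1
  c1 : ξ * x1 * ξ⁻¹ = x2
  c2 : ξ * x2 * ξ⁻¹ = x3

namespace Rel

/-- elements of `S` with square `z` -/
theorem of_sq (R : Rel 4 T S τ x1 x2 x3 s) {ξ : G} (X : RelXi τ x1 x2 x3 ξ) {y : G} (hy : y ∈ S)
    (h : y * y = τ 2 2 2) : y ∈ T ∨ ∃ g : G, g * y * g⁻¹ = τ 1 1 1 * x3 := by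
  obtain ⟨a, b, c, hw⟩ := R.S_cases hy
  rcases hw with rfl | rfl | rfl | rfl | rfl | rfl | rfl | rfl
  · left
    exact R.τ_mem _ _ _
  · right
    -- `ξ ^ 2` moves `x1` to `x3`
    have e : ξ * ξ * (τ a b c * x1) * (ξ * ξ)⁻¹ = τ a c (-a - b - c) * x3 := by
      have h1 : ξ * ξ * τ a b c = τ a c (-a - b - c) * (ξ * ξ) := by
        rw [mul_assoc, X.ct, ← mul_assoc, X.ct, mul_assoc]
        congr 2
        ring
      rw [show ξ * ξ * (τ a b c * x1) * (ξ * ξ)⁻¹ = (ξ * ξ * τ a b c) * x1 * (ξ * ξ)⁻¹ by group, h1, ← X.c2, ← X.c1]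
      group
    have e2 : τ a c (-a - b - c) * x3 * (τ a c (-a - b - c) * x3) = τ 2 2 2 := by
      rw [← e, show ξ * ξ * (τ a b c * x1) * (ξ * ξ)⁻¹ * (ξ * ξ * (τ a b c * x1) * (ξ * ξ)⁻¹) =
        ξ * ξ * (τ a b c * x1 * (τ a b c * x1)) * (ξ * ξ)⁻¹ by group, h]
      have h1 : ξ * ξ * τ 2 2 2 = τ 2 2 2 * (ξ * ξ) := by
        rw [mul_assoc, X.ct, ← mul_assoc, X.ct, mul_assoc, mul_left_inj, R.τ_eq]
        omega
      rw [h1]
      group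
    obtain ⟨g, -, hg⟩ := R.conj_vx3 e2
    exact ⟨g * (ξ * ξ), by rw [← hg, ← e]; group⟩
  · right
    have e : ξ * (τ a b c * x2) * ξ⁻¹ = τ a (-a - b - c) b * x3 := by
      rw [show ξ * (τ a b c * x2) * ξ⁻¹ = (ξ * τ a b c) * x2 * ξ⁻¹ by group, X.ct, ← X.c2]
      group
    have e2 : τ a (-a - b - c) b * x3 * (τ a (-a - b - c) b * x3) = τ 2 2 2 := by
      rw [← e, show ξ * (τ a b c * x2) * ξ⁻¹ * (ξ * (τ a b c * x2) * ξ⁻¹) =
        ξ * (τ a b c * x2 * (τ a b c * x2)) * ξ⁻¹ by group, h, X.ct,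
        show τ 2 (-2 - 2 - 2) 2 * ξ * ξ⁻¹ = τ 2 (-2 - 2 - 2) 2 by group, R.τ_eq]
      omega
    obtain ⟨g, -, hg⟩ := R.conj_vx3 e2
    exact ⟨g * ξ, by rw [← hg, ← e]; group⟩
  · right
    obtain ⟨g, -, hg⟩ := R.conj_vx3 h
    exact ⟨g, hg⟩
  · exfalso
    rw [show τ a b c * s * (τ a b c * s) = τ a b c * (s * τ a b c) * s by group, R.s_t, ← mul_assoc, R.mul,
      mul_assoc, R.s_sq, mul_one, R.τ_eq] at h
    omega
  · exfalso
    have e : τ a b c * (x1 * s) * (τ a b c * (x1 * s)) =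
        τ a b c * τ (-c) (-a) (a + b + c) * (τ 0 1 0 * x3) := by
      have h1 : x1 * s * τ a b c = τ (-c) (-a) (a + b + c) * (x1 * s) := by
        rw [mul_assoc, R.s_t, ← mul_assoc, R.x1_t, mul_assoc]
        congr 1
        congr 1; ring
      have h2 : x1 * s * (x1 * s) = τ 0 1 0 * x3 := by
        rw [show x1 * s * (x1 * s) = x1 * (s * x1) * s by group, R.s_x1,
          show x1 * (τ 1 0 (-1) * x2 * s) * s = x1 * τ 1 0 (-1) * x2 * (s * s) by group, R.s_sq, mul_one, R.x1_t,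
          mul_assoc, R.x12]
        norm_num
      rw [show τ a b c * (x1 * s) * (τ a b c * (x1 * s)) = τ a b c * (x1 * s * τ a b c) * (x1 * s) by group, h1,
        show τ a b c * (τ (-c) (-a) (a + b + c) * (x1 * s)) * (x1 * s) =
          τ a b c * τ (-c) (-a) (a + b + c) * (x1 * s * (x1 * s)) by group, h2]
    rw [e] at h
    have h3 : x3 = (τ a b c * τ (-c) (-a) (a + b + c) * τ 0 1 0)⁻¹ * τ 2 2 2 := by
      rw [← h]; group
    exact R.x3_notMem (h3 ▸ mul_mem (inv_mem (mul_mem (mul_mem (R.τ_mem _ _ _) (R.τ_mem _ _ _)) (R.τ_mem _ _ _)))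
      (R.τ_mem _ _ _))
  · exfalso
    have e : τ a b c * (x2 * s) * (τ a b c * (x2 * s)) =
        τ a b c * τ (-b) (a + b + c) (-a) * (τ 0 0 1 * x3) := by
      have h1 : x2 * s * τ a b c = τ (-b) (a + b + c) (-a) * (x2 * s) := by
        rw [mul_assoc, R.s_t, ← mul_assoc, R.x2_t, mul_assoc]
        congr 1
        congr 1; ring
      have h2 : x2 * s * (x2 * s) = τ 0 0 1 * x3 := by
        rw [show x2 * s * (x2 * s) = x2 * (s * x2) * s by group, R.s_x2,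
          show x2 * (τ 1 (-1) 0 * x1 * s) * s = x2 * τ 1 (-1) 0 * x1 * (s * s) by group, R.s_sq, mul_one, R.x2_t,
          mul_assoc, R.x21]
        norm_num
      rw [show τ a b c * (x2 * s) * (τ a b c * (x2 * s)) = τ a b c * (x2 * s * τ a b c) * (x2 * s) by group, h1,
        show τ a b c * (τ (-b) (a + b + c) (-a) * (x2 * s)) * (x2 * s) =
          τ a b c * τ (-b) (a + b + c) (-a) * (x2 * s * (x2 * s)) by group, h2]
    rw [e] at h
    have h3 : x3 = (τ a b c * τ (-b) (a + b + c) (-a) * τ 0 0 1)⁻¹ * τ 2 2 2 := by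
      rw [← h]; group
    exact R.x3_notMem (h3 ▸ mul_mem (inv_mem (mul_mem (mul_mem (R.τ_mem _ _ _) (R.τ_mem _ _ _)) (R.τ_mem _ _ _)))
      (R.τ_mem _ _ _))
  · exfalso
    have e : τ a b c * (x3 * s) * (τ a b c * (x3 * s)) =
        τ a b c * τ (a + b + c) (-b) (-c) * τ (-1) 0 0 := by
      have h1 : x3 * s * τ a b c = τ (a + b + c) (-b) (-c) * (x3 * s) := by
        rw [mul_assoc, R.s_t, ← mul_assoc, R.x3_t, mul_assoc]
        congr 1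
        congr 1; ring
      have h2 : x3 * s * (x3 * s) = τ (-1) 0 0 := by
        rw [show x3 * s * (x3 * s) = x3 * (s * x3) * s by group, R.s_x3,
          show x3 * (τ 1 0 0 * x3 * s) * s = x3 * τ 1 0 0 * x3 * (s * s) by group, R.s_sq, mul_one, R.x3_t,
          mul_assoc, R.x3_sq, mul_one]
        norm_num
      rw [show τ a b c * (x3 * s) * (τ a b c * (x3 * s)) = τ a b c * (x3 * s * τ a b c) * (x3 * s) by group, h1,
        show τ a b c * (τ (a + b + c) (-b) (-c) * (x3 * s)) * (x3 * s) =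
          τ a b c * τ (a + b + c) (-b) (-c) * (x3 * s * (x3 * s)) by group, h2]
    rw [e, R.mul, R.mul, R.τ_eq] at h
    omega

end Rel

end Cfsg.Agent.ONType.Cz
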