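import Mathlib
import Cfsg.Agent.ONType.CzRel
import Cfsg.Agent.ONType.CzIso
import Cfsg.Agent.Lib.GoldschmidtFusion

/-!
# From `H = C_G(z)` to `X = H/O(H)`
-/

set_option autoImplicit false

namespace Cfsg.Agent.ONType.Cz

open Subgroup Cfsg.Agent.Lib.GoldschmidtFusion

universe u

/-- `Rel` in a homomorphic image -/
theorem Rel.map {G G' : Type*} [Group G] [Group G'] {q : ℤ} {T S : Subgroup G} {τ : ℤ → ℤ → ℤ → G} {x1 x2 x3 s : G}
    (R : Rel q T S τ x1 x2 x3 s) (f : G →* G') (hf : ∀ g ∈ S, f g = 1 → g = 1) :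
    Rel q (T.map f) (S.map f) (fun a b c => f (τ a b c)) (f x1) (f x2) (f x3) (f s) where
  mul := fun a b c a' b' c' => by rw [← map_mul, R.mul]
  one := fun a b c => by
    rw [← R.one]
    exact ⟨hf _ (R.T_le (R.τ_mem _ _ _)), fun h => by rw [h, map_one]⟩
  mem := fun g => by
    constructor
    · rintro ⟨t, ht, rfl⟩
      obtain ⟨a, b, c, rfl⟩ := (R.mem t).1 ht
      exact ⟨a, b, c, rfl⟩
    · rintro ⟨a, b, c, rfl⟩
      exact ⟨_, R.τ_mem a b c, rfl⟩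
  x1_sq := by rw [← map_mul, R.x1_sq, map_one]
  x2_sq := by rw [← map_mul, R.x2_sq, map_one]
  x3_sq := by rw [← map_mul, R.x3_sq, map_one]
  x12 := by rw [← map_mul, R.x12]
  x23 := by rw [← map_mul, R.x23]
  x31 := by rw [← map_mul, R.x31]
  x1_t := fun a b c => by rw [← map_mul, R.x1_t, map_mul]
  x2_t := fun a b c => by rw [← map_mul, R.x2_t, map_mul]
  x3_t := fun a b c => by rw [← map_mul, R.x3_t, map_mul]
  s_sq := by rw [← map_mul, R.s_sq, map_one]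
  s_t := fun a b c => by rw [← map_mul, R.s_t, map_mul]
  s_x3 := by rw [← map_mul, R.s_x3, map_mul, map_mul]
  s_x1 := by rw [← map_mul, R.s_x1, map_mul, map_mul]
  s_x2 := by rw [← map_mul, R.s_x2, map_mul, map_mul]
  S_mem := fun g => by
    constructor
    · rintro ⟨t, ht, rfl⟩
      obtain ⟨a, b, c, w, hw, rfl⟩ := (R.S_mem t).1 ht
      refine ⟨a, b, c, f w, ?_, map_mul _ _ _⟩
      rcases hw with hw | hw | hw | hw | hw | hw | hw | hw <;> rw [hw] <;> simp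
    · rintro ⟨a, b, c, w, hw, rfl⟩
      have key : ∀ w', (w' = 1 ∨ w' = x1 ∨ w' = x2 ∨ w' = x3 ∨ w' = s ∨ w' = x1 * s ∨ w' = x2 * s ∨ w' = x3 * s) →
          w = f w' → f (τ a b c) * w ∈ S.map f := fun w' hw' h =>
        ⟨τ a b c * w', R.S_of a b c hw', by rw [map_mul, h]⟩
      rcases hw with h | h | h | h | h | h | h | h
      · exact key 1 (by simp) (by rw [h, map_one])
      · exact key x1 (by simp) h
      · exact key x2 (by simp) h
      · exact key x3 (by simp) h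
      · exact key s (by simp) h
      · exact key (x1 * s) (by simp) (by rw [h, map_mul])
      · exact key (x2 * s) (by simp) (by rw [h, map_mul])
      · exact key (x3 * s) (by simp) (by rw [h, map_mul])

theorem RelXi.map {G G' : Type*} [Group G] [Group G'] {τ : ℤ → ℤ → ℤ → G} {x1 x2 x3 ξ : G}
    (R : RelXi τ x1 x2 x3 ξ) (f : G →* G') : RelXi (fun a b c => f (τ a b c)) (f x1) (f x2) (f x3) (f ξ) where
  ct := fun a b c => by rw [← map_mul, R.ct, map_mul]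
  c3 := by rw [← map_inv, ← map_mul, ← map_mul, R.c3]
  c1 := by rw [← map_inv, ← map_mul, ← map_mul, R.c1]
  c2 := by rw [← map_inv, ← map_mul, ← map_mul, R.c2]

/-- the input of step (5), for `H = C_G(z)` -/
structure In {H : Type*} [Group H] [Finite H] (T : Subgroup H) (S : Sylow 2 H) (τ : ℤ → ℤ → ℤ → H)
    (x1 x2 x3 s ξ h : H) : Prop where
  rel : Rel 4 T (S : Subgroup H) τ x1 x2 x3 s
  xi : RelXi τ x1 x2 x3 ξ
  xio : Odd (orderOf ξ)
  zc : ∀ g, g * τ 2 2 2 = τ 2 2 2 * g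
  fus : ∀ g, g * τ 1 1 1 * g⁻¹ ∈ T → g * τ 1 1 1 * g⁻¹ = τ 1 1 1 ∨ g * τ 1 1 1 * g⁻¹ = τ (-1) (-1) (-1)
  wt : ∀ g, (∀ y ∈ T, g * y * g⁻¹ ∈ (S : Subgroup H)) → ∀ y ∈ T, g * y * g⁻¹ ∈ T
  az : ∀ k ∈ normalizer (T : Set H), ∃ c g, ∃ i : ℕ, (∀ y ∈ T, c * y = y * c) ∧ g ∈ (S : Subgroup H) ∧ k = c * g * ξ ^ i
  hx : h * x3 * h⁻¹ = τ 2 0 0
  hv : h * τ 1 1 1 * h⁻¹ = τ 1 1 1 ∨ h * τ 1 1 1 * h⁻¹ = τ (-1) (-1) (-1)

/-- `X = H/O(H)` -/
structure XIn {X : Type*} [Group X] [Finite X] (T : Subgroup X) (S : Sylow 2 X) (τ : ℤ → ℤ → ℤ → X)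
    (x1 x2 x3 s ξ h : X) : Prop where
  rel : Rel 4 T (S : Subgroup X) τ x1 x2 x3 s
  xi : RelXi τ x1 x2 x3 ξ
  xio : Odd (orderOf ξ)
  core : Cfsg.oddCore X = ⊥
  vn : ∀ g, g * τ 1 1 1 * g⁻¹ = τ 1 1 1 ∨ g * τ 1 1 1 * g⁻¹ = τ (-1) (-1) (-1)
  az : ∀ k ∈ normalizer (((S : Subgroup X) ⊓ centralizer ({τ 1 1 1} : Set X) : Subgroup X) : Set X),
    ∃ c g, ∃ i : ℕ, (∀ y ∈ T, c * y = y * c) ∧ g ∈ (S : Subgroup X) ∧ k = c * g * ξ ^ i
  hx : h * x3 * h⁻¹ = τ 2 0 0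

namespace Rel

variable {G : Type*} [Group G] {T S : Subgroup G} {τ : ℤ → ℤ → ℤ → G} {x1 x2 x3 s : G}

theorem v_sq (R : Rel 4 T S τ x1 x2 x3 s) : τ 1 1 1 * τ 1 1 1 = τ 2 2 2 := by rw [R.mul]; norm_num

theorem v_inv (R : Rel 4 T S τ x1 x2 x3 s) : (τ 1 1 1)⁻¹ = τ (-1) (-1) (-1) := R.τ_inv _ _ _

/-- the centralizer of `v` in `S` -/
theorem mem_P (R : Rel 4 T S τ x1 x2 x3 s) (g : G) : g ∈ S ⊓ centralizer ({τ 1 1 1} : Set G) ↔
    ∃ a b c, g = τ a b c ∨ g = τ a b c * x1 ∨ g = τ a b c * x2 ∨ g = τ a b c * x3 := by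
  have h1 : x1 * τ 1 1 1 = τ 1 1 1 * x1 := by rw [R.x1_t, mul_left_inj, R.τ_eq]; omega
  have h2 : x2 * τ 1 1 1 = τ 1 1 1 * x2 := by rw [R.x2_t, mul_left_inj, R.τ_eq]; omega
  have h3 : x3 * τ 1 1 1 = τ 1 1 1 * x3 := by rw [R.x3_t, mul_left_inj, R.τ_eq]; omega
  have hs : s * τ 1 1 1 = τ (-1) (-1) (-1) * s := by rw [R.s_t]
  have hinv : ∀ (a b c : ℤ) (x : G), x * τ 1 1 1 = τ 1 1 1 * x →
      ¬ τ a b c * (x * s) * τ 1 1 1 = τ 1 1 1 * (τ a b c * (x * s)) := by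
    intro a b c x hx h
    rw [show τ a b c * (x * s) * τ 1 1 1 = τ a b c * x * (s * τ 1 1 1) by group, hs,
      show τ a b c * x * (τ (-1) (-1) (-1) * s) = τ a b c * (x * τ (-1) (-1) (-1)) * s by group] at h
    have hx' : x * τ (-1) (-1) (-1) = τ (-1) (-1) (-1) * x := by
      rw [← R.v_inv]
      exact (Commute.inv_right hx).eq
    rw [hx', ← mul_assoc, ← mul_assoc, ← mul_assoc, R.mul, R.mul, mul_left_inj, mul_left_inj, R.τ_eq] at h
    omega
  rw [mem_inf, mem_centralizer_singleton_iff]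
  constructor
  · rintro ⟨hg, hc⟩
    obtain ⟨a, b, c, h⟩ := R.S_cases hg
    refine ⟨a, b, c, ?_⟩
    rcases h with rfl | rfl | rfl | rfl | rfl | rfl | rfl | rfl
    · exact Or.inl rfl
    · exact Or.inr (Or.inl rfl)
    · exact Or.inr (Or.inr (Or.inl rfl))
    · exact Or.inr (Or.inr (Or.inr rfl))
    · exact absurd (by rw [one_mul]; exact hc) (hinv a b c 1 (by simp))
    · exact absurd hc (hinv a b c x1 h1)
    · exact absurd hc (hinv a b c x2 h2)
    · exact absurd hc (hinv a b c x3 h3)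
  · have key : ∀ (a b c : ℤ) (x : G), x * τ 1 1 1 = τ 1 1 1 * x → τ a b c * x * τ 1 1 1 = τ 1 1 1 * (τ a b c * x) := by
      intro a b c x hx
      rw [mul_assoc, hx, ← mul_assoc, ← mul_assoc, R.τ_comm]
    rintro ⟨a, b, c, rfl | rfl | rfl | rfl⟩
    · exact ⟨R.T_le (R.τ_mem _ _ _), R.τ_comm _ _ _ _ _ _⟩
    · exact ⟨mul_mem (R.T_le (R.τ_mem _ _ _)) R.x1_mem, key _ _ _ _ h1⟩
    · exact ⟨mul_mem (R.T_le (R.τ_mem _ _ _)) R.x2_mem, key _ _ _ _ h2⟩
    · exact ⟨mul_mem (R.T_le (R.τ_mem _ _ _)) R.x3_mem, key _ _ _ _ h3⟩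

end Rel

namespace In

variable {H : Type u} [Group H] [Finite H] {T : Subgroup H} {S : Sylow 2 H} {τ : ℤ → ℤ → ℤ → H}
  {x1 x2 x3 s ξ h : H}

/-- `⟨v⟩` is isolated modulo `z` -/
theorem iso (D : In T S τ x1 x2 x3 s ξ h) (g : H) (hg : g * τ 1 1 1 * g⁻¹ ∈ (S : Subgroup H)) :
    g * τ 1 1 1 * g⁻¹ = τ 1 1 1 ∨ g * τ 1 1 1 * g⁻¹ = (τ 1 1 1)⁻¹ := by
  have R := D.rel
  rw [R.v_inv]
  have hsq : g * τ 1 1 1 * g⁻¹ * (g * τ 1 1 1 * g⁻¹) = τ 2 2 2 := by
    rw [show g * τ 1 1 1 * g⁻¹ * (g * τ 1 1 1 * g⁻¹) = g * (τ 1 1 1 * τ 1 1 1) * g⁻¹ by group, R.v_sq, D.zc,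
      mul_inv_cancel_right]
  rcases R.of_sq D.xi hg hsq with h1 | ⟨k, hk⟩
  · exact D.fus g h1
  · exfalso
    -- `v x3` is conjugate to `v^{±1} w`
    have h2 : h * (τ 1 1 1 * x3) * h⁻¹ = (h * τ 1 1 1 * h⁻¹) * τ 2 0 0 := by
      rw [← D.hx]; group
    have h3 : (h * k * g) * τ 1 1 1 * (h * k * g)⁻¹ = (h * τ 1 1 1 * h⁻¹) * τ 2 0 0 := by
      rw [← h2, ← hk]; group
    have h4 : (h * τ 1 1 1 * h⁻¹) * τ 2 0 0 ∈ T := by
      rcases D.hv with h5 | h5 <;> rw [h5] <;> exact mul_mem (R.τ_mem _ _ _) (R.τ_mem _ _ _)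
    have h6 := D.fus (h * k * g) (by rw [h3]; exact h4)
    rw [h3] at h6
    rcases D.hv with h5 | h5 <;> rw [h5, R.mul, R.τ_eq, R.τ_eq] at h6 <;> omega

/-- the quotient by the core -/
theorem toX (D : In T S τ x1 x2 x3 s ξ h) {X : Type u} [Group X] [Finite X] (f : H →* X)
    (hf : Function.Surjective f) (hker : f.ker = Cfsg.oddCore H) :
    XIn (T.map f) (S.mapSurjective hf) (fun a b c => f (τ a b c)) (f x1) (f x2) (f x3) (f s) (f ξ) (f h) := by
  have R := D.rel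
  have hOodd : Nat.Coprime (Nat.card (Cfsg.oddCore H)) 2 := Cfsg.Agent.Lib.Cores.pPrimeCore_coprime 2
  have hinj : ∀ g ∈ (S : Subgroup H), f g = 1 → g = 1 := by
    intro g hg h1
    have h2 : g ∈ Cfsg.oddCore H := by rw [← hker]; exact h1
    obtain ⟨k, hk⟩ := S.isPGroup' ⟨g, hg⟩
    have h3 : g ^ 2 ^ k = 1 := congrArg Subtype.val hk
    have h4 : orderOf g ∣ 2 ^ k := orderOf_dvd_of_pow_eq_one h3
    have h5 : orderOf g ∣ Nat.card (Cfsg.oddCore H) := by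
      have := orderOf_dvd_natCard (⟨g, h2⟩ : Cfsg.oddCore H)
      rwa [Subgroup.orderOf_mk] at this
    have h6 : Nat.Coprime (Nat.card (Cfsg.oddCore H)) (2 ^ k) := Nat.Coprime.pow_right k hOodd
    exact orderOf_eq_one_iff.1 (Nat.eq_one_of_dvd_coprimes h6 h5 h4)
  have hcore : Cfsg.oddCore X = ⊥ := by
    let e : H ⧸ Cfsg.oddCore H ≃* X :=
      (QuotientGroup.quotientMulEquivOfEq hker.symm).trans (QuotientGroup.quotientKerEquivOfSurjective f hf)
    have h1 := Cfsg.Agent.Lib.Cores.map_equiv_pPrimeCore e 2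
    have h2 : Cfsg.pPrimeCore 2 (H ⧸ Cfsg.oddCore H) = ⊥ := Cfsg.Agent.Lib.Cores.pPrimeCore_quotient_pPrimeCore 2
    rw [h2, Subgroup.map_bot] at h1
    exact h1.symm
  have hS : ((S.mapSurjective hf : Sylow 2 X) : Subgroup X) = (S : Subgroup H).map f := Sylow.coe_mapSurjective _ _
  have hR := R.map f hinj
  have hz1 : f (τ 2 2 2) ≠ 1 := by
    intro h1
    have h2 := hinj _ (R.T_le (R.τ_mem _ _ _)) h1
    rw [R.one] at h2
    omega
  refine ⟨?_, D.xi.map f, ?_, hcore, ?_, ?_, ?_⟩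
  · rw [hS]; exact hR
  · exact D.xio.of_dvd_nat (orderOf_map_dvd f ξ)
  · intro g
    have h1 := conj_or f hf hcore S (z := τ 2 2 2) (v := τ 1 1 1) D.zc (by rw [R.mul, R.one]; omega) hz1 R.v_sq
      (R.T_le (R.τ_mem _ _ _)) D.iso g
    rw [← map_inv, R.v_inv] at h1
    exact h1
  · -- lifting of the normalizer of `P`
    intro n hn
    obtain ⟨n₁, rfl⟩ := hf n
    set P := (S : Subgroup H) ⊓ centralizer ({τ 1 1 1} : Set H) with hP
    have hPmap : ((S.mapSurjective hf : Sylow 2 X) : Subgroup X) ⊓ centralizer ({f (τ 1 1 1)} : Set X) = P.map f := by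
      rw [hS]
      ext g
      rw [hR.mem_P]
      constructor
      · rintro ⟨a, b, c, hg⟩
        have key : ∀ y, y ∈ P → g = f y → g ∈ P.map f := fun y hy h1 => ⟨y, hy, h1.symm⟩
        rcases hg with hg | hg | hg | hg
        · exact key _ ((R.mem_P _).2 ⟨a, b, c, Or.inl rfl⟩) hg
        · exact key (τ a b c * x1) ((R.mem_P _).2 ⟨a, b, c, by simp⟩) (by rw [hg, map_mul])
        · exact key (τ a b c * x2) ((R.mem_P _).2 ⟨a, b, c, by simp⟩) (by rw [hg, map_mul])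
        · exact key (τ a b c * x3) ((R.mem_P _).2 ⟨a, b, c, by simp⟩) (by rw [hg, map_mul])
      · rintro ⟨y, hy, rfl⟩
        obtain ⟨a, b, c, hg⟩ := (R.mem_P y).1 hy
        refine ⟨a, b, c, ?_⟩
        rcases hg with hg | hg | hg | hg <;> rw [hg] <;> simp
    rw [hPmap] at hn
    set N := (P.map f).comap f with hN
    have hPN : P ≤ N := le_comap_map _ _
    have hPp : IsPGroup 2 P := S.isPGroup'.to_le inf_le_left
    -- index of `P` in `N`
    have hidx : ¬ 2 ∣ P.relIndex N := by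
      intro h2
      have hcard : P.relIndex N = Nat.card f.ker := by
        have e1 := Subgroup.relIndex_mul_index hPN
        have e2 := Subgroup.card_mul_index P
        have e3 := Subgroup.card_mul_index (P.map f)
        have e4 : N.index = (P.map f).index := Subgroup.index_comap_of_surjective _ hf
        have e5 : Nat.card (P.map f) = Nat.card P := by
          refine (Nat.card_congr (Equiv.ofBijective (fun x : P => (⟨f x, mem_map_of_mem f x.2⟩ : P.map f)) ⟨?_, ?_⟩)).symm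
          · intro x y hxy
            have h3 : f x = f y := congrArg Subtype.val hxy
            have h4 : f ((x : H) * (y : H)⁻¹) = 1 := by rw [map_mul, map_inv, h3, mul_inv_cancel]
            exact Subtype.ext (mul_inv_eq_one.1 (hinj _ (mem_inf.1 (mul_mem x.2 (inv_mem y.2))).1 h4))
          · rintro ⟨_, x, hx, rfl⟩
            exact ⟨⟨x, hx⟩, rfl⟩
        have e6 : Nat.card H = Nat.card X * Nat.card f.ker := by
          rw [Subgroup.card_eq_card_quotient_mul_card_subgroup f.ker,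
            Nat.card_congr (QuotientGroup.quotientKerEquivOfSurjective f hf).toEquiv]
        have hpos : 0 < (P.map f).index * Nat.card P :=
          Nat.mul_pos (Nat.pos_of_ne_zero Subgroup.index_ne_zero_of_finite) Nat.card_pos
        apply Nat.eq_of_mul_eq_mul_right hpos
        rw [← mul_assoc, ← e4, e1, mul_comm _ (Nat.card P), e2, e6, ← e3, e5, e4]
        ring
      have h4 : 2 ∣ Nat.card (Cfsg.oddCore H) := by
        rw [← hker, ← hcard]; exact h2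
      have h5 := hOodd
      rw [Nat.coprime_two_right] at h5
      rw [← Nat.not_even_iff_odd, even_iff_two_dvd] at h5
      exact h5 h4
    have hle : P.map (MulAut.conj n₁).toMonoidHom ≤ N := by
      rintro _ ⟨y, hy, rfl⟩
      rw [hN, mem_comap]
      change f (n₁ * y * n₁⁻¹) ∈ _
      rw [map_mul, map_mul, map_inv]
      exact (mem_normalizer_iff.1 hn _).1 (mem_map_of_mem f hy)
    obtain ⟨u, hu, hule⟩ := exists_conj_le_in (p := 2) hPp hidx hle (hPp.map _)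
    rw [map_conj_map_conj] at hule
    have hwt : ∀ y ∈ T, (u * n₁) * y * (u * n₁)⁻¹ ∈ (S : Subgroup H) := by
      intro y hy
      have hyP : y ∈ P := by
        obtain ⟨a, b, c, rfl⟩ := (R.mem y).1 hy
        exact (R.mem_P _).2 ⟨a, b, c, Or.inl rfl⟩
      exact (mem_inf.1 (hule ⟨y, hyP, rfl⟩)).1
    have hNT : u * n₁ ∈ normalizer (T : Set H) := by
      rw [mem_normalizer_iff_map_conj]
      refine Subgroup.eq_of_le_of_card_ge ?_ (by rw [card_map_conj])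
      rintro _ ⟨y, hy, rfl⟩
      exact D.wt _ hwt y hy
    obtain ⟨c, g, i, hc, hg, hk⟩ := D.az _ hNT
    obtain ⟨y, hy, hyu⟩ := hu
    have hyS : y ∈ (S : Subgroup H) := (mem_inf.1 hy).1
    -- `f n₁ = f(y)⁻¹ f(c g ξ^i)`
    have e1 : f n₁ = (f y)⁻¹ * f c * f y * ((f y)⁻¹ * f g) * f ξ ^ i := by
      have h1 : f (u * n₁) = f (c * g * ξ ^ i) := by rw [hk]
      rw [map_mul, ← hyu, map_mul, map_mul, map_pow] at h1
      rw [← eq_inv_mul_iff_mul_eq] at h1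
      rw [h1]; group
    refine ⟨(f y)⁻¹ * f c * f y, (f y)⁻¹ * f g, i, ?_, ?_, e1⟩
    · rintro _ ⟨t, ht, rfl⟩
      have hyT : y * t * y⁻¹ ∈ T := D.wt y (fun y' hy' => mul_mem (mul_mem hyS (R.T_le hy')) (inv_mem hyS)) t ht
      have h1 := congrArg f (hc _ hyT)
      simp only [map_mul, map_inv] at h1
      calc (f y)⁻¹ * f c * f y * f t = (f y)⁻¹ * (f c * (f y * f t * (f y)⁻¹)) * f y := by group
        _ = (f y)⁻¹ * (f y * f t * (f y)⁻¹ * f c) * f y := by rw [h1]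
        _ = _ := by group
    · rw [hS, ← map_inv, ← map_mul]
      exact mem_map_of_mem f (mul_mem (inv_mem hyS) hg)
  · rw [← map_inv, ← map_mul, ← map_mul, D.hx]

end In

end Cfsg.Agent.ONType.Cz
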