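import Mathlib
import Cfsg.Agent.ONType.CzIn
import Cfsg.Agent.ONType.CzConj
import Cfsg.Agent.S0542

/-!
# `Y = C_X(v)` and `Q = Y/⟨v⟩`
-/

set_option autoImplicit false

namespace Cfsg.Agent.ONType.Cz

open Subgroup Cfsg.Agent.TypeL3 Cfsg.Agent.TypeL3.Local Cfsg.Agent.Lib.FieldFour Cfsg.Agent.Lib.GoldschmidtFusion

universe u

namespace XIn

variable {X : Type u} [Group X] [Finite X] {T : Subgroup X} {S : Sylow 2 X} {τ : ℤ → ℤ → ℤ → X}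
  {x1 x2 x3 s ξ h : X}

theorem s_v (D : XIn T S τ x1 x2 x3 s ξ h) : s * τ 1 1 1 * s⁻¹ = (τ 1 1 1)⁻¹ := by
  rw [D.rel.s_t, mul_inv_cancel_right, D.rel.v_inv]

theorem v_ne (D : XIn T S τ x1 x2 x3 s ξ h) : (τ 1 1 1)⁻¹ ≠ τ 1 1 1 := by
  rw [D.rel.v_inv, Ne, D.rel.τ_eq]
  omega

theorem normal (D : XIn T S τ x1 x2 x3 s ξ h) : (centralizer ({τ 1 1 1} : Set X)).Normal := by
  refine ⟨fun n hn g => ?_⟩
  rw [mem_centralizer_singleton_iff] at hn ⊢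
  have h1 : n * (g⁻¹ * τ 1 1 1 * g) = (g⁻¹ * τ 1 1 1 * g) * n := by
    have h2 := D.vn g⁻¹
    rw [inv_inv, ← D.rel.v_inv] at h2
    rcases h2 with h2 | h2
    · rw [h2, hn]
    · rw [h2]
      exact (Commute.inv_right hn).eq
  calc g * n * g⁻¹ * τ 1 1 1 = g * (n * (g⁻¹ * τ 1 1 1 * g)) * g⁻¹ := by group
    _ = τ 1 1 1 * (g * n * g⁻¹) := by rw [h1]; group

theorem s_notMem (D : XIn T S τ x1 x2 x3 s ξ h) : s ∉ centralizer ({τ 1 1 1} : Set X) := by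
  intro h1
  rw [mem_centralizer_singleton_iff] at h1
  have h2 := D.s_v
  rw [h1, mul_inv_cancel_right] at h2
  exact D.v_ne h2.symm

theorem mem_or (D : XIn T S τ x1 x2 x3 s ξ h) (g : X) :
    g ∈ centralizer ({τ 1 1 1} : Set X) ∨ (g * τ 1 1 1 * g⁻¹ = (τ 1 1 1)⁻¹ ∧ s * g ∈ centralizer ({τ 1 1 1} : Set X)) := by
  rcases D.vn g with h1 | h1
  · left
    rw [mem_centralizer_singleton_iff, ← mul_inv_eq_iff_eq_mul]
    exact h1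
  · right
    rw [← D.rel.v_inv] at h1
    refine ⟨h1, ?_⟩
    rw [mem_centralizer_singleton_iff, ← mul_inv_eq_iff_eq_mul,
      show s * g * τ 1 1 1 * (s * g)⁻¹ = s * (g * τ 1 1 1 * g⁻¹) * s⁻¹ by group, h1]
    have := congrArg (·⁻¹) D.s_v
    simpa [mul_assoc] using this

theorem index (D : XIn T S τ x1 x2 x3 s ξ h) : (centralizer ({τ 1 1 1} : Set X)).index = 2 := by
  rw [Subgroup.index_eq_two_iff]
  refine ⟨s, fun b => ?_⟩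
  have hn := D.normal
  by_cases hb : b ∈ centralizer ({τ 1 1 1} : Set X)
  · refine Or.inr ⟨hb, fun h1 => D.s_notMem ?_⟩
    have := mul_mem (inv_mem hb) h1
    rwa [inv_mul_cancel_left] at this
  · refine Or.inl ⟨?_, hb⟩
    rcases D.mem_or b with h1 | ⟨-, h1⟩
    · exact absurd h1 hb
    · have h2 := hn.conj_mem _ h1 s
      rw [D.rel.s_inv, ← mul_assoc, D.rel.s_sq, one_mul] at h2
      exact h2

theorem xi_mem (D : XIn T S τ x1 x2 x3 s ξ h) : ξ ∈ centralizer ({τ 1 1 1} : Set X) := by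
  rw [mem_centralizer_singleton_iff, D.xi.ct, mul_left_inj, D.rel.τ_eq]
  omega

/-- an element of `C_X(v)` moving `x3` to `w` -/
theorem exists_h (D : XIn T S τ x1 x2 x3 s ξ h) :
    ∃ k ∈ centralizer ({τ 1 1 1} : Set X), k * x3 * k⁻¹ = τ 2 0 0 := by
  rcases D.mem_or h with h1 | ⟨-, h1⟩
  · exact ⟨h, h1, D.hx⟩
  · refine ⟨s * h, h1, ?_⟩
    rw [show s * h * x3 * (s * h)⁻¹ = s * (h * x3 * h⁻¹) * s⁻¹ by group, D.hx, D.rel.s_t, mul_inv_cancel_right,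
      D.rel.τ_eq]
    omega

/-- an element of `C_X(v)` moving `τ 1 0 0 * x3` to `w` -/
theorem exists_h' (D : XIn T S τ x1 x2 x3 s ξ h) :
    ∃ k ∈ centralizer ({τ 1 1 1} : Set X), k * (τ 1 0 0 * x3) * k⁻¹ = τ 2 0 0 := by
  obtain ⟨k, hk, hkx⟩ := D.exists_h
  have hn := D.normal
  refine ⟨s * k * s⁻¹, hn.conj_mem k hk s, ?_⟩
  have h1 : s⁻¹ * (τ 1 0 0 * x3) * s = x3 := by
    have h2 := D.rel.s_x3
    rw [show s⁻¹ * (τ 1 0 0 * x3) * s = s⁻¹ * (τ 1 0 0 * x3 * s) by group, ← h2, inv_mul_cancel_left]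
  rw [show s * k * s⁻¹ * (τ 1 0 0 * x3) * (s * k * s⁻¹)⁻¹ = s * (k * (s⁻¹ * (τ 1 0 0 * x3) * s) * k⁻¹) * s⁻¹ by group,
    h1, hkx, D.rel.s_t, mul_inv_cancel_right, D.rel.τ_eq]
  omega

theorem P_xi (D : XIn T S τ x1 x2 x3 s ξ h) : ξ ∈ normalizer
    (((S : Subgroup X) ⊓ centralizer ({τ 1 1 1} : Set X) : Subgroup X) : Set X) := by
  have R := D.rel
  rw [mem_normalizer_iff_map_conj]
  refine Subgroup.eq_of_le_of_card_ge ?_ (by rw [card_map_conj])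
  rintro _ ⟨y, hy, rfl⟩
  change ξ * y * ξ⁻¹ ∈ _
  have hyy := (R.mem_P y).1 hy
  rw [R.mem_P]
  obtain ⟨a, b, c, h1⟩ := hyy
  refine ⟨a, -a - b - c, b, ?_⟩
  rcases h1 with rfl | rfl | rfl | rfl
  · left
    rw [D.xi.ct, mul_inv_cancel_right]
  · right; right; left
    rw [← mul_assoc, D.xi.ct, ← D.xi.c1]
    group
  · right; right; right
    rw [← mul_assoc, D.xi.ct, ← D.xi.c2]
    group
  · right; left
    rw [← mul_assoc, D.xi.ct, ← D.xi.c3]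
    group

theorem T_xi (D : XIn T S τ x1 x2 x3 s ξ h) {t : X} (ht : t ∈ T) : ξ * t * ξ⁻¹ ∈ T := by
  obtain ⟨a, b, c, rfl⟩ := (D.rel.mem t).1 ht
  rw [D.xi.ct, mul_inv_cancel_right]
  exact D.rel.τ_mem _ _ _

/-- `ξ ^ 3` centralises `P` -/
theorem xi_three (D : XIn T S τ x1 x2 x3 s ξ h) {g : X}
    (hg : g ∈ (S : Subgroup X) ⊓ centralizer ({τ 1 1 1} : Set X)) : ξ * ξ * ξ * g = g * (ξ * ξ * ξ) := by
  have R := D.rel
  have ht : ∀ a b c, ξ * ξ * ξ * τ a b c = τ a b c * (ξ * ξ * ξ) := by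
    intro a b c
    rw [show ξ * ξ * ξ * τ a b c = ξ * (ξ * (ξ * τ a b c)) by group, D.xi.ct,
      show ξ * (ξ * (τ a (-a - b - c) b * ξ)) = ξ * (ξ * τ a (-a - b - c) b) * ξ by group, D.xi.ct, ← mul_assoc ξ, D.xi.ct]
    rw [show τ a b c * (ξ * ξ * ξ) = τ a b c * ξ * ξ * ξ by group]
    congr 4 <;> ring
  have h1 : ξ * ξ * ξ * x1 = x1 * (ξ * ξ * ξ) := by
    rw [show ξ * ξ * ξ * x1 = ξ * (ξ * (ξ * x1 * ξ⁻¹) * ξ⁻¹) * ξ⁻¹ * (ξ * ξ * ξ) by group, D.xi.c1, D.xi.c2, D.xi.c3]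
  have h2 : ξ * ξ * ξ * x2 = x2 * (ξ * ξ * ξ) := by
    rw [show ξ * ξ * ξ * x2 = ξ * (ξ * (ξ * x2 * ξ⁻¹) * ξ⁻¹) * ξ⁻¹ * (ξ * ξ * ξ) by group, D.xi.c2, D.xi.c3, D.xi.c1]
  have h3 : ξ * ξ * ξ * x3 = x3 * (ξ * ξ * ξ) := by
    rw [show ξ * ξ * ξ * x3 = ξ * (ξ * (ξ * x3 * ξ⁻¹) * ξ⁻¹) * ξ⁻¹ * (ξ * ξ * ξ) by group, D.xi.c3, D.xi.c1, D.xi.c2]
  obtain ⟨a, b, c, h⟩ := (R.mem_P g).1 hg
  rcases h with rfl | rfl | rfl | rfl
  · exact ht _ _ _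
  · rw [← mul_assoc, ht, mul_assoc, h1, ← mul_assoc]
  · rw [← mul_assoc, ht, mul_assoc, h2, ← mul_assoc]
  · rw [← mul_assoc, ht, mul_assoc, h3, ← mul_assoc]

/-- the Sylow 2-subgroup `P` of `Y` -/
theorem exists_sylow (D : XIn T S τ x1 x2 x3 s ξ h) : ∃ P : Sylow 2 (centralizer ({τ 1 1 1} : Set X)),
    (P : Subgroup (centralizer ({τ 1 1 1} : Set X))) =
      ((S : Subgroup X) ⊓ centralizer ({τ 1 1 1} : Set X)).subgroupOf (centralizer ({τ 1 1 1} : Set X)) := by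
  have hn := D.normal
  obtain ⟨P, hP⟩ := Cfsg.Agent.S0542.result 2 (centralizer ({τ 1 1 1} : Set X)) hn.isSubnormal S
  exact ⟨P, by rw [hP, Subgroup.inf_subgroupOf_right]⟩

end XIn

end Cfsg.Agent.ONType.Cz
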