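import Mathlib
import Cfsg.Agent.ONType.CzX

/-!
# The quotient `Q = Y/⟨v⟩`
-/

set_option autoImplicit false

namespace Cfsg.Agent.ONType.Cz

open Subgroup Cfsg.Agent.TypeL3 Cfsg.Agent.TypeL3.Local Cfsg.Agent.Lib.FieldFour Cfsg.Agent.Lib.GoldschmidtFusion

universe u

/-- `Q` with all its data; the hypotheses of `CzSimple.main` -/
structure QIn {Q : Type u} [Group Q] [Finite Q] (T : Subgroup Q) (P : Sylow 2 Q) (τ : ℤ → ℤ → ℤ → Q)
    (x1 x2 x3 ξ : Q) : Prop where
  rel : RelQ T (P : Subgroup Q) τ x1 x2 x3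
  core : Cfsg.oddCore Q = ⊥
  hx : ∃ k : Q, k * x3 * k⁻¹ = τ 2 0 0
  hy : ∃ k : Q, k * (τ 1 0 0 * x3) * k⁻¹ = τ 2 0 0
  xi : ξ ∈ normalizer ((P : Subgroup Q) : Set Q)
  xi3 : ∀ g ∈ (P : Subgroup Q), ξ * ξ * ξ * g = g * (ξ * ξ * ξ)
  xio : Odd (orderOf ξ)
  az : ∀ n ∈ normalizer ((P : Subgroup Q) : Set Q), ∃ c g, ∃ i : ℕ, (∀ t ∈ T, c * t = t * c) ∧
    g ∈ (P : Subgroup Q) ∧ n = c * g * ξ ^ i

/-- a homomorphism `Y → Q` with kernel `⟨v⟩` -/
theorem XIn.toQ {X : Type u} [Group X] [Finite X] {T : Subgroup X} {S : Sylow 2 X} {τ : ℤ → ℤ → ℤ → X}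
    {x1 x2 x3 s ξ h : X} (D : XIn T S τ x1 x2 x3 s ξ h) {Q : Type u} [Group Q] [Finite Q] {Y : Subgroup X}
    (hY : Y = centralizer ({τ 1 1 1} : Set X)) (p : Y →* Q) (hp : Function.Surjective p)
    (hker : ∀ y : Y, p y = 1 ↔ (y : X) ∈ zpowers (τ 1 1 1))
    (P : Sylow 2 Y) (hP : (P : Subgroup Y) = ((S : Subgroup X) ⊓ Y).subgroupOf Y)
    (t : ℤ → ℤ → ℤ → Y) (ht : ∀ a b c, (t a b c : X) = τ a b c)
    (y1 y2 y3 η : Y) (h1 : (y1 : X) = x1) (h2 : (y2 : X) = x2) (h3 : (y3 : X) = x3)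
    (hη : (η : X) = ξ) :
    QIn ((T.subgroupOf Y).map p) (P.mapSurjective hp) (fun a b c => p (t a b c))
      (p y1) (p y2) (p y3) (p η) := by
  have R := D.rel
  have hPc : ((P.mapSurjective hp : Sylow 2 Q) : Subgroup Q) = (P : Subgroup Y).map p := by rw [Sylow.coe_mapSurjective]
  have hmP : ∀ g, g ∈ (S : Subgroup X) ⊓ Y ↔ ∃ a b c, g = τ a b c ∨ g = τ a b c * x1 ∨ g = τ a b c * x2 ∨
      g = τ a b c * x3 := by
    intro g
    rw [hY]
    exact R.mem_P g
  have hDn : Y.Normal := hY ▸ D.normal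
  -- elements of `⟨v⟩`
  have hv : ∀ k : ℤ, τ 1 1 1 ^ k = τ k k k := by
    intro k
    induction k using Int.induction_on with
    | zero => rw [zpow_zero, R.τ_zero]
    | succ i ih => rw [zpow_add, ih, zpow_one, R.mul]
    | pred i ih => rw [zpow_sub, ih, zpow_one, R.τ_inv, R.mul, sub_eq_add_neg]
  have hvm : ∀ a b c, τ a b c ∈ zpowers (τ 1 1 1) ↔ 4 ∣ a - b ∧ 4 ∣ a - c := by
    intro a b c
    rw [mem_zpowers_iff]
    constructor
    · rintro ⟨k, hk⟩
      rw [hv, R.τ_eq] at hk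
      omega
    · intro h4
      refine ⟨a, ?_⟩
      rw [hv, R.τ_eq]
      omega
  have hvc : (⟨τ 1 1 1, by rw [hY, mem_centralizer_singleton_iff]⟩ : Y) ∈ center Y := by
    rw [mem_center_iff]
    intro g
    have hg : (g : X) ∈ centralizer ({τ 1 1 1} : Set X) := hY ▸ g.2
    exact Subtype.ext (mem_centralizer_singleton_iff.1 hg)
  have hkz : p.ker = zpowers (⟨τ 1 1 1, by rw [hY, mem_centralizer_singleton_iff]⟩ : Y) := by
    ext y
    rw [MonoidHom.mem_ker, hker, mem_zpowers_iff, mem_zpowers_iff]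
    constructor
    · rintro ⟨k, hk⟩
      exact ⟨k, Subtype.ext (by simpa using hk)⟩
    · rintro ⟨k, hk⟩
      exact ⟨k, by rw [← hk]; simp⟩
  refine ⟨?_, ?_, ?_, ?_, ?_, ?_, ?_, ?_⟩
  · -- the relations
    rw [hPc, hP]
    have e : ∀ {a b : Y}, (a : X) = b → p a = p b := fun h => by rw [Subtype.ext h]
    refine ⟨?_, ?_, ?_, ?_, ?_, ?_, ?_, ?_, ?_, ?_, ?_, ?_, ?_⟩
    · intro a b c a' b' c'
      rw [← map_mul]
      exact e (by rw [coe_mul, ht, ht, ht, R.mul])
    · intro a b c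
      rw [hker, ht, hvm]
    · intro g
      constructor
      · rintro ⟨y, hy, rfl⟩
        obtain ⟨a, b, c, h4⟩ := (R.mem _).1 (mem_subgroupOf.1 hy)
        exact ⟨a, b, c, e (by rw [h4, ht])⟩
      · rintro ⟨a, b, c, rfl⟩
        exact ⟨t a b c, mem_subgroupOf.2 (by rw [ht]; exact R.τ_mem _ _ _), rfl⟩
    · rw [← map_mul, ← map_one p]
      exact e (by rw [coe_mul, h1, R.x1_sq, coe_one])
    · rw [← map_mul, ← map_one p]
      exact e (by rw [coe_mul, h2, R.x2_sq, coe_one])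
    · rw [← map_mul, ← map_one p]
      exact e (by rw [coe_mul, h3, R.x3_sq, coe_one])
    · rw [← map_mul]
      exact e (by rw [coe_mul, h1, h2, h3, R.x12])
    · rw [← map_mul]
      exact e (by rw [coe_mul, h2, h3, h1, R.x23])
    · rw [← map_mul]
      exact e (by rw [coe_mul, h3, h1, h2, R.x31])
    · intro a b c
      rw [← map_mul, ← map_mul]
      exact e (by rw [coe_mul, coe_mul, h1, ht, ht, R.x1_t])
    · intro a b c
      rw [← map_mul, ← map_mul]
      exact e (by rw [coe_mul, coe_mul, h2, ht, ht, R.x2_t])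
    · intro a b c
      rw [← map_mul, ← map_mul]
      exact e (by rw [coe_mul, coe_mul, h3, ht, ht, R.x3_t])
    · intro g
      constructor
      · rintro ⟨y, hy, rfl⟩
        obtain ⟨a, b, c, h4⟩ := (hmP _).1 (mem_subgroupOf.1 hy)
        refine ⟨a, b, c, ?_⟩
        rcases h4 with h4 | h4 | h4 | h4
        · exact Or.inl (e (by rw [h4, ht]))
        · refine Or.inr (Or.inl ?_)
          rw [← map_mul]
          exact e (by rw [h4, coe_mul, ht, h1])
        · refine Or.inr (Or.inr (Or.inl ?_))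
          rw [← map_mul]
          exact e (by rw [h4, coe_mul, ht, h2])
        · refine Or.inr (Or.inr (Or.inr ?_))
          rw [← map_mul]
          exact e (by rw [h4, coe_mul, ht, h3])
      · rintro ⟨a, b, c, h4⟩
        have key : ∀ y : Y, (y : X) ∈ (S : Subgroup X) ⊓ Y → g = p y → g ∈ (((S : Subgroup X) ⊓ Y).subgroupOf Y).map p :=
          fun y hy h5 => ⟨y, hy, h5.symm⟩
        rcases h4 with h4 | h4 | h4 | h4
        · exact key _ ((hmP _).2 ⟨a, b, c, Or.inl (ht a b c)⟩) h4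
        · rw [← map_mul] at h4
          exact key _ ((hmP _).2 ⟨a, b, c, Or.inr (Or.inl (by rw [coe_mul, ht, h1]))⟩) h4
        · rw [← map_mul] at h4
          exact key _ ((hmP _).2 ⟨a, b, c, Or.inr (Or.inr (Or.inl (by rw [coe_mul, ht, h2])))⟩) h4
        · rw [← map_mul] at h4
          exact key _ ((hmP _).2 ⟨a, b, c, Or.inr (Or.inr (Or.inr (by rw [coe_mul, ht, h3])))⟩) h4
  · -- the core
    have hn := hDn
    have hYO : Cfsg.oddCore Y = ⊥ := by
      have h4 := Cfsg.Agent.Lib.Cores.map_subtype_pPrimeCore (G := X) 2 (N := Y) hn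
      have h5 : (Cfsg.pPrimeCore 2 X) = ⊥ := D.core
      rw [h5, inf_bot_eq] at h4
      exact (Subgroup.map_eq_bot_iff_of_injective _ Y.subtype_injective).mp h4
    have hZc : p.ker ≤ center Y := by rw [hkz, zpowers_le]; exact hvc
    have hZ2 : IsPGroup 2 p.ker := by
      rw [hkz]
      refine S.isPGroup'.of_injective ((Subgroup.inclusion (H := zpowers (τ 1 1 1)) (K := (S : Subgroup X)) ?_).comp
        ?_) ?_
      · rw [zpowers_le]; exact R.T_le (R.τ_mem _ _ _)
      · exact {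
          toFun := fun y => ⟨((y : Y) : X), by
            obtain ⟨k, hk⟩ := mem_zpowers_iff.1 y.2
            exact mem_zpowers_iff.2 ⟨k, by rw [← hk]; simp⟩⟩
          map_one' := rfl
          map_mul' := fun a b => rfl }
      · intro a b hab
        have h4 := congrArg Subtype.val hab
        exact Subtype.ext (Subtype.ext h4)
    have h6 := oddCore_quotient_central hYO p.ker hZc hZ2
    have h7 := Cfsg.Agent.Lib.Cores.map_equiv_pPrimeCore (QuotientGroup.quotientKerEquivOfSurjective p hp) 2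
    have h8 : Cfsg.pPrimeCore 2 (Y ⧸ p.ker) = ⊥ := h6
    rw [h8, Subgroup.map_bot] at h7
    exact h7.symm
  · obtain ⟨k, hk, hkx⟩ := D.exists_h
    refine ⟨p ⟨k, hY ▸ hk⟩, ?_⟩
    rw [← map_inv, ← map_mul, ← map_mul]
    congr 1
    exact Subtype.ext (by simp only [coe_mul, coe_inv, ht, h3]; exact hkx)
  · obtain ⟨k, hk, hkx⟩ := D.exists_h'
    refine ⟨p ⟨k, hY ▸ hk⟩, ?_⟩
    rw [← map_inv, ← map_mul, ← map_mul, ← map_mul]
    congr 1
    exact Subtype.ext (by simp only [coe_mul, coe_inv, ht, h3]; exact hkx)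
  · -- `ξ` normalises `P`
    rw [hPc, mem_normalizer_iff_map_conj]
    refine Subgroup.eq_of_le_of_card_ge ?_ (by rw [card_map_conj])
    rintro _ ⟨_, ⟨y, hy, rfl⟩, rfl⟩
    change p η * p y * (p η)⁻¹ ∈ _
    rw [← map_inv, ← map_mul, ← map_mul]
    refine mem_map_of_mem p ?_
    change _ ∈ (P : Subgroup Y) at hy
    rw [hP, mem_subgroupOf] at hy ⊢
    simp only [coe_mul, coe_inv, hη]
    have h4 := D.P_xi
    rw [← hY] at h4
    exact (mem_normalizer_iff.1 h4 _).1 hy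
  · intro g hg
    rw [hPc] at hg
    obtain ⟨y, hy, rfl⟩ := hg
    change _ ∈ (P : Subgroup Y) at hy
    rw [hP, mem_subgroupOf] at hy
    rw [← map_mul, ← map_mul, ← map_mul, ← map_mul]
    congr 1
    exact Subtype.ext (by simp only [coe_mul, hη]; exact D.xi_three (by rw [← hY]; exact hy))
  · have h4 : orderOf η = orderOf ξ := by rw [← hη, orderOf_coe]
    exact (h4 ▸ D.xio).of_dvd_nat (orderOf_map_dvd p η)
  · intro n hn
    obtain ⟨n, rfl⟩ := hp n
    -- `n` normalises `P`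
    have hnP : (n : X) ∈ normalizer (((S : Subgroup X) ⊓ Y : Subgroup X) : Set X) := by
      rw [mem_normalizer_iff_map_conj]
      refine Subgroup.eq_of_le_of_card_ge ?_ (by rw [card_map_conj])
      rintro _ ⟨y, hy, rfl⟩
      change (n : X) * y * (n : X)⁻¹ ∈ _
      have hyY : y ∈ Y := (mem_inf.1 hy).2
      have h4 : p ⟨y, hyY⟩ ∈ ((P.mapSurjective hp : Sylow 2 Q) : Subgroup Q) := by
        rw [hPc]
        refine mem_map_of_mem p ?_
        change _ ∈ (P : Subgroup Y)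
        rw [hP, mem_subgroupOf]
        exact hy
      have h5 := (mem_normalizer_iff.1 hn _).1 h4
      change _ ∈ ((P.mapSurjective hp : Sylow 2 Q) : Subgroup Q) at h5
      rw [← map_inv, ← map_mul, ← map_mul, hPc] at h5
      obtain ⟨y', hy', h6⟩ := h5
      change _ ∈ (P : Subgroup Y) at hy'
      rw [hP, mem_subgroupOf] at hy'
      have h7 : p (y'⁻¹ * (n * ⟨y, hyY⟩ * n⁻¹)) = 1 := by rw [map_mul, map_inv, h6, inv_mul_cancel]
      rw [hker] at h7
      simp only [coe_mul, coe_inv] at h7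
      have h8 : τ 1 1 1 ∈ (S : Subgroup X) ⊓ Y := (hmP _).2 ⟨1, 1, 1, Or.inl rfl⟩
      have h9 := (zpowers_le.2 h8) h7
      have h10 := mul_mem hy' h9
      rwa [mul_inv_cancel_left] at h10
    obtain ⟨c, g, i, hc, hg, hn'⟩ := D.az _ (by rw [← hY]; exact hnP)
    have hcY : c ∈ Y := by rw [hY]; exact mem_centralizer_singleton_iff.2 (hc _ (R.τ_mem 1 1 1))
    have hξY : ξ ∈ Y := by rw [hY]; exact D.xi_mem
    have hgY : g ∈ Y := by
      have h4 : g = c⁻¹ * n * (ξ ^ i)⁻¹ := by rw [hn']; group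
      rw [h4]
      exact mul_mem (mul_mem (inv_mem hcY) n.2) (inv_mem (pow_mem hξY i))
    refine ⟨p ⟨c, hcY⟩, p ⟨g, hgY⟩, i, ?_, ?_, ?_⟩
    · rintro _ ⟨y, hy, rfl⟩
      rw [← map_mul, ← map_mul]
      congr 1
      exact Subtype.ext (by simp only [coe_mul]; exact hc _ (mem_subgroupOf.1 hy))
    · rw [hPc]
      refine mem_map_of_mem p ?_
      change _ ∈ (P : Subgroup Y)
      rw [hP, mem_subgroupOf]
      exact mem_inf.2 ⟨hg, hgY⟩
    · rw [← map_pow, ← map_mul, ← map_mul]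
      congr 1
      exact Subtype.ext (by simp only [coe_mul, coe_pow, hη]; exact hn')

end Cfsg.Agent.ONType.Cz
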