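import Mathlib
import Cfsg.Agent.ONType.CzY
import Cfsg.Agent.ONType.CzLift

/-!
# Consequences in `X` of `Y/⟨v⟩ ≅ L₃(4)`
-/

set_option autoImplicit false

namespace Cfsg.Agent.ONType.Cz

open Subgroup Cfsg.Agent.TypeL3 Cfsg.Agent.TypeL3.Local Cfsg.Agent.Lib.FieldFour Cfsg.Agent.Lib.GoldschmidtFusion
open scoped commutatorElement

universe u

/-- what is known about `Q` -/
structure QOut {Q : Type u} [Group Q] [Finite Q] (P : Sylow 2 Q) (A B : Subgroup Q) : Prop where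
  simple : IsSimpleGroup Q
  psl : Nonempty (Q ≃* Matrix.ProjectiveSpecialLinearGroup (Fin 3) F4)
  isL3 : IsL3 (P : Subgroup Q) A B 4
  cent : ∀ z ∈ A ⊓ B, z ≠ 1 → centralizer ({z} : Set Q) ≤ (P : Subgroup Q)
  gen : closure ((normalizer (A : Set Q) : Set Q) ∪ (normalizer (B : Set Q) : Set Q)) = ⊤

/-- what is used about `X = C_G(z)/O(C_G(z))` -/
structure XOut {X : Type u} [Group X] [Finite X] (S : Sylow 2 X) (τ : ℤ → ℤ → ℤ → X) (x3 s : X) (Y : Subgroup X) :
    Prop where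
  idx : Y.index = 2
  normal : Y.Normal
  cyc : IsCyclic (center Y)
  card : Nat.card (center Y) = 4
  perf : commutator Y = ⊤
  psl : Nonempty (Y ⧸ center Y ≃* Matrix.ProjectiveSpecialLinearGroup (Fin 3) F4)
  cc : centralizer (Y : Set X) ≤ Y
  good : ∀ a b c : ℤ, τ (2 * a) (2 * b) (2 * c) ≠ 1 → τ (2 * a) (2 * b) (2 * c) ≠ τ 2 2 2 → ∀ w : X,
    Odd (orderOf w) → w * τ (2 * a) (2 * b) (2 * c) = τ (2 * a) (2 * b) (2 * c) * w → w = 1
  par : ∃ W1 W2 : Subgroup X, W1 ≤ (S : Subgroup X) ∧ W2 ≤ (S : Subgroup X) ∧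
    (∀ a b c : ℤ, τ (2 * a) (2 * b) (2 * c) ∈ W1 ∧ τ (2 * a) (2 * b) (2 * c) ∈ W2) ∧ x3 ∈ W1 ∧
    (∃ n ∈ normalizer (W1 : Set X), ∃ a b c : ℤ, n * x3 * n⁻¹ = τ (2 * a) (2 * b) (2 * c)) ∧
    closure ((normalizer (W1 : Set X) : Set X) ∪ (normalizer (W2 : Set X) : Set X) ∪ {s}) = ⊤

theorem closure_comap_eq_top {Y Q : Type*} [Group Y] [Group Q] (p : Y →* Q) (hp : Function.Surjective p)
    (U : Set Q) (hU : closure U = ⊤) (V : Set Y) (hV : ∀ y, p y ∈ U → y ∈ V) (h1 : (1 : Q) ∈ U) :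
    closure V = ⊤ := by
  rw [eq_top_iff]
  intro y _
  have h2 : closure U ≤ (closure V).map p := by
    rw [closure_le]
    intro u hu
    obtain ⟨y', rfl⟩ := hp u
    exact ⟨y', subset_closure (hV y' hu), rfl⟩
  have h3 : p y ∈ (closure V).map p := h2 (by rw [hU]; exact mem_top _)
  obtain ⟨y', hy', h4⟩ := h3
  have h5 : y'⁻¹ * y ∈ closure V := by
    refine subset_closure (hV _ ?_)
    rw [map_mul, map_inv, h4, inv_mul_cancel]
    exact h1
  have := mul_mem hy' h5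
  rwa [mul_inv_cancel_left] at this

section

variable {X : Type u} [Group X] [Finite X] {T : Subgroup X} {S : Sylow 2 X} {τ : ℤ → ℤ → ℤ → X}
  {x1 x2 x3 s ξ h : X}

theorem XIn.out (D : XIn T S τ x1 x2 x3 s ξ h) {Q : Type u} [Group Q] [Finite Q] {Y : Subgroup X}
    (hY : Y = centralizer ({τ 1 1 1} : Set X)) (p : Y →* Q) (hp : Function.Surjective p)
    (hker : ∀ y : Y, p y = 1 ↔ (y : X) ∈ zpowers (τ 1 1 1))
    (P : Sylow 2 Y) (hP : (P : Subgroup Y) = ((S : Subgroup X) ⊓ Y).subgroupOf Y)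
    (t : ℤ → ℤ → ℤ → Y) (ht : ∀ a b c, (t a b c : X) = τ a b c)
    (y1 y2 y3 η : Y) (h1 : (y1 : X) = x1) (h2 : (y2 : X) = x2) (h3 : (y3 : X) = x3)
    (hη : (η : X) = ξ) {A B : Subgroup Q}
    (hA : ∀ g, g ∈ A ↔ ∃ a c, g = cX (p y1) (p y2) (p y3) a * cZ (fun a b c => p (t a b c)) c)
    (hB : ∀ g, g ∈ B ↔ ∃ a c, g = cY (fun a b c => p (t a b c)) (p y1) (p y2) (p y3) a * cZ (fun a b c => p (t a b c)) c)
    (hAB : ∀ g, g ∈ A ⊓ B ↔ ∃ c, g = cZ (fun a b c => p (t a b c)) c)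
    (O : QOut (P.mapSurjective hp) A B) : XOut S τ x3 s Y := by
  have R := D.rel
  have hQ := D.toQ hY p hp hker P hP t ht y1 y2 y3 η h1 h2 h3 hη
  have RQ := hQ.rel
  have hsimple := O.simple
  have hPc : ((P.mapSurjective hp : Sylow 2 Q) : Subgroup Q) = (P : Subgroup Y).map p := by
    rw [Sylow.coe_mapSurjective]
  have hYn : Y.Normal := hY ▸ D.normal
  have hidx : Y.index = 2 := hY ▸ D.index
  have hvY : τ 1 1 1 ∈ Y := by rw [hY, mem_centralizer_singleton_iff]
  have hkerZ : p.ker ≤ center Y := by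
    intro y hy
    rw [mem_center_iff]
    intro g
    have hg : (g : X) ∈ centralizer ({τ 1 1 1} : Set X) := hY ▸ g.2
    obtain ⟨k, hk⟩ := mem_zpowers_iff.1 ((hker y).1 hy)
    refine Subtype.ext ?_
    rw [coe_mul, coe_mul, ← hk]
    have h4 : Commute (g : X) (τ 1 1 1) := mem_centralizer_singleton_iff.1 hg
    exact (h4.zpow_right k).eq
  -- `Q` is not commutative
  have hnc : ¬ ∀ x y : Q, x * y = y * x := fun hc =>
    O.isL3.not_comm fun x _ y _ => hc x y
  have hcQ : center Q = ⊥ := by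
    rcases hsimple.eq_bot_or_eq_top_of_normal (center Q) inferInstance with h4 | h4
    · exact h4
    · exfalso
      apply hnc
      intro x y
      have h5 : y ∈ center Q := by rw [h4]; exact mem_top _
      exact mem_center_iff.1 h5 x
  have hcenter : center Y = p.ker := by
    refine le_antisymm ?_ hkerZ
    intro y hy
    rw [MonoidHom.mem_ker, ← mem_bot, ← hcQ, mem_center_iff]
    intro g
    obtain ⟨g, rfl⟩ := hp g
    rw [← map_mul, ← map_mul, mem_center_iff.1 hy g]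
  have hkz : p.ker = zpowers (⟨τ 1 1 1, hvY⟩ : Y) := by
    ext y
    rw [MonoidHom.mem_ker, hker, mem_zpowers_iff, mem_zpowers_iff]
    constructor
    · rintro ⟨k, hk⟩
      exact ⟨k, Subtype.ext (by simpa using hk)⟩
    · rintro ⟨k, hk⟩
      exact ⟨k, by rw [← hk]; simp⟩
  have hord : orderOf (τ 1 1 1) = 4 := by
    have h4 : τ 1 1 1 ^ 2 = τ 2 2 2 := by rw [pow_two, R.v_sq]
    have h5 : τ 1 1 1 ^ 4 = 1 := by
      rw [show 4 = 2 * 2 from rfl, pow_mul, h4, pow_two, R.mul, R.one]; omega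
    have h6 : τ 1 1 1 ^ 2 ≠ 1 := by rw [h4, Ne, R.one]; omega
    exact orderOf_eq_prime_pow (p := 2) (n := 1) (by simpa using h6) (by simpa using h5)
  have hcardc : Nat.card (center Y) = 4 := by
    rw [hcenter, hkz, Nat.card_zpowers]
    rw [Subgroup.orderOf_mk, hord]
  -- lifting of the subgroups of `Q`
  let L : Subgroup Q → Subgroup X := fun E => (E.comap p).map Y.subtype
  have hL : ∀ (E : Subgroup Q) (x : X), x ∈ L E ↔ ∃ hx : x ∈ Y, p ⟨x, hx⟩ ∈ E := by
    intro E x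
    constructor
    · rintro ⟨y, hy, rfl⟩
      exact ⟨y.2, hy⟩
    · rintro ⟨hx, hxE⟩
      exact ⟨⟨x, hx⟩, hxE, rfl⟩
  have hLS : ∀ E : Subgroup Q, E ≤ ((P.mapSurjective hp : Sylow 2 Q) : Subgroup Q) → L E ≤ (S : Subgroup X) := by
    intro E hE x hx
    obtain ⟨hxY, hxE⟩ := (hL E x).1 hx
    have h4 := hE hxE
    rw [hPc, hP] at h4
    obtain ⟨y, hy, h5⟩ := h4
    have h6 : p (y⁻¹ * ⟨x, hxY⟩) = 1 := by rw [map_mul, map_inv, h5, inv_mul_cancel]
    rw [hker] at h6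
    have h7 : τ 1 1 1 ∈ (S : Subgroup X) := R.T_le (R.τ_mem _ _ _)
    have h8 := (zpowers_le.2 h7) h6
    have h9 := mul_mem (mem_inf.1 (mem_subgroupOf.1 hy)).1 h8
    simpa using h9
  have hLN : ∀ (E : Subgroup Q) (y : Y), p y ∈ normalizer (E : Set Q) → (y : X) ∈ normalizer (L E : Set X) := by
    intro E y hy
    rw [mem_normalizer_iff_map_conj]
    refine Subgroup.eq_of_le_of_card_ge ?_ (by rw [card_map_conj])
    rintro _ ⟨x, hx, rfl⟩
    change (y : X) * x * (y : X)⁻¹ ∈ _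
    obtain ⟨hxY, hxE⟩ := (hL E x).1 hx
    refine (hL E _).2 ⟨mul_mem (mul_mem y.2 hxY) (inv_mem y.2), ?_⟩
    have h4 := (mem_normalizer_iff.1 hy _).1 hxE
    rw [← map_inv, ← map_mul, ← map_mul] at h4
    exact h4
  -- elements of `A_T`
  have hZ : ∀ a b c : ℤ, τ (2 * a) (2 * b) (2 * c) ∈ Y := fun a b c => by
    rw [← ht]; exact (t _ _ _).2
  have hZAB : ∀ a b c : ℤ, p (t (2 * a) (2 * b) (2 * c)) ∈ A ⊓ B := by
    intro a b c
    rw [hAB]
    have e := fun a b c a' b' c' => RQ.τ_eq (a := a) (b := b) (c := c) (a' := a') (b' := b') (c' := c')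
    rcases Int.even_or_odd (a - b) with h4 | h4 <;> rcases Int.even_or_odd (a - c) with h5 | h5
    · exact ⟨.o, (e _ _ _ _ _ _).2 (by obtain ⟨m, hm⟩ := h4; obtain ⟨k, hk⟩ := h5; omega)⟩
    · exact ⟨.v, (e _ _ _ _ _ _).2 (by obtain ⟨m, hm⟩ := h4; obtain ⟨k, hk⟩ := h5; omega)⟩
    · exact ⟨.w, (e _ _ _ _ _ _).2 (by obtain ⟨m, hm⟩ := h4; obtain ⟨k, hk⟩ := h5; omega)⟩
    · exact ⟨.i, (e _ _ _ _ _ _).2 (by obtain ⟨m, hm⟩ := h4; obtain ⟨k, hk⟩ := h5; omega)⟩
  refine ⟨hidx, hYn, ?_, hcardc, ?_, ?_, ?_, ?_, ?_⟩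
  · rw [hcenter, hkz]; infer_instance
  · -- perfect
    have hQperf : commutator Q = ⊤ := by
      rcases hsimple.eq_bot_or_eq_top_of_normal (commutator Q) inferInstance with h4 | h4
      · exfalso
        apply hnc
        intro x y
        have h5 : ⁅x, y⁆ ∈ commutator Q := commutator_mem_commutator (mem_top _) (mem_top _)
        rw [h4, mem_bot, commutatorElement_eq_one_iff_mul_comm] at h5
        exact h5
      · exact h4
    have hv : (⟨τ 1 1 1, hvY⟩ : Y) ∈ commutator Y := by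
      have e1 : (⟨τ 1 1 1, hvY⟩ : Y) = ⁅y1, t 0 1 0⁆ * ⁅y3, t 1 0 2⁆ := by
        refine Subtype.ext ?_
        simp only [commutatorElement_def, coe_mul, coe_inv, h1, h3, ht]
        rw [R.x1_t, R.x3_t, mul_inv_cancel_right, mul_inv_cancel_right, R.τ_inv, R.τ_inv, R.mul, R.mul, R.mul, R.τ_eq]
        omega
      rw [e1]
      exact mul_mem (commutator_mem_commutator (mem_top _) (mem_top _))
        (commutator_mem_commutator (mem_top _) (mem_top _))
    rw [eq_top_iff]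
    intro y _
    have h4 : p y ∈ (commutator Y).map p := by
      rw [_root_.commutator_def, map_commutator, ← MonoidHom.range_eq_map, MonoidHom.range_eq_top.2 hp,
        ← _root_.commutator_def, hQperf]
      exact mem_top _
    obtain ⟨y', hy', h5⟩ := h4
    have h6 : y'⁻¹ * y ∈ p.ker := by rw [MonoidHom.mem_ker, map_mul, map_inv, h5, inv_mul_cancel]
    rw [hkz] at h6
    have h7 := (zpowers_le.2 hv) h6
    have := mul_mem hy' h7
    rwa [mul_inv_cancel_left] at this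
  · obtain ⟨e⟩ := O.psl
    exact ⟨(QuotientGroup.quotientMulEquivOfEq hcenter).trans
      ((QuotientGroup.quotientKerEquivOfSurjective p hp).trans e)⟩
  · intro g hg
    rw [hY, mem_centralizer_singleton_iff]
    exact (mem_centralizer_iff.1 hg _ hvY).symm
  · -- centralisers of the elements of `A_T`
    intro a b c hb1 hbz w hw hwc
    have hwY : w ∈ Y := by
      have h4 : w ^ 2 ∈ Y := Subgroup.sq_mem_of_index_two hidx w
      obtain ⟨m, hm⟩ := hw
      have h5 : w * (w ^ 2) ^ m = 1 := by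
        rw [← pow_mul, ← pow_succ', ← hm, pow_orderOf_eq_one]
      have h6 : w = ((w ^ 2) ^ m)⁻¹ := eq_inv_of_mul_eq_one_left h5
      rw [h6]
      exact inv_mem (pow_mem h4 m)
    have hpne : p (t (2 * a) (2 * b) (2 * c)) ≠ 1 := by
      intro h4
      have h5 := (RQ.one _ _ _).1 h4
      rw [Ne, R.one] at hb1
      rw [Ne, R.τ_eq] at hbz
      omega
    have h4 : p ⟨w, hwY⟩ ∈ centralizer ({p (t (2 * a) (2 * b) (2 * c))} : Set Q) := by
      rw [mem_centralizer_singleton_iff, ← map_mul, ← map_mul]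
      congr 1
      exact Subtype.ext (by rw [coe_mul, coe_mul, ht]; exact hwc)
    have h5 := O.cent _ (hZAB a b c) hpne h4
    -- odd order and 2-power order
    have h6 : w ∈ (S : Subgroup X) := hLS _ le_rfl ((hL _ _).2 ⟨hwY, h5⟩)
    obtain ⟨k, hk⟩ := S.isPGroup' ⟨w, h6⟩
    have h7 : w ^ 2 ^ k = 1 := congrArg Subtype.val hk
    have h8 : orderOf w ∣ 2 ^ k := orderOf_dvd_of_pow_eq_one h7
    have h9 : Nat.Coprime (orderOf w) (2 ^ k) := Nat.Coprime.pow_right k (Nat.coprime_two_right.2 hw)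
    exact orderOf_eq_one_iff.1 (Nat.eq_one_of_dvd_coprimes h9 dvd_rfl h8)
  · -- the parabolics
    have hx3A : p y3 ∈ A := by
      rw [hA]
      refine ⟨.i, .o, ?_⟩
      simp only [cX, cZ]
      rw [RQ.τ_zero, mul_one]
    refine ⟨L A, L B, hLS A O.isL3.A_le, hLS B O.isL3.B_le, ?_, ?_, ?_, ?_⟩
    · intro a b c
      have h4 := mem_inf.1 (hZAB a b c)
      have h5 : (⟨τ (2 * a) (2 * b) (2 * c), hZ a b c⟩ : Y) = t (2 * a) (2 * b) (2 * c) := Subtype.ext (ht _ _ _).symm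
      exact ⟨(hL _ _).2 ⟨hZ a b c, by rw [h5]; exact h4.1⟩, (hL _ _).2 ⟨hZ a b c, by rw [h5]; exact h4.2⟩⟩
    · have h5 : (⟨x3, h3 ▸ y3.2⟩ : Y) = y3 := Subtype.ext h3.symm
      exact (hL _ _).2 ⟨h3 ▸ y3.2, by rw [h5]; exact hx3A⟩
    · obtain ⟨k, hk⟩ := hQ.hx
      have hzm : p (t 2 0 0) ∈ A ⊓ B := by
        have := hZAB 1 0 0
        simpa using this
      obtain ⟨n, hn, hnz⟩ := exists_normalizer O.isL3 hx3A hzm hk
      obtain ⟨n, rfl⟩ := hp n
      refine ⟨n, hLN A n hn, ?_⟩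
      -- `n x3 n⁻¹` is an involution in `τ 2 0 0 ⟨v⟩`
      rw [← map_inv, ← map_mul, ← map_mul] at hnz
      have h4 : p ((t 2 0 0)⁻¹ * (n * y3 * n⁻¹)) = 1 := by rw [map_mul, map_inv, hnz, inv_mul_cancel]
      rw [hker] at h4
      simp only [coe_mul, coe_inv, ht, h3] at h4
      obtain ⟨m, hm⟩ := mem_zpowers_iff.1 h4
      have hvm : ∀ k : ℤ, τ 1 1 1 ^ k = τ k k k := by
        intro k
        induction k using Int.induction_on with
        | zero => rw [zpow_zero, R.τ_zero]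
        | succ i ih => rw [zpow_add, ih, zpow_one, R.mul]
        | pred i ih => rw [zpow_sub, ih, zpow_one, R.τ_inv, R.mul, sub_eq_add_neg]
      rw [hvm, eq_inv_mul_iff_mul_eq, R.mul] at hm
      have h5 : (n : X) * x3 * (n : X)⁻¹ * ((n : X) * x3 * (n : X)⁻¹) = 1 := by
        rw [show (n : X) * x3 * (n : X)⁻¹ * ((n : X) * x3 * (n : X)⁻¹) = n * (x3 * x3) * (n : X)⁻¹ by group, R.x3_sq]
        group
      rw [← hm, R.mul, R.one] at h5
      obtain ⟨j, hj⟩ : ∃ j, m = 2 * j := ⟨m / 2, by omega⟩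
      exact ⟨1 + j, j, j, by rw [← hm, R.τ_eq]; omega⟩
    · have hgen := closure_comap_eq_top p hp _ O.gen
        (V := {y : Y | (y : X) ∈ normalizer (L A : Set X) ∨ (y : X) ∈ normalizer (L B : Set X)}) (by
          rintro y (hy | hy)
          · exact Or.inl (hLN A y hy)
          · exact Or.inr (hLN B y hy)) (Or.inl (one_mem _))
      set K := closure ((normalizer (L A : Set X) : Set X) ∪ (normalizer (L B : Set X) : Set X) ∪ {s}) with hK
      have hYK : Y ≤ K := by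
        intro y hy
        have h4 : (⟨y, hy⟩ : Y) ∈ (K.comap Y.subtype) := by
          have h5 : closure {y : Y | (y : X) ∈ normalizer (L A : Set X) ∨ (y : X) ∈ normalizer (L B : Set X)} ≤
              K.comap Y.subtype := by
            rw [closure_le]
            rintro y' (hy' | hy')
            · exact subset_closure (Or.inl (Or.inl hy'))
            · exact subset_closure (Or.inl (Or.inr hy'))
          rw [hgen] at h5
          exact h5 (mem_top _)
        exact h4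
      rw [eq_top_iff]
      intro g _
      rcases D.mem_or g with h4 | ⟨-, h4⟩
      · exact hYK (hY ▸ h4)
      · have h5 : s * g ∈ K := hYK (hY ▸ h4)
        have h6 : s ∈ K := subset_closure (Or.inr rfl)
        have := mul_mem (inv_mem h6) h5
        rwa [inv_mul_cancel_left] at this

end

end Cfsg.Agent.ONType.Cz
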