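import Mathlib
import Cfsg.Agent.TypeL3.Main

/-!
# The group `H/O(H)·4` of the O'Nan branch is `L₃(4)`

A finite group `Q` with `O(Q) = 1` and a Sylow 2-subgroup `S = AB` of type `L₃(q)`, in which `N(A)`, `N(B)` do not
normalise `A ∩ B`, has the local structure of `L₃(q)` (`localData`); no simplicity is assumed. With a small normaliser of
`S` and `q = 4` it is simple and so isomorphic to `L₃(4)`.
-/

set_option autoImplicit false

namespace Cfsg.Agent.ONType.CzSimple

open Subgroup Cfsg.Agent.Lib.GoldschmidtFusion Cfsg.Agent.TypeL3 Cfsg.Agent.TypeL3.Local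

universe u w

section general

variable {Q : Type u} [Group Q] [Finite Q] {S : Sylow 2 Q} {A B : Subgroup Q} {q : ℕ}

omit [Finite Q] in
theorem exists_Z (h : IsL3 (S : Subgroup Q) A B q) : ∃ z ∈ A ⊓ B, z ≠ 1 := by
  by_contra h0
  push Not at h0
  exact h.Z_ne_bot ((Subgroup.eq_bot_iff_forall _).2 h0)

/-- every nontrivial normal subgroup contains the Sylow 2-subgroup -/
theorem sylow_le (h : IsL3 (S : Subgroup Q) A B q) (hO : Cfsg.oddCore Q = ⊥)
    (hNA : ¬ normalizer (A : Set Q) ≤ normalizer ((A ⊓ B : Subgroup Q) : Set Q))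
    (hNB : ¬ normalizer (B : Set Q) ≤ normalizer ((A ⊓ B : Subgroup Q) : Set Q))
    {N : Subgroup Q} (hN : N.Normal) (hN1 : N ≠ ⊥) : (S : Subgroup Q) ≤ N := by
  have heven : 2 ∣ Nat.card N := by
    by_contra h2
    apply hN1
    rw [eq_bot_iff, ← hO]
    refine Cfsg.Agent.Lib.Cores.le_pPrimeCore hN ?_
    rw [Nat.coprime_comm]
    exact (Nat.Prime.coprime_iff_not_dvd Nat.prime_two).2 h2
  obtain ⟨⟨t, htN⟩, ht⟩ := exists_prime_orderOf_dvd_card' (G := N) 2 heven
  rw [Subgroup.orderOf_mk] at ht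
  have ht2 : t * t = 1 := by rw [← pow_two, ← ht]; exact pow_orderOf_eq_one t
  have ht1 : t ≠ 1 := by
    rintro rfl
    rw [orderOf_one] at ht
    omega
  obtain ⟨k, hk⟩ := h.exists_conj_Z hNA hNB ht2
  have hkN : k * t * k⁻¹ ∈ N := hN.conj_mem t htN k
  have hk1 : k * t * k⁻¹ ≠ 1 := Back.conj_ne_one ht1
  set z := k * t * k⁻¹ with hz
  have hNB' : ¬ normalizer (B : Set Q) ≤ normalizer ((B ⊓ A : Subgroup Q) : Set Q) := by
    rw [inf_comm]; exact hNB
  rw [IsL3.sup_eq h.toIsAB]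
  apply sup_le
  · intro a ha
    by_cases ha1 : a = 1
    · rw [ha1]; exact one_mem _
    obtain ⟨n, -, e⟩ := h.trans_A hNA (mem_inf.1 hk).1 hk1 ha ha1
    rw [← e]
    exact hN.conj_mem z hkN n
  · intro a ha
    by_cases ha1 : a = 1
    · rw [ha1]; exact one_mem _
    obtain ⟨n, -, e⟩ := h.symm.trans_A hNB' (mem_inf.1 hk).2 hk1 ha ha1
    rw [← e]
    exact hN.conj_mem z hkN n

/-- `Q` is of characteristic 2 type -/
theorem characteristicTwoType (h1169 : H1169.{u}) (h1171 : H1171.{u}) (h1296 : H1296.{u})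
    (h : IsL3 (S : Subgroup Q) A B q) (hq : 4 ≤ q) (hO : Cfsg.oddCore Q = ⊥)
    (hNA : ¬ normalizer (A : Set Q) ≤ normalizer ((A ⊓ B : Subgroup Q) : Set Q))
    (hNB : ¬ normalizer (B : Set Q) ≤ normalizer ((A ⊓ B : Subgroup Q) : Set Q)) :
    Cfsg.IsCharacteristicTwoType Q := by
  have hcardA := h.four_lt_card hq
  have hle : Nat.card A ≤ Nat.card Q := Nat.card_le_card_of_injective _ A.subtype_injective
  obtain ⟨z, hz, hz1⟩ := exists_Z h
  have heven : Even (Nat.card Q) := by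
    have h1 := orderOf_dvd_natCard z
    rw [orderOf_eq_two_of_sq (h.A_sq z (mem_inf.1 hz).1) hz1] at h1
    exact (even_iff_two_dvd).2 h1
  have hidx : ∀ N : Subgroup Q, N.Normal → N.index ≠ 2 := by
    intro N hN hind
    by_cases h2 : N = ⊥
    · rw [h2, Subgroup.index_bot] at hind
      omega
    · have h3 := sylow_le h hO hNA hNB hN h2
      have h4 := Subgroup.index_dvd_of_le h3
      rw [hind] at h4
      exact S.not_dvd_index h4
  rcases h1296 Q heven hidx hO with h1 | h1 | h1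
  · exfalso
    have hc : IsMulCommutative A := ⟨⟨fun x y => Subtype.ext (h.A_comm x x.2 y y.2)⟩⟩
    have := h1 A hc (fun a ha => by rw [pow_two]; exact h.A_sq a ha)
    omega
  · exfalso
    obtain ⟨t, ht, hcomp⟩ := h1
    have ht2 : t * t = 1 := by rw [← pow_two, ← ht]; exact pow_orderOf_eq_one t
    obtain ⟨k, hk⟩ := h.exists_conj_Z hNA hNB ht2
    have h2 := h.map_conj k⁻¹
    have e : (S : Subgroup Q).map (MulAut.conj k⁻¹).toMonoidHom = ((k⁻¹ • S : Sylow 2 Q) : Subgroup Q) := rfl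
    rw [e] at h2
    have ht1 : t ≠ 1 := by
      rintro rfl
      rw [orderOf_one] at ht
      omega
    refine h2.not_hasComponent h1169 h1171 ?_ ht1 hcomp
    rw [← Subgroup.map_inf _ _ _ (MulAut.conj k⁻¹).injective, mem_map_conj, inv_inv]
    exact hk
  · exact h1

/-- `C(z) ≤ N(S)` -/
theorem centralizer_le (h1169 : H1169.{u}) (h1171 : H1171.{u}) (h1296 : H1296.{u})
    (h : IsL3 (S : Subgroup Q) A B q) (hq : 4 ≤ q) (hO : Cfsg.oddCore Q = ⊥)
    (hNA : ¬ normalizer (A : Set Q) ≤ normalizer ((A ⊓ B : Subgroup Q) : Set Q))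
    (hNB : ¬ normalizer (B : Set Q) ≤ normalizer ((A ⊓ B : Subgroup Q) : Set Q)) {z : Q} (hz : z ∈ A ⊓ B)
    (hz1 : z ≠ 1) : centralizer {z} ≤ normalizer ((S : Subgroup Q) : Set Q) := by
  have hz2 := h.A_sq z (mem_inf.1 hz).1
  have hchar := (characteristicTwoType h1169 h1171 h1296 h hq hO hNA hNB).2 (zpowers z) (by
    rw [IsPGroup.iff_card]
    exact ⟨1, by rw [Nat.card_zpowers, orderOf_eq_two_of_sq hz2 hz1, pow_one]⟩)
    (by rw [Ne, zpowers_eq_bot]; exact hz1)
  rw [IsL3.centralizer_eq_normalizer_zpowers hz2] at hchar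
  set C := centralizer ({z} : Set Q) with hC
  have hSC : (S : Subgroup Q) ≤ C := h.le_centralizer hz
  let SC : Sylow 2 C := S.subtype hSC
  have hAB : IsAB (SC : Subgroup C) (A.subgroupOf C) (B.subgroupOf C) := h.toIsAB.subgroupOf hSC
  have hcA : Cfsg.IsStronglyClosed (A.subgroupOf C) (SC : Subgroup C) := by
    apply hAB.stronglyClosed_A
    intro x hx
    rw [inf_comm]
    exact h.symm.normalizer_le_in_centralizer (inf_comm A B ▸ hz) hz1 hx
  have hcB : Cfsg.IsStronglyClosed (B.subgroupOf C) (SC : Subgroup C) := by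
    apply hAB.stronglyClosed_B
    intro x hx
    exact h.normalizer_le_in_centralizer hz hz1 hx
  have hOA := le_pCore_of_closed SC hcA hAB.A_comm hAB.A_sq hchar
  have hOB := le_pCore_of_closed SC hcB hAB.B_comm hAB.B_sq hchar
  have hn : (Cfsg.pCore 2 C).Normal := Cfsg.Agent.Lib.Cores.pCore_normal 2
  have hle : Cfsg.pCore 2 C ≤ (SC : Subgroup C) := Cfsg.Agent.Lib.Cores.pCore_le_sylow SC
  intro g hg
  rw [mem_normalizer_iff_map_conj]
  apply Subgroup.eq_of_le_of_card_ge _ (by rw [card_map_conj])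
  rintro _ ⟨s, hs, rfl⟩
  obtain ⟨a, ha, b, hb, e⟩ := hAB.prod ⟨s, hSC hs⟩ (by
    show (⟨s, hSC hs⟩ : C) ∈ (S : Subgroup Q).subgroupOf C
    rw [mem_subgroupOf]; exact hs)
  have h1 : (⟨s, hSC hs⟩ : C) ∈ Cfsg.pCore 2 C := by
    rw [← e]
    exact mul_mem (hOA ha) (hOB hb)
  have h2 := hle (hn.conj_mem _ h1 ⟨g, hg⟩)
  have h3 : (⟨g, hg⟩ * ⟨s, hSC hs⟩ * (⟨g, hg⟩ : C)⁻¹ : C) ∈ (S : Subgroup Q).subgroupOf C := h2
  rw [mem_subgroupOf] at h3
  exact h3

omit [Finite Q] in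
/-- a 2-subgroup normalising `S` is contained in `S` -/
theorem le_sylow_of_le_normalizer {X : Subgroup Q} (hX : IsPGroup 2 X)
    (hle : X ≤ normalizer ((S : Subgroup Q) : Set Q)) : X ≤ (S : Subgroup Q) := by
  have h1 : X ⊓ normalizer ((S : Subgroup Q) : Set Q) = X ⊓ (S : Subgroup Q) := hX.inf_normalizer_sylow S
  rw [inf_eq_left.2 hle] at h1
  exact inf_eq_left.1 h1.symm

theorem mem_normalizer_S (h1169 : H1169.{u}) (h1171 : H1171.{u}) (h1296 : H1296.{u})
    (h : IsL3 (S : Subgroup Q) A B q) (hq : 4 ≤ q) (hO : Cfsg.oddCore Q = ⊥)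
    (hNA : ¬ normalizer (A : Set Q) ≤ normalizer ((A ⊓ B : Subgroup Q) : Set Q))
    (hNB : ¬ normalizer (B : Set Q) ≤ normalizer ((A ⊓ B : Subgroup Q) : Set Q)) {g z : Q} (hz : z ∈ A ⊓ B)
    (hz1 : z ≠ 1) (hgz : g * z * g⁻¹ ∈ A ⊓ B) : g ∈ normalizer ((S : Subgroup Q) : Set Q) := by
  have h0 : g * z * g⁻¹ ≠ 1 := Back.conj_ne_one hz1
  have hle : (S : Subgroup Q).map (MulAut.conj g).toMonoidHom ≤ normalizer ((S : Subgroup Q) : Set Q) := by
    refine le_trans ?_ (centralizer_le h1169 h1171 h1296 h hq hO hNA hNB hgz h0)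
    rintro _ ⟨s, hs, rfl⟩
    rw [mem_centralizer_singleton_iff]
    show g * s * g⁻¹ * (g * z * g⁻¹) = g * z * g⁻¹ * (g * s * g⁻¹)
    have := h.comm_Z hz hs
    calc g * s * g⁻¹ * (g * z * g⁻¹) = g * (s * z) * g⁻¹ := by group
      _ = g * z * g⁻¹ * (g * s * g⁻¹) := by rw [← this]; group
  have hp : IsPGroup 2 ((S : Subgroup Q).map (MulAut.conj g).toMonoidHom : Subgroup Q) := S.isPGroup'.map _
  rw [mem_normalizer_iff_map_conj]
  exact Subgroup.eq_of_le_of_card_ge (le_sylow_of_le_normalizer hp hle) (by rw [card_map_conj])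

/-- the local data -/
theorem localData (h1169 : H1169.{u}) (h1171 : H1171.{u}) (h1296 : H1296.{u})
    (h : IsL3 (S : Subgroup Q) A B q) (hq : 4 ≤ q) (hO : Cfsg.oddCore Q = ⊥)
    (hNA : ¬ normalizer (A : Set Q) ≤ normalizer ((A ⊓ B : Subgroup Q) : Set Q))
    (hNB : ¬ normalizer (B : Set Q) ≤ normalizer ((A ⊓ B : Subgroup Q) : Set Q)) : LThreeLocal A B q := by
  have hNB' : ¬ normalizer (B : Set Q) ≤ normalizer ((B ⊓ A : Subgroup Q) : Set Q) := by
    rw [inf_comm]; exact hNB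
  refine
  { four_le := hq
    even_q := ?_
    A_comm := h.A_comm
    B_comm := h.B_comm
    A_sq := h.A_sq
    B_sq := h.B_sq
    card_A := h.card_A
    card_B := h.card_B
    card_Z := h.card_Z
    A_le := h.A_le.trans h.S_le_normalizer_B
    B_le := h.B_le.trans h.S_le_normalizer_A
    sylow := ⟨S, IsL3.sup_eq h.toIsAB⟩
    inv_mem := fun s hs h2 => h.inv s (by rw [IsL3.sup_eq h.toIsAB]; exact hs) h2
    trans_A := fun a ha ha1 b hb hb1 => h.trans_A hNA ha ha1 hb hb1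
    trans_B := fun a ha ha1 b hb hb1 => h.symm.trans_A hNB' ha ha1 hb hb1
    H1 := ?_
    H2 := ?_
    cent_Z := fun z hz hz1 => le_inf
      ((centralizer_le h1169 h1171 h1296 h hq hO hNA hNB hz hz1).trans h.normalizer_le_A)
      ((centralizer_le h1169 h1171 h1296 h hq hO hNA hNB hz hz1).trans h.normalizer_le_B)
    not_conj := h.not_conj }
  · obtain ⟨k, hk⟩ := IsPGroup.iff_card.1 (S.isPGroup'.to_le h.Z_le)
    rw [h.card_Z] at hk
    rcases Nat.eq_zero_or_pos k with h0 | h0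
    · rw [h0, pow_zero] at hk
      omega
    · rw [hk]
      exact (even_iff_two_dvd).2 (dvd_pow_self 2 h0.ne')
  · intro g _ hgB z hz hgz
    by_contra hz1
    exact hgB (h.normalizer_le_B (mem_normalizer_S h1169 h1171 h1296 h hq hO hNA hNB hz hz1 hgz))
  · intro g _ hgA z hz hgz
    by_contra hz1
    exact hgA (h.normalizer_le_A (mem_normalizer_S h1169 h1171 h1296 h hq hO hNA hNB hz hz1 hgz))

omit [Finite Q] in
theorem isL3_subgroupOf {S : Subgroup Q} (h : IsL3 S A B q) {C : Subgroup Q} (hSC : S ≤ C) :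
    IsL3 (S.subgroupOf C) (A.subgroupOf C) (B.subgroupOf C) q := by
  have hcard : ∀ X : Subgroup Q, X ≤ S → Nat.card (X.subgroupOf C) = Nat.card X := fun X hX =>
    Nat.card_congr (Subgroup.subgroupOfEquivOfLe (hX.trans hSC)).toEquiv
  exact
  { h.toIsAB.subgroupOf hSC with
    card_Z := (hcard _ h.Z_le).trans h.card_Z
    card_A := (hcard _ h.A_le).trans h.card_A
    card_B := (hcard _ h.B_le).trans h.card_B
    commA := by
      rintro ⟨a, haC⟩ ha haB ⟨z, hzC⟩ hz
      obtain ⟨b, hb, e⟩ := h.commA a ha haB z hz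
      exact ⟨⟨b, hSC (h.B_le hb)⟩, hb, Subtype.ext e⟩
    commB := by
      rintro ⟨a, haC⟩ ha haB ⟨z, hzC⟩ hz
      obtain ⟨b, hb, e⟩ := h.commB a ha haB z hz
      exact ⟨⟨b, hSC (h.A_le hb)⟩, hb, Subtype.ext e⟩ }

end general

section geometry

open Cfsg.Agent.TypeL3.Back

variable {Q : Type u} [Group Q] {A B : Subgroup Q} {q : ℕ}

theorem odd_pow_conj {c a : Q} {X : Subgroup Q} (hc : Odd (orderOf c)) (hca : c * a = a * c) (ha : a * a = 1)
    (h : cj c X = cj a X) : cj c X = X := by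
  have key : ∀ n : ℕ, cj (c ^ n) X = cj (a ^ n) X := by
    intro n
    induction n with
    | zero => simp
    | succ n ih =>
      have e : c * a ^ n = a ^ n * c := Commute.pow_right (show Commute c a from hca) n
      rw [pow_succ', ← cj_cj, ih, cj_cj, e, ← cj_cj, h, cj_cj, pow_succ]
  obtain ⟨k, hk⟩ := hc
  have h1 := key (orderOf c)
  rw [pow_orderOf_eq_one, cj_one, hk, pow_succ, pow_mul, pow_two, ha, one_pow, one_mul] at h1
  rw [h, ← h1]

variable [Finite Q]

/-- an element of odd order centralising `A` and `B` fixes every point -/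
theorem cj_pt_eq (D : LThreeLocal A B q) {c : Q} (hc : Odd (orderOf c)) (hA : ∀ a ∈ A, c * a = a * c)
    (hB : ∀ b ∈ B, c * b = b * c) {X : Subgroup Q} (hX : IsPt A X) : cj c X = X := by
  have fix : ∀ Y : Subgroup Q, (∀ a ∈ Y, c * a = a * c) → cj c Y = Y := by
    intro Y hY
    rw [← mem_normalizer_iff_cj]
    have h1 : c ∈ centralizer (Y : Set Q) := mem_centralizer_iff.2 fun a ha => (hY a ha).symm
    exact (Subgroup.centralizer_le_normalizer (Y : Set Q)) h1
  have eA := fix A hA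
  have eB := fix B hB
  have line : ∀ L, Fl A B A L → cj c L = L := by
    intro L hL
    by_cases hLB : L = B
    · rw [hLB]; exact eB
    have hL' : Fl A B A (cj c L) := by
      have := hL.cj c
      rwa [eA] at this
    have hne : cj c L ≠ B := by
      intro h1
      rw [← eB] at h1
      exact hLB (cj_inj.1 h1)
    obtain ⟨b, hb, e⟩ := trans_lines D (Fl.self A B) hL hL' hLB hne
    exact odd_pow_conj hc (hB b hb) (D.B_sq b hb) e.symm
  by_cases hXA : X = A
  · rw [hXA]; exact eA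
  obtain ⟨L, hL1, hL2⟩ := col D (IsPt.self A) hX
  have eL := line L hL1
  have hX' : Fl A B (cj c X) L := by
    have := hL2.cj c
    rwa [eL] at this
  have hne : cj c X ≠ A := by
    intro h1
    rw [← eA] at h1
    exact hXA (cj_inj.1 h1)
  obtain ⟨a, ha, e⟩ := trans_points D hL1 hL2 hX' hXA hne
  exact odd_pow_conj hc (hA a ha) (D.A_sq a ha) e.symm

/-- a nontrivial element moves some point -/
theorem faithful {S : Sylow 2 Q} (h : IsL3 (S : Subgroup Q) A B q) (hO : Cfsg.oddCore Q = ⊥)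
    (hNA : ¬ normalizer (A : Set Q) ≤ normalizer ((A ⊓ B : Subgroup Q) : Set Q))
    (hNB : ¬ normalizer (B : Set Q) ≤ normalizer ((A ⊓ B : Subgroup Q) : Set Q))
    (D : LThreeLocal A B q) {c : Q} (hc : ∀ X, IsPt A X → cj c X = X) : c = 1 := by
  by_contra hc1
  set R := (normalizer (A : Set Q)).normalCore with hR
  have hcR : c ∈ R := by
    intro g
    rw [mem_normalizer_iff_cj, ← cj_cj, ← cj_cj, hc _ ⟨g⁻¹, rfl⟩, cj_cj_inv]
  have hR1 : R ≠ ⊥ := by
    intro h0
    rw [h0, mem_bot] at hcR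
    exact hc1 hcR
  have hSR := sylow_le h hO hNA hNB (Subgroup.normalCore_normal _) hR1
  obtain ⟨X, hX, hXA⟩ : ∃ X, X ∈ {X : Subgroup Q | Fl A B X B} ∧ X ≠ A := by
    apply Set.exists_ne_of_one_lt_ncard
    rw [ncard_points D (IsPt.self B)]
    have := D.four_le
    omega
  have hX : Fl A B X B := hX
  obtain ⟨a, ha, haB⟩ := D.not_conj 1
  apply haB
  rw [one_mul, inv_one, mul_one]
  refine mem_line_of_norm D (Fl.self A B) hX (Ne.symm hXA) ha ?_
  obtain ⟨g, rfl, -⟩ := hX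
  rw [mem_normalizer_cj]
  have := hSR (h.A_le ha) g⁻¹
  rwa [inv_inv] at this

/-- an element of odd order centralising `S` is trivial -/
theorem odd_eq_one {S : Sylow 2 Q} (h : IsL3 (S : Subgroup Q) A B q) (hO : Cfsg.oddCore Q = ⊥)
    (hNA : ¬ normalizer (A : Set Q) ≤ normalizer ((A ⊓ B : Subgroup Q) : Set Q))
    (hNB : ¬ normalizer (B : Set Q) ≤ normalizer ((A ⊓ B : Subgroup Q) : Set Q))
    (D : LThreeLocal A B q) {c : Q} (hc : Odd (orderOf c)) (hcS : ∀ s ∈ (S : Subgroup Q), c * s = s * c) : c = 1 :=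
  faithful h hO hNA hNB D fun _ hX =>
    cj_pt_eq D hc (fun a ha => hcS a (h.A_le ha)) (fun b hb => hcS b (h.B_le hb)) hX

/-- the normalisers of a point and a line generate -/
theorem closure_eq_top (D : LThreeLocal A B q) :
    Subgroup.closure ((normalizer (A : Set Q) : Set Q) ∪ (normalizer (B : Set Q) : Set Q)) = ⊤ := by
  set P := Subgroup.closure ((normalizer (A : Set Q) : Set Q) ∪ (normalizer (B : Set Q) : Set Q)) with hP
  have hPA : normalizer (A : Set Q) ≤ P := fun x hx => Subgroup.subset_closure (Or.inl hx)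
  have hPB : normalizer (B : Set Q) ≤ P := fun x hx => Subgroup.subset_closure (Or.inr hx)
  rw [eq_top_iff]
  intro g _
  obtain ⟨L, ⟨k, hkA, hkB⟩, hL2⟩ := col D (IsPt.self A) (⟨g, rfl⟩ : IsPt A (cj g A))
  have hk : k ∈ P := hPA (mem_normalizer_iff_cj.2 hkA)
  have h3 := hL2.cj k⁻¹
  rw [← hkB, cj_inv_cj] at h3
  obtain ⟨m, hmA, hmB⟩ := h3
  have hm : m ∈ P := hPB (mem_normalizer_iff_cj.2 hmB)
  rw [cj_cj] at hmA
  have h4 : m⁻¹ * (k⁻¹ * g) ∈ normalizer (A : Set Q) := cj_eq_cj_iff.1 hmA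
  have h5 := mul_mem hk (mul_mem hm (hPA h4))
  have e : k * (m * (m⁻¹ * (k⁻¹ * g))) = g := by group
  rwa [e] at h5

end geometry

section main

variable {Q : Type u} [Group Q] [Finite Q] {S : Sylow 2 Q} {A B : Subgroup Q}

omit [Finite Q] in
theorem eq_one_of_sylow_of_odd {u : Q} (hu : u ∈ (S : Subgroup Q)) {k : ℕ} (hk : Odd k) (huk : u ^ k = 1) :
    u = 1 := by
  obtain ⟨j, hj⟩ := S.isPGroup' ⟨u, hu⟩
  have h2 : orderOf u ∣ 2 ^ j := orderOf_dvd_of_pow_eq_one (congrArg Subtype.val hj)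
  have h3 : orderOf u ∣ Nat.gcd k (2 ^ j) := Nat.dvd_gcd (orderOf_dvd_of_pow_eq_one huk) h2
  rw [Nat.Coprime.pow_right j (Nat.coprime_two_right.2 hk)] at h3
  exact orderOf_eq_one_iff.1 (Nat.dvd_one.1 h3)

/-- an element centralising `T` and normalising `S` lies in `S` -/
theorem mem_of_centralizes {q : ℕ} (h : IsL3 (S : Subgroup Q) A B q) (hO : Cfsg.oddCore Q = ⊥)
    (hNA : ¬ normalizer (A : Set Q) ≤ normalizer ((A ⊓ B : Subgroup Q) : Set Q))
    (hNB : ¬ normalizer (B : Set Q) ≤ normalizer ((A ⊓ B : Subgroup Q) : Set Q))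
    (D : LThreeLocal A B q) {T : Subgroup Q} (hTn : ∀ g ∈ (S : Subgroup Q), ∀ t ∈ T, g * t * g⁻¹ ∈ T)
    (hTc : ∀ s ∈ (S : Subgroup Q), (∀ t ∈ T, s * t = t * s) → s ∈ T)
    {c : Q} (hcT : ∀ t ∈ T, c * t = t * c) (hcN : c ∈ normalizer ((S : Subgroup Q) : Set Q)) :
    c ∈ (S : Subgroup Q) := by
  obtain ⟨a, m, hm, e⟩ := Nat.exists_eq_two_pow_mul_odd (orderOf_pos c).ne'
  set d := c ^ 2 ^ a with hd
  have hdo : orderOf d = m := by
    rw [hd, orderOf_pow_of_dvd (by positivity) (e ▸ dvd_mul_right _ _), e]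
    exact Nat.mul_div_cancel_left _ (by positivity)
  have hdT : ∀ t ∈ T, d * t = t * d := fun t ht => Commute.pow_left (show Commute c t from hcT t ht) _
  have hdN : d ∈ normalizer ((S : Subgroup Q) : Set Q) := pow_mem hcN _
  have hdS : ∀ s ∈ (S : Subgroup Q), d * s = s * d := by
    intro s hs
    set u := d * s * d⁻¹ * s⁻¹ with hu
    have huS : u ∈ (S : Subgroup Q) := mul_mem (conj_mem_of_mem_normalizer hdN hs) (inv_mem hs)
    have huT : u ∈ T := by
      apply hTc u huS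
      intro t ht
      have h1 : s⁻¹ * t * s ∈ T := by
        have := hTn s⁻¹ (inv_mem hs) t ht
        rwa [inv_inv] at this
      have h2 := hdT _ h1
      have h3 : d⁻¹ * (s⁻¹ * t * s) * d = s⁻¹ * t * s := by
        rw [mul_assoc, ← h2]; group
      have h4 := hdT t ht
      have h5 : u * t * u⁻¹ = t := by
        calc u * t * u⁻¹ = d * s * (d⁻¹ * (s⁻¹ * t * s) * d) * s⁻¹ * d⁻¹ := by rw [hu]; group
          _ = d * t * d⁻¹ := by rw [h3]; group
          _ = t := by rw [h4]; group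
      exact mul_inv_eq_iff_eq_mul.1 h5
    have hdu := hdT u huT
    have key : ∀ n : ℕ, d ^ n * s * (d ^ n)⁻¹ = u ^ n * s := by
      intro n
      induction n with
      | zero => simp
      | succ n ih =>
        have h1 : d * u ^ n = u ^ n * d := Commute.pow_right (show Commute d u from hdu) n
        calc d ^ (n + 1) * s * (d ^ (n + 1))⁻¹ = d * (d ^ n * s * (d ^ n)⁻¹) * d⁻¹ := by rw [pow_succ']; group
          _ = d * u ^ n * s * d⁻¹ := by rw [ih]; group
          _ = u ^ n * (d * s * d⁻¹ * s⁻¹) * s := by rw [h1]; group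
          _ = u ^ (n + 1) * s := by rw [← hu, pow_succ]
    have h1 := key m
    rw [← hdo, pow_orderOf_eq_one, one_mul, inv_one, mul_one] at h1
    have h2 : u ^ orderOf d = 1 := by
      have := congrArg (fun t => t * s⁻¹) h1
      simpa using this.symm
    have h3 : u = 1 := eq_one_of_sylow_of_odd huS (hdo ▸ hm) h2
    calc d * s = u * s * d := by rw [hu]; group
      _ = s * d := by rw [h3, one_mul]
  have hd1 : d = 1 := odd_eq_one h hO hNA hNB D (hdo ▸ hm) hdS
  have hp : IsPGroup 2 (zpowers c) := by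
    rw [IsPGroup.iff_card]
    refine ⟨a, ?_⟩
    rw [Nat.card_zpowers, e, ← hdo, hd1, orderOf_one, mul_one]
  exact le_sylow_of_le_normalizer hp (zpowers_le.2 hcN) (mem_zpowers c)

omit [Finite Q] in
theorem pow_three_cases {ξ : Q} (hξ : ξ * ξ * ξ = 1) (i : ℕ) : ξ ^ i = 1 ∨ ξ ^ i = ξ ∨ ξ ^ i = ξ * ξ := by
  have h3 : ξ ^ 3 = 1 := by rw [pow_succ, pow_two, hξ]
  have h1 : ξ ^ i = ξ ^ (i % 3) := by
    conv_lhs => rw [← Nat.div_add_mod i 3]
    rw [pow_add, pow_mul, h3, one_pow, one_mul]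
  rw [h1]
  have h4 : i % 3 < 3 := Nat.mod_lt _ (by norm_num)
  interval_cases i % 3
  · left; simp
  · right; left; simp
  · right; right; exact pow_two ξ

theorem main (h1169 : H1169.{u}) (h1171 : H1171.{u}) (h1296 : H1296.{u})
    (h : IsL3 (S : Subgroup Q) A B 4) {F : Type w} [Field F] [Fintype F] (hF : Fintype.card F = 4) {x y z : F → Q}
    (hc : LThreeCoord A B x y z) (hO : Cfsg.oddCore Q = ⊥)
    (hNA : ¬ normalizer (A : Set Q) ≤ normalizer ((A ⊓ B : Subgroup Q) : Set Q))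
    (hNB : ¬ normalizer (B : Set Q) ≤ normalizer ((A ⊓ B : Subgroup Q) : Set Q))
    {T : Subgroup Q} (hTn : ∀ g ∈ (S : Subgroup Q), ∀ t ∈ T, g * t * g⁻¹ ∈ T)
    (hTc : ∀ s ∈ (S : Subgroup Q), (∀ t ∈ T, s * t = t * s) → s ∈ T) (ξ : Q)
    (hξS : ξ ∈ normalizer ((S : Subgroup Q) : Set Q))
    (hξ3 : ∀ g ∈ (S : Subgroup Q), ξ * ξ * ξ * g = g * (ξ * ξ * ξ)) (hξo : Odd (orderOf ξ))
    (hN : ∀ n ∈ normalizer ((S : Subgroup Q) : Set Q), ∃ c s, ∃ i : ℕ, (∀ t ∈ T, c * t = t * c) ∧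
      s ∈ (S : Subgroup Q) ∧ n = c * s * ξ ^ i) :
    IsSimpleGroup Q ∧ Nonempty (Q ≃* Matrix.ProjectiveSpecialLinearGroup (Fin 3) F) ∧ LThreeLocal A B 4 ∧
      (∀ z ∈ A ⊓ B, z ≠ 1 → centralizer {z} ≤ (S : Subgroup Q)) ∧
      Subgroup.closure ((normalizer (A : Set Q) : Set Q) ∪ (normalizer (B : Set Q) : Set Q)) = ⊤ ∧
      ξ * ξ * ξ = 1 ∧ ∀ n ∈ normalizer ((S : Subgroup Q) : Set Q), ∃ s ∈ (S : Subgroup Q), ∃ i : ℕ, n = s * ξ ^ i := by
  have D := localData h1169 h1171 h1296 h le_rfl hO hNA hNB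
  have hξ : ξ * ξ * ξ = 1 := by
    apply odd_eq_one h hO hNA hNB D _ hξ3
    have e : ξ * ξ * ξ = ξ ^ 3 := by rw [pow_succ, pow_two]
    rw [e]
    exact Odd.of_dvd_nat hξo (orderOf_pow_dvd 3)
  have hN' : ∀ n ∈ normalizer ((S : Subgroup Q) : Set Q), ∃ s ∈ (S : Subgroup Q), ∃ i : ℕ, n = s * ξ ^ i := by
    intro n hn
    obtain ⟨c, s, i, hcT, hs, e⟩ := hN n hn
    have hcN : c ∈ normalizer ((S : Subgroup Q) : Set Q) := by
      have h1 := mul_mem (mul_mem hn (inv_mem (pow_mem hξS i))) (inv_mem (le_normalizer hs))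
      have h2 : n * (ξ ^ i)⁻¹ * s⁻¹ = c := by rw [e]; group
      rwa [h2] at h1
    exact ⟨c * s, mul_mem (mem_of_centralizes h hO hNA hNB D hTn hTc hcT hcN) hs, i, e⟩
  -- `ξ` does not centralise an element of `Z`
  have hZcard : ∀ z ∈ A ⊓ B, ∃ z' ∈ A ⊓ B, z' ≠ 1 ∧ z' ≠ z := by
    intro z hz
    by_contra hcon
    push Not at hcon
    have h1 : ((A ⊓ B : Subgroup Q) : Set Q) ⊆ {1, z} := by
      intro t ht
      by_cases h2 : t = 1
      · exact Or.inl h2
      · exact Or.inr (hcon t ht h2)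
    have h2 := Set.ncard_le_ncard h1 (Set.toFinite _)
    have h3 : ((A ⊓ B : Subgroup Q) : Set Q).ncard = 4 := h.card_Z
    have h4 := Set.ncard_insert_le (1 : Q) {z}
    rw [Set.ncard_singleton] at h4
    omega
  have hξξ : ξ * ξ * (ξ * ξ) = ξ := by
    calc ξ * ξ * (ξ * ξ) = ξ * ξ * ξ * ξ := by group
      _ = ξ := by rw [hξ, one_mul]
  have hξz : ∀ z ∈ A ⊓ B, z ≠ 1 → ξ ∉ centralizer ({z} : Set Q) := by
    intro z hz hz1 hcz
    obtain ⟨z', hz', hz'1, hne⟩ := hZcard z hz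
    obtain ⟨n, hn, e⟩ := h.trans_A hNA (mem_inf.1 hz).1 hz1 (mem_inf.1 hz').1 hz'1
    have h1 := mem_normalizer_S h1169 h1171 h1296 h le_rfl hO hNA hNB hz hz1 (by rw [e]; exact hz')
    obtain ⟨s, hs, i, rfl⟩ := hN' n h1
    apply hne
    have h2 : s * ξ ^ i ∈ centralizer ({z} : Set Q) := mul_mem (h.le_centralizer hz hs) (pow_mem hcz i)
    rw [mem_centralizer_singleton_iff] at h2
    rw [← e, h2, mul_inv_cancel_right]
  have hsimple : IsSimpleGroup Q := by
    have hnt : Nontrivial Q := by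
      obtain ⟨z, -, hz1⟩ := exists_Z h
      exact ⟨z, 1, hz1⟩
    refine ⟨fun N hNn => ?_⟩
    by_cases hN1 : N = ⊥
    · exact Or.inl hN1
    right
    have hSN := sylow_le h hO hNA hNB hNn hN1
    have htop : normalizer ((S : Subgroup Q) : Set Q) ⊔ N = ⊤ := Sylow.normalizer_sup_eq_top' S hSN
    have hfr : ∀ g : Q, ∃ m ∈ normalizer ((S : Subgroup Q) : Set Q), ∃ k ∈ N, m * k = g := by
      intro g
      have h1 : g ∈ normalizer ((S : Subgroup Q) : Set Q) ⊔ N := by rw [htop]; exact mem_top g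
      exact Subgroup.mem_sup_of_normal_right.1 h1
    have hNS := isL3_subgroupOf h hSN
    have hNN : ¬ normalizer (A.subgroupOf N : Set N) ≤
        normalizer ((A.subgroupOf N ⊓ B.subgroupOf N : Subgroup N) : Set N) := by
      intro hle
      apply hNA
      intro n hn
      obtain ⟨m, hm, k, hk, rfl⟩ := hfr n
      have hmA := h.normalizer_le_A hm
      have hmB := h.normalizer_le_B hm
      have hmZ : m ∈ normalizer ((A ⊓ B : Subgroup Q) : Set Q) := by
        rw [Back.mem_normalizer_iff_cj, Back.cj_inf, Back.mem_normalizer_iff_cj.1 hmA,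
          Back.mem_normalizer_iff_cj.1 hmB]
      have hkA : k ∈ normalizer (A : Set Q) := by
        have := mul_mem (inv_mem hmA) hn
        rwa [inv_mul_cancel_left] at this
      have h1 : (⟨k, hk⟩ : N) ∈ normalizer (A.subgroupOf N : Set N) :=
        (IsL3.coe_mem_normalizer_subgroupOf (h.A_le.trans hSN)).2 hkA
      have h2 := (IsL3.coe_mem_normalizer_subgroupOf (Q := A ⊓ B) (h.Z_le.trans hSN)).1 (hle h1)
      exact mul_mem hmZ h2
    obtain ⟨z, hz, hz1⟩ := exists_Z h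
    obtain ⟨z', hz', hz'1, hne⟩ := hZcard z hz
    let SN : Sylow 2 N := S.subtype hSN
    have hNS' : IsL3 (SN : Subgroup N) (A.subgroupOf N) (B.subgroupOf N) 4 := hNS
    obtain ⟨⟨n, hnN⟩, hn, e⟩ := hNS'.trans_A hNN (a := ⟨z, hSN (h.Z_le hz)⟩) (a' := ⟨z', hSN (h.Z_le hz')⟩)
      (mem_inf.1 hz).1 (fun h1 => hz1 (congrArg Subtype.val h1)) (mem_inf.1 hz').1
      (fun h1 => hz'1 (congrArg Subtype.val h1))
    have e' : n * z * n⁻¹ = z' := congrArg Subtype.val e
    have h1 := mem_normalizer_S h1169 h1171 h1296 h le_rfl hO hNA hNB hz hz1 (by rw [e']; exact hz')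
    obtain ⟨s, hs, i, rfl⟩ := hN' n h1
    have hξi : ξ ^ i ∈ N := by
      have := mul_mem (inv_mem (hSN hs)) hnN
      rwa [inv_mul_cancel_left] at this
    have hξN : ξ ∈ N := by
      rcases pow_three_cases hξ i with h2 | h2 | h2
      · exfalso
        apply hne
        rw [h2, mul_one] at e'
        rw [← e', ← h.comm_Z hz hs, mul_inv_cancel_right]
      · rwa [h2] at hξi
      · rw [h2] at hξi
        have := mul_mem hξi hξi
        rwa [hξξ] at this
    rw [eq_top_iff, ← htop]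
    refine sup_le ?_ le_rfl
    intro n hn
    obtain ⟨s, hs, i, rfl⟩ := hN' n hn
    exact mul_mem (hSN hs) (pow_mem hξN i)
  refine ⟨hsimple, Back.nonempty_psl hc D (by rw [Nat.card_eq_fintype_card, hF]), D, ?_, closure_eq_top D, hξ, hN'⟩
  intro z hz hz1 g hg
  obtain ⟨s, hs, i, rfl⟩ := hN' g (centralizer_le h1169 h1171 h1296 h le_rfl hO hNA hNB hz hz1 hg)
  have hi : ξ ^ i ∈ centralizer ({z} : Set Q) := by
    have := mul_mem (inv_mem (h.le_centralizer hz hs)) hg
    rwa [inv_mul_cancel_left] at this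
  rcases pow_three_cases hξ i with h2 | h2 | h2
  · rw [h2, mul_one]; exact hs
  · rw [h2] at hi
    exact absurd hi (hξz z hz hz1)
  · rw [h2] at hi
    have := mul_mem hi hi
    rw [hξξ] at this
    exact absurd this (hξz z hz hz1)

end main

end Cfsg.Agent.ONType.CzSimple
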