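import Mathlib
import Cfsg.Agent.ONType.CzOut
import Cfsg.Agent.ONType.CzSimple

/-!
# `C_G(z)/O(C_G(z))` in a group of O'Nan type
-/

set_option autoImplicit false

namespace Cfsg.Agent.ONType.Cz

open Subgroup Cfsg.Agent.TypeL3 Cfsg.Agent.TypeL3.Local Cfsg.Agent.Lib.FieldFour Cfsg.Agent.Lib.GoldschmidtFusion

universe u

variable {X : Type u} [Group X] [Finite X] {T : Subgroup X} {S : Sylow 2 X} {τ : ℤ → ℤ → ℤ → X}
  {x1 x2 x3 s ξ h : X}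

/-- `X = C_G(z)/O(C_G(z))` is of type `4.L₃(4).2` -/
theorem XIn.xout (h1169 : H1169.{u}) (h1171 : H1171.{u}) (h1296 : H1296.{u}) (D : XIn T S τ x1 x2 x3 s ξ h) :
    XOut S τ x3 s (centralizer ({τ 1 1 1} : Set X)) := by
  have R := D.rel
  obtain ⟨Y, hY⟩ : ∃ Y : Subgroup X, Y = centralizer ({τ 1 1 1} : Set X) := ⟨_, rfl⟩
  rw [← hY]
  obtain ⟨P, hP⟩ : ∃ P : Sylow 2 Y, (P : Subgroup Y) = ((S : Subgroup X) ⊓ Y).subgroupOf Y := by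
    subst hY
    exact D.exists_sylow
  have hvY : τ 1 1 1 ∈ Y := by rw [hY, mem_centralizer_singleton_iff]
  have hmem : ∀ {g : X}, g ∈ (S : Subgroup X) ⊓ centralizer ({τ 1 1 1} : Set X) → g ∈ Y := fun hg =>
    hY ▸ (mem_inf.1 hg).2
  let t : ℤ → ℤ → ℤ → Y := fun a b c => ⟨τ a b c, hmem ((R.mem_P _).2 ⟨a, b, c, Or.inl rfl⟩)⟩
  have hz : ∀ x, τ 0 0 0 * x = x := fun x => by rw [R.τ_zero, one_mul]
  let y1 : Y := ⟨x1, hmem ((R.mem_P _).2 ⟨0, 0, 0, Or.inr (Or.inl (hz _).symm)⟩)⟩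
  let y2 : Y := ⟨x2, hmem ((R.mem_P _).2 ⟨0, 0, 0, Or.inr (Or.inr (Or.inl (hz _).symm))⟩)⟩
  let y3 : Y := ⟨x3, hmem ((R.mem_P _).2 ⟨0, 0, 0, Or.inr (Or.inr (Or.inr (hz _).symm))⟩)⟩
  let η : Y := ⟨ξ, hY ▸ D.xi_mem⟩
  let v : Y := ⟨τ 1 1 1, hvY⟩
  have hvc : ∀ g : Y, g * v = v * g := by
    intro g
    have hg : (g : X) ∈ centralizer ({τ 1 1 1} : Set X) := hY ▸ g.2
    exact Subtype.ext (mem_centralizer_singleton_iff.1 hg)
  have hZn : (zpowers v).Normal := ⟨fun n hn g => by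
    obtain ⟨k, rfl⟩ := mem_zpowers_iff.1 hn
    have h1 : g * v ^ k * g⁻¹ = v ^ k := by
      have h2 : Commute g v := hvc g
      rw [(h2.zpow_right k).eq, mul_inv_cancel_right]
    rw [h1]
    exact hn⟩
  let p : Y →* Y ⧸ zpowers v := QuotientGroup.mk' (zpowers v)
  have hp : Function.Surjective p := QuotientGroup.mk'_surjective _
  have hker : ∀ y : Y, p y = 1 ↔ (y : X) ∈ zpowers (τ 1 1 1) := by
    intro y
    have h1 : p y = 1 ↔ y ∈ zpowers v := QuotientGroup.eq_one_iff y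
    rw [h1, mem_zpowers_iff, mem_zpowers_iff]
    constructor
    · rintro ⟨k, hk⟩
      exact ⟨k, by rw [← hk]; simp [v]⟩
    · rintro ⟨k, hk⟩
      exact ⟨k, Subtype.ext (by simpa [v] using hk)⟩
  have hQ := D.toQ hY p hp hker P hP t (fun _ _ _ => rfl) y1 y2 y3 η rfl rfl rfl rfl
  obtain ⟨A, B, hA, hB, hAB, hL3, x, y, z, hc⟩ := exists_AB hQ.rel
  have RQ := hQ.rel
  have hx3A : p y3 ∈ A := (hA _).2 ⟨.i, .o, by simp only [cX, cZ]; rw [RQ.τ_zero, mul_one]⟩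
  have hx3B : p y3 ∉ B := by
    intro hb
    have h1 := mem_inf.2 ⟨hx3A, hb⟩
    rw [hAB] at h1
    obtain ⟨c, h2⟩ := h1
    refine RQ.x3_notMem 0 0 0 ?_
    rw [RQ.τ_zero, one_mul, h2]
    cases c <;> exact RQ.τ_mem _ _ _
  have hyB : p (t 1 0 0) * p y3 ∈ B := (hB _).2 ⟨.i, .o, by simp only [cY, cZ]; rw [RQ.τ_zero, mul_one]⟩
  have hyA : p (t 1 0 0) * p y3 ∉ A := by
    intro hb
    have h1 := mem_inf.2 ⟨hb, hyB⟩
    rw [hAB] at h1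
    obtain ⟨c, h2⟩ := h1
    refine RQ.x3_notMem 1 0 0 ?_
    rw [h2]
    cases c <;> exact RQ.τ_mem _ _ _
  have hzm : p (t 2 0 0) ∈ A ⊓ B := (hAB _).2 ⟨.i, rfl⟩
  obtain ⟨k, hk⟩ := hQ.hx
  obtain ⟨k', hk'⟩ := hQ.hy
  have hNA := not_normalizer_le hL3 hx3A hx3B hzm hk
  have hNB := not_normalizer_le' hL3 hyB hyA hzm hk'
  obtain ⟨m1, m2, -, m4, m5, -, -⟩ := CzSimple.main h1169 h1171 h1296 hL3 (F := F4) F4.card hc hQ.core hNA hNB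
    (fun g hg t ht => RQ.T_normal hg ht) (fun s hs hc => RQ.T_cent hs hc) _ hQ.xi hQ.xi3 hQ.xio hQ.az
  exact D.out hY p hp hker P hP t (fun _ _ _ => rfl) y1 y2 y3 η rfl rfl rfl rfl hA hB hAB
    { simple := m1
      psl := m2
      isL3 := hL3
      cent := m4
      gen := m5 }

end Cfsg.Agent.ONType.Cz
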