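import Mathlib
import Cfsg.Agent.ONType.CzMain
import Cfsg.Agent.ONType.CoreMain

/-!
# From `G` to `H = C_G(z)` and `X = H/O(H)`; the input of the core theorem
-/

set_option autoImplicit false

namespace Cfsg.Agent.ONType.Cz

open Subgroup Cfsg.Agent.TypeL3 Cfsg.Agent.TypeL3.Local Cfsg.Agent.Lib.FieldFour Cfsg.Agent.Lib.GoldschmidtFusion

universe u

/-- the situation in `G`, `n = 2`, with all the fusion facts which are used -/
structure GIn {G : Type*} [Group G] [Finite G] (T : Subgroup G) (S : Sylow 2 G) (τ : ℤ → ℤ → ℤ → G)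
    (x1 x2 x3 s ξ h : G) : Prop where
  rel : Rel 4 T (S : Subgroup G) τ x1 x2 x3 s
  xi : RelXi τ x1 x2 x3 ξ
  xio : Odd (orderOf ξ)
  hx : h * x3 * h⁻¹ = τ 2 0 0
  hz : h * τ 2 2 2 = τ 2 2 2 * h
  hv : h * τ 1 1 1 * h⁻¹ = τ 1 1 1 ∨ h * τ 1 1 1 * h⁻¹ = τ (-1) (-1) (-1)
  wt : ∀ g, (∀ y ∈ T, g * y * g⁻¹ ∈ (S : Subgroup G)) → ∀ y ∈ T, g * y * g⁻¹ ∈ T
  tc : ∀ g, g * τ 1 1 1 * g⁻¹ ∈ T → ∃ k ∈ normalizer (T : Set G), k * τ 1 1 1 * k⁻¹ = g * τ 1 1 1 * g⁻¹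
  az : ∀ k ∈ normalizer (T : Set G), k * τ 2 2 2 = τ 2 2 2 * k →
    ∃ c g, ∃ i : ℕ, (∀ y ∈ T, c * y = y * c) ∧ g ∈ (S : Subgroup G) ∧ k = c * g * ξ ^ i
  inv : ∀ y ∈ (S : Subgroup G), y ∉ T → y * y = 1 → ∃ n ∈ normalizer (T : Set G), n * y * n⁻¹ = x3
  tr : ∀ a ∈ T, a * a = 1 → a ≠ 1 → ∃ n ∈ normalizer (T : Set G), n * a * n⁻¹ = τ 2 2 2

/-- `Rel` in a subgroup containing `S` -/
theorem Rel.sub {G : Type*} [Group G] {q : ℤ} {T S : Subgroup G} {τ : ℤ → ℤ → ℤ → G} {x1 x2 x3 s : G}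
    (R : Rel q T S τ x1 x2 x3 s) {H : Subgroup G} (hS : S ≤ H) :
    Rel q (T.subgroupOf H) (S.subgroupOf H) (fun a b c => ⟨τ a b c, hS (R.T_le (R.τ_mem a b c))⟩)
      ⟨x1, hS R.x1_mem⟩ ⟨x2, hS R.x2_mem⟩ ⟨x3, hS R.x3_mem⟩ ⟨s, hS R.s_mem⟩ where
  mul := fun a b c a' b' c' => Subtype.ext (R.mul _ _ _ _ _ _)
  one := fun a b c => by
    rw [← R.one]
    exact ⟨fun h => congrArg Subtype.val h, fun h => Subtype.ext h⟩
  mem := fun g => by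
    rw [mem_subgroupOf, R.mem]
    exact ⟨fun ⟨a, b, c, h⟩ => ⟨a, b, c, Subtype.ext h⟩, fun ⟨a, b, c, h⟩ => ⟨a, b, c, congrArg Subtype.val h⟩⟩
  x1_sq := Subtype.ext R.x1_sq
  x2_sq := Subtype.ext R.x2_sq
  x3_sq := Subtype.ext R.x3_sq
  x12 := Subtype.ext R.x12
  x23 := Subtype.ext R.x23
  x31 := Subtype.ext R.x31
  x1_t := fun a b c => Subtype.ext (R.x1_t a b c)
  x2_t := fun a b c => Subtype.ext (R.x2_t a b c)
  x3_t := fun a b c => Subtype.ext (R.x3_t a b c)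
  s_sq := Subtype.ext R.s_sq
  s_t := fun a b c => Subtype.ext (R.s_t a b c)
  s_x3 := Subtype.ext R.s_x3
  s_x1 := Subtype.ext R.s_x1
  s_x2 := Subtype.ext R.s_x2
  S_mem := fun g => by
    rw [mem_subgroupOf]
    constructor
    · intro hg
      obtain ⟨a, b, c, h⟩ := R.S_cases hg
      have key : ∀ (w : G) (hw : w ∈ H), (g : G) = τ a b c * w → g = ⟨τ a b c, hS (R.T_le (R.τ_mem a b c))⟩ * ⟨w, hw⟩ :=
        fun w hw h => Subtype.ext h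
      rcases h with h | h | h | h | h | h | h | h
      · exact ⟨a, b, c, 1, Or.inl rfl, key 1 (one_mem _) (by rw [h, mul_one])⟩
      · exact ⟨a, b, c, _, Or.inr (Or.inl rfl), key _ _ h⟩
      · exact ⟨a, b, c, _, Or.inr (Or.inr (Or.inl rfl)), key _ _ h⟩
      · exact ⟨a, b, c, _, Or.inr (Or.inr (Or.inr (Or.inl rfl))), key _ _ h⟩
      · exact ⟨a, b, c, _, Or.inr (Or.inr (Or.inr (Or.inr (Or.inl rfl)))), key _ _ h⟩
      · exact ⟨a, b, c, _, Or.inr (Or.inr (Or.inr (Or.inr (Or.inr (Or.inl rfl))))), key _ _ h⟩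
      · exact ⟨a, b, c, _, Or.inr (Or.inr (Or.inr (Or.inr (Or.inr (Or.inr (Or.inl rfl)))))), key _ _ h⟩
      · exact ⟨a, b, c, _, Or.inr (Or.inr (Or.inr (Or.inr (Or.inr (Or.inr (Or.inr rfl)))))), key _ _ h⟩
    · rintro ⟨a, b, c, w, hw, rfl⟩
      refine (R.S_mem _).2 ⟨a, b, c, w, ?_, rfl⟩
      rcases hw with rfl | rfl | rfl | rfl | rfl | rfl | rfl | rfl <;> simp

theorem mem_normalizer_subgroupOf {G : Type*} [Group G] {T H : Subgroup G} (hT : T ≤ H) {k : H} :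
    k ∈ normalizer ((T.subgroupOf H : Subgroup H) : Set H) ↔ (k : G) ∈ normalizer (T : Set G) := by
  rw [mem_normalizer_iff, mem_normalizer_iff]
  constructor
  · intro h1 g
    constructor
    · intro hg
      exact (h1 ⟨g, hT hg⟩).1 hg
    · intro hg
      have hgH : g ∈ H := by
        have h2 := mul_mem (mul_mem (inv_mem k.2) (hT hg)) k.2
        rwa [show (k : G)⁻¹ * (k * g * (k : G)⁻¹) * k = g by group] at h2
      exact (h1 ⟨g, hgH⟩).2 hg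
  · intro h1 g
    exact h1 g

variable {G : Type u} [Group G] [Finite G] {T : Subgroup G} {S : Sylow 2 G} {τ : ℤ → ℤ → ℤ → G}
  {x1 x2 x3 s ξ h : G}

namespace GIn

theorem S_z (D : GIn T S τ x1 x2 x3 s ξ h) {g : G} (hg : g ∈ (S : Subgroup G)) : g * τ 2 2 2 = τ 2 2 2 * g := by
  have R := D.rel
  have h1 : x1 * τ 2 2 2 = τ 2 2 2 * x1 := by rw [R.x1_t, mul_left_inj, R.τ_eq]; omega
  have h2 : x2 * τ 2 2 2 = τ 2 2 2 * x2 := by rw [R.x2_t, mul_left_inj, R.τ_eq]; omega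
  have h3 : x3 * τ 2 2 2 = τ 2 2 2 * x3 := by rw [R.x3_t, mul_left_inj, R.τ_eq]; omega
  have h4 : s * τ 2 2 2 = τ 2 2 2 * s := by rw [R.s_t, mul_left_inj, R.τ_eq]; omega
  obtain ⟨a, b, c, hg⟩ := R.S_cases hg
  have ht := R.τ_comm a b c 2 2 2
  have c0 : Commute (τ a b c) (τ 2 2 2) := ht
  have c1 : Commute x1 (τ 2 2 2) := h1
  have c2 : Commute x2 (τ 2 2 2) := h2
  have c3 : Commute x3 (τ 2 2 2) := h3
  have c4 : Commute s (τ 2 2 2) := h4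
  rcases hg with rfl | rfl | rfl | rfl | rfl | rfl | rfl | rfl
  · exact ht
  · exact (c0.mul_left c1).eq
  · exact (c0.mul_left c2).eq
  · exact (c0.mul_left c3).eq
  · exact (c0.mul_left c4).eq
  · exact (c0.mul_left (c1.mul_left c4)).eq
  · exact (c0.mul_left (c2.mul_left c4)).eq
  · exact (c0.mul_left (c3.mul_left c4)).eq

theorem S_le (D : GIn T S τ x1 x2 x3 s ξ h) : (S : Subgroup G) ≤ centralizer ({τ 2 2 2} : Set G) := fun _ hg =>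
  mem_centralizer_singleton_iff.2 (D.S_z hg)

theorem xi_mem (D : GIn T S τ x1 x2 x3 s ξ h) : ξ ∈ centralizer ({τ 2 2 2} : Set G) := by
  rw [mem_centralizer_singleton_iff, D.xi.ct, mul_left_inj, D.rel.τ_eq]
  omega

theorem xi_v (D : GIn T S τ x1 x2 x3 s ξ h) : Commute ξ (τ 1 1 1) := by
  change ξ * _ = _ * ξ
  rw [D.xi.ct, mul_left_inj, D.rel.τ_eq]
  omega

theorem S_v (D : GIn T S τ x1 x2 x3 s ξ h) {g : G} (hg : g ∈ (S : Subgroup G)) :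
    g * τ 1 1 1 * g⁻¹ = τ 1 1 1 ∨ g * τ 1 1 1 * g⁻¹ = τ (-1) (-1) (-1) := by
  have R := D.rel
  have c1 : Commute x1 (τ 1 1 1) := by change _ = _; rw [R.x1_t, mul_left_inj, R.τ_eq]; omega
  have c2 : Commute x2 (τ 1 1 1) := by change _ = _; rw [R.x2_t, mul_left_inj, R.τ_eq]; omega
  have c3 : Commute x3 (τ 1 1 1) := by change _ = _; rw [R.x3_t, mul_left_inj, R.τ_eq]; omega
  have h4 : s * τ 1 1 1 * s⁻¹ = τ (-1) (-1) (-1) := by rw [R.s_t, mul_inv_cancel_right]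
  obtain ⟨a, b, c, hg⟩ := R.S_cases hg
  have c0 : Commute (τ a b c) (τ 1 1 1) := R.τ_comm a b c 1 1 1
  have e : ∀ x, Commute x (τ 1 1 1) → x * τ 1 1 1 * x⁻¹ = τ 1 1 1 := fun x hx => by
    rw [hx.eq, mul_inv_cancel_right]
  have e' : ∀ x, Commute x (τ 1 1 1) → x * s * τ 1 1 1 * (x * s)⁻¹ = τ (-1) (-1) (-1) := fun x hx => by
    rw [show x * s * τ 1 1 1 * (x * s)⁻¹ = x * (s * τ 1 1 1 * s⁻¹) * x⁻¹ by group, h4, ← R.v_inv, hx.inv_right.eq,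
      mul_inv_cancel_right]
  rcases hg with rfl | rfl | rfl | rfl | rfl | rfl | rfl | rfl
  · exact Or.inl (e _ c0)
  · exact Or.inl (e _ (c0.mul_left c1))
  · exact Or.inl (e _ (c0.mul_left c2))
  · exact Or.inl (e _ (c0.mul_left c3))
  · exact Or.inr (e' _ c0)
  · rw [← mul_assoc]; exact Or.inr (e' _ (c0.mul_left c1))
  · rw [← mul_assoc]; exact Or.inr (e' _ (c0.mul_left c2))
  · rw [← mul_assoc]; exact Or.inr (e' _ (c0.mul_left c3))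

/-- `v` is fused in `T` only to `v⁻¹` by `C_G(z)` -/
theorem fus (D : GIn T S τ x1 x2 x3 s ξ h) {g : G} (hgz : g * τ 2 2 2 = τ 2 2 2 * g) (hg : g * τ 1 1 1 * g⁻¹ ∈ T) :
    g * τ 1 1 1 * g⁻¹ = τ 1 1 1 ∨ g * τ 1 1 1 * g⁻¹ = τ (-1) (-1) (-1) := by
  have R := D.rel
  obtain ⟨k, hk, hkv⟩ := D.tc g hg
  have hkz : k * τ 2 2 2 = τ 2 2 2 * k := by
    have e1 : k * τ 2 2 2 * k⁻¹ = (k * τ 1 1 1 * k⁻¹) * (k * τ 1 1 1 * k⁻¹) := by rw [← R.v_sq]; group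
    have e2 : g * τ 2 2 2 * g⁻¹ = (g * τ 1 1 1 * g⁻¹) * (g * τ 1 1 1 * g⁻¹) := by rw [← R.v_sq]; group
    rw [hkv, ← e2, hgz, mul_inv_cancel_right, mul_inv_eq_iff_eq_mul] at e1
    exact e1
  obtain ⟨c, g', i, hc, hg', hkk⟩ := D.az k hk hkz
  rw [← hkv]
  have h1 : ξ ^ i * τ 1 1 1 * (ξ ^ i)⁻¹ = τ 1 1 1 := by
    rw [(D.xi_v.pow_left i).eq, mul_inv_cancel_right]
  have h2 : k * τ 1 1 1 * k⁻¹ = c * (g' * τ 1 1 1 * g'⁻¹) * c⁻¹ := by
    rw [hkk, show c * g' * ξ ^ i * τ 1 1 1 * (c * g' * ξ ^ i)⁻¹ = c * (g' * (ξ ^ i * τ 1 1 1 * (ξ ^ i)⁻¹) * g'⁻¹) * c⁻¹ by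
      group, h1]
  rw [h2]
  rcases D.S_v hg' with h3 | h3
  · left
    rw [h3, hc _ (R.τ_mem _ _ _), mul_inv_cancel_right]
  · right
    rw [h3, hc _ (R.τ_mem _ _ _), mul_inv_cancel_right]

/-- the input for `H = C_G(z)` -/
theorem toIn (D : GIn T S τ x1 x2 x3 s ξ h) {H : Subgroup G} (hH : H = centralizer ({τ 2 2 2} : Set G))
    (hS : (S : Subgroup G) ≤ H) :
    In (T.subgroupOf H) (S.subtype hS) (fun a b c => (⟨τ a b c, hS (D.rel.T_le (D.rel.τ_mem a b c))⟩ : H))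
      ⟨x1, hS D.rel.x1_mem⟩ ⟨x2, hS D.rel.x2_mem⟩ ⟨x3, hS D.rel.x3_mem⟩ ⟨s, hS D.rel.s_mem⟩ ⟨ξ, hH ▸ D.xi_mem⟩
      ⟨h, hH ▸ mem_centralizer_singleton_iff.2 D.hz⟩ where
  rel := by
    rw [Sylow.coe_subtype]
    exact D.rel.sub hS
  xi := ⟨fun a b c => Subtype.ext (D.xi.ct a b c), Subtype.ext D.xi.c3, Subtype.ext D.xi.c1, Subtype.ext D.xi.c2⟩
  xio := by
    rw [Subgroup.orderOf_mk]
    exact D.xio
  zc := by
    intro g
    have hg : (g : G) ∈ centralizer ({τ 2 2 2} : Set G) := hH ▸ g.2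
    exact Subtype.ext (mem_centralizer_singleton_iff.1 hg)
  fus := by
    intro g hg
    have hg' : (g : G) ∈ centralizer ({τ 2 2 2} : Set G) := hH ▸ g.2
    rcases D.fus (mem_centralizer_singleton_iff.1 hg') hg with h1 | h1
    · exact Or.inl (Subtype.ext h1)
    · exact Or.inr (Subtype.ext h1)
  wt := by
    intro g hg y hy
    refine D.wt g (fun y' hy' => ?_) y hy
    have h1 := hg ⟨y', hS (D.rel.T_le hy')⟩ hy'
    rw [Sylow.coe_subtype] at h1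
    exact h1
  az := by
    intro k hk
    have h1 := (mem_normalizer_subgroupOf (D.rel.T_le.trans hS)).1 hk
    have hk' : (k : G) ∈ centralizer ({τ 2 2 2} : Set G) := hH ▸ k.2
    obtain ⟨c, g, i, hc, hg, e⟩ := D.az k h1 (mem_centralizer_singleton_iff.1 hk')
    have hcH : c ∈ H := hH ▸ mem_centralizer_singleton_iff.2 (hc _ (D.rel.τ_mem _ _ _))
    refine ⟨⟨c, hcH⟩, ⟨g, hS hg⟩, i, fun y hy => Subtype.ext (hc y hy), ?_, Subtype.ext e⟩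
    rw [Sylow.coe_subtype]
    exact hg
  hx := Subtype.ext D.hx
  hv := by
    rcases D.hv with h1 | h1
    · exact Or.inl (Subtype.ext h1)
    · exact Or.inr (Subtype.ext h1)

end GIn

end Cfsg.Agent.ONType.Cz
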