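import Mathlib
import Cfsg.Agent.ONType.CzG

/-!
# The input of the core theorem
-/

set_option autoImplicit false

namespace Cfsg.Agent.ONType.Cz

open Subgroup Cfsg.Agent.TypeL3 Cfsg.Agent.TypeL3.Local Cfsg.Agent.Lib.FieldFour Cfsg.Agent.Lib.GoldschmidtFusion

universe u

/-- lifting of the normalizer of a subgroup of a Sylow 2-subgroup -/
theorem lift_par {H X : Type*} [Group H] [Finite H] [Group X] [Finite X] (f : H →* X) (hf : Function.Surjective f)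
    (hodd : Odd (Nat.card f.ker)) {S : Subgroup H} (hS : IsPGroup 2 S) {W : Subgroup X} (hW : W ≤ S.map f) {n : X}
    (hn : n ∈ normalizer (W : Set X)) :
    ∃ n' : H, f n' = n ∧ ∀ w ∈ S, f w ∈ W → n' * w * n'⁻¹ ∈ S ∧ f (n' * w * n'⁻¹) ∈ W := by
  set P := S ⊓ W.comap f with hP
  have hPW : P.map f = W := by
    ext x
    constructor
    · rintro ⟨y, hy, rfl⟩
      exact (mem_inf.1 hy).2
    · intro hx
      obtain ⟨y, hy, rfl⟩ := hW hx
      exact ⟨y, mem_inf.2 ⟨hy, hx⟩, rfl⟩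
  obtain ⟨n', hn', hf'⟩ := exists_normalizer_lift f hf hodd (P := P) (hS.to_le inf_le_left) (n := n)
    (by rw [hPW]; exact hn)
  refine ⟨n', hf', fun w hw hwW => ?_⟩
  exact mem_inf.1 ((mem_normalizer_iff.1 hn' w).1 (mem_inf.2 ⟨hw, hwW⟩))

/-- `Ω₁(T)` -/
def Rel.A {G : Type*} [Group G] {T S : Subgroup G} {τ : ℤ → ℤ → ℤ → G} {x1 x2 x3 s : G}
    (R : Rel 4 T S τ x1 x2 x3 s) : Subgroup G where
  carrier := {g | ∃ a b c : ℤ, g = τ (2 * a) (2 * b) (2 * c)}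
  one_mem' := ⟨0, 0, 0, by simp [R.τ_zero]⟩
  mul_mem' := by
    rintro _ _ ⟨a, b, c, rfl⟩ ⟨a', b', c', rfl⟩
    exact ⟨a + a', b + b', c + c', by rw [R.mul]; congr 1 <;> ring⟩
  inv_mem' := by
    rintro _ ⟨a, b, c, rfl⟩
    exact ⟨-a, -b, -c, by rw [R.τ_inv]; congr 1 <;> ring⟩

namespace Rel

variable {G : Type*} [Group G] {T S : Subgroup G} {τ : ℤ → ℤ → ℤ → G} {x1 x2 x3 s : G}

theorem mem_A (R : Rel 4 T S τ x1 x2 x3 s) {g : G} : g ∈ R.A ↔ ∃ a b c : ℤ, g = τ (2 * a) (2 * b) (2 * c) := Iff.rfl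

theorem A_le_T (R : Rel 4 T S τ x1 x2 x3 s) : R.A ≤ T := by
  rintro _ ⟨a, b, c, rfl⟩
  exact R.τ_mem _ _ _

theorem mem_A_iff (R : Rel 4 T S τ x1 x2 x3 s) {g : G} : g ∈ R.A ↔ g ∈ T ∧ g * g = 1 := by
  constructor
  · rintro ⟨a, b, c, rfl⟩
    refine ⟨R.τ_mem _ _ _, ?_⟩
    rw [R.mul, R.one]
    omega
  · rintro ⟨hg, h2⟩
    obtain ⟨a, b, c, rfl⟩ := (R.mem g).1 hg
    rw [R.mul, R.one] at h2
    obtain ⟨a', ha⟩ : ∃ a', a = 2 * a' := ⟨a / 2, by omega⟩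
    obtain ⟨b', hb⟩ : ∃ b', b = 2 * b' := ⟨b / 2, by omega⟩
    obtain ⟨c', hc⟩ : ∃ c', c = 2 * c' := ⟨c / 2, by omega⟩
    exact ⟨a', b', c', by rw [ha, hb, hc]⟩

theorem elem_A (R : Rel 4 T S τ x1 x2 x3 s) : Cfsg.IsElementaryAbelian 2 R.A := by
  refine ⟨⟨⟨fun a b => Subtype.ext (R.T_comm (R.A_le_T a.2) (R.A_le_T b.2))⟩⟩, ?_⟩
  intro a ha
  rw [pow_two]
  exact (R.mem_A_iff.1 ha).2

theorem card_A (R : Rel 4 T S τ x1 x2 x3 s) : Nat.card R.A = 8 := by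
  let f : Fin 2 × Fin 2 × Fin 2 → R.A := fun p =>
    ⟨τ (2 * (p.1 : ℕ)) (2 * (p.2.1 : ℕ)) (2 * (p.2.2 : ℕ)), ⟨(p.1 : ℕ), (p.2.1 : ℕ), (p.2.2 : ℕ), rfl⟩⟩
  have hf : Function.Bijective f := by
    constructor
    · rintro ⟨i, j, k⟩ ⟨i', j', k'⟩ h
      have h1 := congrArg Subtype.val h
      change τ (2 * (i : ℕ)) (2 * (j : ℕ)) (2 * (k : ℕ)) = τ (2 * (i' : ℕ)) (2 * (j' : ℕ)) (2 * (k' : ℕ)) at h1
      rw [R.τ_eq] at h1
      have := i.2
      have := j.2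
      have := k.2
      have := i'.2
      have := j'.2
      have := k'.2
      refine Prod.ext (Fin.ext ?_) (Prod.ext (Fin.ext ?_) (Fin.ext ?_)) <;> simp only <;> omega
    · rintro ⟨_, a, b, c, rfl⟩
      have e : ∀ x : ℤ, ∃ i : Fin 2, (4 : ℤ) ∣ 2 * ((i : ℕ) : ℤ) - 2 * x := by
        intro x
        rcases Int.emod_two_eq_zero_or_one x with h | h
        · exact ⟨0, by simp; omega⟩
        · exact ⟨1, by simp; omega⟩
      obtain ⟨i, hi⟩ := e a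
      obtain ⟨j, hj⟩ := e b
      obtain ⟨k, hk⟩ := e c
      exact ⟨(i, j, k), Subtype.ext (R.τ_eq.2 ⟨hi, hj, hk⟩)⟩
  rw [← Nat.card_congr (Equiv.ofBijective f hf), Nat.card_prod, Nat.card_prod]
  simp

end Rel

variable {G : Type u} [Group G] [Finite G] {T : Subgroup G} {S : Sylow 2 G} {τ : ℤ → ℤ → ℤ → G}
  {x1 x2 x3 s ξ h : G}

namespace GIn

theorem T_norm (D : GIn T S τ x1 x2 x3 s ξ h) {g : G} (hg : g ∈ (S : Subgroup G)) : g ∈ normalizer (T : Set G) := by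
  rw [mem_normalizer_iff_map_conj]
  refine Subgroup.eq_of_le_of_card_ge ?_ (by rw [card_map_conj])
  rintro _ ⟨y, hy, rfl⟩
  exact D.wt g (fun y' hy' => mul_mem (mul_mem hg (D.rel.T_le hy')) (inv_mem hg)) y hy

theorem A_norm (D : GIn T S τ x1 x2 x3 s ξ h) {g : G} (hg : g ∈ normalizer (T : Set G)) :
    g ∈ normalizer (D.rel.A : Set G) := by
  rw [mem_normalizer_iff_map_conj]
  refine Subgroup.eq_of_le_of_card_ge ?_ (by rw [card_map_conj])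
  rintro _ ⟨y, hy, rfl⟩
  change g * y * g⁻¹ ∈ _
  obtain ⟨h1, h2⟩ := D.rel.mem_A_iff.1 hy
  refine D.rel.mem_A_iff.2 ⟨(mem_normalizer_iff.1 hg y).1 h1, ?_⟩
  rw [show g * y * g⁻¹ * (g * y * g⁻¹) = g * (y * y) * g⁻¹ by group, h2]
  group

/-- the data of `X` in terms of `G` -/
theorem exists_data (h1169 : H1169.{u}) (h1171 : H1171.{u}) (h1296 : H1296.{u}) (D : GIn T S τ x1 x2 x3 s ξ h) :
    (∀ b ∈ D.rel.A, b ≠ 1 → b ≠ τ 2 2 2 → ∀ w : G, Odd (orderOf w) → w * τ 2 2 2 = τ 2 2 2 * w → w * b = b * w →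
      w ∈ Cfsg.centralizerPPrimeCore 2 (τ 2 2 2)) ∧
    (∃ g : G, (∀ a ∈ D.rel.A, g * a * g⁻¹ ∈ normalizer (D.rel.A : Set G)) ∧ g⁻¹ * x3 * g ∈ D.rel.A) ∧
    centralizer ({τ 2 2 2} : Set G) ≤
      closure ({w | w ∈ Cfsg.centralizerPPrimeCore 2 (τ 2 2 2)} ∪
        {g | ∀ a ∈ D.rel.A, g * a * g⁻¹ ∈ normalizer (D.rel.A : Set G)}) := by
  have R := D.rel
  set H := centralizer ({τ 2 2 2} : Set G) with hH
  have hS : (S : Subgroup G) ≤ H := D.S_le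
  have DI := D.toIn hH hS
  have hOn : (Cfsg.oddCore H).Normal := Cfsg.Agent.Lib.Cores.pPrimeCore_normal 2
  let f : H →* H ⧸ Cfsg.oddCore H := QuotientGroup.mk' (Cfsg.oddCore H)
  have hf : Function.Surjective f := QuotientGroup.mk'_surjective _
  have hker : f.ker = Cfsg.oddCore H := QuotientGroup.ker_mk' _
  have hodd : Odd (Nat.card f.ker) := by
    rw [hker]
    exact Nat.coprime_two_right.1 (Cfsg.Agent.Lib.Cores.pPrimeCore_coprime 2)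
  have DX := DI.toX f hf hker
  have RX := DX.rel
  have XO := DX.xout h1169 h1171 h1296
  have hS2 : IsPGroup 2 ((S : Subgroup G).subgroupOf H) := (S.isPGroup').comap_subtype
  have hSX : (((S.subtype hS).mapSurjective hf : Sylow 2 (H ⧸ Cfsg.oddCore H)) : Subgroup (H ⧸ Cfsg.oddCore H)) =
      ((S : Subgroup G).subgroupOf H).map f := by
    rw [Sylow.coe_mapSurjective, Sylow.coe_subtype]
  have hτ : ∀ a b c, τ a b c ∈ H := fun a b c => hS (R.T_le (R.τ_mem a b c))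
  have hSA : ∀ {g : G}, g ∈ (S : Subgroup G) → g ∈ normalizer (R.A : Set G) := fun hg => D.A_norm (D.T_norm hg)
  -- lifting
  obtain ⟨W1, W2, hW1, hW2, hAW, hx3W, ⟨n, hn, a0, b0, c0, hna⟩, hgen⟩ := XO.par
  rw [hSX] at hW1 hW2
  have lift : ∀ {W : Subgroup (H ⧸ Cfsg.oddCore H)}, W ≤ ((S : Subgroup G).subgroupOf H).map f →
      (∀ a b c : ℤ, f ⟨τ (2 * a) (2 * b) (2 * c), hτ _ _ _⟩ ∈ W) → ∀ {n : H ⧸ Cfsg.oddCore H},
      n ∈ normalizer (W : Set (H ⧸ Cfsg.oddCore H)) → ∃ n' : H, f n' = n ∧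
        (∀ w ∈ (S : Subgroup G).subgroupOf H, f w ∈ W → n' * w * n'⁻¹ ∈ (S : Subgroup G).subgroupOf H ∧
          f (n' * w * n'⁻¹) ∈ W) ∧ ∀ a ∈ R.A, (n' : G) * a * (n' : G)⁻¹ ∈ normalizer (R.A : Set G) := by
    intro W hW hA n hn
    obtain ⟨n', h1, h2⟩ := lift_par f hf hodd hS2 hW hn
    refine ⟨n', h1, h2, ?_⟩
    rintro _ ⟨a, b, c, rfl⟩
    have h3 := (h2 ⟨τ (2 * a) (2 * b) (2 * c), hτ _ _ _⟩ (mem_subgroupOf.2 (R.T_le (R.τ_mem _ _ _))) (hA a b c)).1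
    exact hSA (mem_subgroupOf.1 h3)
  refine ⟨?_, ?_, ?_⟩
  · rintro _ ⟨a, b, c, rfl⟩ hb1 hbz w hw hwz hwb
    have hwH : w ∈ H := mem_centralizer_singleton_iff.2 hwz
    have h1 : f ⟨w, hwH⟩ = 1 := by
      refine XO.good a b c ?_ ?_ (f ⟨w, hwH⟩) ?_ ?_
      · rw [Ne, RX.one]
        rw [Ne, R.one] at hb1
        exact hb1
      · rw [Ne, RX.τ_eq]
        rw [Ne, R.τ_eq] at hbz
        exact hbz
      · have h2 : Odd (orderOf (⟨w, hwH⟩ : H)) := by rw [Subgroup.orderOf_mk]; exact hw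
        exact h2.of_dvd_nat (orderOf_map_dvd f _)
      · rw [← map_mul, ← map_mul]
        congr 1
        exact Subtype.ext hwb
    have h2 : (⟨w, hwH⟩ : H) ∈ Cfsg.oddCore H := by rw [← hker]; exact h1
    exact ⟨_, h2, rfl⟩
  · obtain ⟨n', h1, h2, h3⟩ := lift hW1 (fun a b c => (hAW a b c).1) hn
    have h4 := h2 ⟨x3, hS R.x3_mem⟩ (mem_subgroupOf.2 R.x3_mem) hx3W
    -- `n' x3 n'⁻¹ ∈ A`
    have h5 : n' * ⟨x3, hS R.x3_mem⟩ * n'⁻¹ = ⟨τ (2 * a0) (2 * b0) (2 * c0), hτ _ _ _⟩ := by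
      refine inj_of_ker f hodd hS2 h4.1 (mem_subgroupOf.2 (R.T_le (R.τ_mem _ _ _))) ?_
      rw [map_mul, map_mul, map_inv, h1]
      exact hna
    have h6 : (n' : G) * x3 * (n' : G)⁻¹ = τ (2 * a0) (2 * b0) (2 * c0) := congrArg Subtype.val h5
    refine ⟨(n' : G)⁻¹, ?_, ?_⟩
    · -- the inverse
      -- `n'⁻¹` itself has the property
      intro a ha
      obtain ⟨a, b, c, rfl⟩ := ha
      have h7 : n'⁻¹ * ⟨τ (2 * a) (2 * b) (2 * c), hτ _ _ _⟩ * n'⁻¹⁻¹ ∈ (S : Subgroup G).subgroupOf H ⊓ W1.comap f := by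
        have hN : n' ∈ normalizer (((S : Subgroup G).subgroupOf H ⊓ W1.comap f : Subgroup H) : Set H) := by
          rw [mem_normalizer_iff_map_conj]
          refine Subgroup.eq_of_le_of_card_ge ?_ (by rw [card_map_conj])
          rintro _ ⟨y, hy, rfl⟩
          obtain ⟨hy1, hy2⟩ := mem_inf.1 hy
          exact mem_inf.2 (h2 y hy1 hy2)
        exact (mem_normalizer_iff.1 (inv_mem hN) _).1 (mem_inf.2 ⟨mem_subgroupOf.2 (R.T_le (R.τ_mem _ _ _)),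
          (hAW a b c).1⟩)
      exact hSA (mem_subgroupOf.1 (mem_inf.1 h7).1)
    · rw [inv_inv, h6]
      exact ⟨a0, b0, c0, rfl⟩
  · -- generation
    intro g hg
    set K := closure ({w | w ∈ Cfsg.centralizerPPrimeCore 2 (τ 2 2 2)} ∪
        {g | ∀ a ∈ R.A, g * a * g⁻¹ ∈ normalizer (R.A : Set G)}) with hK
    have h1 : (⊤ : Subgroup (H ⧸ Cfsg.oddCore H)) ≤ (K.subgroupOf H).map f := by
      rw [← hgen, closure_le]
      rintro x ((hx | hx) | hx)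
      · obtain ⟨n', e, -, h3⟩ := lift hW1 (fun a b c => (hAW a b c).1) hx
        exact ⟨n', mem_subgroupOf.2 (subset_closure (Or.inr h3)), e⟩
      · obtain ⟨n', e, -, h3⟩ := lift hW2 (fun a b c => (hAW a b c).2) hx
        exact ⟨n', mem_subgroupOf.2 (subset_closure (Or.inr h3)), e⟩
      · refine ⟨⟨s, hS R.s_mem⟩, mem_subgroupOf.2 (subset_closure (Or.inr ?_)), hx.symm⟩
        intro a ha
        have h2 : s * a * s⁻¹ ∈ R.A := (mem_normalizer_iff.1 (hSA R.s_mem) a).1 ha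
        exact le_normalizer h2
    obtain ⟨y, hy, hye⟩ := h1 (mem_top (f ⟨g, hg⟩))
    have h2 : y⁻¹ * ⟨g, hg⟩ ∈ Cfsg.oddCore H := by
      rw [← hker, MonoidHom.mem_ker, map_mul, map_inv, hye, inv_mul_cancel]
    have h3 : (y : G)⁻¹ * g ∈ K := subset_closure (Or.inl ⟨_, h2, rfl⟩)
    have := mul_mem (mem_subgroupOf.1 hy) h3
    rwa [mul_inv_cancel_left] at this

/-- the input of the core theorem -/
theorem input (h1169 : H1169.{u}) (h1171 : H1171.{u}) (h1296 : H1296.{u}) (D : GIn T S τ x1 x2 x3 s ξ h) :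
    Core.Input S D.rel.A (τ 2 2 2) := by
  have R := D.rel
  obtain ⟨hgood, ⟨g, hg, hgx⟩, -⟩ := D.exists_data h1169 h1171 h1296
  exact
  { z_mem := ⟨1, 1, 1, by norm_num⟩
    z_ne := by rw [Ne, R.one]; omega
    elem := R.elem_A
    card := R.card_A
    norm := fun g hg => D.A_norm (D.T_norm hg)
    trans := by
      intro a ha ha1
      obtain ⟨h1, h2⟩ := R.mem_A_iff.1 ha
      obtain ⟨n, hn, e⟩ := D.tr a h1 h2 ha1
      exact ⟨n, D.A_norm hn, e⟩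
    good := hgood
    fus := by
      intro y hy hy2
      by_cases hyT : y ∈ T
      · refine ⟨1, fun a ha => ?_, ?_⟩
        · rw [one_mul, inv_one, mul_one]
          exact le_normalizer ha
        · rw [inv_one, one_mul, mul_one]
          exact R.mem_A_iff.2 ⟨hyT, hy2⟩
      · obtain ⟨n, hn, hnx⟩ := D.inv y hy hyT hy2
        refine ⟨n⁻¹ * g, fun a ha => ?_, ?_⟩
        · rw [show n⁻¹ * g * a * (n⁻¹ * g)⁻¹ = n⁻¹ * (g * a * g⁻¹) * n⁻¹⁻¹ by group]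
          have h1 := inv_mem (D.A_norm hn)
          exact mul_mem (mul_mem h1 (hg a ha)) (inv_mem h1)
        · rw [show (n⁻¹ * g)⁻¹ * y * (n⁻¹ * g) = g⁻¹ * (n * y * n⁻¹) * g by group, hnx]
          exact hgx }

end GIn

end Cfsg.Agent.ONType.Cz
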