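import Mathlib
import Cfsg.Agent.ONType.CzGlue
import Cfsg.Agent.ONType.ControlB
import Cfsg.Agent.ONType.Facts

/-!
# From `Sit` and `Conj` (`n = 2`) to `GIn`
-/

set_option autoImplicit false

namespace Cfsg.Agent.ONType.Cz

open Subgroup Cfsg.Agent.ONType.Sit

variable {G : Type*} [Group G] {T S : Subgroup G} {τ : ℤ → ℤ → ℤ → G} {x1 x2 x3 s : G}

theorem rel_of_relS (R : Cfsg.Agent.ONType.Rel.RelS 2 T S τ x1 x2 x3 s) : Rel 4 T S τ x1 x2 x3 s where
  mul := R.mul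
  one := fun a b c => by
    rw [R.one]
    norm_num
  mem := R.mem
  x1_sq := R.x1x1
  x2_sq := R.x2x2
  x3_sq := R.x3x3
  x12 := R.x12
  x23 := R.x23
  x31 := R.x31
  x1_t := R.x1τ
  x2_t := R.x2τ
  x3_t := R.x3τ
  s_sq := R.ss
  s_t := R.sτ
  s_x3 := R.sx3
  s_x1 := R.sx1
  s_x2 := R.sx2
  S_mem := fun g => by
    rw [R.memS]
    rfl

theorem gIn_of_sit [Finite G] {S : Sylow 2 G} {O : Subgroup G} {ξ h : G} (H : Sit 2 S T O τ x1 x2 x3 s ξ)
    (C : Conj 2 S T τ x3 h) : GIn T S τ x1 x2 x3 s ξ h := by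
  have R := rel_of_relS H.rel
  have hF4 : ∀ X : Subgroup G, X ≤ (S : Subgroup G) → (∀ x ∈ X, ∀ y ∈ X, x * y = y * x) →
      Nat.card X = Nat.card T → X = T := by
    intro X hX hc hcard
    exact Facts.eq_T_of_comm le_rfl H.rel hX hc (hcard.trans (Facts.card_T H.rel.toRel))
  have e1 : (2 : ℤ) ^ (2 - 1) = 2 := by norm_num
  have e2 : (2 : ℤ) ^ (2 - 2) = 1 := by norm_num
  have hz := C.hz
  have hx := C.hx
  have hv := C.hv
  rw [e1] at hz hx
  rw [e2, R.τ_inv] at hv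
  exact
  { rel := R
    xi :=
    { ct := H.ξτ
      c3 := by rw [H.ξx3, mul_inv_cancel_right]
      c1 := by rw [H.ξx1, mul_inv_cancel_right]
      c2 := by rw [H.ξx2, mul_inv_cancel_right] }
    xio := H.oddξ
    hx := hx
    hz := hz
    hv := hv
    wt := fun g hg y hy => (mem_normalizer_iff.1 (ControlB.weak H hF4 hg) y).1 hy
    tc := by
      intro g hg
      obtain ⟨m, hm, e⟩ := ControlB.control H hF4 (X := {τ 1 1 1}) (g := g)
        (by rintro x rfl; exact R.τ_mem _ _ _) (by rintro x rfl; exact hg)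
      exact ⟨m, hm, e _ rfl⟩
    az := by
      intro k hk hkz
      obtain ⟨o, ho, g, hg, i, -, e⟩ := ControlB.az H hk (by rw [e1]; exact hkz)
      exact ⟨o, g, i, H.O_le o ho, hg, e⟩
    inv := fun y hy hyT h2 => ControlB.inv_conj H hy hyT h2
    tr := by
      intro a ha ha2 ha1
      exact ControlB.trans H ha ha2 ha1 (R.τ_mem 2 2 2) (by rw [R.mul, R.one]; omega) (by rw [Ne, R.one]; omega) }

end Cfsg.Agent.ONType.Cz
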