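import Cfsg.Agent.ONType.Control

/-!
# O'Nan type groups: `n ≥ 3` is impossible
-/

set_option autoImplicit false
set_option linter.dupNamespace false

namespace Cfsg.Agent.ONType.NThree

open Subgroup
open Cfsg.Agent.ONType.Rel Cfsg.Agent.ONType.Span Cfsg.Agent.ONType.Sit Cfsg.Agent.ONType.Facts
open Cfsg.Agent.ONType.Control

variable {G : Type*} [Group G] {n : ℕ} {S : Sylow 2 G} {T O : Subgroup G} {τ : ℤ → ℤ → ℤ → G}
  {x1 x2 x3 s ξ h : G}

/-- the action of an element `o * g` of `O S` on `T` -/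
theorem act_og (H : Sit n S T O τ x1 x2 x3 s ξ) {o g : G} (ho : o ∈ O) (hg : g ∈ (S : Subgroup G)) :
    ∃ j : Fin 8, ∀ a b c, (o * g) * τ a b c * (o * g)⁻¹ = tp τ (M j a b c) := by
  obtain ⟨t, ht, j, rfl⟩ := (mem_S H.rel g).1 hg
  refine ⟨j, fun a b c => ?_⟩
  have e1 := conj_τ H.rel.toRel j ht a b c
  have e2 : o * tp τ (M j a b c) = tp τ (M j a b c) * o := H.O_le o ho _ (mem_τ H.rel.toRel _ _ _)
  calc (o * (t * W x1 x2 x3 s j)) * τ a b c * (o * (t * W x1 x2 x3 s j))⁻¹ =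
      o * ((t * W x1 x2 x3 s j) * τ a b c * (t * W x1 x2 x3 s j)⁻¹) * o⁻¹ := by group
    _ = tp τ (M j a b c) := by rw [e1, e2, mul_inv_cancel_right]

theorem ξ_conj (H : Sit n S T O τ x1 x2 x3 s ξ) (a b c : ℤ) :
    ξ * τ a b c * ξ⁻¹ = τ a (-a - b - c) b := by
  rw [H.ξτ, mul_inv_cancel_right]

theorem not_two {n : ℕ} (hn : 2 ≤ n) {x : ℤ} (hx : (2 : ℤ) ^ n ∣ x) (h4 : ¬ (4 : ℤ) ∣ x) : False :=
  h4 (four_dvd hn hx)

/-- an element of `N_G(T)` centralising `c = τ 1 (-1) (-1)` and `v = τ e' e' e'` acts on `T` as `1` or as `x3`. -/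
theorem fix_cv (H : Sit n S T O τ x1 x2 x3 s ξ) {k : G} (hk : k ∈ normalizer (T : Set G))
    (hc : k * τ 1 (-1) (-1) * k⁻¹ = τ 1 (-1) (-1))
    (hv : k * τ (2 ^ (n - 2)) (2 ^ (n - 2)) (2 ^ (n - 2)) * k⁻¹ = τ (2 ^ (n - 2)) (2 ^ (n - 2)) (2 ^ (n - 2))) :
    (∀ a b c, k * τ a b c * k⁻¹ = τ a b c) ∨ (∀ a b c, k * τ a b c * k⁻¹ = τ (-a - b - c) c b) := by
  have R := H.rel.toRel
  have hn := H.hn
  have hp : (2 : ℤ) ^ n = 4 * 2 ^ (n - 2) := by
    have : (2 : ℤ) ^ n = 2 ^ (n - 2 + 2) := by rw [Nat.sub_add_cancel hn]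
    rw [this, pow_add]; ring
  have hp1 : (2 : ℤ) ^ (n - 1) = 2 * 2 ^ (n - 2) := by
    have : (2 : ℤ) ^ (n - 1) = 2 ^ (n - 2 + 1) := by congr 1; omega
    rw [this, pow_add]; ring
  have hpos : (0 : ℤ) < 2 ^ (n - 2) := by positivity
  generalize hE : (2 : ℤ) ^ (n - 2) = E at hp hp1 hpos hv
  have hz : k * τ (2 ^ (n - 1)) (2 ^ (n - 1)) (2 ^ (n - 1)) =
      τ (2 ^ (n - 1)) (2 ^ (n - 1)) (2 ^ (n - 1)) * k := by
    have e : τ (2 ^ (n - 1)) (2 ^ (n - 1)) (2 ^ (n - 1)) = τ E E E * τ E E E := by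
      rw [R.mul, hp1, two_mul]
    have e' : k * (τ E E E * τ E E E) * k⁻¹ = τ E E E * τ E E E := by
      calc k * (τ E E E * τ E E E) * k⁻¹ = (k * τ E E E * k⁻¹) * (k * τ E E E * k⁻¹) := by group
        _ = _ := by rw [hv]
    rw [e]
    exact (mul_inv_eq_iff_eq_mul.1 e')
  obtain ⟨o, ho, g, hg, i, hi, rfl⟩ := exists_dec H hk hz
  obtain ⟨j, hj⟩ := act_og H ho hg
  have h2 : ¬ (4 * E ∣ -E - E) := by
    rintro ⟨q, hq⟩
    have : E * (-2) = E * (4 * q) := by rw [← mul_assoc, mul_comm E 4, ← hq]; ring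
    have := mul_left_cancel₀ hpos.ne' this
    omega
  have h2' : ¬ (4 * E ∣ E + E) := fun hd => h2 (by rw [← dvd_neg]; simpa [add_comm] using hd)
  -- the conjugate of `τ a b c`
  interval_cases i
  · -- `i = 0`
    rw [pow_zero, mul_one] at hc hv ⊢
    rw [hj, tp, τ_eq R] at hc hv
    rw [hp] at hv
    obtain ⟨hc1, hc2, hc3⟩ := hc
    obtain ⟨hv1, hv2, hv3⟩ := hv
    fin_cases j
    · left; intro a b c; rw [hj]; rfl
    · exfalso; exact not_two hn hc1 (by simp only [M]; norm_num)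
    · exfalso; exact not_two hn hc1 (by simp only [M]; norm_num)
    · right; intro a b c; rw [hj]; rfl
    · exfalso; exact h2 hv1
    · exfalso; exact h2 (by simpa [M] using hv1)
    · exfalso; exact h2 (by simpa [M] using hv1)
    · exfalso; exact h2 (by simpa [M] using hv2)
  · -- `i = 1`
    exfalso
    have hj' : ∀ a b c, (o * g * ξ ^ 1) * τ a b c * (o * g * ξ ^ 1)⁻¹ = tp τ (M j a (-a - b - c) b) := by
      intro a b c
      rw [pow_one, ← hj, ← ξ_conj H]; group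
    rw [hj', tp, τ_eq R] at hc hv
    rw [hp] at hv
    obtain ⟨hc1, hc2, hc3⟩ := hc
    obtain ⟨hv1, hv2, hv3⟩ := hv
    fin_cases j
    · exact not_two hn hc2 (by simp only [M]; norm_num)
    · exact not_two hn hc2 (by simp only [M]; norm_num)
    · exact not_two hn hc1 (by simp only [M]; norm_num)
    · exact not_two hn hc1 (by simp only [M]; norm_num)
    · exact h2 (by simpa [M] using hv1)
    · exact h2 (by simpa [M] using hv2)
    · exact h2' (by simpa [M] using hv1)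
    · exact h2 (by simpa [M] using hv3)
  · -- `i = 2`
    exfalso
    have hj' : ∀ a b c, (o * g * ξ ^ 2) * τ a b c * (o * g * ξ ^ 2)⁻¹ =
        tp τ (M j a (-a - (-a - b - c) - b) (-a - b - c)) := by
      intro a b c
      rw [← hj, ← ξ_conj H, ← ξ_conj H, pow_two]; group
    rw [hj', tp, τ_eq R] at hc hv
    rw [hp] at hv
    obtain ⟨hc1, hc2, hc3⟩ := hc
    obtain ⟨hv1, hv2, hv3⟩ := hv
    fin_cases j
    · exact not_two hn hc3 (by simp only [M]; norm_num)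
    · exact not_two hn hc1 (by simp only [M]; norm_num)
    · exact not_two hn hc3 (by simp only [M]; norm_num)
    · exact not_two hn hc1 (by simp only [M]; norm_num)
    · exact h2 (by simpa [M] using hv1)
    · exact h2 (by simpa [M] using hv2)
    · exact h2 (by simpa [M] using hv3)
    · exact h2' (by simpa [M] using hv3)

/-- **`n ≥ 3` is impossible.** -/
theorem main [Finite G] (H : Sit n S T O τ x1 x2 x3 s ξ) (C : Conj n S T τ x3 h) (h3 : 3 ≤ n) : False := by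
  have R := H.rel.toRel
  have hn := H.hn
  have hn1 : 1 ≤ n := by omega
  have hp1 : (2 : ℤ) ^ (n - 1) = 2 * 2 ^ (n - 2) := by
    have : (2 : ℤ) ^ (n - 1) = 2 ^ (n - 2 + 1) := by congr 1; omega
    rw [this, pow_add]; ring
  have hp2 : (2 : ℤ) ^ (n - 2) = 2 * 2 ^ (n - 3) := by
    have : (2 : ℤ) ^ (n - 2) = 2 ^ (n - 3 + 1) := by congr 1; omega
    rw [this, pow_add]; ring
  have hp : (2 : ℤ) ^ n = 8 * 2 ^ (n - 3) := by
    have : (2 : ℤ) ^ n = 2 ^ (n - 3 + 3) := by rw [Nat.sub_add_cancel h3]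
    rw [this, pow_add]; ring
  have hx3S : x3 ∈ (S : Subgroup G) := W_mem_S H.rel 3
  have hx1S : x1 ∈ (S : Subgroup G) := W_mem_S H.rel 1
  have hcS : τ 1 (-1) (-1) ∈ (S : Subgroup G) := T_le_S H.rel (mem_τ R _ _ _)
  have hx3N : ∀ t ∈ T, x3 * t * x3 ∈ T := by
    intro t ht
    have := T_normal H.rel x3 hx3S t ht
    rwa [inv_eq_of_mul_eq_one_right R.x3x3] at this
  have hcx : τ 1 (-1) (-1) * x3 = x3 * τ 1 (-1) (-1) := by
    rw [R.x3τ]; norm_num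
  have hx1x3 : x1 * x3 = x3 * x1 := by rw [x13 R, R.x31]
  -- an element `r` inverting `c` is not mapped to `T` if `c` is mapped to `T x3`
  have key : ∀ r t : G, t ∈ T → h * τ 1 (-1) (-1) * h⁻¹ = t * x3 → r * τ 1 (-1) (-1) * r⁻¹ = τ (-1) 1 1 →
      h * r * h⁻¹ ∉ T := by
    intro r t ht hct hr hrT
    have e1 : h * (τ 1 (-1) (-1) * τ 1 (-1) (-1)) * h⁻¹ ∈ T := by
      have : h * (τ 1 (-1) (-1) * τ 1 (-1) (-1)) * h⁻¹ = t * (x3 * t * x3) := by
        calc h * (τ 1 (-1) (-1) * τ 1 (-1) (-1)) * h⁻¹ =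
            (h * τ 1 (-1) (-1) * h⁻¹) * (h * τ 1 (-1) (-1) * h⁻¹) := by group
          _ = t * (x3 * t * x3) := by rw [hct]; group
      rw [this]; exact mul_mem ht (hx3N t ht)
    have e2 := comm_T R _ e1 _ hrT
    have e3 : r * (τ 1 (-1) (-1) * τ 1 (-1) (-1)) * r⁻¹ = τ 1 (-1) (-1) * τ 1 (-1) (-1) := by
      have e4 : h * ((τ 1 (-1) (-1) * τ 1 (-1) (-1)) * r) * h⁻¹ = h * (r * (τ 1 (-1) (-1) * τ 1 (-1) (-1))) * h⁻¹ := by
        calc h * ((τ 1 (-1) (-1) * τ 1 (-1) (-1)) * r) * h⁻¹ =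
            (h * (τ 1 (-1) (-1) * τ 1 (-1) (-1)) * h⁻¹) * (h * r * h⁻¹) := by group
          _ = (h * r * h⁻¹) * (h * (τ 1 (-1) (-1) * τ 1 (-1) (-1)) * h⁻¹) := e2
          _ = _ := by group
      have e5 := mul_left_cancel (mul_right_cancel e4)
      rw [← e5, mul_inv_cancel_right]
    have e6 : r * (τ 1 (-1) (-1) * τ 1 (-1) (-1)) * r⁻¹ = τ (-1) 1 1 * τ (-1) 1 1 := by
      calc r * (τ 1 (-1) (-1) * τ 1 (-1) (-1)) * r⁻¹ = (r * τ 1 (-1) (-1) * r⁻¹) * (r * τ 1 (-1) (-1) * r⁻¹) := by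
            group
        _ = _ := by rw [hr]
    rw [e3, R.mul, R.mul, τ_eq R] at e6
    have h8 : (8 : ℤ) ∣ 2 ^ n := ⟨_, hp⟩
    have := h8.trans e6.1
    norm_num at this
  have hx1c : x1 * τ 1 (-1) (-1) * x1⁻¹ = τ (-1) 1 1 := by
    rw [R.x1τ, mul_inv_cancel_right]; norm_num
  -- `c` is mapped into `T`
  have hcT : h * τ 1 (-1) (-1) * h⁻¹ ∈ T := by
    obtain ⟨t, ht, hc | hc⟩ := C.hD _ hcS hcx
    · rw [hc]; exact ht
    · exfalso
      obtain ⟨t', ht', hc' | hc'⟩ := C.hD _ hx1S hx1x3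
      · exact key x1 t ht hc hx1c (by rw [hc']; exact ht')
      · refine key (τ 1 (-1) (-1) * x1) t ht hc ?_ ?_
        · calc τ 1 (-1) (-1) * x1 * τ 1 (-1) (-1) * (τ 1 (-1) (-1) * x1)⁻¹ =
              τ 1 (-1) (-1) * (x1 * τ 1 (-1) (-1) * x1⁻¹) * (τ 1 (-1) (-1))⁻¹ := by group
            _ = τ (-1) 1 1 := by
              rw [hx1c, comm_T R _ (mem_τ R _ _ _) _ (mem_τ R (-1) 1 1), mul_inv_cancel_right]
        · have : h * (τ 1 (-1) (-1) * x1) * h⁻¹ = t * (x3 * t' * x3) := by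
            calc h * (τ 1 (-1) (-1) * x1) * h⁻¹ = (h * τ 1 (-1) (-1) * h⁻¹) * (h * x1 * h⁻¹) := by group
              _ = _ := by rw [hc, hc']; group
          rw [this]; exact mul_mem ht (hx3N t' ht')
  have hvT : h * τ (2 ^ (n - 2)) (2 ^ (n - 2)) (2 ^ (n - 2)) * h⁻¹ ∈ T := by
    rcases C.hv with hv | hv
    · rw [hv]; exact mem_τ R _ _ _
    · rw [hv]; exact inv_mem (mem_τ R _ _ _)
  -- correct `h`
  obtain ⟨m, hm, hmX⟩ := control H {τ 1 (-1) (-1), τ (2 ^ (n - 2)) (2 ^ (n - 2)) (2 ^ (n - 2))} (g := h)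
    (by
      intro x hx
      rcases hx with rfl | hx
      · exact mem_τ R _ _ _
      · rw [Set.mem_singleton_iff.1 hx]; exact mem_τ R _ _ _)
    (by
      intro x hx
      rcases hx with rfl | hx
      · exact hcT
      · rw [Set.mem_singleton_iff.1 hx]; exact hvT)
  have hmc := hmX _ (Set.mem_insert _ _)
  have hmv := hmX _ (Set.mem_insert_of_mem _ rfl)
  have hfix : ∀ x, m * x * m⁻¹ = h * x * h⁻¹ → (m⁻¹ * h) * x * (m⁻¹ * h)⁻¹ = x := by
    intro x hx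
    calc (m⁻¹ * h) * x * (m⁻¹ * h)⁻¹ = m⁻¹ * (h * x * h⁻¹) * m := by group
      _ = x := by rw [← hx]; group
  have hc' := hfix _ hmc
  have hv' := hfix _ hmv
  have hx' : (m⁻¹ * h) * x3 * (m⁻¹ * h)⁻¹ ∈ T := by
    have : (m⁻¹ * h) * x3 * (m⁻¹ * h)⁻¹ = m⁻¹ * τ (2 ^ (n - 1)) 0 0 * m⁻¹⁻¹ := by
      rw [← C.hx]; group
    rw [this]
    exact conj_mem (inv_mem hm) (mem_τ R _ _ _)
  generalize m⁻¹ * h = k at hc' hv' hx'
  have hx2 : (k * x3 * k⁻¹) * (k * x3 * k⁻¹) = 1 := by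
    calc (k * x3 * k⁻¹) * (k * x3 * k⁻¹) = k * (x3 * x3) * k⁻¹ := by group
      _ = 1 := by rw [R.x3x3]; group
  obtain ⟨i, j, l, -, -, -, hel⟩ := exists_el R hn1 hx' hx2
  -- `w = el 1 0 0` is fixed by `k`
  have hcn : ∀ a b : G, k * a * k⁻¹ = a → k * b * k⁻¹ = b → k * (a * b) * k⁻¹ = a * b := by
    intro a b ha hb
    calc k * (a * b) * k⁻¹ = (k * a * k⁻¹) * (k * b * k⁻¹) := by group
      _ = a * b := by rw [ha, hb]
  have hpow : ∀ (a : G) (r : ℕ), k * a * k⁻¹ = a → k * a ^ r * k⁻¹ = a ^ r := by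
    intro a r ha
    induction r with
    | zero => simp
    | succ r ih => rw [pow_succ]; exact hcn _ _ ih ha
  have hw : k * el n τ 1 0 0 * k⁻¹ = el n τ 1 0 0 := by
    have e : el n τ 1 0 0 = (τ 1 (-1) (-1)) ^ (2 ^ (n - 2)) * τ (2 ^ (n - 2)) (2 ^ (n - 2)) (2 ^ (n - 2)) := by
      rw [el_100, τ_pow R, R.mul]
      congr 1
      · push_cast; rw [hp1]; ring
      · push_cast; ring
      · push_cast; ring
    rw [e]
    exact hcn _ _ (hpow _ _ hc') hv'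
  -- `u x3 u⁻¹ = w x3`
  have hu : τ (2 ^ (n - 2)) 0 0 * x3 * (τ (2 ^ (n - 2)) 0 0)⁻¹ = el n τ 1 0 0 * x3 := by
    rw [τ_inv R, mul_assoc, R.x3τ, ← mul_assoc, R.mul, el_100, hp1]
    congr 2 <;> ring
  have hcomm : ∀ a b c : ℤ, τ (2 ^ (n - 2)) 0 0 * τ a b c * (τ (2 ^ (n - 2)) 0 0)⁻¹ = τ a b c := by
    intro a b c
    rw [τ_comm R, mul_inv_cancel_right]
  have hg : ∀ a b : G, k * a * k⁻¹ = b → (k * τ (2 ^ (n - 2)) 0 0 * k⁻¹) * b * (k * τ (2 ^ (n - 2)) 0 0 * k⁻¹)⁻¹ =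
      k * (τ (2 ^ (n - 2)) 0 0 * a * (τ (2 ^ (n - 2)) 0 0)⁻¹) * k⁻¹ := by
    rintro a b rfl
    group
  have g1 := hg _ _ hc'
  have g2 := hg _ _ hv'
  have g3 := hg _ _ hel
  rw [hcomm, hc'] at g1
  rw [hcomm, hv'] at g2
  have g3' : k * (el n τ 1 0 0 * x3) * k⁻¹ = el n τ 1 0 0 * el n τ i j l := by
    calc k * (el n τ 1 0 0 * x3) * k⁻¹ = (k * el n τ 1 0 0 * k⁻¹) * (k * x3 * k⁻¹) := by group
      _ = _ := by rw [hw, hel]
  rw [hu, g3'] at g3
  generalize k * τ (2 ^ (n - 2)) 0 0 * k⁻¹ = g at g1 g2 g3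
  obtain ⟨m', hm', hmX'⟩ := control H {τ 1 (-1) (-1), τ (2 ^ (n - 2)) (2 ^ (n - 2)) (2 ^ (n - 2)), el n τ i j l}
    (g := g)
    (by
      intro x hx
      rcases hx with rfl | rfl | hx
      · exact mem_τ R _ _ _
      · exact mem_τ R _ _ _
      · rw [Set.mem_singleton_iff.1 hx]; exact mem_τ R _ _ _)
    (by
      intro x hx
      rcases hx with rfl | rfl | hx
      · rw [g1]; exact mem_τ R _ _ _
      · rw [g2]; exact mem_τ R _ _ _
      · rw [Set.mem_singleton_iff.1 hx, g3]; exact mul_mem (mem_τ R _ _ _) (mem_τ R _ _ _))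
  have f1 := hmX' _ (Set.mem_insert _ _)
  have f2 := hmX' _ (Set.mem_insert_of_mem _ (Set.mem_insert _ _))
  have f3 := hmX' _ (Set.mem_insert_of_mem _ (Set.mem_insert_of_mem _ rfl))
  rw [g1] at f1
  rw [g2] at f2
  rw [g3, el_mul R] at f3
  rcases fix_cv H hm' f1 f2 with hf | hf
  · have e : m' * el n τ i j l * m'⁻¹ = el n τ i j l := hf _ _ _
    rw [e, el_eq R hn1] at f3
    omega
  · have e : m' * el n τ i j l * m'⁻¹ = el n τ (-i - j - l) l j := by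
      rw [show el n τ i j l = τ (2 ^ (n - 1) * i) (2 ^ (n - 1) * j) (2 ^ (n - 1) * l) from rfl, hf]
      unfold el
      congr 1
      ring
    rw [e, el_eq R hn1] at f3
    omega

end Cfsg.Agent.ONType.NThree
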