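import Cfsg.Agent.ONType.SitLift

/-!
# O'Nan type groups: `Frame → Sit`
-/

set_option autoImplicit false
set_option linter.unusedSectionVars false
set_option linter.unusedVariables false
set_option linter.unusedSimpArgs false
set_option linter.unusedTactic false
set_option linter.unreachableTactic false

namespace Cfsg.Agent.ONType.SitMain

open Subgroup
open scoped IsMulCommutative
open Cfsg.Agent.ONType.Rel Cfsg.Agent.ONType.Span Cfsg.Agent.ONType.Ext Cfsg.Agent.ONType.ExtRel Cfsg.Agent.ONType.Adj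
open Cfsg.Agent.ONType.Sit

section

variable {G : Type*} [Group G]

/-- an element of odd order with `x ^ 2 ^ k = 1` -/
theorem eq_one_of_odd {x : G} (h : Odd (orderOf x)) {k : ℕ} (hk : x ^ 2 ^ k = 1) : x = 1 := by
  have h2 := orderOf_dvd_of_pow_eq_one hk
  obtain ⟨j, hj, e⟩ := (Nat.dvd_prime_pow Nat.prime_two).mp h2
  rcases Nat.eq_zero_or_pos j with rfl | hj0
  · rw [pow_zero] at e
    exact orderOf_eq_one_iff.mp e
  · rw [e] at h
    exfalso
    have : Even (2 ^ j) := (Nat.even_pow.mpr ⟨even_two, by omega⟩)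
    exact (Nat.not_even_iff_odd.mpr h) this

theorem eq_one_of_sq {x : G} {m : ℕ} (hm : Odd m) {k : ℕ} (h : x ^ m = 1) (hk : x ^ 2 ^ k = 1) : x = 1 := by
  apply eq_one_of_odd (k := k) _ hk
  exact Odd.of_dvd_nat hm (orderOf_dvd_of_pow_eq_one h)

/-- decomposition in a 2-part and an odd part -/
theorem exists_parts [Finite G] (g : G) : ∃ u v : G, g = u * v ∧ u ∈ zpowers g ∧ v ∈ zpowers g ∧ (∃ k, u ^ 2 ^ k = 1) ∧
    Odd (orderOf v) := by
  obtain ⟨k, m, hm, hkm⟩ := Nat.exists_eq_two_pow_mul_odd (n := orderOf g) (orderOf_pos g).ne'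
  have hc : IsCoprime ((2 : ℤ) ^ k) (m : ℤ) := by
    apply IsCoprime.pow_left
    rw [Int.isCoprime_iff_gcd_eq_one]
    have := Nat.coprime_two_left.mpr hm
    exact_mod_cast this
  obtain ⟨a, b, hab⟩ := hc
  refine ⟨g ^ (b * m), g ^ (a * 2 ^ k), ?_, ⟨_, rfl⟩, ⟨_, rfl⟩, ⟨k, ?_⟩, ?_⟩
  · rw [← zpow_add, add_comm, hab, zpow_one]
  · rw [← zpow_natCast, ← zpow_mul]
    have : b * (m : ℤ) * ((2 ^ k : ℕ) : ℤ) = (orderOf g : ℤ) * b := by rw [hkm]; push_cast; ring
    rw [this, zpow_mul, zpow_natCast, pow_orderOf_eq_one, one_zpow]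
  · have h1 : (g ^ (a * 2 ^ k)) ^ m = 1 := by
      rw [← zpow_natCast, ← zpow_mul]
      have : a * 2 ^ k * (m : ℤ) = (orderOf g : ℤ) * a := by rw [hkm]; push_cast; ring
      rw [this, zpow_mul, zpow_natCast, pow_orderOf_eq_one, one_zpow]
    exact Odd.of_dvd_nat hm (orderOf_dvd_of_pow_eq_one h1)

/-- an element of odd order which centralises `Ω₁(T)` centralises the abelian 2-group `T` -/
theorem odd_centralizes {T : Subgroup G} (hcomm : ∀ x ∈ T, ∀ y ∈ T, x * y = y * x) {g : G} (hodd : Odd (orderOf g))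
    (hg : ∀ t ∈ T, g * t * g⁻¹ ∈ T) (hA : ∀ t ∈ T, t * t = 1 → g * t = t * g) (k : ℕ) :
    ∀ t ∈ T, t ^ 2 ^ k = 1 → g * t = t * g := by
  induction k with
  | zero =>
    intro t ht h
    rw [pow_zero, pow_one] at h
    rw [h, mul_one, one_mul]
  | succ k ih =>
    intro t ht h
    have h1 : g * (t * t) = (t * t) * g := by
      apply ih _ (mul_mem ht ht)
      rw [← pow_two, ← pow_mul, ← pow_succ']
      exact h
    set a := g * t * g⁻¹ * t⁻¹ with ha
    have haT : a ∈ T := mul_mem (hg t ht) (inv_mem ht)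
    have h2 : a * a = 1 := by
      have e1 := hcomm (t⁻¹) (inv_mem ht) (g * t * g⁻¹) (hg t ht)
      calc a * a = g * t * g⁻¹ * (t⁻¹ * (g * t * g⁻¹)) * t⁻¹ := by rw [ha]; group
        _ = g * (t * t) * g⁻¹ * (t * t)⁻¹ := by rw [e1]; group
        _ = 1 := by rw [h1]; group
    have h3 : g * a = a * g := hA a haT h2
    have h4 : g * t * g⁻¹ = a * t := by rw [ha]; group
    have h5 : ∀ j : ℕ, g ^ j * t * (g ^ j)⁻¹ = a ^ j * t := by
      intro j
      induction j with
      | zero => simp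
      | succ j ihj =>
        have h6 : g * a ^ j * g⁻¹ = a ^ j := by
          have : Commute g (a ^ j) := Commute.pow_right h3 j
          rw [this.eq]; group
        calc g ^ (j + 1) * t * (g ^ (j + 1))⁻¹ = g * (g ^ j * t * (g ^ j)⁻¹) * g⁻¹ := by rw [pow_succ']; group
          _ = (g * a ^ j * g⁻¹) * (g * t * g⁻¹) := by rw [ihj]; group
          _ = a ^ (j + 1) * t := by rw [h6, h4, pow_succ]; group
    have h6 := h5 (orderOf g)
    rw [pow_orderOf_eq_one, one_mul, inv_one, mul_one] at h6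
    have h7 : a ^ orderOf g = 1 := mul_eq_right.mp h6.symm
    have h8 : a = 1 := eq_one_of_sq (k := 1) hodd h7 (by rw [pow_one, pow_two]; exact h2)
    rw [h8, one_mul] at h4
    calc g * t = (g * t * g⁻¹) * g := by group
      _ = t * g := by rw [h4]

end

namespace Fr

variable {G : Type*} [Group G] [Finite G] {n : ℕ} {S : Sylow 2 G} {T : Subgroup G} (F : Frame n S T)
include F

theorem two : IsPGroup 2 T := S.isPGroup'.to_le F.le

theorem conj_mem {m t : G} (hm : m ∈ normalizer (T : Set G)) (ht : t ∈ T) : m * t * m⁻¹ ∈ T :=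
  (mem_normalizer_iff.mp hm t).mp ht

theorem T_le_N : T ≤ normalizer (T : Set G) := le_normalizer

/-- 2-elements of `N_G(T)` which centralise `Ω₁(T)` -/
theorem two_elem {u : G} (hu : u ∈ normalizer (T : Set G)) {k : ℕ} (hk : u ^ 2 ^ k = 1)
    (hA : ∀ t ∈ T, t * t = 1 → u * t = t * u) : u ∈ T := by
  set N := normalizer (T : Set G) with hN
  let S' : Sylow 2 N := S.subtype F.norm
  have h2 : IsPGroup 2 (zpowers (⟨u, hu⟩ : N)) := by
    rintro ⟨x, hx⟩
    obtain ⟨j, rfl⟩ := hx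
    refine ⟨k, ?_⟩
    apply Subtype.ext
    apply Subtype.ext
    change (u ^ j) ^ 2 ^ k = 1
    rw [← zpow_natCast, ← zpow_mul, mul_comm, zpow_mul, zpow_natCast, hk, one_zpow]
  obtain ⟨Q, hQ⟩ := h2.exists_le_sylow
  obtain ⟨m, hm⟩ := MulAction.exists_smul_eq N Q S'
  have h3 : m * ⟨u, hu⟩ * m⁻¹ ∈ S' := by
    rw [← hm, ← SetLike.mem_coe, Sylow.coe_smul]
    exact Set.mem_image_of_mem _ (hQ (mem_zpowers _))
  have h4 : (m : G) * u * (m : G)⁻¹ ∈ (S : Subgroup G) := h3
  have h5 : (m : G) * u * (m : G)⁻¹ ∈ T := by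
    apply F.self _ h4
    intro t ht ht2
    -- `m⁻¹ t m` is an involution of `T`
    have h6 : (m : G)⁻¹ * t * (m : G) ∈ T := by
      have := conj_mem F (inv_mem m.2) ht
      simpa using this
    have h7 : ((m : G)⁻¹ * t * (m : G)) * ((m : G)⁻¹ * t * (m : G)) = 1 := by
      calc ((m : G)⁻¹ * t * (m : G)) * ((m : G)⁻¹ * t * (m : G)) = (m : G)⁻¹ * (t * t) * (m : G) := by group
        _ = 1 := by rw [ht2]; group
    have h8 := hA _ h6 h7
    calc (m : G) * u * (m : G)⁻¹ * t = (m : G) * (u * ((m : G)⁻¹ * t * (m : G))) * (m : G)⁻¹ := by group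
      _ = t * ((m : G) * u * (m : G)⁻¹) := by rw [h8]; group
  have h6 := conj_mem F (inv_mem m.2) h5
  have e : (m : G)⁻¹ * ((m : G) * u * (m : G)⁻¹) * ((m : G)⁻¹)⁻¹ = u := by group
  rwa [e] at h6

/-- odd elements of `N_G(T)` which centralise `Ω₁(T)` -/
theorem odd_elem {v : G} (hv : v ∈ normalizer (T : Set G)) (hodd : Odd (orderOf v))
    (hA : ∀ t ∈ T, t * t = 1 → v * t = t * v) : ∀ t ∈ T, v * t = t * v := by
  intro t ht
  exact odd_centralizes F.comm hodd (fun t ht => conj_mem F hv ht) hA n t ht (F.exp t ht)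

/-- the group `O` of the elements of odd order of `C_G(T)` -/
theorem exists_O : ∃ O : Subgroup G, (∀ o ∈ O, ∀ t ∈ T, o * t = t * o) ∧ (∀ o ∈ O, Odd (orderOf o)) ∧
    (∀ g, (∀ t ∈ T, g * t = t * g) → Odd (orderOf g) → g ∈ O) := by
  set C := centralizer (T : Set G) with hC
  have hCN : C ≤ normalizer (T : Set G) := by
    intro c hc
    rw [mem_normalizer_iff]
    have hc' := mem_centralizer_iff.mp hc
    intro t
    constructor
    · intro ht
      rw [← hc' t ht, mul_inv_cancel_right]; exact ht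
    · intro ht
      have h1 := hc' _ ht
      have h2 : c * t * c⁻¹ = t := by
        have : c * t * c⁻¹ * c = c * (c * t * c⁻¹) := h1
        have h3 : c * t = c * (c * t * c⁻¹) := by rw [← this]; group
        exact (mul_left_cancel h3).symm
      rwa [h2] at ht
  have hTC : T ≤ C := by
    intro t ht
    rw [mem_centralizer_iff]
    intro x hx
    exact F.comm x hx t ht
  have hT2 : IsPGroup 2 (T.subgroupOf C) := (two F).comap_of_injective _ C.subtype_injective
  have hTn : (T.subgroupOf C).Normal := normal_subgroupOf_of_le_normalizer hCN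
  let Q : Sylow 2 C := default
  have hQ : (Q : Subgroup C) ≤ T.subgroupOf C := by
    rintro ⟨u, huC⟩ hu
    obtain ⟨k, hk⟩ := Q.isPGroup' ⟨⟨u, huC⟩, hu⟩
    have hk' : u ^ 2 ^ k = 1 := by
      have := congrArg (fun x : Q => ((x : C) : G)) hk
      simpa using this
    exact two_elem F (hCN huC) hk' (fun t ht _ => ((mem_centralizer_iff.mp huC) t ht).symm)
  have hQT : T.subgroupOf C = Q := Q.is_maximal' hT2 hQ
  have hidx : ¬ 2 ∣ (T.subgroupOf C).index := by
    rw [hQT]; exact Q.not_dvd_index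
  have hcop : Nat.Coprime (Nat.card (T.subgroupOf C)) (T.subgroupOf C).index := by
    obtain ⟨m, hm⟩ := IsPGroup.iff_card.mp hT2
    rw [hm]
    apply Nat.Coprime.pow_left
    rw [Nat.coprime_two_left, ← Nat.not_even_iff_odd, even_iff_two_dvd]
    exact hidx
  obtain ⟨H, hH⟩ := Subgroup.exists_right_complement'_of_coprime hcop
  have hcardH : Nat.card H = (T.subgroupOf C).index := hH.card_right
  have hHodd : Odd (Nat.card H) := by
    rw [hcardH, ← Nat.not_even_iff_odd, even_iff_two_dvd]; exact hidx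
  have hHo : ∀ x ∈ H, Odd (orderOf x) := by
    intro x hx
    have h1 : orderOf (⟨x, hx⟩ : H) ∣ Nat.card H := orderOf_dvd_natCard _
    rw [orderOf_mk] at h1
    exact Odd.of_dvd_nat hHodd h1
  refine ⟨H.map C.subtype, ?_, ?_, ?_⟩
  · rintro _ ⟨⟨x, hxC⟩, hx, rfl⟩ t ht
    exact ((mem_centralizer_iff.mp hxC) t ht).symm
  · rintro _ ⟨⟨x, hxC⟩, hx, rfl⟩
    have := hHo _ hx
    rwa [orderOf_mk] at this
  · intro g hg hodd
    have hgC : g ∈ C := by
      rw [mem_centralizer_iff]; intro t ht; exact (hg t ht).symm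
    obtain ⟨⟨t, hh⟩, e⟩ := hH.2 ⟨g, hgC⟩
    have e' : ((t : C) : G) * ((hh : C) : G) = g := congrArg Subtype.val e
    have htT : ((t : C) : G) ∈ T := t.2
    have hcm : Commute ((t : C) : G) ((hh : C) : G) := ((mem_centralizer_iff.mp (hh : C).2) _ htT)
    have h1 : ((t : C) : G) ^ (orderOf g * orderOf (hh : C)) = 1 := by
      have h2 : g ^ (orderOf g * orderOf (hh : C)) = 1 := by rw [pow_mul, pow_orderOf_eq_one, one_pow]
      rw [← e', hcm.mul_pow] at h2
      have h3 : ((hh : C) : G) ^ (orderOf (((t : C) : G) * ((hh : C) : G)) * orderOf (hh : C)) = 1 := by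
        rw [mul_comm, pow_mul]
        have : ((hh : C) : G) ^ orderOf (hh : C) = 1 := by
          have := pow_orderOf_eq_one (hh : C)
          exact congrArg Subtype.val this
        rw [this, one_pow]
      rw [e'] at h2 h3
      rw [h3, mul_one] at h2
      exact h2
    have h2 : Odd (orderOf g * orderOf (hh : C)) := hodd.mul (hHo _ hh.2)
    have h3 : ((t : C) : G) = 1 := eq_one_of_sq (k := n) h2 h1 (F.exp _ htT)
    rw [h3, one_mul] at e'
    exact ⟨hh, hh.2, e'⟩

theorem faithC {g : G} (hg : g ∈ normalizer (T : Set G)) (hA : ∀ t ∈ T, t * t = 1 → g * t = t * g) :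
    ∃ t ∈ T, ∃ o : G, (∀ t ∈ T, o * t = t * o) ∧ Odd (orderOf o) ∧ g = t * o := by
  obtain ⟨u, v, e, hu, hv, ⟨k, hk⟩, hodd⟩ := exists_parts g
  have hz : ∀ x ∈ zpowers g, x ∈ normalizer (T : Set G) := by
    intro x hx
    exact (zpowers_le.mpr hg) hx
  have hz2 : ∀ x ∈ zpowers g, ∀ t ∈ T, t * t = 1 → x * t = t * x := by
    rintro x ⟨j, rfl⟩ t ht ht2
    exact (Commute.zpow_left (hA t ht ht2) j)
  refine ⟨u, two_elem F (hz u hu) hk (hz2 u hu), v, odd_elem F (hz v hv) hodd (hz2 v hv), hodd, e⟩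

/-- the hypotheses of the extension theorem for `N_G(T)/O` -/
theorem hyp {O : Subgroup G} (hOC : ∀ o ∈ O, ∀ t ∈ T, o * t = t * o) (hOodd : ∀ o ∈ O, Odd (orderOf o))
    (hOall : ∀ g, (∀ t ∈ T, g * t = t * g) → Odd (orderOf g) → g ∈ O)
    [(O.subgroupOf (normalizer (T : Set G))).Normal]
    [((T.subgroupOf (normalizer (T : Set G))).map (QuotientGroup.mk' (O.subgroupOf (normalizer (T : Set G))))).Normal]
    [IsMulCommutative ((T.subgroupOf (normalizer (T : Set G))).map (QuotientGroup.mk' (O.subgroupOf (normalizer (T : Set G)))))] :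
    Hyp ((T.subgroupOf (normalizer (T : Set G))).map (QuotientGroup.mk' (O.subgroupOf (normalizer (T : Set G))))) n := by
  set N := normalizer (T : Set G) with hN
  set O' := O.subgroupOf N with hO'
  set T' := T.subgroupOf N with hT'
  set f := QuotientGroup.mk' O' with hf
  have hfsurj : Function.Surjective f := QuotientGroup.mk'_surjective O'
  have hTN : T ≤ N := T_le_N F
  have hO'odd : ∀ o ∈ O', Odd (orderOf o) := by
    rintro ⟨o, hoN⟩ ho
    rw [orderOf_mk]
    exact hOodd o ho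
  have hT'2 : IsPGroup 2 T' := (two F).comap_of_injective _ N.subtype_injective
  have hinj : ∀ {P : Subgroup N}, IsPGroup 2 P → ∀ x ∈ P, ∀ y ∈ P, f x = f y → x = y :=
    fun hP x hx y hy e => inj_two hP hO'odd hx hy e
  have hinjT := hinj hT'2
  have hker : ∀ x : N, f x = 1 → (x : G) ∈ O := fun x hx => (QuotientGroup.eq_one_iff x).mp hx
  -- lifting of elements of `T̄`
  have hlift : ∀ a ∈ T'.map f, a * a = 1 → ∃ a' : N, (a' : G) ∈ T ∧ (a' : G) * (a' : G) = 1 ∧ f a' = a := by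
    rintro _ ⟨a, ha, rfl⟩ h2
    refine ⟨a, ha, ?_, rfl⟩
    have : a * a = 1 := hinjT _ (mul_mem ha ha) _ (one_mem _) (by rw [map_mul, map_one]; exact h2)
    exact congrArg Subtype.val this
  have hcT : Nat.card (T'.map f) = Nat.card T := by
    symm
    rw [← Nat.card_congr (subgroupOfEquivOfLe hTN).toEquiv]
    refine Nat.card_congr (Equiv.ofBijective (fun x : T' => (⟨f x, mem_map_of_mem f x.2⟩ : T'.map f)) ⟨?_, ?_⟩)
    · intro x y hxy
      apply Subtype.ext
      exact hinjT _ x.2 _ y.2 (congrArg Subtype.val hxy)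
    · rintro ⟨_, x, hx, rfl⟩
      exact ⟨⟨x, hx⟩, rfl⟩
  have hn := F.hn
  refine
    { hn := by omega
      card := by rw [hcT, F.card]
      exp := ?_
      eight := ?_
      faith := ?_
      full := ?_
      inv := ?_
      no16 := ?_ }
  · rintro _ ⟨t, ht, rfl⟩
    rw [← map_pow]
    have : t ^ 2 ^ n = 1 := Subtype.ext (F.exp _ ht)
    rw [this, map_one]
  · -- involutions
    refine le_trans ?_ F.eight
    choose g hg1 hg2 hg3 using hlift
    refine Nat.card_le_card_of_injective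
      (fun x : {t // t ∈ T'.map f ∧ t * t = 1} => (⟨(g x.1 x.2.1 x.2.2 : G), hg1 _ _ _, hg2 _ _ _⟩ :
        {t : G // t ∈ T ∧ t * t = 1})) ?_
    intro x y hxy
    have h1 : (g x.1 x.2.1 x.2.2 : G) = (g y.1 y.2.1 y.2.2 : G) :=
      congrArg (fun w : {t : G // t ∈ T ∧ t * t = 1} => (w : G)) hxy
    have h2 : g x.1 x.2.1 x.2.2 = g y.1 y.2.1 y.2.2 := Subtype.ext h1
    apply Subtype.ext
    rw [← hg3 x.1 x.2.1 x.2.2, ← hg3 y.1 y.2.1 y.2.2, h2]
  · -- faithful
    intro g' hg'
    obtain ⟨g, rfl⟩ := hfsurj g'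
    have hA : ∀ t ∈ T, t * t = 1 → (g : G) * t = t * (g : G) := by
      intro t ht ht2
      have h1 : f ⟨t, hTN ht⟩ ∈ T'.map f := mem_map_of_mem f (show (⟨t, hTN ht⟩ : N) ∈ T' from ht)
      have h2 : f ⟨t, hTN ht⟩ * f ⟨t, hTN ht⟩ = 1 := by
        rw [← map_mul]
        have : (⟨t, hTN ht⟩ : N) * ⟨t, hTN ht⟩ = 1 := Subtype.ext ht2
        rw [this, map_one]
      have h3 := hg' _ h1 h2
      have h4 : f (g * ⟨t, hTN ht⟩ * g⁻¹) = f ⟨t, hTN ht⟩ := by
        rw [map_mul, map_mul, h3, map_inv, mul_inv_cancel_right]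
      have h5 : g * ⟨t, hTN ht⟩ * g⁻¹ = ⟨t, hTN ht⟩ := by
        apply hinjT _ _ _ _ h4
        · exact conj_mem F g.2 ht
        · exact ht
      have h6 : (g : G) * t * (g : G)⁻¹ = t := congrArg Subtype.val h5
      calc (g : G) * t = ((g : G) * t * (g : G)⁻¹) * (g : G) := by group
        _ = t * (g : G) := by rw [h6]
    obtain ⟨t, ht, o, ho, hodd, e⟩ := faithC F g.2 hA
    have hoO : o ∈ O := hOall o ho hodd
    have hoN : o ∈ N := by
      have : o = t⁻¹ * (g : G) := by rw [e]; group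
      rw [this]; exact mul_mem (inv_mem (hTN ht)) g.2
    have e' : g = ⟨t, hTN ht⟩ * ⟨o, hoN⟩ := Subtype.ext e
    rw [e', map_mul]
    have : f ⟨o, hoN⟩ = 1 := (QuotientGroup.eq_one_iff _).mpr hoO
    rw [this, mul_one]
    exact mem_map_of_mem f (show (⟨t, hTN ht⟩ : N) ∈ T' from ht)
  · -- full
    intro a b c a' b' c' ha ha2 hb hb2 hc hc2 ha' ha2' hb' hb2' hc' hc2' hI hI'
    obtain ⟨A, A1, A2, rfl⟩ := hlift a ha ha2
    obtain ⟨B, B1, B2, rfl⟩ := hlift b hb hb2
    obtain ⟨C, C1, C2, rfl⟩ := hlift c hc hc2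
    obtain ⟨A', A1', A2', rfl⟩ := hlift a' ha' ha2'
    obtain ⟨B', B1', B2', rfl⟩ := hlift b' hb' hb2'
    obtain ⟨C', C1', C2', rfl⟩ := hlift c' hc' hc2'
    have hInd : ∀ A B C : N, Indep (f A) (f B) (f C) → Indep (A : G) (B : G) (C : G) := by
      rintro A B C ⟨i1, i2, i3, i4, i5, i6, i7⟩
      have v1 : ∀ X : N, (X : G) = 1 → f X = 1 := by
        intro X hX
        have : X = 1 := Subtype.ext hX
        rw [this, map_one]
      have v2 : ∀ X Y : N, (X : G) = (Y : G) → f X = f Y := by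
        intro X Y hX
        have : X = Y := Subtype.ext hX
        rw [this]
      refine ⟨fun e => i1 (v1 _ e), fun e => i2 (v1 _ e), fun e => i3 (v2 _ _ e), fun e => i4 (v1 _ e), fun e => i5 (v2 _ _ e),
        fun e => i6 (v2 _ _ e), fun e => i7 ?_⟩
      rw [← map_mul]; exact v2 _ (A * B) e
    obtain ⟨g, hg, e1, e2, e3⟩ := F.full A B C A' B' C' A1 A2 B1 B2 C1 C2 A1' A2' B1' B2' C1' C2' (hInd _ _ _ hI) (hInd _ _ _ hI')
    refine ⟨f ⟨g, hg⟩, ?_, ?_, ?_⟩
    · rw [← map_inv, ← map_mul, ← map_mul]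
      congr 1
      exact Subtype.ext e1
    · rw [← map_inv, ← map_mul, ← map_mul]
      congr 1
      exact Subtype.ext e2
    · rw [← map_inv, ← map_mul, ← map_mul]
      congr 1
      exact Subtype.ext e3
  · -- an involution
    obtain ⟨y, hyS, hyT, hyy⟩ := F.inv
    have hyN : y ∈ N := F.norm hyS
    refine ⟨f ⟨y, hyN⟩, ?_, ?_⟩
    · rintro ⟨t, ht, e⟩
      apply hyT
      have hS2 : IsPGroup 2 ((S : Subgroup G).subgroupOf N) := S.isPGroup'.comap_of_injective _ N.subtype_injective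
      have : t = ⟨y, hyN⟩ := hinj hS2 _ (F.le ht) _ hyS e
      have h1 : (t : G) = y := congrArg Subtype.val this
      rw [← h1]; exact ht
    · rw [← map_mul]
      have : (⟨y, hyN⟩ : N) * ⟨y, hyN⟩ = 1 := Subtype.ext hyy
      rw [this, map_one]
  · -- no elementary abelian subgroup of order 16
    intro E hE
    have hE2 : IsPGroup 2 E := by
      rintro ⟨x, hx⟩
      exact ⟨1, Subtype.ext (by rw [pow_one]; change x ^ 2 = 1; rw [pow_two]; exact hE x hx)⟩
    obtain ⟨P, hP2, hPE, -⟩ := Adj.exists_lift hO'odd hE2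
    have hPsq : ∀ x ∈ P, x * x = 1 := by
      intro x hx
      apply hinj hP2 _ (mul_mem hx hx) _ (one_mem _)
      rw [map_mul, map_one]
      exact hE _ (by rw [← hPE]; exact mem_map_of_mem f hx)
    have h1 : Nat.card (P.map N.subtype) ≤ 8 := by
      apply F.no16
      rintro _ ⟨x, hx, rfl⟩
      have := hPsq x hx
      exact congrArg Subtype.val this
    have h2 : Nat.card (P.map N.subtype) = Nat.card P :=
      (Nat.card_congr (P.equivMapOfInjective _ N.subtype_injective).toEquiv).symm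
    have h3 : Nat.card E ≤ Nat.card P := by
      rw [← hPE]
      exact Nat.card_le_card_of_surjective (fun x : P => (⟨f x, mem_map_of_mem f x.2⟩ : P.map f)) (by
        rintro ⟨_, x, hx, rfl⟩
        exact ⟨⟨x, hx⟩, rfl⟩)
    omega

/-- **`Frame → Sit`** -/
theorem exists_sit : ∃ (S' : Sylow 2 G) (O : Subgroup G) (τ : ℤ → ℤ → ℤ → G) (x1 x2 x3 s ξ : G),
    Sit n S' T O τ x1 x2 x3 s ξ := by
  obtain ⟨O, hOC, hOodd, hOall⟩ := exists_O F
  set N := normalizer (T : Set G) with hN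
  have hTN : T ≤ N := T_le_N F
  have hON : ∀ m ∈ N, ∀ o ∈ O, m * o * m⁻¹ ∈ O := by
    intro m hm o ho
    apply hOall
    · intro t ht
      have h1 : m⁻¹ * t * m ∈ T := by
        have := conj_mem F (inv_mem hm) ht
        simpa using this
      have h2 := hOC o ho _ h1
      calc m * o * m⁻¹ * t = m * (o * (m⁻¹ * t * m)) * m⁻¹ := by group
        _ = t * (m * o * m⁻¹) := by rw [h2]; group
    · have h1 := hOodd o ho
      have h2 : orderOf (m * o * m⁻¹) = orderOf o := by
        have := (MulAut.conj m).toMonoidHom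
        exact orderOf_injective (MulAut.conj m).toMonoidHom (MulAut.conj m).injective o
      rw [h2]; exact h1
  have hNO : N ≤ normalizer (O : Set G) := by
    intro m hm
    rw [mem_normalizer_iff]
    intro o
    constructor
    · intro ho; exact hON m hm o ho
    · intro ho
      have := hON _ (inv_mem hm) _ ho
      have e : m⁻¹ * (m * o * m⁻¹) * m⁻¹⁻¹ = o := by group
      rwa [e] at this
  haveI i1 : (O.subgroupOf N).Normal := normal_subgroupOf_of_le_normalizer hNO
  haveI i2 : (T.subgroupOf N).Normal := normal_subgroupOf_of_le_normalizer le_rfl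
  haveI i3 : ((T.subgroupOf N).map (QuotientGroup.mk' (O.subgroupOf N))).Normal :=
    Subgroup.Normal.map i2 _ (QuotientGroup.mk'_surjective _)
  haveI i4 : IsMulCommutative ((T.subgroupOf N).map (QuotientGroup.mk' (O.subgroupOf N))) := by
    refine ⟨⟨?_⟩⟩
    rintro ⟨_, x, hx, rfl⟩ ⟨_, y, hy, rfl⟩
    apply Subtype.ext
    change QuotientGroup.mk' (O.subgroupOf N) x * QuotientGroup.mk' (O.subgroupOf N) y =
      QuotientGroup.mk' (O.subgroupOf N) y * QuotientGroup.mk' (O.subgroupOf N) x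
    rw [← map_mul, ← map_mul]
    congr 1
    exact Subtype.ext (F.comm _ hx _ hy)
  have hH := hyp F hOC hOodd hOall
  have hO'odd : ∀ o ∈ O.subgroupOf N, Odd (orderOf o) := by
    rintro ⟨o, hoN⟩ ho
    rw [orderOf_mk]
    exact hOodd o ho
  have hT'2 : IsPGroup 2 (T.subgroupOf N) := (two F).comap_of_injective _ N.subtype_injective
  -- a non-trivial element of `Ω₁`
  obtain ⟨z, hz, hz1⟩ : ∃ z ∈ om ((T.subgroupOf N).map (QuotientGroup.mk' (O.subgroupOf N))), z ≠ 1 := by
    by_contra hcon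
    push Not at hcon
    have h1 := hH.card_om_eq
    have h2 : om ((T.subgroupOf N).map (QuotientGroup.mk' (O.subgroupOf N))) = ⊥ := by
      rw [eq_bot_iff]; intro x hx; rw [mem_bot]; exact hcon x hx
    rw [h2, card_bot] at h1
    omega
  obtain ⟨τ', x1', x2', x3', s', ξ', R, X, -⟩ := exists_rel hH hz hz1
  obtain ⟨P, τ, x1, x2, x3, s, ξ, hP2, hcP, RS, hξ, k1, k2, k3, k4, -⟩ := SitLift.exists_lift_rel hT'2 hO'odd R X
  have hcard : Nat.card (P.map N.subtype) = 8 * 8 ^ n := by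
    rw [(Nat.card_congr (P.equivMapOfInjective _ N.subtype_injective).toEquiv).symm, hcP,
      Nat.card_congr (subgroupOfEquivOfLe hTN).toEquiv, F.card]
  let S' : Sylow 2 G := Sylow.ofCard (P.map N.subtype) (by
    rw [hcard, ← F.cardS]; exact S.card_eq_multiplicity)
  have hS' : (S' : Subgroup G) = P.map N.subtype := rfl
  have cc : ∀ x y : N, x = y → (x : G) = (y : G) := fun x y e => by rw [e]
  have hRel : Rel n T (fun a b c => ((τ a b c : N) : G)) x1 x2 x3 s := by
    refine ⟨?_, ?_, ?_, cc _ _ RS.x1x1, cc _ _ RS.x2x2, cc _ _ RS.x3x3, cc _ _ RS.x12, cc _ _ RS.x23, cc _ _ RS.x31,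
      fun a b c => cc _ _ (RS.x1τ a b c), fun a b c => cc _ _ (RS.x2τ a b c), fun a b c => cc _ _ (RS.x3τ a b c),
      cc _ _ RS.ss, fun a b c => cc _ _ (RS.sτ a b c), cc _ _ RS.sx1, cc _ _ RS.sx2, cc _ _ RS.sx3, ?_⟩
    · intro a b c a' b' c'
      exact cc _ _ (RS.mul a b c a' b' c')
    · intro a b c
      rw [← RS.one]
      constructor
      · intro e; exact Subtype.ext e
      · intro e; exact cc _ _ e
    · intro g
      constructor
      · intro hg
        obtain ⟨a, b, c, e⟩ := (RS.mem ⟨g, hTN hg⟩).mp hg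
        exact ⟨a, b, c, cc _ _ e⟩
      · rintro ⟨a, b, c, rfl⟩
        exact (RS.mem (τ a b c)).mpr ⟨a, b, c, rfl⟩
    · intro a b c
      obtain ⟨c1, c2, c3, c4, c5, c6, c7⟩ := RS.cos a b c
      exact ⟨fun e => c1 (Subtype.ext e), fun e => c2 (Subtype.ext e), fun e => c3 (Subtype.ext e),
        fun e => c4 (Subtype.ext e), fun e => c5 (Subtype.ext e), fun e => c6 (Subtype.ext e), fun e => c7 (Subtype.ext e)⟩
  have hRelS : RelS n T (S' : Subgroup G) (fun a b c => ((τ a b c : N) : G)) x1 x2 x3 s := by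
    refine { hRel with memS := ?_ }
    intro g
    rw [hS']
    constructor
    · rintro ⟨g', hg', rfl⟩
      obtain ⟨a, b, c, w, hw, e⟩ := (RS.memS g').mp hg'
      refine ⟨a, b, c, w, ?_, cc _ _ e⟩
      rcases hw with rfl | rfl | rfl | rfl | rfl | rfl | rfl | rfl
      · exact Or.inl rfl
      · exact Or.inr (Or.inl rfl)
      · exact Or.inr (Or.inr (Or.inl rfl))
      · exact Or.inr (Or.inr (Or.inr (Or.inl rfl)))
      · exact Or.inr (Or.inr (Or.inr (Or.inr (Or.inl rfl))))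
      · exact Or.inr (Or.inr (Or.inr (Or.inr (Or.inr (Or.inl rfl)))))
      · exact Or.inr (Or.inr (Or.inr (Or.inr (Or.inr (Or.inr (Or.inl rfl))))))
      · exact Or.inr (Or.inr (Or.inr (Or.inr (Or.inr (Or.inr (Or.inr rfl))))))
    · rintro ⟨a, b, c, w, hw, rfl⟩
      have key : ∀ w : N, Rep x1 x2 x3 s w → ((τ a b c : N) : G) * (w : G) ∈ P.map N.subtype := by
        intro w hw
        exact ⟨τ a b c * w, (RS.memS _).mpr ⟨a, b, c, w, hw, rfl⟩, rfl⟩
      rcases hw with rfl | rfl | rfl | rfl | rfl | rfl | rfl | rfl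
      · exact key 1 (Or.inl rfl)
      · exact key x1 (Or.inr (Or.inl rfl))
      · exact key x2 (Or.inr (Or.inr (Or.inl rfl)))
      · exact key x3 (Or.inr (Or.inr (Or.inr (Or.inl rfl))))
      · exact key s (Or.inr (Or.inr (Or.inr (Or.inr (Or.inl rfl)))))
      · exact key (x1 * s) (Or.inr (Or.inr (Or.inr (Or.inr (Or.inr (Or.inl rfl))))))
      · exact key (x2 * s) (Or.inr (Or.inr (Or.inr (Or.inr (Or.inr (Or.inr (Or.inl rfl)))))))
      · exact key (x3 * s) (Or.inr (Or.inr (Or.inr (Or.inr (Or.inr (Or.inr (Or.inr rfl)))))))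
  refine ⟨S', O, fun a b c => ((τ a b c : N) : G), x1, x2, x3, s, ξ, ?_⟩
  refine
    { hn := F.hn
      rel := hRelS
      oddξ := by rwa [← orderOf_mk (ξ : G) ξ.2]
      ξτ := fun a b c => cc _ _ (k1 a b c)
      ξx3 := cc _ _ k2
      ξx1 := cc _ _ k3
      ξx2 := cc _ _ k4
      O_le := hOC
      O_odd := hOodd
      O_norm := hNO
      faith := ?_
      full := F.full
      no16 := F.no16 }
  intro g hg hA
  obtain ⟨t, ht, o, ho, hodd, e⟩ := faithC F hg hA
  exact ⟨t, ht, o, hOall o ho hodd, e⟩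

end Fr

end Cfsg.Agent.ONType.SitMain
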