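import Cfsg.Agent.ONType.Fus
import Cfsg.Agent.ONType.NThree
import Cfsg.Agent.ONType.SitMain

/-!
# O'Nan type groups: `Frame` + (`Ω₁(T)` is not strongly closed) gives `n = 2`, `Sit` and `Conj`
-/

set_option autoImplicit false
set_option linter.dupNamespace false

namespace Cfsg.Agent.ONType.FusMain

open Subgroup
open scoped Pointwise
open Cfsg.Agent.ONType.Rel Cfsg.Agent.ONType.Span Cfsg.Agent.ONType.Sit Cfsg.Agent.ONType.Facts Cfsg.Agent.ONType.Control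

variable {G : Type*} [Group G] [Finite G] {n : ℕ}

theorem fus {S : Sylow 2 G} {T O : Subgroup G} {τ : ℤ → ℤ → ℤ → G} {x1 x2 x3 s ξ : G}
    (h : Sit n S T O τ x1 x2 x3 s ξ)
    (hns : ∃ a ∈ T, a * a = 1 ∧ a ≠ 1 ∧ ∃ g : G, g * a * g⁻¹ ∈ (S : Subgroup G) ∧ g * a * g⁻¹ ∉ T) :
    n = 2 ∧ ∃ k : G, Conj n S T τ x3 k := by
  have hn := h.hn
  obtain ⟨a, ha, haa, ha1, g, hgS, hgT⟩ := hns
  have hgg : (g * a * g⁻¹) * (g * a * g⁻¹) = 1 := by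
    calc (g * a * g⁻¹) * (g * a * g⁻¹) = g * (a * a) * g⁻¹ := by group
      _ = 1 := by rw [haa]; group
  obtain ⟨m, -, hm⟩ := exists_conj_x3 h hgS hgT hgg
  obtain ⟨m', -, hm'⟩ := trans_one h ha ha1 haa
  have hfus : ∃ k : G, k * x3 * k⁻¹ = τ (2 ^ (n - 1)) (2 ^ (n - 1)) (2 ^ (n - 1)) := by
    refine ⟨m' * g⁻¹ * m⁻¹, ?_⟩
    rw [← el_111 n τ, ← hm', ← hm]
    group
  obtain ⟨k, hk⟩ := Fus.exists_conj h hfus
  refine ⟨?_, k, hk⟩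
  by_contra hne
  exact NThree.main h hk (by omega)

/-- **Frame, `Ω₁(T)` not strongly closed** -/
theorem main {S : Sylow 2 G} {T : Subgroup G} (F : Frame n S T)
    (hns : ∃ a ∈ T, a * a = 1 ∧ a ≠ 1 ∧ ∃ g : G, g * a * g⁻¹ ∈ (S : Subgroup G) ∧ g * a * g⁻¹ ∉ T) :
    n = 2 ∧ ∃ (S' : Sylow 2 G) (O : Subgroup G) (τ : ℤ → ℤ → ℤ → G) (x1 x2 x3 s ξ k : G),
      Sit 2 S' T O τ x1 x2 x3 s ξ ∧ Conj 2 S' T τ x3 k := by
  obtain ⟨S', O, τ, x1, x2, x3, s, ξ, h⟩ := SitMain.Fr.exists_sit F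
  -- `S` and `S'` are conjugate in `N_G(T)`
  have hS'N := S_le_normalizer h.rel
  obtain ⟨m, hm, hmS⟩ := Fus.exists_conj_into hS'N S.isPGroup' F.norm
  obtain ⟨a, ha, haa, ha1, g, hgS, hgT⟩ := hns
  have h1 := fus h ⟨a, ha, haa, ha1, m * g, by
    have := hmS _ hgS
    have e : m * g * a * (m * g)⁻¹ = m * (g * a * g⁻¹) * m⁻¹ := by group
    rw [e]; exact this, by
    intro hcon
    apply hgT
    have e : g * a * g⁻¹ = m⁻¹ * (m * g * a * (m * g)⁻¹) * m := by group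
    rw [e]
    exact conj_mem' hm hcon⟩
  obtain ⟨rfl, k, hk⟩ := h1
  exact ⟨rfl, S', O, τ, x1, x2, x3, s, ξ, k, h, hk⟩

end Cfsg.Agent.ONType.FusMain
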