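import Mathlib
import Cfsg.Prelude.Def_SporadicB
import Cfsg.Prelude.Def_Spor_ON
import Cfsg.Agent.ONType.CzSit
import Cfsg.Agent.ONType.FusMain

/-!
# The O'Nan branch of S1730: from the fusion data to `IsoON`
-/

set_option autoImplicit false

namespace Cfsg.Agent.ONType.Cz

open Subgroup Cfsg.Agent.TypeL3 Cfsg.Agent.Lib.FieldFour

universe u

/-- the statement S0205 in universe `u` -/
def H0205 : Prop := ∀ (X : Type u) [Group X] [Finite X], Odd (Nat.card X) → Group.IsSolvable X

/-- the statement S1221 in universe `u` -/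
def H1221 : Prop := ∀ (X : Type u) [Group X] [Finite X] (H : Subgroup X), Cfsg.IsStronglyEmbedded H →
  (Cfsg.oddCore ↥H).map H.subtype ≤ Cfsg.oddCore X

/-- the statement S1661 in universe `u` -/
def H1661 : Prop := ∀ (G : Type u) [Group G] [Finite G] [IsSimpleGroup G] (t : G), orderOf t = 2 →
  ∀ (M : Subgroup (Subgroup.centralizer ({t} : Set G))) [M.Normal], M.index = 2 →
    Subgroup.centralizer (M : Set (Subgroup.centralizer ({t} : Set G))) ≤ M → IsCyclic (Subgroup.center M) →
    Nat.card (Subgroup.center M) = 4 → commutator M = ⊤ → ∀ (F : Type) [Field F] [Fintype F],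
    Fintype.card F = 4 → (M ⧸ Subgroup.center M ≃* Matrix.ProjectiveSpecialLinearGroup (Fin 3) F) → Cfsg.Spor.IsoON G

variable {G : Type u} [Group G] [Finite G] {T : Subgroup G} {S : Sylow 2 G} {τ : ℤ → ℤ → ℤ → G}
  {x1 x2 x3 s ξ h : G}

namespace GIn

/-- `O(C_G(z)) = 1` -/
theorem core_eq_bot [IsSimpleGroup G] (h1169 : H1169.{u}) (h1171 : H1171.{u}) (h1296 : H1296.{u})
    (h0205 : H0205.{u}) (h1221 : H1221.{u}) (D : GIn T S τ x1 x2 x3 s ξ h) :
    Cfsg.oddCore (centralizer ({τ 2 2 2} : Set G)) = ⊥ := by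
  have R := D.rel
  have hz2 : τ 2 2 2 * τ 2 2 2 = 1 := by rw [R.mul, R.one]; omega
  have hz1 : τ 2 2 2 ≠ 1 := by rw [Ne, R.one]; omega
  have hoz : orderOf (τ 2 2 2) = 2 := orderOf_eq_prime (by rw [pow_two]; exact hz2) hz1
  have hO : Cfsg.oddCore G = ⊥ := by
    have hn : (Cfsg.oddCore G).Normal := Cfsg.Agent.Lib.Cores.pPrimeCore_normal 2
    rcases IsSimpleGroup.eq_bot_or_eq_top_of_normal (Cfsg.oddCore G) hn with h1 | h1
    · exact h1
    · exfalso
      have h2 := Nat.coprime_two_right.1 (Cfsg.Agent.Lib.Cores.pPrimeCore_coprime (G := G) 2)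
      have h3 : Nat.card (Cfsg.pPrimeCore 2 G) = Nat.card G := by
        change Nat.card (Cfsg.oddCore G) = _
        rw [h1]
        exact Nat.card_congr Subgroup.topEquiv.toEquiv
      rw [h3] at h2
      have h4 : 2 ∣ Nat.card G := hoz ▸ orderOf_dvd_natCard (τ 2 2 2)
      rw [← Nat.not_even_iff_odd, even_iff_two_dvd] at h2
      exact h2 h4
  have hin := D.input h1169 h1171 h1296
  obtain ⟨-, -, hgen⟩ := D.exists_data h1169 h1171 h1296
  have key := CoreMain.core_eq_bot hin (fun a _ _ => by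
      apply h0205
      have h1 := Nat.coprime_two_right.1 (Cfsg.Agent.Lib.Cores.pPrimeCore_coprime
        (G := ↥(centralizer ({a} : Set G))) 2)
      have h2 : Nat.card (Cfsg.centralizerPPrimeCore 2 a) =
          Nat.card (Cfsg.pPrimeCore 2 ↥(centralizer ({a} : Set G))) :=
        Subgroup.card_map_of_injective (Subgroup.subtype_injective _)
      rw [h2]
      exact h1) hgen hO (fun H hH => h1221 G H hH) hoz
  exact (Subgroup.map_eq_bot_iff_of_injective _ (Subgroup.subtype_injective _)).1 key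

/-- the O'Nan group -/
theorem isoON [IsSimpleGroup G] (h1169 : H1169.{u}) (h1171 : H1171.{u}) (h1296 : H1296.{u})
    (h0205 : H0205.{u}) (h1221 : H1221.{u}) (h1661 : H1661.{u}) (D : GIn T S τ x1 x2 x3 s ξ h) :
    Cfsg.Spor.IsoON G := by
  have R := D.rel
  have hz2 : τ 2 2 2 * τ 2 2 2 = 1 := by rw [R.mul, R.one]; omega
  have hz1 : τ 2 2 2 ≠ 1 := by rw [Ne, R.one]; omega
  have hoz : orderOf (τ 2 2 2) = 2 := orderOf_eq_prime (by rw [pow_two]; exact hz2) hz1
  have hcore := D.core_eq_bot h1169 h1171 h1296 h0205 h1221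
  have DI := D.toIn (H := centralizer ({τ 2 2 2} : Set G)) rfl D.S_le
  have DX := DI.toX (MonoidHom.id _) Function.surjective_id (by
    rw [hcore]
    exact MonoidHom.ker_id)
  have XO := DX.xout h1169 h1171 h1296
  have hn := XO.normal
  obtain ⟨e⟩ := XO.psl
  exact h1661 G (τ 2 2 2) hoz _ XO.idx XO.cc XO.cyc XO.card XO.perf F4 F4.card e

end GIn

/-- **The O'Nan branch**: `Frame` gives a strongly embedded subgroup or O'N -/
theorem frame [IsSimpleGroup G] (h1169 : H1169.{u}) (h1171 : H1171.{u}) (h1296 : H1296.{u})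
    (h0205 : H0205.{u}) (h1221 : H1221.{u}) (h1661 : H1661.{u}) {n : ℕ} (F : Sit.Frame n S T) :
    (∃ H : Subgroup G, Cfsg.IsStronglyEmbedded H) ∨ Cfsg.Spor.IsoON G := by
  by_cases hns : ∃ a ∈ T, a * a = 1 ∧ a ≠ 1 ∧ ∃ g : G, g * a * g⁻¹ ∈ (S : Subgroup G) ∧ g * a * g⁻¹ ∉ T
  · obtain ⟨rfl, S', O, τ, x1, x2, x3, s, ξ, k, hS, hC⟩ := FusMain.main F hns
    exact Or.inr ((gIn_of_sit hS hC).isoON h1169 h1171 h1296 h0205 h1221 h1661)
  · left
    push Not at hns
    let A : Subgroup G :=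
      { carrier := {t | t ∈ T ∧ t * t = 1}
        one_mem' := ⟨one_mem _, one_mul _⟩
        mul_mem' := by
          rintro a b ⟨ha, ha2⟩ ⟨hb, hb2⟩
          refine ⟨mul_mem ha hb, ?_⟩
          rw [show a * b * (a * b) = a * (b * a) * b by group, F.comm b hb a ha,
            show a * (a * b) * b = (a * a) * (b * b) by group, ha2, hb2, one_mul]
        inv_mem' := by
          rintro a ⟨ha, ha2⟩
          refine ⟨inv_mem ha, ?_⟩
          rw [← mul_inv_rev, ha2, inv_one] }
    have hA : ∀ g, g ∈ A ↔ g ∈ T ∧ g * g = 1 := fun g => Iff.rfl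
    obtain ⟨y, hy, hyT, hy2⟩ := F.inv
    have hnc : ¬ IsMulCommutative (S : Subgroup G) := by
      rintro ⟨⟨hc⟩⟩
      apply hyT
      refine F.self y hy (fun t ht _ => ?_)
      exact congrArg Subtype.val (hc ⟨y, hy⟩ ⟨t, F.le ht⟩)
    have hAne : A ≠ ⊥ := by
      have h2 : 2 ∣ Nat.card T := by
        rw [F.card]
        have := F.hn
        exact dvd_pow (by norm_num) (by omega)
      obtain ⟨t, ht⟩ := exists_prime_orderOf_dvd_card' (p := 2) h2
      intro h0
      have h3 : (t : G) ∈ A := by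
        refine (hA _).2 ⟨t.2, ?_⟩
        have h4 := pow_orderOf_eq_one t
        rw [ht, pow_two] at h4
        exact congrArg Subtype.val h4
      rw [h0, mem_bot] at h3
      have h5 : t = 1 := Subtype.ext h3
      rw [h5, orderOf_one] at ht
      exact absurd ht (by norm_num)
    have hAc : IsMulCommutative A := ⟨⟨fun a b => Subtype.ext (F.comm a a.2.1 b b.2.1)⟩⟩
    have hcl : Cfsg.IsStronglyClosed A (S : Subgroup G) := by
      refine ⟨fun a ha => F.le ha.1, ?_⟩
      intro a ha g hg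
      refine (hA _).2 ⟨?_, ?_⟩
      · rcases eq_or_ne a 1 with rfl | ha1
        · rw [mul_one, mul_inv_cancel]
          exact one_mem _
        · exact hns a ha.1 ha.2 ha1 g hg
      · rw [show g * a * g⁻¹ * (g * a * g⁻¹) = g * (a * a) * g⁻¹ by group, ha.2]
        group
    exact (h1169 G S A hAne hAc hcl).resolve_left hnc

end Cfsg.Agent.ONType.Cz
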