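import Cfsg.Agent.ONType.CzPlug
import Cfsg.Agent.LFourB.RelExt

/-!
# The O'Nan branch from local data around an elementary abelian group of order 8

`OnLoc T F A` collects what a 2-local analysis hands over: a Sylow 2-subgroup `T` of order `2^9`, an elementary abelian
`F` of order 8 which `T` normalises and on which `N_G(F)` induces all transvections, the homocyclic group `A = C_T(F)` of
order 64 and exponent 4. `OnLoc.main`: there is a strongly embedded subgroup or `G` is O'N.
-/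

set_option autoImplicit false

namespace Cfsg.Agent.ONType.Loc

open Subgroup
open Cfsg.Agent.ONType.Span

universe u

/-- The local data. -/
structure OnLoc {G : Type*} [Group G] (T : Sylow 2 G) (F A : Subgroup G) : Prop where
  cardT : Nat.card (T : Subgroup G) = 512
  norm : (T : Subgroup G) ≤ normalizer (F : Set G)
  Finv : ∀ x ∈ F, x * x = 1
  cardF : Nat.card F = 8
  /-- `A = C_T(F)` -/
  Adef : ∀ x, x ∈ A ↔ x ∈ (T : Subgroup G) ∧ ∀ f ∈ F, x * f = f * x
  cardA : Nat.card A = 64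
  comm : ∀ x ∈ A, ∀ y ∈ A, x * y = y * x
  exp : ∀ x ∈ A, x ^ 4 = 1
  /-- the involutions of `A` are in `F` -/
  invF : ∀ x ∈ A, x * x = 1 → x ∈ F
  /-- `F ≤ A` -/
  FA : F ≤ A
  /-- `N_G(F)` induces all transvections of `F` -/
  tv : ∀ e a b : G, e ∈ F → a ∈ F → b ∈ F → Indep e a b →
    ∃ g ∈ normalizer (F : Set G), g * e = e * g ∧ g * a = a * g ∧ g * b * g⁻¹ = b * e
  /-- an involution outside `A` -/
  inv : ∃ y ∈ (T : Subgroup G), y ∉ A ∧ y * y = 1
  /-- no elementary abelian subgroup of order 16 -/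
  no16 : ∀ E : Subgroup G, E ≤ (T : Subgroup G) → (∀ x ∈ E, x * x = 1) → Nat.card E ≤ 8

section

set_option linter.unusedSectionVars false

variable {G : Type u} [Group G] [Finite G] {T : Sylow 2 G} {F A : Subgroup G}

theorem OnLoc.Fcomm (h : OnLoc T F A) {x y : G} (hx : x ∈ F) (hy : y ∈ F) : x * y = y * x :=
  h.comm x (h.FA hx) y (h.FA hy)

theorem comm_of_inv {E : Subgroup G} (hE : ∀ x ∈ E, x * x = 1) {x y : G} (hx : x ∈ E) (hy : y ∈ E) : x * y = y * x := by
  have h1 : x * y * (x * y) = 1 := hE _ (E.mul_mem hx hy)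
  have ix : x⁻¹ = x := inv_eq_of_mul_eq_one_left (hE x hx)
  have iy : y⁻¹ = y := inv_eq_of_mul_eq_one_left (hE y hy)
  have : x * y = (x * y)⁻¹ := eq_inv_of_mul_eq_one_left h1
  rw [this, mul_inv_rev, ix, iy]

/-- the transport relation on triples of `F` -/
def Tr (F : Subgroup G) (a b c a' b' c' : G) : Prop :=
  ∃ g ∈ normalizer (F : Set G), g * a * g⁻¹ = a' ∧ g * b * g⁻¹ = b' ∧ g * c * g⁻¹ = c'

theorem Tr.refl (F : Subgroup G) (a b c : G) : Tr F a b c a b c :=
  ⟨1, one_mem _, by simp, by simp, by simp⟩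

theorem Tr.trans {F : Subgroup G} {a b c a' b' c' a'' b'' c'' : G} (h : Tr F a b c a' b' c')
    (k : Tr F a' b' c' a'' b'' c'') : Tr F a b c a'' b'' c'' := by
  obtain ⟨g, hg, h1, h2, h3⟩ := h
  obtain ⟨k, hk, k1, k2, k3⟩ := k
  refine ⟨k * g, mul_mem hk hg, ?_, ?_, ?_⟩
  · rw [← k1, ← h1]; group
  · rw [← k2, ← h2]; group
  · rw [← k3, ← h3]; group

theorem conj_of_comm {g x : G} (h : g * x = x * g) : g * x * g⁻¹ = x := by
  rw [h, mul_assoc, mul_inv_cancel, mul_one]

theorem mem_F_conj {F : Subgroup G} {g x : G} (hg : g ∈ normalizer (F : Set G)) (hx : x ∈ F) : g * x * g⁻¹ ∈ F :=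
  (mem_normalizer_iff.1 hg x).1 hx

theorem indep_conj {a b c : G} (g : G) (h : Indep a b c) : Indep (g * a * g⁻¹) (g * b * g⁻¹) (g * c * g⁻¹) := by
  obtain ⟨h1, h2, h3, h4, h5, h6, h7⟩ := h
  have inj : ∀ {x y : G}, g * x * g⁻¹ = g * y * g⁻¹ → x = y := fun {x y} e => by
    have := mul_right_cancel e
    exact mul_left_cancel this
  refine ⟨fun e => h1 (inj (e.trans (by group))), fun e => h2 (inj (e.trans (by group))), fun e => h3 (inj e),
    fun e => h4 (inj (e.trans (by group))), fun e => h5 (inj e), fun e => h6 (inj e), fun e => h7 (inj (e.trans ?_))⟩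
  group

/-- a third independent element -/
theorem OnLoc.third (h : OnLoc T F A) (a b : G) : ∃ c ∈ F, c ≠ 1 ∧ c ≠ a ∧ c ≠ b ∧ c ≠ a * b := by
  by_contra hc
  push Not at hc
  have hs : (F : Set G) ⊆ ({1, a, b, a * b} : Set G) := by
    intro x hx
    by_cases h1 : x = 1
    · simp [h1]
    by_cases h2 : x = a
    · simp [h2]
    by_cases h3 : x = b
    · simp [h3]
    have := hc x hx h1 h2 h3
    simp [this]
  have h1 : (F : Set G).ncard ≤ ({1, a, b, a * b} : Set G).ncard := Set.ncard_le_ncard hs (Set.toFinite _)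
  have h2 : ({1, a, b, a * b} : Set G).ncard ≤ 4 := by
    refine (Set.ncard_insert_le _ _).trans ?_
    refine Nat.succ_le_succ ((Set.ncard_insert_le _ _).trans ?_)
    refine Nat.succ_le_succ ((Set.ncard_insert_le _ _).trans ?_)
    exact Nat.succ_le_succ (Set.ncard_singleton _).le
  have h3 : (F : Set G).ncard = 8 := h.cardF
  omega

/-- step 1: `a` to `a'` -/
theorem OnLoc.step1 (h : OnLoc T F A) {a a' : G} (ha : a ∈ F) (ha' : a' ∈ F) (h1 : a ≠ 1) (h1' : a' ≠ 1) :
    ∃ g ∈ normalizer (F : Set G), g * a * g⁻¹ = a' := by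
  by_cases e : a = a'
  · exact ⟨1, one_mem _, by simp [e]⟩
  have hm : a * a' ∈ F := F.mul_mem ha ha'
  have i0 : a * (a * a') = a' := by rw [← mul_assoc, h.Finv a ha, one_mul]
  obtain ⟨f, hf, f1, f2, f3, f4⟩ := h.third (a * a') a
  have fcomm : ∀ {x y : G}, x ∈ F → y ∈ F → x * y = y * x := fun hx hy => h.Fcomm hx hy
  have hind : Indep (a * a') f a := by
    refine ⟨fun e1 => e ?_, f1, f2, h1, fun e1 => h1' ?_, fun e1 => f3 e1.symm, fun e1 => ?_⟩
    · have := i0
      rw [e1, mul_one] at this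
      exact this
    · have := e1
      exact (left_eq_mul.1 this)
    · apply f4
      have h5 : a * a' * a = a * a' * (a * a' * f) := by rw [← e1]
      rw [h5, ← mul_assoc, h.Finv _ hm, one_mul]
  obtain ⟨g, hg, -, -, h3⟩ := h.tv _ _ _ hm hf ha hind
  exact ⟨g, hg, by rw [h3, i0]⟩

/-- step 2: `a, b` to `a, b'` -/
theorem OnLoc.step2 (h : OnLoc T F A) {a b b' : G} (ha : a ∈ F) (hb : b ∈ F) (hb' : b' ∈ F) (h1 : a ≠ 1) (h2 : b ≠ 1)
    (h3 : b ≠ a) (h2' : b' ≠ 1) (h3' : b' ≠ a) : ∃ g ∈ normalizer (F : Set G), g * a * g⁻¹ = a ∧ g * b * g⁻¹ = b' := by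
  by_cases e : b = b'
  · exact ⟨1, one_mem _, by simp, by simp [e]⟩
  have hm : b * b' ∈ F := F.mul_mem hb hb'
  have i0 : b * (b * b') = b' := by rw [← mul_assoc, h.Finv b hb, one_mul]
  by_cases e2 : b * b' = a
  · -- `b' = b a`
    obtain ⟨c, hc, c1, c2, c3, c4⟩ := h.third a b
    have hind : Indep a c b := by
      refine ⟨h1, c1, c2, h2, h3, fun e1 => c3 e1.symm, fun e1 => c4 ?_⟩
      rw [e1, ← mul_assoc, h.Finv a ha, one_mul]
    obtain ⟨g, hg, g1, -, g3⟩ := h.tv _ _ _ ha hc hb hind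
    exact ⟨g, hg, conj_of_comm g1, by rw [g3, ← e2, i0]⟩
  · have hind : Indep (b * b') a b := by
      refine ⟨fun e1 => e ?_, h1, fun e1 => e2 e1.symm, h2, fun e1 => h2' (left_eq_mul.1 e1), h3, fun e1 => h3' ?_⟩
      · have := i0
        rw [e1, mul_one] at this
        exact this
      · have h5 : b = b * (b' * a) := by rw [← mul_assoc]; exact e1
        have h6 : b' * a = 1 := left_eq_mul.1 h5
        have h7 : b' = a⁻¹ := eq_inv_of_mul_eq_one_left h6
        rw [h7]
        exact inv_eq_of_mul_eq_one_left (h.Finv a ha)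
    obtain ⟨g, hg, -, g2, g3⟩ := h.tv _ _ _ hm ha hb hind
    exact ⟨g, hg, conj_of_comm g2, by rw [g3, i0]⟩

/-- step 3: `a, b, c` to `a, b, c'` -/
theorem OnLoc.step3 (h : OnLoc T F A) {a b c c' : G} (ha : a ∈ F) (hb : b ∈ F) (hc : c ∈ F) (hc' : c' ∈ F)
    (hi : Indep a b c) (hi' : Indep a b c') : Tr F a b c a b c' := by
  obtain ⟨h1, h2, h3, h4, h5, h6, h7⟩ := hi
  obtain ⟨-, -, -, h4', h5', h6', h7'⟩ := hi'
  have hm : c * c' ∈ F := F.mul_mem hc hc'
  have i0 : c * (c * c') = c' := by rw [← mul_assoc, h.Finv c hc, one_mul]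
  -- `c c'` is in the four-group of `a, b`
  have hmem : c * c' = 1 ∨ c * c' = a ∨ c * c' = b ∨ c * c' = a * b := by
    by_contra hne
    push Not at hne
    obtain ⟨n1, n2, n3, n4⟩ := hne
    -- the nine distinct elements
    have hab : a * b = b * a := h.Fcomm ha hb
    have aa := h.Finv a ha
    have bb := h.Finv b hb
    have cc := h.Finv c hc
    let V := four a b aa bb hab
    have hV4 : Nat.card V = 4 := card_four aa bb hab h1 h2 h3
    have hVF : V ≤ F := by
      rintro x (rfl | rfl | rfl | rfl)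
      · exact F.one_mem
      · exact ha
      · exact hb
      · exact F.mul_mem ha hb
    have hcV : c ∉ V := by
      rintro (e | e | e | e)
      · exact h4 e
      · exact h5 e
      · exact h6 e
      · exact h7 e
    have hcV' : c' ∉ V := by
      rintro (e | e | e | e)
      · exact h4' e
      · exact h5' e
      · exact h6' e
      · exact h7' e
    have hccV : c * c' ∉ V := by
      rintro (e | e | e | e)
      · exact n1 e
      · exact n2 e
      · exact n3 e
      · exact n4 e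
    -- index 2
    have hidx : V.relIndex F = 2 := by
      have : Nat.card V * V.relIndex F = Nat.card F := by
        rw [← relIndex_bot_left, ← relIndex_bot_left]
        exact relIndex_mul_relIndex _ _ _ bot_le hVF
      rw [hV4, h.cardF] at this
      omega
    have key : ∀ x y : G, x ∈ F → y ∈ F → x ∉ V → y ∉ V → x * y ∈ V := by
      intro x y hx hy nx ny
      have := (Subgroup.relIndex_eq_two_iff).1 hidx
      obtain ⟨w, hw, hxor⟩ := this
      have q1 := hxor x hx
      have q2 := hxor y hy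
      have xw : x * w ∈ V := by
        rcases q1 with ⟨p, -⟩ | ⟨p, -⟩
        · exact p
        · exact absurd p nx
      have yw : y * w ∈ V := by
        rcases q2 with ⟨p, -⟩ | ⟨p, -⟩
        · exact p
        · exact absurd p ny
      have : x * y = (x * w) * (y * w) := by
        have e1 : w * y = y * w := h.Fcomm hw hy
        calc x * y = x * (w * w) * y := by rw [h.Finv w hw, mul_one]
          _ = x * w * (w * y) := by group
          _ = x * w * (y * w) := by rw [e1]
      rw [this]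
      exact V.mul_mem xw yw
    exact hccV (key c c' hc hc' hcV hcV')
  rcases hmem with e | e | e | e
  · have : c = c' := by
      rw [← i0, e, mul_one]
    rw [this]
    exact Tr.refl _ _ _ _
  · obtain ⟨g, hg, g1, g2, g3⟩ := h.tv a b c ha hb hc ⟨h1, h2, h3, h4, h5, h6, h7⟩
    exact ⟨g, hg, conj_of_comm g1, conj_of_comm g2, by rw [g3, ← e, i0]⟩
  · obtain ⟨g, hg, g1, g2, g3⟩ := h.tv b a c hb ha hc
      ⟨h2, h1, h3.symm, h4, h6, h5, fun e1 => h7 (by rw [e1, h.Fcomm hb ha])⟩
    exact ⟨g, hg, conj_of_comm g2, conj_of_comm g1, by rw [g3, ← e, i0]⟩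
  · have hab : a * b ∈ F := F.mul_mem ha hb
    have aab : a * (a * b) = b := by rw [← mul_assoc, h.Finv a ha, one_mul]
    obtain ⟨g, hg, g1, g2, g3⟩ := h.tv (a * b) a c hab ha hc
      ⟨fun e1 => h3 (by rw [← aab, e1, mul_one]), h1, fun e1 => h2 (left_eq_mul.1 e1), h4, h7, h5, fun e1 => h6 (by
        rw [e1, h.Fcomm hab ha, aab])⟩
    have gb : g * b * g⁻¹ = b := by
      have : g * b = b * g := by
        calc g * b = g * (a * (a * b)) := by rw [aab]
          _ = g * a * (a * b) := by group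
          _ = a * (g * (a * b)) := by rw [g2]; group
          _ = a * (a * b * g) := by rw [g1]
          _ = a * (a * b) * g := by group
          _ = b * g := by rw [aab]
      exact conj_of_comm this
    exact ⟨g, hg, conj_of_comm g2, gb, by rw [g3, ← e, i0]⟩

/-- `N_G(F)` is transitive on the independent triples -/
theorem OnLoc.full (h : OnLoc T F A) {a b c a' b' c' : G} (ha : a ∈ F) (hb : b ∈ F) (hc : c ∈ F) (ha' : a' ∈ F)
    (hb' : b' ∈ F) (hc' : c' ∈ F) (hi : Indep a b c) (hi' : Indep a' b' c') : Tr F a b c a' b' c' := by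
  obtain ⟨g, hg, g1⟩ := h.step1 ha ha' hi.1 hi'.1
  have i1 := indep_conj g hi
  rw [g1] at i1
  obtain ⟨k, hk, k1, k2⟩ := h.step2 ha' (mem_F_conj hg hb) hb' hi'.1 i1.2.1 i1.2.2.1 hi'.2.1 hi'.2.2.1
  have i2 := indep_conj k i1
  rw [k1, k2] at i2
  have s3 := h.step3 ha' hb' (mem_F_conj hk (mem_F_conj hg hc)) hc' i2 hi'
  refine Tr.trans (a' := a') (b' := g * b * g⁻¹) (c' := g * c * g⁻¹) ⟨g, hg, g1, rfl, rfl⟩ ?_
  refine Tr.trans (a' := a') (b' := b') (c' := k * (g * c * g⁻¹) * k⁻¹) ⟨k, hk, k1, k2, rfl⟩ ?_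
  exact s3

/-- the Frattini step: an element of `N_G(F)` acts on `F` like an element of `N_G(A)` -/
theorem OnLoc.frattini (h : OnLoc T F A) {g : G} (hg : g ∈ normalizer (F : Set G)) :
    ∃ g' ∈ normalizer (A : Set G), ∀ x ∈ F, g' * x * g'⁻¹ = g * x * g⁻¹ := by
  have : Fact (Nat.Prime 2) := ⟨Nat.prime_two⟩
  let K : Subgroup G := centralizer (F : Set G)
  have hTK : (T : Subgroup G) ⊓ K = A := by
    ext x
    rw [mem_inf, mem_centralizer_iff, h.Adef]
    exact ⟨fun ⟨p, q⟩ => ⟨p, fun f hf => (q f hf).symm⟩, fun ⟨p, q⟩ => ⟨p, fun f hf => (q f hf).symm⟩⟩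
  have hKN : K ≤ normalizer (F : Set G) := by
    intro x hx
    rw [mem_normalizer_iff]
    have hx' := (mem_centralizer_iff.1 hx)
    intro f
    constructor
    · intro hf
      have e : x * f * x⁻¹ = f := by rw [← hx' f hf]; group
      rwa [e]
    · intro hf
      have e : x⁻¹ * (x * f * x⁻¹) * x = x * f * x⁻¹ := by
        rw [mul_assoc, hx' _ hf]; group
      have e2 : x⁻¹ * (x * f * x⁻¹) * x = f := by group
      rwa [← e2, e]
  have hK : ∀ n ∈ normalizer (F : Set G), ∀ k ∈ K, n * k * n⁻¹ ∈ K := by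
    intro n hn k hk
    rw [mem_centralizer_iff] at hk ⊢
    intro f hf
    have hf' : n⁻¹ * f * n ∈ (F : Set G) := by
      have := mem_F_conj (inv_mem hn) hf
      rwa [inv_inv] at this
    have := hk _ hf'
    calc f * (n * k * n⁻¹) = n * ((n⁻¹ * f * n) * k) * n⁻¹ := by group
      _ = n * (k * (n⁻¹ * f * n)) * n⁻¹ := by rw [this]
      _ = n * k * n⁻¹ * f := by group
  have hTi : ¬ 2 ∣ (T : Subgroup G).relIndex (normalizer (F : Set G)) := fun hd =>
    T.not_dvd_index (hd.trans (relIndex_dvd_index_of_le h.norm))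
  have hAi := Cfsg.Agent.LFourB.RelExt.sylow_inf (p := 2) (R := (T : Subgroup G)) T.2 h.norm hTi hKN hK
  rw [hTK] at hAi
  have hAK : A ≤ K := hTK ▸ inf_le_right
  have hA2 : IsPGroup 2 A := T.2.to_le (hTK ▸ inf_le_left)
  have hmap : K.map (MulAut.conj g).toMonoidHom = K := by
    refine Subgroup.eq_of_le_of_card_ge ?_ (by rw [Cfsg.Agent.Lib.GoldschmidtFusion.card_map_conj])
    rintro _ ⟨k, hk, rfl⟩
    exact hK g hg k hk
  obtain ⟨k, hk, hkA⟩ := Cfsg.Agent.LFourB.RelExt.frattini (p := 2) hA2 hAK hAi hmap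
  refine ⟨k * g, ?_, fun x hx => ?_⟩
  · rw [mem_normalizer_iff]
    have h1 : ∀ x ∈ A, k * g * x * (k * g)⁻¹ ∈ A := by
      intro x hx
      rw [← hkA]
      exact ⟨x, hx, rfl⟩
    intro x
    refine ⟨h1 x, fun hx => ?_⟩
    have h2 : k * g * x * (k * g)⁻¹ ∈ A.map (MulAut.conj (k * g)).toMonoidHom := by rw [hkA]; exact hx
    obtain ⟨y, hy, e⟩ := h2
    have e' : k * g * y * (k * g)⁻¹ = k * g * x * (k * g)⁻¹ := e
    have := mul_left_cancel (mul_right_cancel e')
    rwa [← this]
  · have h1 := mem_F_conj hg hx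
    have h2 := (mem_centralizer_iff.1 hk) _ h1
    calc k * g * x * (k * g)⁻¹ = k * (g * x * g⁻¹) * k⁻¹ := by group
      _ = g * x * g⁻¹ := by rw [← h2]; group

/-- **The frame of the O'Nan branch** -/
theorem OnLoc.frame (h : OnLoc T F A) : Sit.Frame 2 T A where
  hn := le_rfl
  le := fun x hx => ((h.Adef x).1 hx).1
  norm := by
    intro t ht
    rw [mem_normalizer_iff]
    have hF := h.norm ht
    have hF' := h.norm ((T : Subgroup G).inv_mem ht)
    have key : ∀ s ∈ (T : Subgroup G), ∀ x ∈ A, s * x * s⁻¹ ∈ A := by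
      intro s hs x hx
      rw [h.Adef]
      obtain ⟨xT, xF⟩ := (h.Adef x).1 hx
      refine ⟨mul_mem (mul_mem hs xT) (inv_mem hs), fun f hf => ?_⟩
      have hf' : s⁻¹ * f * s ∈ F := by
        have := mem_F_conj (h.norm (inv_mem hs)) hf
        rwa [inv_inv] at this
      have := xF _ hf'
      calc s * x * s⁻¹ * f = s * (x * (s⁻¹ * f * s)) * s⁻¹ := by group
        _ = s * ((s⁻¹ * f * s) * x) * s⁻¹ := by rw [this]
        _ = f * (s * x * s⁻¹) := by group
    intro x
    refine ⟨key t ht x, fun hx => ?_⟩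
    have := key t⁻¹ (inv_mem ht) _ hx
    have e : t⁻¹ * (t * x * t⁻¹) * t⁻¹⁻¹ = x := by group
    rwa [e] at this
  comm := h.comm
  card := by rw [h.cardA]; norm_num
  cardS := by rw [h.cardT]; norm_num
  exp := h.exp
  eight := by
    have : Nat.card {t : G // t ∈ A ∧ t * t = 1} ≤ Nat.card F :=
      Nat.card_le_card_of_injective (fun t => (⟨t.1, h.invF t.1 t.2.1 t.2.2⟩ : F)) (fun s t e => by
        have := congrArg Subtype.val e
        exact Subtype.ext this)
    rwa [h.cardF] at this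
  self := fun g hg hc => (h.Adef g).2 ⟨hg, fun f hf => hc f (h.FA hf) (h.Finv f hf)⟩
  full := by
    intro a b c a' b' c' ha ha2 hb hb2 hc hc2 ha' ha2' hb' hb2' hc' hc2' hi hi'
    have fa := h.invF a ha ha2
    have fb := h.invF b hb hb2
    have fc := h.invF c hc hc2
    obtain ⟨g, hg, g1, g2, g3⟩ := h.full fa fb fc (h.invF a' ha' ha2') (h.invF b' hb' hb2') (h.invF c' hc' hc2') hi hi'
    obtain ⟨k, hk, hkx⟩ := h.frattini hg
    exact ⟨k, hk, by rw [hkx a fa, g1], by rw [hkx b fb, g2], by rw [hkx c fc, g3]⟩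
  inv := h.inv
  no16 := by
    have : Fact (Nat.Prime 2) := ⟨Nat.prime_two⟩
    intro E hE
    have hE2 : IsPGroup 2 E := by
      intro x
      exact ⟨1, Subtype.ext (by simpa [pow_two] using hE x x.2)⟩
    obtain ⟨P, hP⟩ := hE2.exists_le_sylow
    obtain ⟨g, hg⟩ := MulAction.exists_smul_eq G P T
    have h1 : E.map (MulAut.conj g).toMonoidHom ≤ (T : Subgroup G) := by
      rintro _ ⟨x, hx, rfl⟩
      have h2 : (MulAut.conj g) x ∈ ((g • P : Sylow 2 G) : Subgroup G) := by
        rw [Sylow.coe_subgroup_smul]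
        exact Subgroup.smul_mem_pointwise_smul _ _ _ (hP hx)
      rw [hg] at h2
      exact h2
    have h3 := h.no16 _ h1 (by
      rintro _ ⟨x, hx, rfl⟩
      have := hE x hx
      rw [← map_mul, this, map_one])
    rwa [Cfsg.Agent.Lib.GoldschmidtFusion.card_map_conj] at h3

end

/-- **The end of the O'Nan branch** -/
theorem OnLoc.main {G : Type u} [Group G] [Finite G] [IsSimpleGroup G] {T : Sylow 2 G} {F A : Subgroup G}
    (h : OnLoc T F A) : (∃ H : Subgroup G, Cfsg.IsStronglyEmbedded H) ∨ Cfsg.Spor.IsoON G :=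
  Cz.frame_of h.frame

end Cfsg.Agent.ONType.Loc
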