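import Cfsg.Agent.ONType.CzFinal
import Cfsg.Agent.TwoFusion.ClosedCommutator
import Cfsg.Agent.S1169
import Cfsg.Agent.S1296
import Cfsg.Agent.S0205
import Cfsg.Agent.S1221
import Cfsg.Agent.S1661

/-!
# The O'Nan branch of S1730: the cited statements plugged in
-/

set_option autoImplicit false

namespace Cfsg.Agent.ONType.Cz

open Cfsg.Agent.TypeL3

universe u

theorem h1169 : H1169.{u} := fun _ _ _ _ S A hA hc hs => Cfsg.Agent.S1169.result S A hA hc hs

theorem h1171 : H1171.{u} := fun _ _ _ P A B h hA hB =>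
  Cfsg.Agent.TwoFusion.ClosedCommutator.commutator_le P A B h hA hB

theorem h1296 : H1296.{u} := fun _ _ _ h1 h2 h3 => Cfsg.Agent.S1296.result h1 h2 h3

theorem h0205 : H0205.{u} := fun _ _ _ h => Cfsg.Agent.S0205.result h

theorem h1221 : H1221.{u} := fun _ _ _ H hH => Cfsg.Agent.S1221.result H hH

theorem h1661 : H1661.{u} := fun _ _ _ _ t ht M _ hM hout hZc hZ4 hperf F _ _ hF e =>
  Cfsg.Agent.S1661.result t ht M hM hout hZc hZ4 hperf F hF e

/-- **The O'Nan branch**: `Frame` gives a strongly embedded subgroup or O'N -/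
theorem frame_of {G : Type u} [Group G] [Finite G] [IsSimpleGroup G] {n : ℕ} {S : Sylow 2 G}
    {T : Subgroup G} (F : Sit.Frame n S T) : (∃ H : Subgroup G, Cfsg.IsStronglyEmbedded H) ∨ Cfsg.Spor.IsoON G :=
  frame h1169 h1171 h1296 h0205 h1221 h1661 F

end Cfsg.Agent.ONType.Cz
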