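import Cfsg.Agent.ONType.OuterM

/-!
The outer element `τ` of a group `C₀` with a normal subgroup `M` of index two which is a perfect
central extension of `PSL(3,4)`.
-/

set_option autoImplicit false
set_option linter.constructorNameAsVariable false

namespace Cfsg.Agent.ONType.OuterC

open Cfsg.Agent.SporadicA.FieldFour
open Cfsg.Agent.ONType.Psl
open Cfsg.Agent.ONType.Lift
open Cfsg.Agent.ONType.OuterL
open Cfsg.Agent.ONType.OuterM
open Cfsg.Agent.ClassicalGeometry.AutPSL.Root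
open scoped commutatorElement

/-- The root elements generate `PSL(3,4)`. -/
theorem closure_t :
    Subgroup.closure {y : PSL3 | ∃ (i j : Fin 3) (u : F4), i ≠ j ∧ y = t i j u} = ⊤ := by
  rw [eq_top_iff]
  intro y _
  obtain ⟨x, rfl⟩ := pr_surjective y
  refine Cfsg.Agent.LieClassical.SLGen.transvection_induction
    (fun x => (pr x : PSL3) ∈
      Subgroup.closure {y : PSL3 | ∃ (i j : Fin 3) (u : F4), i ≠ j ∧ y = t i j u})
    (fun i j hij c => ?_) (fun A B hA hB => ?_) x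
  · exact Subgroup.subset_closure ⟨i, j, c, hij, t_eq i j hij c⟩
  · rw [map_mul]; exact mul_mem hA hB

variable {M : Type*} [Group M] {π : M →* PSL3}

/-- In a perfect central extension the canonical lifts generate. -/
theorem closure_x (C : CExt π) (hperf : commutator M = ⊤) :
    Subgroup.closure {y : M | ∃ (i j : Fin 3) (u : F4), i ≠ j ∧ y = C.x i j u} = ⊤ := by
  set K := Subgroup.closure {y : M | ∃ (i j : Fin 3) (u : F4), i ≠ j ∧ y = C.x i j u} with hK
  have hmap : K.map π = ⊤ := by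
    rw [eq_top_iff, ← closure_t, Subgroup.closure_le]
    rintro y ⟨i, j, u, hij, rfl⟩
    exact ⟨C.x i j u, Subgroup.subset_closure ⟨i, j, u, hij, rfl⟩, C.map_x i j hij u⟩
  have hdec : ∀ m : M, ∃ k ∈ K, ∃ c : M, π c = 1 ∧ m = k * c := by
    intro m
    have : π m ∈ K.map π := by rw [hmap]; trivial
    obtain ⟨k, hk, hkm⟩ := this
    obtain ⟨c, hc, hc'⟩ := CExt.eq_mul_of_map_eq hkm
    exact ⟨k, hk, c, hc, hc'⟩
  rw [eq_top_iff, ← hperf, commutator_def, Subgroup.commutator_le]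
  intro a _ b _
  obtain ⟨k, hk, c, hc, rfl⟩ := hdec a
  obtain ⟨l, hl, d, hd, rfl⟩ := hdec b
  have cc := C.cen c hc
  have cd := C.cen d hd
  have hcomm : ⁅k * c, l * d⁆ = ⁅k, l⁆ := by
    have e1 : ∀ x y z : M, π z = 1 → ⁅x * z, y⁆ = ⁅x, y⁆ := by
      intro x y z hz
      have h1 := C.cen z hz
      have h2 : z * y * z⁻¹ = y := by rw [h1 y, mul_inv_cancel_right]
      calc ⁅x * z, y⁆ = x * (z * y * z⁻¹) * x⁻¹ * y⁻¹ := by rw [commutatorElement_def]; group
        _ = ⁅x, y⁆ := by rw [h2, commutatorElement_def]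
    rw [e1 k (l * d) c hc, ← commutatorElement_inv, e1 l k d hd, commutatorElement_inv]
  rw [hcomm, commutatorElement_def]
  exact K.mul_mem (K.mul_mem (K.mul_mem hk hl) (K.inv_mem hk)) (K.inv_mem hl)

/-- Endomorphisms agreeing on the canonical lifts are equal. -/
theorem hom_ext (C : CExt π) (hperf : commutator M = ⊤) {N : Type*} [Group N] {f g : M →* N}
    (h : ∀ i j : Fin 3, i ≠ j → ∀ u : F4, f (C.x i j u) = g (C.x i j u)) : f = g := by
  refine MonoidHom.eq_of_eqOn_dense (closure_x C hperf) ?_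
  rintro y ⟨i, j, u, hij, rfl⟩
  exact h i j hij u

/-- **The outer element.** -/
theorem exists_tau {C₀ : Type*} [Group C₀] (M : Subgroup C₀) [M.Normal] (hne : M ≠ ⊤)
    (hout : Subgroup.centralizer (M : Set C₀) ≤ M) {π : M →* PSL3} (C : CExt π)
    (hcen : ∀ k : M, (∀ m, k * m = m * k) → π k = 1) (hperf : commutator M = ⊤)
    (t' : M) (ht1 : t' ≠ 1) (htc : ∀ c : C₀, c * (t' : C₀) * c⁻¹ = t')
    (hrow : ∀ u v : F4, C.x 0 1 u * C.x 0 2 v = C.x 0 2 v * C.x 0 1 u * t' ^ trn (u * v))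
    (hcol : ∀ u v : F4, C.x 1 2 u * C.x 0 2 v = C.x 0 2 v * C.x 1 2 u * t' ^ trn (u * v)) :
    ∃ (τ : C₀) (σ : F4 → F4), τ ∉ M ∧ ((∀ u, σ u = u) ∨ (∀ u, σ u = u * u)) ∧
      (τ⁻¹ * (C.h : C₀) * τ = C.h ∨ τ⁻¹ * (C.h : C₀) * τ = ((C.h)⁻¹ : M)) ∧
      (((∀ u, σ u = u * u) ∧
          ∀ i j : Fin 3, i ≠ j → ∀ u : F4, τ⁻¹ * (C.x i j u : C₀) * τ = C.x i j (σ u)) ∨
       (∀ i j : Fin 3, i ≠ j → ∀ u : F4,
          τ⁻¹ * (C.x i j u : C₀) * τ = C.x (rv j) (rv i) (σ u))) ∧
      (∃ c : M, (c : C₀) = τ * τ ∧ π c = 1) := by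
  obtain ⟨g, hg⟩ : ∃ g : C₀, g ∉ M := by
    by_contra hcon
    push Not at hcon
    exact hne (eq_top_iff.2 fun x _ => hcon x)
  obtain ⟨m, σ, hσ, hh', hx⟩ := exists_outer C hcen t' ht1 hrow hcol (MulAut.conjNormal g)
    (fun m => by
      apply Subtype.ext
      rw [MulAut.mul_apply, MulAut.conj_apply]
      show (m : C₀) * (MulAut.conjNormal g t' : M) * (m : C₀)⁻¹ = t'
      rw [MulAut.conjNormal_apply, htc, htc])
  set τ' : C₀ := m * g with hτ'
  have hτ'M : τ' ∉ M := fun h => hg ((Subgroup.mul_mem_cancel_left M m.2).1 h)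
  have hact : ∀ y : M, (((MulAut.conj m * MulAut.conjNormal g : MulAut M) y : M) : C₀)
      = τ' * (y : C₀) * τ'⁻¹ := by
    intro y
    rw [MulAut.mul_apply, MulAut.conj_apply]
    show (m : C₀) * (MulAut.conjNormal g y : M) * (m : C₀)⁻¹ = _
    rw [MulAut.conjNormal_apply, hτ']
    group
  have hσσ : ∀ u, σ (σ u) = u := by
    intro u
    rcases hσ with h | h
    · rw [h, h]
    · rw [h, h]; cases u <;> rfl
  -- `τ'` acts on the canonical lifts
  have hx' : (∀ i j : Fin 3, i ≠ j → ∀ u : F4, τ' * (C.x i j u : C₀) * τ'⁻¹ = C.x i j (σ u)) ∨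
       (∀ i j : Fin 3, i ≠ j → ∀ u : F4,
          τ' * (C.x i j u : C₀) * τ'⁻¹ = C.x (rv j) (rv i) (σ u)) := by
    rcases hx with h | h
    · left; intro i j hij u; rw [← hact, h i j hij u]
    · right; intro i j hij u; rw [← hact, h i j hij u]
  -- an element acting trivially on the canonical lifts centralises `M`
  have hcent : ∀ y : C₀, (∀ i j : Fin 3, i ≠ j → ∀ u : F4,
      y * (C.x i j u : C₀) * y⁻¹ = C.x i j u) → y ∈ Subgroup.centralizer (M : Set C₀) := by
    intro y hy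
    have h1 : (MulAut.conjNormal y : MulAut M).toMonoidHom = MonoidHom.id M := by
      apply hom_ext C hperf
      intro i j hij u
      apply Subtype.ext
      show ((MulAut.conjNormal y (C.x i j u) : M) : C₀) = _
      rw [MulAut.conjNormal_apply]
      exact hy i j hij u
    rw [Subgroup.mem_centralizer_iff]
    intro k hk
    have h2 := congrArg (fun f : M →* M => ((f ⟨k, hk⟩ : M) : C₀)) h1
    change ((MulAut.conjNormal y ⟨k, hk⟩ : M) : C₀) = k at h2
    rw [MulAut.conjNormal_apply] at h2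
    change y * k * y⁻¹ = k at h2
    rw [mul_inv_eq_iff_eq_mul] at h2
    exact h2.symm
  have hsq : τ' * τ' ∈ Subgroup.centralizer (M : Set C₀) := by
    apply hcent
    intro i j hij u
    have e : τ' * τ' * (C.x i j u : C₀) * (τ' * τ')⁻¹ = τ' * (τ' * (C.x i j u : C₀) * τ'⁻¹) * τ'⁻¹ := by
      group
    rw [e]
    rcases hx' with h | h
    · rw [h i j hij u, h i j hij, hσσ]
    · rw [h i j hij u, h _ _ (rv_ne hij.symm), hσσ, rv_rv, rv_rv]
  refine ⟨τ'⁻¹, σ, fun h => hτ'M ((Subgroup.inv_mem_iff M).1 h), hσ, ?_, ?_, ?_⟩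
  · rw [inv_inv]
    rcases hh' with h | h
    · left; rw [← hact, h]
    · right; rw [← hact, h]
  · rw [inv_inv]
    rcases hx' with h | h
    · rcases hσ with hs | hs
      · exfalso
        apply hτ'M
        apply hout
        apply hcent
        intro i j hij u
        rw [h i j hij u, hs]
      · exact Or.inl ⟨hs, h⟩
    · exact Or.inr h
  · have hM : τ' * τ' ∈ M := hout hsq
    have h1 : π ⟨τ' * τ', hM⟩ = 1 := by
      apply hcen
      intro m
      apply Subtype.ext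
      exact ((Subgroup.mem_centralizer_iff.1 hsq) m m.2).symm
    refine ⟨⟨τ' * τ', hM⟩⁻¹, ?_, by rw [map_inv, h1, inv_one]⟩
    rw [Subgroup.coe_inv]
    show (τ' * τ')⁻¹ = _
    rw [mul_inv_rev]

end Cfsg.Agent.ONType.OuterC
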