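import Cfsg.Agent.ONType.Norm
import Cfsg.Agent.ONType.OuterC

/-!
# The relations between the canonical lifts of a perfect central extension `4·L₃(4)`
-/

set_option autoImplicit false
set_option linter.constructorNameAsVariable false
set_option linter.unusedVariables false

namespace Cfsg.Agent.ONType.Data

open Cfsg.Agent.SporadicA.FieldFour
open Cfsg.Agent.ONType.Psl
open Cfsg.Agent.ONType.PslCard
open Cfsg.Agent.ONType.Lift
open Cfsg.Agent.ONType.Comm
open Cfsg.Agent.ONType.OuterM (trn)

/-- type I -/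
def gI : F4 → ℕ
  | .z => 0
  | .o => 0
  | .w => 1
  | .v => 3

/-- type II -/
def gII : F4 → ℕ
  | .z => 0
  | .o => 2
  | .w => 1
  | .v => 1

/-- The relations satisfied by the canonical lifts `x i j u`, a generator `z` of the centre and
the torus element `h`, in a group `G`. -/
structure MRel {G : Type*} [Group G] (x : Fin 3 → Fin 3 → F4 → G) (z h : G) (g : F4 → ℕ) :
    Prop where
  z4 : z ^ 4 = 1
  zc : ∀ i j u, i ≠ j → x i j u * z = z * x i j u
  zh : h * z = z * h
  add : ∀ i j, i ≠ j → ∀ u v, x i j u * x i j v = x i j (u + v)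
  row : ∀ i j k, i ≠ j → i ≠ k → j ≠ k → ∀ u v,
    x i j u * x i k v = x i k v * x i j u * z ^ (2 * trn (u * v))
  col : ∀ i j k, i ≠ j → i ≠ k → j ≠ k → ∀ u v,
    x i j u * x k j v = x k j v * x i j u * z ^ (2 * trn (u * v))
  sum : ∀ i j k, i ≠ j → i ≠ k → j ≠ k → ∀ u v,
    x i k u * x k j v = x k j v * x i k u * (x i j (u * v) * z ^ (g (u * (v * v))))
  weyl : ∀ i j k l, i ≠ j → k ≠ l → ∀ u,
    (x i j 1 * x j i 1 * x i j 1)⁻¹ * x k l u * (x i j 1 * x j i 1 * x i j 1) =
      x (Equiv.swap i j k) (Equiv.swap i j l) u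
  torus : ∀ i j, i ≠ j →
    x i j (kap i j) * x j i (kap j i) * x i j (kap i j) * (x i j 1 * x j i 1 * x i j 1) = h
  tor : ∀ i j, i ≠ j → ∀ u, h⁻¹ * x i j u * h = x i j (kap i j * u)
  h3 : h ^ 3 = 1

theorem MRel.map {G H : Type*} [Group G] [Group H] {x : Fin 3 → Fin 3 → F4 → G} {z h : G}
    {g : F4 → ℕ} (R : MRel x z h g) (φ : G →* H) :
    MRel (fun i j u => φ (x i j u)) (φ z) (φ h) g where
  z4 := by rw [← map_pow, R.z4, map_one]
  zc i j u hij := by rw [← map_mul, R.zc i j u hij, map_mul]
  zh := by rw [← map_mul, R.zh, map_mul]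
  add i j hij u v := by rw [← map_mul, R.add i j hij]
  row i j k h1 h2 h3 u v := by
    have := congrArg φ (R.row i j k h1 h2 h3 u v)
    simpa only [map_mul, map_pow] using this
  col i j k h1 h2 h3 u v := by
    have := congrArg φ (R.col i j k h1 h2 h3 u v)
    simpa only [map_mul, map_pow] using this
  sum i j k h1 h2 h3 u v := by
    have := congrArg φ (R.sum i j k h1 h2 h3 u v)
    simpa only [map_mul, map_pow] using this
  weyl i j k l h1 h2 u := by
    have := congrArg φ (R.weyl i j k l h1 h2 u)
    simpa only [map_mul, map_inv] using this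
  torus i j h1 := by
    have := congrArg φ (R.torus i j h1)
    simpa only [map_mul] using this
  tor i j h1 u := by
    have := congrArg φ (R.tor i j h1 u)
    simpa only [map_mul, map_inv] using this
  h3 := by rw [← map_pow, R.h3, map_one]

section
variable {M : Type*} [Group M] {π : M →* PSL3}

/-- the relations from the values of `f` and `g` -/
theorem mrel_of (C : CExt π) (z : M) (g : F4 → ℕ) (hz : π z = 1)
    (hf : ∀ s, C.f s = z ^ (2 * trn s)) (hg : ∀ s, C.g s = z ^ (g s)) :
    MRel C.x z C.h g where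
  z4 := C.exp z hz
  zc i j u _ := (C.cen z hz _).symm
  zh := (C.cen z hz _).symm
  add i j hij u v := C.x_add i j hij u v
  row i j k h1 h2 h3 u v := by rw [C.rel_row i j k h1 h2 h3, hf]
  col i j k h1 h2 h3 u v := by
    rw [C.rel_col i j k h1 h2 h3, hf]
    have : ∀ u v : F4, trn (u * u * (v * v)) = trn (u * v) := by decide
    rw [this]
  sum i j k h1 h2 h3 u v := by rw [C.rel_sum i j k h1 h2 h3, hg]
  weyl i j k l h1 h2 u := C.n_conj_x i j k l h1 h2 u
  torus i j h1 := C.h_eq i j h1
  tor i j h1 u := C.h_conj_x i j h1 u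
  h3 := C.h_pow

/-- **Types I and II.** -/
theorem exists_type (C : CExt π) {z₀ : M} (hker : π.ker = Subgroup.zpowers z₀)
    (hz₀ : orderOf z₀ = 4) (h1 : C.f 1 = 1) (hω : C.f ω = z₀ * z₀) (hω2 : C.f ω2 = z₀ * z₀) :
    ∃ z : M, orderOf z = 4 ∧ π.ker = Subgroup.zpowers z ∧
      (MRel C.x z C.h gI ∨ MRel C.x z C.h gII) := by
  have hz₀1 : π z₀ = 1 := by
    have : z₀ ∈ π.ker := by rw [hker]; exact Subgroup.mem_zpowers z₀
    exact this
  have hz4 : z₀ ^ 4 = 1 := by rw [← hz₀]; exact pow_orderOf_eq_one z₀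
  have hz2 : z₀ * z₀ ≠ 1 := by
    intro h
    have : orderOf z₀ ∣ 2 := orderOf_dvd_of_pow_eq_one (by rw [pow_two, h])
    rw [hz₀] at this
    exact absurd this (by decide)
  set z := C.g ω with hz
  have hzk : π z = 1 := C.g_map ω
  have e2 : ω * ω = ω2 := by decide
  have hzz : z * z = z₀ * z₀ := by rw [hz, C.g_sq, e2, hω2]
  have hz4' : z ^ 4 = 1 := C.exp z hzk
  have horder : orderOf z = 4 := by
    have h1 : orderOf z ∣ 2 ^ 2 := orderOf_dvd_of_pow_eq_one (by simpa using hz4')
    have h2 : ¬ orderOf z ∣ 2 := by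
      intro h
      apply hz2
      rw [← hzz, ← pow_two]
      exact orderOf_dvd_iff_pow_eq_one.mp h
    obtain ⟨k, hk, hk'⟩ := (Nat.dvd_prime_pow Nat.prime_two).mp h1
    interval_cases k
    · rw [hk'] at h2; exact absurd (by decide) h2
    · rw [hk'] at h2; exact absurd (by decide) h2
    · rw [hk']; norm_num
  have hkz : π.ker = Subgroup.zpowers z := by
    have hfin : Finite (Subgroup.zpowers z₀) := by
      apply Nat.finite_of_card_ne_zero
      rw [Nat.card_zpowers, hz₀]; decide
    have hle : Subgroup.zpowers z ≤ Subgroup.zpowers z₀ := by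
      rw [← hker, Subgroup.zpowers_le]; exact hzk
    rw [hker]
    symm
    apply Subgroup.eq_of_le_of_card_ge hle
    rw [Nat.card_zpowers, Nat.card_zpowers, horder, hz₀]
  refine ⟨z, horder, hkz, ?_⟩
  have hf : ∀ s, C.f s = z ^ (2 * trn s) := by
    intro s
    cases s
    · exact (C.f_zero).trans (by rw [show trn F4.z = 0 from by decide]; simp)
    · exact h1.trans (by rw [show trn F4.o = 0 from by decide]; simp)
    · exact hω.trans (by rw [show trn F4.w = 1 from by decide, ← hzz]; simp [pow_two])
    · exact hω2.trans (by rw [show trn F4.v = 1 from by decide, ← hzz]; simp [pow_two])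
  have hg1 : C.g 1 = 1 ∨ C.g 1 = z ^ 2 := by
    have hmem : C.g 1 ∈ Subgroup.zpowers z := by rw [← hkz]; exact C.g_map 1
    obtain ⟨n, hn⟩ := Subgroup.mem_zpowers_iff.mp hmem
    have h2 := C.g_sq 1
    rw [mul_one, h1, ← hn, ← zpow_add] at h2
    rw [← hn]
    have h3 : (4 : ℤ) ∣ n + n := by
      have := orderOf_dvd_iff_zpow_eq_one.mpr h2
      rwa [horder] at this
    have h4 : (2 : ℤ) ∣ n := by omega
    obtain ⟨k, hk⟩ := h4
    have hz4 : z ^ (4 : ℤ) = 1 := by exact_mod_cast hz4'
    rcases Int.even_or_odd k with ⟨m, hm⟩ | ⟨m, hm⟩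
    · left
      have : n = 4 * m := by omega
      rw [this, zpow_mul, hz4, one_zpow]
    · right
      have : n = 4 * m + 2 := by omega
      rw [this, zpow_add, zpow_mul, hz4, one_zpow, one_mul]
      exact_mod_cast rfl
  have hg2 : C.g ω2 = C.g 1 * z * z ^ 2 := by
    have e : ω2 = 1 + ω := by decide
    rw [e, C.g_add, one_mul, hω, ← hzz, pow_two]
  rcases hg1 with h | h
  · left
    apply mrel_of C z gI hzk hf
    intro s
    cases s
    · exact C.g_zero.trans (pow_zero z).symm
    · exact h.trans (pow_zero z).symm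
    · exact (pow_one z).symm
    · refine hg2.trans ?_
      rw [h, one_mul]
      show z * z ^ 2 = z ^ 3
      rw [← pow_succ']
  · right
    apply mrel_of C z gII hzk hf
    intro s
    cases s
    · exact C.g_zero.trans (pow_zero z).symm
    · exact h
    · exact (pow_one z).symm
    · refine hg2.trans ?_
      rw [h]
      show z ^ 2 * z * z ^ 2 = z ^ 1
      calc z ^ 2 * z * z ^ 2 = z ^ 4 * z := by group
        _ = z ^ 1 := by rw [hz4', one_mul, pow_one]

/-- **The two covers.** A finite perfect group with cyclic centre of order four and central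
quotient `PSL(3,4)`. -/
theorem exists_data {M : Type*} [Group M] [Finite M] (hZc : IsCyclic (Subgroup.center M))
    (hZ4 : Nat.card (Subgroup.center M) = 4) (hperf : commutator M = ⊤)
    (F : Type*) [Field F] [Fintype F] (hF : Fintype.card F = 4)
    (e : M ⧸ Subgroup.center M ≃* Matrix.ProjectiveSpecialLinearGroup (Fin 3) F) :
    ∃ (π : M →* PSL3) (C : CExt π) (z : M), π.ker = Subgroup.center M ∧
      Subgroup.center M = Subgroup.zpowers z ∧ orderOf z = 4 ∧
      (MRel C.x z C.h gI ∨ MRel C.x z C.h gII) := by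
  obtain ⟨e'⟩ := nonempty_psl_equiv (n := Fin 3) F hF
  set π : M →* PSL3 :=
    (e'.symm.toMonoidHom.comp e.toMonoidHom).comp (QuotientGroup.mk' (Subgroup.center M)) with hπ
  have hker : π.ker = Subgroup.center M := by
    ext k
    constructor
    · intro hk
      have h1 : e'.symm (e (QuotientGroup.mk' (Subgroup.center M) k)) = 1 := hk
      rw [map_eq_one_iff _ e'.symm.injective, map_eq_one_iff _ e.injective] at h1
      exact (QuotientGroup.eq_one_iff k).mp h1
    · intro hk
      have h1 : (QuotientGroup.mk' (Subgroup.center M) k) = 1 := (QuotientGroup.eq_one_iff k).mpr hk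
      show e'.symm (e (QuotientGroup.mk' (Subgroup.center M) k)) = 1
      rw [h1, map_one, map_one]
  have C : CExt π :=
    { surj := by
        have h1 : Function.Surjective (QuotientGroup.mk' (Subgroup.center M)) :=
          QuotientGroup.mk'_surjective _
        exact (e'.symm.surjective.comp e.surjective).comp h1
      cen := by
        intro k hk m
        have : k ∈ Subgroup.center M := by rw [← hker]; exact hk
        exact (Subgroup.mem_center_iff.mp this m).symm
      exp := by
        intro k hk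
        have : k ∈ Subgroup.center M := by rw [← hker]; exact hk
        have h4 := pow_card_eq_one' (G := Subgroup.center M) (x := ⟨k, this⟩)
        rw [hZ4] at h4
        exact congrArg Subtype.val h4 }
  obtain ⟨z₀, hz₀⟩ := hZc.exists_generator
  have hcz : Subgroup.center M = Subgroup.zpowers (z₀ : M) := by
    ext k
    constructor
    · intro hk
      obtain ⟨n, hn⟩ := Subgroup.mem_zpowers_iff.mp (hz₀ ⟨k, hk⟩)
      exact Subgroup.mem_zpowers_iff.mpr ⟨n, congrArg Subtype.val hn⟩
    · intro hk
      have : Subgroup.zpowers (z₀ : M) ≤ Subgroup.center M := by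
        rw [Subgroup.zpowers_le]; exact z₀.2
      exact this hk
  have ho : orderOf (z₀ : M) = 4 := by
    rw [← Nat.card_zpowers, ← hcz, hZ4]
  obtain ⟨π', C', hk', h1, h2, h3⟩ :=
    Norm.exists_normalized C hperf (hker.trans hcz) ho
  obtain ⟨z, hz, hkz, hR⟩ := exists_type C' (hk'.trans (hker.trans hcz)) ho h1 h2 h3
  exact ⟨π', C', z, hk'.trans hker, (hk'.trans hker).symm.trans hkz, hz, hR⟩

end

end Cfsg.Agent.ONType.Data
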