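import Cfsg.Agent.ONType.OuterZ

/-!
# A verified evaluator of words in Bruhat form

Everything here holds in an arbitrary group containing elements `x i j u`, `z`, `h`, `τ` with the
relations `MRel` and `τ` acting as `σγ`.
-/

set_option autoImplicit false
set_option linter.constructorNameAsVariable false
set_option linter.unusedVariables false

namespace Cfsg.Agent.ONType.Eval

open Cfsg.Agent.SporadicA.FieldFour
open Cfsg.Agent.ONType.Psl
open Cfsg.Agent.ONType.Lift
open Cfsg.Agent.ONType.Data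
open Cfsg.Agent.ONType.OuterL (rv rv_ne)
open Cfsg.Agent.ONType.OuterM (trn)
open Cfsg.Agent.ONType.OuterZ

variable {G : Type*} [Group G]

/-- the relations of the split extension by `σγ` -/
structure Ext (x : Fin 3 → Fin 3 → F4 → G) (z h τ : G) (g : F4 → ℕ) : Prop where
  R : MRel x z h g
  sg : IsSG x τ
  zt : τ⁻¹ * z * τ = z⁻¹
  tt : τ * τ = 1

/-! ## Consequences of `MRel` -/

section Basic

variable {x : Fin 3 → Fin 3 → F4 → G} {z h : G} {g : F4 → ℕ}

/-- Weyl element -/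
def nn (x : Fin 3 → Fin 3 → F4 → G) (i j : Fin 3) : G := x i j 1 * x j i 1 * x i j 1

theorem nn_sq (R : MRel x z h g) (i j : Fin 3) (hij : i ≠ j) : nn x i j * nn x i j = 1 := by
  have h1 := mrel_sq R i j hij 1
  have h2 := mrel_sq R j i hij.symm 1
  unfold nn
  calc x i j 1 * x j i 1 * x i j 1 * (x i j 1 * x j i 1 * x i j 1)
      = x i j 1 * x j i 1 * (x i j 1 * x i j 1) * x j i 1 * x i j 1 := by group
    _ = x i j 1 * (x j i 1 * x j i 1) * x i j 1 := by rw [h1]; group
    _ = 1 := by rw [h2, mul_one, h1]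

theorem nn_inv (R : MRel x z h g) (i j : Fin 3) (hij : i ≠ j) : (nn x i j)⁻¹ = nn x i j :=
  inv_eq_of_mul_eq_one_left (nn_sq R i j hij)

theorem nn_conj (R : MRel x z h g) (i j k l : Fin 3) (hij : i ≠ j) (hkl : k ≠ l) (u : F4) :
    nn x i j * x k l u = x (Equiv.swap i j k) (Equiv.swap i j l) u * nn x i j := by
  have h1 := R.weyl i j (Equiv.swap i j k) (Equiv.swap i j l) hij
    (fun e => hkl ((Equiv.swap i j).injective e)) u
  have h2 : Equiv.swap i j (Equiv.swap i j k) = k := Equiv.swap_apply_self _ _ _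
  have h3 : Equiv.swap i j (Equiv.swap i j l) = l := Equiv.swap_apply_self _ _ _
  rw [h2, h3] at h1
  change (nn x i j)⁻¹ * _ * nn x i j = _ at h1
  rw [← h1, nn_inv R i j hij]
  have h4 := nn_sq R i j hij
  rw [← mul_assoc, ← mul_assoc, h4, one_mul]

theorem nn_symm (R : MRel x z h g) (i j : Fin 3) (hij : i ≠ j) : nn x j i = nn x i j := by
  have h1 := nn_conj R i j i j hij hij 1
  have h2 := nn_conj R i j j i hij hij.symm 1
  rw [Equiv.swap_apply_left, Equiv.swap_apply_right] at h1 h2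
  have h4 := nn_sq R i j hij
  -- `n = n (x_ij x_ji x_ij) n⁻¹`
  calc nn x j i = x j i 1 * x i j 1 * x j i 1 * (nn x i j * nn x i j) := by
        rw [h4, mul_one]; rfl
    _ = x j i 1 * x i j 1 * (x j i 1 * nn x i j) * nn x i j := by group
    _ = x j i 1 * (x i j 1 * nn x i j) * x i j 1 * nn x i j := by rw [← h1]; group
    _ = (x j i 1 * nn x i j) * x j i 1 * x i j 1 * nn x i j := by rw [← h2]; group
    _ = nn x i j * (x i j 1 * x j i 1 * x i j 1) * nn x i j := by rw [← h1]; group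
    _ = nn x i j * nn x i j * nn x i j := rfl
    _ = nn x i j := by rw [h4, one_mul]

theorem conj_nn (R : MRel x z h g) (i j k l : Fin 3) (hij : i ≠ j) (hkl : k ≠ l) :
    nn x i j * nn x k l = nn x (Equiv.swap i j k) (Equiv.swap i j l) * nn x i j := by
  have h1 := nn_conj R i j k l hij hkl 1
  have h2 := nn_conj R i j l k hij hkl.symm 1
  calc nn x i j * nn x k l = (nn x i j * x k l 1) * x l k 1 * x k l 1 := by
        unfold nn; simp only [mul_assoc]
    _ = x (Equiv.swap i j k) (Equiv.swap i j l) 1 * (nn x i j * x l k 1) * x k l 1 := by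
        rw [h1]; simp only [mul_assoc]
    _ = x (Equiv.swap i j k) (Equiv.swap i j l) 1 * x (Equiv.swap i j l) (Equiv.swap i j k) 1 *
        (nn x i j * x k l 1) := by
        rw [h2]; simp only [mul_assoc]
    _ = _ := by rw [h1]; unfold nn; simp only [mul_assoc]

theorem braid (R : MRel x z h g) :
    nn x 0 1 * nn x 1 2 * nn x 0 1 = nn x 1 2 * nn x 0 1 * nn x 1 2 := by
  have h1 := conj_nn R 0 1 1 2 (by decide) (by decide)
  have h2 := conj_nn R 1 2 0 1 (by decide) (by decide)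
  have e1 : Equiv.swap (0 : Fin 3) 1 1 = 0 := by decide
  have e2 : Equiv.swap (0 : Fin 3) 1 2 = 2 := by decide
  have e3 : Equiv.swap (1 : Fin 3) 2 0 = 0 := by decide
  have e4 : Equiv.swap (1 : Fin 3) 2 1 = 2 := by decide
  rw [e1, e2] at h1
  rw [e3, e4] at h2
  rw [h1, h2, mul_assoc, mul_assoc, nn_sq R 0 1 (by decide), nn_sq R 1 2 (by decide)]

theorem z_comm (R : MRel x z h g) (i j : Fin 3) (hij : i ≠ j) (u : F4) :
    Commute z (x i j u) := (R.zc i j u hij).symm

theorem z_comm_nn (R : MRel x z h g) (i j : Fin 3) (hij : i ≠ j) : Commute z (nn x i j) := by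
  unfold nn
  exact ((z_comm R i j hij 1).mul_right (z_comm R j i hij.symm 1)).mul_right (z_comm R i j hij 1)

theorem z_comm_h (R : MRel x z h g) : Commute z h := R.zh.symm

/-- `x (c) h = h x (κ c)` -/
theorem x_h (R : MRel x z h g) (i j : Fin 3) (hij : i ≠ j) (u : F4) :
    x i j u * h = h * x i j (kap i j * u) := by
  rw [← R.tor i j hij u]; group

theorem h_x (R : MRel x z h g) (i j : Fin 3) (hij : i ≠ j) (u : F4) :
    h * x i j u = x i j (kap j i * u) * h := by
  rw [x_h R i j hij]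
  congr 2
  have : ∀ i j : Fin 3, i ≠ j → ∀ u : F4, u = kap i j * (kap j i * u) := by decide
  exact this i j hij u

/-- `n h n = h⁻¹` -/
theorem nn_h (R : MRel x z h g) (i j : Fin 3) (hij : i ≠ j) :
    nn x i j * h * nn x i j = h⁻¹ := by
  have hn := nn_sq R i j hij
  have e1 := h_x R i j hij 1
  have e2 := h_x R j i hij.symm 1
  rw [mul_one] at e1 e2
  -- `h n h⁻¹ = x_ij(κ_ji) x_ji(κ_ij) x_ij(κ_ji)`
  have h1 : h * nn x i j * h⁻¹ = x i j (kap j i) * x j i (kap i j) * x i j (kap j i) := by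
    calc h * nn x i j * h⁻¹ = (h * x i j 1) * x j i 1 * x i j 1 * h⁻¹ := by
          unfold nn; simp only [mul_assoc]
      _ = x i j (kap j i) * (h * x j i 1) * x i j 1 * h⁻¹ := by rw [e1]; simp only [mul_assoc]
      _ = x i j (kap j i) * x j i (kap i j) * (h * x i j 1) * h⁻¹ := by
          rw [e2]; simp only [mul_assoc]
      _ = _ := by rw [e1]; group
  -- conjugate the torus relation by `n`
  have c1 := nn_conj R i j i j hij hij (kap i j)
  have c2 := nn_conj R i j j i hij hij.symm (kap j i)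
  have c3 := nn_conj R i j j i hij hij.symm (kap i j)
  have c4 := nn_conj R i j i j hij hij (kap j i)
  rw [Equiv.swap_apply_left, Equiv.swap_apply_right] at c1 c2 c3 c4
  have h2 : nn x i j * h = h * nn x i j * h⁻¹ := by
    -- `n h n = x_ji(κ_ij) x_ij(κ_ji) x_ji(κ_ij) n`
    have h3 : nn x i j * h * nn x i j = x j i (kap i j) * x i j (kap j i) * x j i (kap i j) *
        nn x i j := by
      rw [← R.torus i j hij]
      change nn x i j * (x i j (kap i j) * x j i (kap j i) * x i j (kap i j) * nn x i j) *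
        nn x i j = _
      calc nn x i j * (x i j (kap i j) * x j i (kap j i) * x i j (kap i j) * nn x i j) * nn x i j
          = (nn x i j * x i j (kap i j)) * x j i (kap j i) * x i j (kap i j) *
            (nn x i j * nn x i j) := by simp only [mul_assoc]
        _ = x j i (kap i j) * (nn x i j * x j i (kap j i)) * x i j (kap i j) := by
            rw [hn, c1]; simp only [mul_assoc, mul_one]
        _ = x j i (kap i j) * x i j (kap j i) * (nn x i j * x i j (kap i j)) := by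
            rw [c2]; simp only [mul_assoc]
        _ = _ := by rw [c1]; simp only [mul_assoc]
    -- `x_ji(κ_ij) x_ij(κ_ji) x_ji(κ_ij)` is the conjugate of the other form of `n`
    have e3 : h * nn x j i * h⁻¹ = x j i (kap i j) * x i j (kap j i) * x j i (kap i j) := by
      calc h * nn x j i * h⁻¹ = (h * x j i 1) * x i j 1 * x j i 1 * h⁻¹ := by
            unfold nn; simp only [mul_assoc]
        _ = x j i (kap i j) * (h * x i j 1) * x j i 1 * h⁻¹ := by rw [e2]; simp only [mul_assoc]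
        _ = x j i (kap i j) * x i j (kap j i) * (h * x j i 1) * h⁻¹ := by
            rw [e1]; simp only [mul_assoc]
        _ = _ := by rw [e2]; group
    rw [← e3, nn_symm R i j hij] at h3
    exact mul_right_cancel h3
  set n := nn x i j
  -- `A = n h n`, `A² = h`
  have hA : (n * h * n) * (n * h * n) = h := by
    have h4 : n * h⁻¹ * n = h⁻¹ * (n * h * n) := by
      rw [h2]; group
    have h5 : (n * h * n)⁻¹ = n * h⁻¹ * n := by
      rw [mul_inv_rev, mul_inv_rev, nn_inv R i j hij, mul_assoc]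
    have h6 : h * (n * h⁻¹ * n) = n * h * n := by rw [h4]; group
    rw [← h5] at h6
    calc (n * h * n) * (n * h * n) = (h * (n * h * n)⁻¹) * (n * h * n) := by rw [h6]
      _ = h := by group
  have hA3 : (n * h * n) ^ 3 = 1 := by
    calc (n * h * n) ^ 3 = n * h * (n * n) * h * (n * n) * h * n := by
          rw [pow_three]; simp only [mul_assoc]
      _ = n * h ^ 3 * n := by rw [hn, pow_three]; simp only [mul_assoc, mul_one]
      _ = 1 := by rw [R.h3, mul_one, hn]
  have h3 := R.h3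
  calc n * h * n = (n * h * n) ^ 3 * (n * h * n) := by rw [hA3, one_mul]
    _ = ((n * h * n) * (n * h * n)) * ((n * h * n) * (n * h * n)) := by
        rw [pow_three]; simp only [mul_assoc]
    _ = h * h := by rw [hA]
    _ = h ^ 3 * h⁻¹ := by rw [pow_three]; group
    _ = h⁻¹ := by rw [h3, one_mul]

theorem nn_mul_h (R : MRel x z h g) (i j : Fin 3) (hij : i ≠ j) :
    nn x i j * h = h⁻¹ * nn x i j := by
  rw [← nn_h R i j hij, mul_assoc, nn_sq R i j hij, mul_one]

end Basic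

/-! ## The unipotent part -/

/-- codes `x01(a) x12(b) x02(c) z^i` -/
structure U where
  a : F4
  b : F4
  c : F4
  i : ℕ

/-- positive roots -/
inductive Rt
  | a : Rt
  | b : Rt
  | c : Rt

namespace U

/-- multiply by `x01(v)` on the right -/
def m01 (g : F4 → ℕ) (u : U) (v : F4) : U :=
  ⟨u.a + v, u.b, u.c + v * u.b, u.i + 3 * g (v * (u.b * u.b)) + 2 * trn (u.c * v)⟩

/-- multiply by `x12(v)` on the right -/
def m12 (u : U) (v : F4) : U := ⟨u.a, u.b + v, u.c, u.i + 2 * trn (u.c * v)⟩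

/-- multiply by `x02(v)` on the right -/
def m02 (u : U) (v : F4) : U := ⟨u.a, u.b, u.c + v, u.i⟩

/-- multiply by a root element -/
def mr (g : F4 → ℕ) (u : U) : Rt → F4 → U
  | .a, v => u.m01 g v
  | .b, v => u.m12 v
  | .c, v => u.m02 v

/-- product -/
def mul (g : F4 → ℕ) (u v : U) : U :=
  let w := ((u.m01 g v.a).m12 v.b).m02 v.c
  ⟨w.a, w.b, w.c, (w.i + v.i) % 4⟩

/-- identity -/
def one : U := ⟨0, 0, 0, 0⟩

end U

section UEval

variable {x : Fin 3 → Fin 3 → F4 → G} {z h : G} {g : F4 → ℕ}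

/-- value of a root element -/
def evR (x : Fin 3 → Fin 3 → F4 → G) : Rt → F4 → G
  | .a, v => x 0 1 v
  | .b, v => x 1 2 v
  | .c, v => x 0 2 v

/-- value of a code -/
def evU (x : Fin 3 → Fin 3 → F4 → G) (z : G) (u : U) : G :=
  x 0 1 u.a * x 1 2 u.b * x 0 2 u.c * z ^ u.i

theorem pow_mod (R : MRel x z h g) (i : ℕ) : z ^ (i % 4) = z ^ i := by
  conv_rhs => rw [← Nat.div_add_mod i 4, pow_add, pow_mul, R.z4, one_pow, one_mul]

theorem ev_m02 (R : MRel x z h g) (u : U) (v : F4) :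
    evU x z (u.m02 v) = evU x z u * x 0 2 v := by
  unfold evU U.m02
  have h1 := ((z_comm R 0 2 (by decide) v).pow_left u.i).eq
  calc x 0 1 u.a * x 1 2 u.b * x 0 2 (u.c + v) * z ^ u.i
      = x 0 1 u.a * x 1 2 u.b * (x 0 2 u.c * x 0 2 v) * z ^ u.i := by rw [R.add 0 2 (by decide)]
    _ = x 0 1 u.a * x 1 2 u.b * x 0 2 u.c * (x 0 2 v * z ^ u.i) := by simp only [mul_assoc]
    _ = _ := by rw [← h1]; simp only [mul_assoc]

theorem ev_m12 (R : MRel x z h g) (u : U) (v : F4) :
    evU x z (u.m12 v) = evU x z u * x 1 2 v := by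
  unfold evU U.m12
  have h1 := ((z_comm R 1 2 (by decide) v).pow_left u.i).eq
  have h2 := R.col 0 2 1 (by decide) (by decide) (by decide) u.c v
  show x 0 1 u.a * x 1 2 (u.b + v) * x 0 2 u.c * z ^ (u.i + 2 * trn (u.c * v)) = _
  calc x 0 1 u.a * x 1 2 (u.b + v) * x 0 2 u.c * z ^ (u.i + 2 * trn (u.c * v))
      = x 0 1 u.a * (x 1 2 u.b * x 1 2 v) * x 0 2 u.c * (z ^ (2 * trn (u.c * v)) * z ^ u.i) := by
        rw [R.add 1 2 (by decide), add_comm u.i, pow_add]
    _ = x 0 1 u.a * x 1 2 u.b * (x 1 2 v * x 0 2 u.c * z ^ (2 * trn (u.c * v))) * z ^ u.i := by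
        simp only [mul_assoc]
    _ = x 0 1 u.a * x 1 2 u.b * x 0 2 u.c * (x 1 2 v * z ^ u.i) := by
        rw [← h2]; simp only [mul_assoc]
    _ = _ := by rw [← h1]; simp only [mul_assoc]

theorem ev_m01 (R : MRel x z h g) (u : U) (v : F4) :
    evU x z (u.m01 g v) = evU x z u * x 0 1 v := by
  unfold evU U.m01
  have h1 := ((z_comm R 0 1 (by decide) v).pow_left u.i).eq
  have h2 := R.row 0 1 2 (by decide) (by decide) (by decide) v u.c
  have h3 := R.sum 0 2 1 (by decide) (by decide) (by decide) v u.b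
  have hz2 : ∀ n, z ^ (2 * n) * z ^ (2 * n) = 1 := by
    intro n
    rw [← pow_add, show 2 * n + 2 * n = 4 * n by ring, pow_mul, R.z4, one_pow]
  have hzg : ∀ n, z ^ (3 * n) * z ^ n = 1 := by
    intro n
    rw [← pow_add, show 3 * n + n = 4 * n by ring, pow_mul, R.z4, one_pow]
  -- `x02(c) x01(v) = x01(v) x02(c) z^{2tr}`
  have h4 : x 0 2 u.c * x 0 1 v = x 0 1 v * x 0 2 u.c * z ^ (2 * trn (u.c * v)) := by
    rw [h2, mul_comm v u.c, mul_assoc (x 0 2 u.c * x 0 1 v), hz2, mul_one]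
  -- `x12(b) x01(v) = x01(v) x12(b) x02(vb) z^{-g}`
  have h5 : x 1 2 u.b * x 0 1 v =
      x 0 1 v * x 1 2 u.b * x 0 2 (v * u.b) * z ^ (3 * g (v * (u.b * u.b))) := by
    have hc : z ^ g (v * (u.b * u.b)) * x 0 2 (v * u.b) = x 0 2 (v * u.b) * z ^ g (v * (u.b * u.b)) :=
      ((z_comm R 0 2 (by decide) (v * u.b)).pow_left _).eq
    rw [h3]
    have hs := mrel_sq R 0 2 (by decide) (v * u.b)
    calc x 1 2 u.b * x 0 1 v = x 1 2 u.b * x 0 1 v * (x 0 2 (v * u.b) * x 0 2 (v * u.b)) *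
          (z ^ (3 * g (v * (u.b * u.b))) * z ^ g (v * (u.b * u.b))) := by
            rw [hs, hzg, mul_one, mul_one]
      _ = x 1 2 u.b * x 0 1 v * (x 0 2 (v * u.b) * x 0 2 (v * u.b)) *
          (z ^ g (v * (u.b * u.b)) * z ^ (3 * g (v * (u.b * u.b)))) := by
            rw [← pow_add, ← pow_add, add_comm]
      _ = x 1 2 u.b * x 0 1 v * (x 0 2 (v * u.b) * (x 0 2 (v * u.b) * z ^ g (v * (u.b * u.b)))) *
            z ^ (3 * g (v * (u.b * u.b))) := by simp only [mul_assoc]
      _ = x 1 2 u.b * x 0 1 v * (x 0 2 (v * u.b) * (z ^ g (v * (u.b * u.b)) * x 0 2 (v * u.b))) *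
            z ^ (3 * g (v * (u.b * u.b))) := by rw [hc]
      _ = _ := by simp only [mul_assoc]
  have hcz : ∀ n m, z ^ n * x 0 2 m = x 0 2 m * z ^ n := fun n m =>
    ((z_comm R 0 2 (by decide) m).pow_left n).eq
  show x 0 1 (u.a + v) * x 1 2 u.b * x 0 2 (u.c + v * u.b) *
    z ^ (u.i + 3 * g (v * (u.b * u.b)) + 2 * trn (u.c * v)) = _
  symm
  calc x 0 1 u.a * x 1 2 u.b * x 0 2 u.c * z ^ u.i * x 0 1 v
      = x 0 1 u.a * x 1 2 u.b * (x 0 2 u.c * x 0 1 v) * z ^ u.i := by
        simp only [mul_assoc]; rw [h1]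
    _ = x 0 1 u.a * (x 1 2 u.b * x 0 1 v) * x 0 2 u.c * z ^ (2 * trn (u.c * v)) * z ^ u.i := by
        rw [h4]; simp only [mul_assoc]
    _ = x 0 1 u.a * x 0 1 v * x 1 2 u.b * x 0 2 (v * u.b) *
          (z ^ (3 * g (v * (u.b * u.b))) * x 0 2 u.c) * z ^ (2 * trn (u.c * v)) * z ^ u.i := by
        rw [h5]; simp only [mul_assoc]
    _ = x 0 1 u.a * x 0 1 v * x 1 2 u.b * (x 0 2 (v * u.b) * x 0 2 u.c) *
          (z ^ (3 * g (v * (u.b * u.b))) * (z ^ (2 * trn (u.c * v)) * z ^ u.i)) := by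
        rw [hcz]; simp only [mul_assoc]
    _ = _ := by
        rw [R.add 0 1 (by decide), R.add 0 2 (by decide), ← pow_add, ← pow_add]
        congr 2
        · rw [add_comm u.c]
        · ring

theorem ev_mr (R : MRel x z h g) (u : U) (r : Rt) (v : F4) :
    evU x z (u.mr g r v) = evU x z u * evR x r v := by
  cases r
  · exact ev_m01 R u v
  · exact ev_m12 R u v
  · exact ev_m02 R u v

theorem ev_mul (R : MRel x z h g) (u v : U) :
    evU x z (u.mul g v) = evU x z u * evU x z v := by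
  have h1 : evU x z (((u.m01 g v.a).m12 v.b).m02 v.c) =
      evU x z u * x 0 1 v.a * x 1 2 v.b * x 0 2 v.c := by
    rw [ev_m02 R, ev_m12 R, ev_m01 R]
  have h2 : evU x z (u.mul g v) = evU x z (((u.m01 g v.a).m12 v.b).m02 v.c) * z ^ v.i := by
    unfold evU U.mul
    show _ * z ^ (((((u.m01 g v.a).m12 v.b).m02 v.c).i + v.i) % 4) = _
    rw [pow_mod R, pow_add, ← mul_assoc]
  rw [h2, h1]
  unfold evU
  simp only [mul_assoc]

theorem ev_one (R : MRel x z h g) : evU x z U.one = 1 := by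
  show x 0 1 0 * x 1 2 0 * x 0 2 0 * z ^ 0 = 1
  rw [mrel_zero R 0 1 (by decide), mrel_zero R 1 2 (by decide), mrel_zero R 0 2 (by decide)]
  simp

end UEval

/-! ## The torus -/

/-- `h^k x_r(c) = x_r(tw r k c) h^k` -/
def tw (r : Rt) (k : ℕ) (c : F4) : F4 :=
  match r, k % 3 with
  | _, 0 => c
  | .c, 1 => ω * c
  | _, 1 => ω2 * c
  | .c, _ => ω2 * c
  | _, _ => ω * c

section TEval

variable {x : Fin 3 → Fin 3 → F4 → G} {z h : G} {g : F4 → ℕ}

theorem hpow_mod (R : MRel x z h g) (k : ℕ) : h ^ (k % 3) = h ^ k := by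
  conv_rhs => rw [← Nat.div_add_mod k 3, pow_add, pow_mul, R.h3, one_pow, one_mul]

theorem h_evR (R : MRel x z h g) (r : Rt) (c : F4) :
    h * evR x r c = evR x r (tw r 1 c) * h := by
  cases r
  · exact h_x R 0 1 (by decide) c
  · exact h_x R 1 2 (by decide) c
  · exact h_x R 0 2 (by decide) c

theorem tw_succ (r : Rt) (k : ℕ) (c : F4) : tw r (k + 1) c = tw r 1 (tw r k c) := by
  have h1 : ∀ r : Rt, ∀ m : Fin 3, ∀ c : F4, tw r (m.val + 1) c = tw r 1 (tw r m.val c) := by
    intro r; cases r <;> decide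
  have h2 : ∀ r k c, tw r k c = tw r (k % 3) c := by
    intro r k c; unfold tw; rw [Nat.mod_mod]
  have h3 : tw r (k + 1) c = tw r (k % 3 + 1) c := by
    unfold tw; rw [Nat.mod_add_mod]
  have := h1 r ⟨k % 3, Nat.mod_lt _ (by decide)⟩ c
  rw [h3, h2 r k c]
  exact this

theorem hpow_evR (R : MRel x z h g) (r : Rt) (k : ℕ) (c : F4) :
    h ^ k * evR x r c = evR x r (tw r k c) * h ^ k := by
  induction k with
  | zero =>
    have : tw r 0 c = c := by cases r <;> rfl
    rw [this]; simp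
  | succ k ih =>
    rw [pow_succ' h, mul_assoc, ih, ← mul_assoc, h_evR R, mul_assoc, ← tw_succ r k c]

theorem nn_hpow (R : MRel x z h g) (i j : Fin 3) (hij : i ≠ j) (k : ℕ) :
    nn x i j * h ^ k = h ^ (2 * k) * nn x i j := by
  have h1 : h⁻¹ = h ^ 2 := by
    rw [inv_eq_iff_mul_eq_one, ← pow_succ']; exact R.h3
  induction k with
  | zero => simp
  | succ k ih =>
    rw [pow_succ, ← mul_assoc, ih, mul_assoc, nn_mul_h R i j hij, h1, ← mul_assoc, ← pow_add]
    congr 1

end TEval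

/-! ## The Weyl group -/

/-- Weyl group -/
inductive W
  | e | s1 | s2 | s12 | s21 | s121

namespace W

/-- right multiplication by `s1` -/
def r1 : W → W
  | e => s1
  | s1 => e
  | s2 => s21
  | s12 => s121
  | s21 => s2
  | s121 => s12

/-- right multiplication by `s2` -/
def r2 : W → W
  | e => s2
  | s1 => s12
  | s2 => e
  | s12 => s1
  | s21 => s121
  | s121 => s21

/-- image of the first simple root, if positive -/
def root1 : W → Option Rt
  | e => some .a
  | s2 => some .c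
  | s12 => some .b
  | _ => none

/-- image of the second simple root, if positive -/
def root2 : W → Option Rt
  | e => some .b
  | s1 => some .c
  | s21 => some .a
  | _ => none

/-- `n_w h = h^(sg w) n_w` -/
def sg : W → ℕ
  | e => 1
  | s12 => 1
  | s21 => 1
  | _ => 2

/-- conjugation by `τ` -/
def tau : W → W
  | e => e
  | s1 => s2
  | s2 => s1
  | s12 => s21
  | s21 => s12
  | s121 => s121

end W

/-- value of a Weyl element -/
def evW (x : Fin 3 → Fin 3 → F4 → G) : W → G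
  | .e => 1
  | .s1 => nn x 0 1
  | .s2 => nn x 1 2
  | .s12 => nn x 0 1 * nn x 1 2
  | .s21 => nn x 1 2 * nn x 0 1
  | .s121 => nn x 0 1 * nn x 1 2 * nn x 0 1

section WEval

variable {x : Fin 3 → Fin 3 → F4 → G} {z h : G} {g : F4 → ℕ}

theorem evW_r1 (R : MRel x z h g) (w : W) : evW x w * nn x 0 1 = evW x w.r1 := by
  have h1 := nn_sq R 0 1 (by decide)
  cases w <;> simp only [evW, W.r1, one_mul, mul_assoc, h1, mul_one]

theorem evW_r2 (R : MRel x z h g) (w : W) : evW x w * nn x 1 2 = evW x w.r2 := by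
  have h1 := nn_sq R 1 2 (by decide)
  have hb := braid R
  cases w
  · simp only [evW, W.r2, one_mul]
  · rfl
  · simp only [evW, W.r2, h1]
  · simp only [evW, W.r2, mul_assoc, h1, mul_one]
  · show nn x 1 2 * nn x 0 1 * nn x 1 2 = nn x 0 1 * nn x 1 2 * nn x 0 1
    rw [hb]
  · show nn x 0 1 * nn x 1 2 * nn x 0 1 * nn x 1 2 = nn x 1 2 * nn x 0 1
    rw [hb, mul_assoc, h1, mul_one]

theorem evW_root1 (R : MRel x z h g) (w : W) (r : Rt) (hr : w.root1 = some r) (c : F4) :
    evW x w * x 0 1 c = evR x r c * evW x w := by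
  have e1 := nn_conj R 0 1 0 2 (by decide) (by decide) c
  have e2 := nn_conj R 1 2 0 1 (by decide) (by decide) c
  have s1 : Equiv.swap (0 : Fin 3) 1 0 = 1 := by decide
  have s2 : Equiv.swap (0 : Fin 3) 1 2 = 2 := by decide
  have s3 : Equiv.swap (1 : Fin 3) 2 0 = 0 := by decide
  have s4 : Equiv.swap (1 : Fin 3) 2 1 = 2 := by decide
  rw [s1, s2] at e1
  rw [s3, s4] at e2
  cases w <;> simp only [W.root1, Option.some.injEq, reduceCtorEq] at hr <;> subst hr
  · simp only [evW, evR, one_mul, mul_one]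
  · exact e2
  · show nn x 0 1 * nn x 1 2 * x 0 1 c = x 1 2 c * (nn x 0 1 * nn x 1 2)
    rw [mul_assoc, e2, ← mul_assoc, e1, mul_assoc]

theorem evW_root2 (R : MRel x z h g) (w : W) (r : Rt) (hr : w.root2 = some r) (c : F4) :
    evW x w * x 1 2 c = evR x r c * evW x w := by
  have e1 := nn_conj R 0 1 1 2 (by decide) (by decide) c
  have e2 := nn_conj R 1 2 0 2 (by decide) (by decide) c
  have s1 : Equiv.swap (0 : Fin 3) 1 1 = 0 := by decide
  have s2 : Equiv.swap (0 : Fin 3) 1 2 = 2 := by decide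
  have s3 : Equiv.swap (1 : Fin 3) 2 0 = 0 := by decide
  have s4 : Equiv.swap (1 : Fin 3) 2 2 = 1 := by decide
  rw [s1, s2] at e1
  rw [s3, s4] at e2
  cases w <;> simp only [W.root2, Option.some.injEq, reduceCtorEq] at hr <;> subst hr
  · simp only [evW, evR, one_mul, mul_one]
  · exact e1
  · show nn x 1 2 * nn x 0 1 * x 1 2 c = x 0 1 c * (nn x 1 2 * nn x 0 1)
    rw [mul_assoc, e1, ← mul_assoc, e2, mul_assoc]

theorem evW_h (R : MRel x z h g) (w : W) (k : ℕ) :
    evW x w * h ^ k = h ^ (w.sg * k) * evW x w := by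
  have e1 := nn_hpow R 0 1 (by decide)
  have e2 := nn_hpow R 1 2 (by decide)
  have h4 : h ^ (2 * (2 * k)) = h ^ k := by
    have : 2 * (2 * k) = 3 * k + k := by ring
    rw [this, pow_add, pow_mul, R.h3, one_pow, one_mul]
  cases w
  · simp [evW, W.sg]
  · exact e1 k
  · exact e2 k
  · show nn x 0 1 * nn x 1 2 * h ^ k = h ^ (1 * k) * (nn x 0 1 * nn x 1 2)
    rw [mul_assoc, e2, ← mul_assoc, e1, h4, one_mul, mul_assoc]
  · show nn x 1 2 * nn x 0 1 * h ^ k = h ^ (1 * k) * (nn x 1 2 * nn x 0 1)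
    rw [mul_assoc, e1, ← mul_assoc, e2, h4, one_mul, mul_assoc]
  · show nn x 0 1 * nn x 1 2 * nn x 0 1 * h ^ k =
      h ^ (2 * k) * (nn x 0 1 * nn x 1 2 * nn x 0 1)
    rw [mul_assoc, e1, ← mul_assoc, mul_assoc (nn x 0 1), e2, ← mul_assoc, e1]
    have : h ^ (2 * (2 * (2 * k))) = h ^ (2 * k) := by
      have : 2 * (2 * (2 * k)) = 3 * (2 * k) + 2 * k := by ring
      rw [this, pow_add, pow_mul, R.h3, one_pow, one_mul]
    rw [this]; simp only [mul_assoc]

end WEval

/-! ## Codes for the whole group -/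

/-- codes `τ^e u h^k n_w v` -/
structure Cd where
  e : ℕ
  u : U
  k : ℕ
  w : W
  v : U

/-- logarithm to the base `ω` -/
def lg : F4 → ℕ
  | .z => 0
  | .o => 0
  | .w => 1
  | .v => 2

/-- inverse -/
def iv : F4 → F4
  | .z => 0
  | .o => 1
  | .w => ω2
  | .v => ω

namespace Cd

/-- right multiplication by `n01` -/
def n1 (g : F4 → ℕ) (c : Cd) : Cd :=
  let v' : U := ⟨0, c.v.c, c.v.b, c.v.i + 2 * trn (c.v.b * c.v.c)⟩
  if c.v.a = 0 then ⟨c.e, c.u, c.k, c.w.r1, v'⟩ else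
  match c.w.root1 with
  | some r => ⟨c.e, c.u.mr g r (tw r c.k c.v.a), c.k, c.w.r1, v'⟩
  | none =>
    match c.w.r1.root1 with
    | some r => ⟨c.e, c.u.mr g r (tw r c.k (iv c.v.a)), (c.k + c.w.r1.sg * (2 * lg c.v.a)) % 3, c.w,
        ⟨iv c.v.a, v'.b, v'.c, v'.i⟩⟩
    | none => c

/-- right multiplication by `n12` -/
def n2 (g : F4 → ℕ) (c : Cd) : Cd :=
  let c1 := c.v.c + c.v.a * c.v.b
  let i1 := c.v.i + g (c.v.a * (c.v.b * c.v.b))
  let v' : U := ⟨c1, 0, c.v.a, i1 + 2 * trn (c.v.a * c1)⟩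
  if c.v.b = 0 then ⟨c.e, c.u, c.k, c.w.r2, v'⟩ else
  match c.w.root2 with
  | some r => ⟨c.e, c.u.mr g r (tw r c.k c.v.b), c.k, c.w.r2, v'⟩
  | none =>
    match c.w.r2.root2 with
    | some r => ⟨c.e, c.u.mr g r (tw r c.k (iv c.v.b)), (c.k + c.w.r2.sg * (2 * lg c.v.b)) % 3, c.w,
        U.mul g ⟨0, iv c.v.b, 0, 0⟩ v'⟩
    | none => c

/-- right multiplication by a unipotent element -/
def mu (g : F4 → ℕ) (c : Cd) (u : U) : Cd := ⟨c.e, c.u, c.k, c.w, c.v.mul g u⟩

end Cd

/-- value of a code -/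
def evC (x : Fin 3 → Fin 3 → F4 → G) (z h τ : G) (c : Cd) : G :=
  τ ^ c.e * (evU x z c.u * h ^ c.k * evW x c.w * evU x z c.v)

section CEval

variable {x : Fin 3 → Fin 3 → F4 → G} {z h τ : G} {g : F4 → ℕ}

theorem ev_mu (R : MRel x z h g) (c : Cd) (u : U) :
    evC x z h τ (c.mu g u) = evC x z h τ c * evU x z u := by
  unfold evC Cd.mu
  rw [ev_mul R]
  simp only [mul_assoc]

/-- `v n01 = x01(a) n01 v'` -/
theorem ev_pass1 (R : MRel x z h g) (v : U) :
    evU x z v * nn x 0 1 =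
      x 0 1 v.a * (nn x 0 1 * evU x z ⟨0, v.c, v.b, v.i + 2 * trn (v.b * v.c)⟩) := by
  have e1 := nn_conj R 0 1 1 2 (by decide) (by decide) v.b
  have e2 := nn_conj R 0 1 0 2 (by decide) (by decide) v.c
  have s1 : Equiv.swap (0 : Fin 3) 1 0 = 1 := by decide
  have s2 : Equiv.swap (0 : Fin 3) 1 1 = 0 := by decide
  have s3 : Equiv.swap (0 : Fin 3) 1 2 = 2 := by decide
  rw [s2, s3] at e1
  rw [s1, s3] at e2
  have hn := nn_sq R 0 1 (by decide)
  have hz := ((z_comm_nn R 0 1 (by decide)).pow_left v.i).eq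
  -- `x12(b) n = n x02(b)`
  have f1 : x 1 2 v.b * nn x 0 1 = nn x 0 1 * x 0 2 v.b := by
    have := nn_conj R 0 1 0 2 (by decide) (by decide) v.b
    rw [s1, s3] at this
    exact this.symm
  have f2 : x 0 2 v.c * nn x 0 1 = nn x 0 1 * x 1 2 v.c := by
    have := nn_conj R 0 1 1 2 (by decide) (by decide) v.c
    rw [s2, s3] at this
    exact this.symm
  have hcol := R.col 0 2 1 (by decide) (by decide) (by decide) v.b v.c
  unfold evU
  show x 0 1 v.a * x 1 2 v.b * x 0 2 v.c * z ^ v.i * nn x 0 1 =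
    x 0 1 v.a * (nn x 0 1 * (x 0 1 0 * x 1 2 v.c * x 0 2 v.b * z ^ (v.i + 2 * trn (v.b * v.c))))
  rw [mrel_zero R 0 1 (by decide), one_mul]
  calc x 0 1 v.a * x 1 2 v.b * x 0 2 v.c * z ^ v.i * nn x 0 1
      = x 0 1 v.a * x 1 2 v.b * x 0 2 v.c * (z ^ v.i * nn x 0 1) := by simp only [mul_assoc]
    _ = x 0 1 v.a * x 1 2 v.b * (x 0 2 v.c * nn x 0 1) * z ^ v.i := by
        rw [hz]; simp only [mul_assoc]
    _ = x 0 1 v.a * (x 1 2 v.b * nn x 0 1) * x 1 2 v.c * z ^ v.i := by
        rw [f2]; simp only [mul_assoc]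
    _ = x 0 1 v.a * (nn x 0 1 * (x 0 2 v.b * x 1 2 v.c)) * z ^ v.i := by
        rw [f1]; simp only [mul_assoc]
    _ = _ := by rw [hcol, add_comm v.i, pow_add]; simp only [mul_assoc]

/-- `v n12 = x12(b) n12 v'` -/
theorem ev_pass2 (R : MRel x z h g) (v : U) :
    evU x z v * nn x 1 2 =
      x 1 2 v.b * (nn x 1 2 * evU x z ⟨v.c + v.a * v.b, 0, v.a,
        v.i + g (v.a * (v.b * v.b)) + 2 * trn (v.a * (v.c + v.a * v.b))⟩) := by
  have s1 : Equiv.swap (1 : Fin 3) 2 0 = 0 := by decide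
  have s2 : Equiv.swap (1 : Fin 3) 2 1 = 2 := by decide
  have s3 : Equiv.swap (1 : Fin 3) 2 2 = 1 := by decide
  have f1 : ∀ b, x 0 1 b * nn x 1 2 = nn x 1 2 * x 0 2 b := by
    intro b
    have := nn_conj R 1 2 0 2 (by decide) (by decide) b
    rw [s1, s3] at this
    exact this.symm
  have f2 : ∀ c, x 0 2 c * nn x 1 2 = nn x 1 2 * x 0 1 c := by
    intro c
    have := nn_conj R 1 2 0 1 (by decide) (by decide) c
    rw [s1, s2] at this
    exact this.symm
  have hz : ∀ i, z ^ i * nn x 1 2 = nn x 1 2 * z ^ i := fun i =>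
    ((z_comm_nn R 1 2 (by decide)).pow_left i).eq
  have hzx : ∀ i c, z ^ i * x 0 2 c = x 0 2 c * z ^ i := fun i c =>
    ((z_comm R 0 2 (by decide) c).pow_left i).eq
  have hsum := R.sum 0 2 1 (by decide) (by decide) (by decide) v.a v.b
  have hrow := R.row 0 2 1 (by decide) (by decide) (by decide) v.a (v.c + v.a * v.b)
  unfold evU
  show x 0 1 v.a * x 1 2 v.b * x 0 2 v.c * z ^ v.i * nn x 1 2 =
    x 1 2 v.b * (nn x 1 2 * (x 0 1 (v.c + v.a * v.b) * x 1 2 0 * x 0 2 v.a *
      z ^ (v.i + g (v.a * (v.b * v.b)) + 2 * trn (v.a * (v.c + v.a * v.b)))))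
  rw [mrel_zero R 1 2 (by decide), mul_one]
  calc x 0 1 v.a * x 1 2 v.b * x 0 2 v.c * z ^ v.i * nn x 1 2
      = x 1 2 v.b * x 0 1 v.a * (x 0 2 (v.a * v.b) * (z ^ g (v.a * (v.b * v.b)) * x 0 2 v.c)) *
          (z ^ v.i * nn x 1 2) := by
        rw [hsum]; simp only [mul_assoc]
    _ = x 1 2 v.b * x 0 1 v.a * (x 0 2 (v.a * v.b) * x 0 2 v.c) *
          (z ^ g (v.a * (v.b * v.b)) * (z ^ v.i * nn x 1 2)) := by
        rw [hzx]; simp only [mul_assoc]
    _ = x 1 2 v.b * x 0 1 v.a * x 0 2 (v.c + v.a * v.b) *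
          (nn x 1 2 * z ^ (v.i + g (v.a * (v.b * v.b)))) := by
        rw [R.add 0 2 (by decide), ← mul_assoc (z ^ g _), ← pow_add, hz, add_comm (v.a * v.b),
          add_comm (g _)]
    _ = x 1 2 v.b * x 0 1 v.a * (x 0 2 (v.c + v.a * v.b) * nn x 1 2) *
          z ^ (v.i + g (v.a * (v.b * v.b))) := by simp only [mul_assoc]
    _ = x 1 2 v.b * (x 0 1 v.a * nn x 1 2) * x 0 1 (v.c + v.a * v.b) *
          z ^ (v.i + g (v.a * (v.b * v.b))) := by rw [f2]; simp only [mul_assoc]
    _ = x 1 2 v.b * nn x 1 2 * (x 0 2 v.a * x 0 1 (v.c + v.a * v.b)) *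
          z ^ (v.i + g (v.a * (v.b * v.b))) := by rw [f1]; simp only [mul_assoc]
    _ = _ := by
        rw [hrow, add_comm (v.i + g _), pow_add z (2 * trn (v.a * (v.c + v.a * v.b)))]
        simp only [mul_assoc]

/-- `n x(c) n = x(c⁻¹) h^(2 lg c) n x(c⁻¹)` for the two simple roots -/
theorem neg_simple (R : MRel x z h g) (i j : Fin 3) (hij : i ≠ j) (hk : kap i j = ω) (c : F4)
    (hc : c ≠ 0) :
    nn x i j * x i j c * nn x i j = x i j (iv c) * h ^ (2 * lg c) * nn x i j * x i j (iv c) := by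
  have hn := nn_sq R i j hij
  have hk' : kap j i = ω2 := by
    revert hk
    have : ∀ i j : Fin 3, i ≠ j → kap i j = ω → kap j i = ω2 := by decide
    exact this i j hij
  have hsq := mrel_sq R i j hij 1
  -- `n x(1) n = x(1) n x(1)`
  have h1 : nn x i j * x i j 1 * nn x i j = x i j 1 * nn x i j * x i j 1 := by
    have e1 := nn_conj R i j i j hij hij 1
    rw [Equiv.swap_apply_left, Equiv.swap_apply_right] at e1
    rw [e1, mul_assoc, hn, mul_one]
    unfold nn
    calc x j i 1 = (x i j 1 * x i j 1) * x j i 1 * (x i j 1 * x i j 1) := by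
          rw [hsq, one_mul, mul_one]
      _ = _ := by simp only [mul_assoc]
  -- conjugate by powers of `h`
  have key : ∀ k : ℕ, ∀ c : F4, h ^ k * x i j c = x i j (ω2 ^ k * c) * h ^ k := by
    intro k
    induction k with
    | zero => intro c; simp
    | succ k ih =>
      intro c
      rw [pow_succ' h, mul_assoc, ih, ← mul_assoc, h_x R i j hij, hk', mul_assoc, pow_succ' ω2,
        mul_assoc]
  have h2 : h ^ 3 = 1 := R.h3
  have hnk := nn_hpow R i j hij
  have hlg : ∀ c : F4, c ≠ 0 → ω2 ^ (lg c) = iv c ∧ ω2 ^ (2 * lg c) = c := by decide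
  obtain ⟨l1, l2⟩ := hlg c hc
  set k := lg c with hkdef
  -- `x(c) = h^{2k} x(1) h^{-2k}`, `h^{-2k} = h^{k}`
  have hinv : h ^ (2 * k) * h ^ k = 1 := by
    rw [← pow_add, show 2 * k + k = 3 * k by ring, pow_mul, h2, one_pow]
  have hinv' : h ^ k * h ^ (2 * k) = 1 := by
    rw [← pow_add, show k + 2 * k = 3 * k by ring, pow_mul, h2, one_pow]
  have hx : x i j c = h ^ (2 * k) * x i j 1 * h ^ k := by
    have := key (2 * k) 1
    rw [mul_one, l2] at this
    rw [this, mul_assoc, hinv, mul_one]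
  have hx' : x i j (iv c) = h ^ k * x i j 1 * h ^ (2 * k) := by
    have := key k 1
    rw [mul_one, l1] at this
    rw [this, mul_assoc, hinv', mul_one]
  have hn4 : h ^ (2 * (2 * k)) = h ^ k := by
    rw [show 2 * (2 * k) = 3 * k + k by ring, pow_add, pow_mul, h2, one_pow, one_mul]
  have a1 : nn x i j * h ^ (2 * k) = h ^ k * nn x i j := by rw [hnk, hn4]
  have a2 : h ^ k * nn x i j = nn x i j * h ^ (2 * k) := a1.symm
  have a3 : nn x i j * h ^ k = h ^ (2 * k) * nn x i j := hnk k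
  calc nn x i j * x i j c * nn x i j
      = (nn x i j * h ^ (2 * k)) * x i j 1 * (h ^ k * nn x i j) := by
        rw [hx]; simp only [mul_assoc]
    _ = (h ^ k * nn x i j) * x i j 1 * (nn x i j * h ^ (2 * k)) := by rw [a1]
    _ = h ^ k * (nn x i j * x i j 1 * nn x i j) * h ^ (2 * k) := by simp only [mul_assoc]
    _ = h ^ k * x i j 1 * nn x i j * x i j 1 * h ^ (2 * k) := by
        rw [h1]; simp only [mul_assoc]
    _ = (h ^ k * x i j 1 * h ^ (2 * k)) * (h ^ k * nn x i j) * x i j 1 * h ^ (2 * k) := by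
        have : h ^ (2 * k) * (h ^ k * nn x i j) = nn x i j := by
          rw [← mul_assoc, hinv, one_mul]
        calc _ = h ^ k * x i j 1 * (h ^ (2 * k) * (h ^ k * nn x i j)) * x i j 1 * h ^ (2 * k) := by
              rw [this]
          _ = _ := by simp only [mul_assoc]
    _ = x i j (iv c) * (h ^ k * nn x i j) * x i j 1 * h ^ (2 * k) := by rw [← hx']
    _ = x i j (iv c) * (nn x i j * h ^ (2 * k)) * x i j 1 * h ^ (2 * k) := by rw [a2]
    _ = x i j (iv c) * (nn x i j * h ^ k * (h ^ k * x i j 1 * h ^ (2 * k))) := by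
        rw [show 2 * k = k + k by ring, pow_add]; simp only [mul_assoc]
    _ = x i j (iv c) * (h ^ (2 * k) * nn x i j * x i j (iv c)) := by rw [← hx', a3]
    _ = _ := by simp only [mul_assoc]

theorem ev_n1 (R : MRel x z h g) (c : Cd) :
    evC x z h τ (c.n1 g) = evC x z h τ c * nn x 0 1 := by
  obtain ⟨e, u, k, w, v⟩ := c
  have hp := ev_pass1 R v
  set v' : U := ⟨0, v.c, v.b, v.i + 2 * trn (v.b * v.c)⟩ with hv'
  have hrhs : evC x z h τ ⟨e, u, k, w, v⟩ * nn x 0 1 =
      τ ^ e * (evU x z u * h ^ k * (evW x w * (x 0 1 v.a * (nn x 0 1 * evU x z v')))) := by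
    rw [← hp]; unfold evC; simp only [mul_assoc]
  rw [hrhs]
  have hroot : ∀ w : W, w.root1 = none → ∃ r, w.r1.root1 = some r := by
    intro w hw
    cases w <;> simp only [W.root1, reduceCtorEq] at hw <;> exact ⟨_, rfl⟩
  unfold Cd.n1
  by_cases h0 : v.a = 0
  · simp only [h0, if_true]
    rw [mrel_zero R 0 1 (by decide), one_mul, ← mul_assoc (evW x w), evW_r1 R]
    unfold evC
    simp only [mul_assoc, hv']
  · simp only [h0, if_false]
    rcases hw : w.root1 with _ | r
    · obtain ⟨r, hr⟩ := hroot w hw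
      simp only [hr]
      have hww : evW x w = evW x w.r1 * nn x 0 1 := by
        rw [← evW_r1 R, mul_assoc, nn_sq R 0 1 (by decide), mul_one]
      have h1 := neg_simple R 0 1 (by decide) (by decide) v.a h0
      have h2 := evW_root1 R w.r1 r hr (iv v.a)
      have h3 := evW_h R w.r1 (2 * lg v.a)
      have h4 := hpow_evR R r k (iv v.a)
      have h5 : evW x w * (x 0 1 v.a * (nn x 0 1 * evU x z v')) =
          evR x r (iv v.a) * (h ^ (w.r1.sg * (2 * lg v.a)) * (evW x w * (x 0 1 (iv v.a) *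
            evU x z v'))) := by
        calc evW x w * (x 0 1 v.a * (nn x 0 1 * evU x z v'))
            = evW x w.r1 * (nn x 0 1 * x 0 1 v.a * nn x 0 1) * evU x z v' := by
              rw [hww]; simp only [mul_assoc]
          _ = (evW x w.r1 * x 0 1 (iv v.a)) * h ^ (2 * lg v.a) * nn x 0 1 * x 0 1 (iv v.a) *
                evU x z v' := by rw [h1]; simp only [mul_assoc]
          _ = evR x r (iv v.a) * (evW x w.r1 * h ^ (2 * lg v.a)) * nn x 0 1 * x 0 1 (iv v.a) *
                evU x z v' := by rw [h2]; simp only [mul_assoc]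
          _ = evR x r (iv v.a) * (h ^ (w.r1.sg * (2 * lg v.a)) * ((evW x w.r1 * nn x 0 1) *
                (x 0 1 (iv v.a) * evU x z v'))) := by rw [h3]; simp only [mul_assoc]
          _ = _ := by rw [← hww]
      have h6 : evU x z ⟨iv v.a, v'.b, v'.c, v'.i⟩ = x 0 1 (iv v.a) * evU x z v' := by
        unfold evU
        show _ = x 0 1 (iv v.a) * (x 0 1 0 * _ * _ * _)
        rw [mrel_zero R 0 1 (by decide), one_mul]; simp only [mul_assoc]
      rw [h5]
      unfold evC
      show τ ^ e * (evU x z (u.mr g r (tw r k (iv v.a))) * h ^ ((k + w.r1.sg * (2 * lg v.a)) % 3) *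
        evW x w * evU x z ⟨iv v.a, v'.b, v'.c, v'.i⟩) = _
      rw [ev_mr R, hpow_mod R, pow_add, h6]
      calc τ ^ e * (evU x z u * evR x r (tw r k (iv v.a)) * (h ^ k * h ^ (w.r1.sg * (2 * lg v.a))) *
              evW x w * (x 0 1 (iv v.a) * evU x z v'))
          = τ ^ e * (evU x z u * (evR x r (tw r k (iv v.a)) * h ^ k) *
              (h ^ (w.r1.sg * (2 * lg v.a)) * (evW x w * (x 0 1 (iv v.a) * evU x z v')))) := by
            simp only [mul_assoc]
        _ = _ := by rw [← h4]; simp only [mul_assoc]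
    · skip
      have h2 := evW_root1 R w r hw v.a
      have h4 := hpow_evR R r k v.a
      unfold evC
      show τ ^ e * (evU x z (u.mr g r (tw r k v.a)) * h ^ k * evW x w.r1 * evU x z v') = _
      rw [ev_mr R, ← evW_r1 R]
      calc τ ^ e * (evU x z u * evR x r (tw r k v.a) * h ^ k * (evW x w * nn x 0 1) * evU x z v')
          = τ ^ e * (evU x z u * (evR x r (tw r k v.a) * h ^ k) * (evW x w * (nn x 0 1 *
              evU x z v'))) := by simp only [mul_assoc]
        _ = τ ^ e * (evU x z u * h ^ k * ((evR x r v.a * evW x w) * (nn x 0 1 *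
              evU x z v'))) := by rw [← h4]; simp only [mul_assoc]
        _ = _ := by rw [← h2]; simp only [mul_assoc]

theorem ev_n2 (R : MRel x z h g) (c : Cd) :
    evC x z h τ (c.n2 g) = evC x z h τ c * nn x 1 2 := by
  obtain ⟨e, u, k, w, v⟩ := c
  have hp := ev_pass2 R v
  set v' : U := ⟨v.c + v.a * v.b, 0, v.a,
        v.i + g (v.a * (v.b * v.b)) + 2 * trn (v.a * (v.c + v.a * v.b))⟩ with hv'
  have hrhs : evC x z h τ ⟨e, u, k, w, v⟩ * nn x 1 2 =
      τ ^ e * (evU x z u * h ^ k * (evW x w * (x 1 2 v.b * (nn x 1 2 * evU x z v')))) := by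
    rw [← hp]; unfold evC; simp only [mul_assoc]
  rw [hrhs]
  have hroot : ∀ w : W, w.root2 = none → ∃ r, w.r2.root2 = some r := by
    intro w hw
    cases w <;> simp only [W.root2, reduceCtorEq] at hw <;> exact ⟨_, rfl⟩
  unfold Cd.n2
  by_cases h0 : v.b = 0
  · simp only [h0, if_true]
    rw [mrel_zero R 1 2 (by decide), one_mul, ← mul_assoc (evW x w), evW_r2 R]
    unfold evC
    simp only [mul_assoc, hv', h0]
  · simp only [h0, if_false]
    rcases hw : w.root2 with _ | r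
    · obtain ⟨r, hr⟩ := hroot w hw
      simp only [hr]
      have hww : evW x w = evW x w.r2 * nn x 1 2 := by
        rw [← evW_r2 R, mul_assoc, nn_sq R 1 2 (by decide), mul_one]
      have h1 := neg_simple R 1 2 (by decide) (by decide) v.b h0
      have h2 := evW_root2 R w.r2 r hr (iv v.b)
      have h3 := evW_h R w.r2 (2 * lg v.b)
      have h4 := hpow_evR R r k (iv v.b)
      have h5 : evW x w * (x 1 2 v.b * (nn x 1 2 * evU x z v')) =
          evR x r (iv v.b) * (h ^ (w.r2.sg * (2 * lg v.b)) * (evW x w * (x 1 2 (iv v.b) *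
            evU x z v'))) := by
        calc evW x w * (x 1 2 v.b * (nn x 1 2 * evU x z v'))
            = evW x w.r2 * (nn x 1 2 * x 1 2 v.b * nn x 1 2) * evU x z v' := by
              rw [hww]; simp only [mul_assoc]
          _ = (evW x w.r2 * x 1 2 (iv v.b)) * h ^ (2 * lg v.b) * nn x 1 2 * x 1 2 (iv v.b) *
                evU x z v' := by rw [h1]; simp only [mul_assoc]
          _ = evR x r (iv v.b) * (evW x w.r2 * h ^ (2 * lg v.b)) * nn x 1 2 * x 1 2 (iv v.b) *
                evU x z v' := by rw [h2]; simp only [mul_assoc]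
          _ = evR x r (iv v.b) * (h ^ (w.r2.sg * (2 * lg v.b)) * ((evW x w.r2 * nn x 1 2) *
                (x 1 2 (iv v.b) * evU x z v'))) := by rw [h3]; simp only [mul_assoc]
          _ = _ := by rw [← hww]
      have h6 : evU x z (U.mul g ⟨0, iv v.b, 0, 0⟩ v') = x 1 2 (iv v.b) * evU x z v' := by
        rw [ev_mul R]
        congr 1
        show x 0 1 0 * x 1 2 (iv v.b) * x 0 2 0 * z ^ 0 = _
        rw [mrel_zero R 0 1 (by decide), mrel_zero R 0 2 (by decide)]; simp
      rw [h5]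
      unfold evC
      show τ ^ e * (evU x z (u.mr g r (tw r k (iv v.b))) * h ^ ((k + w.r2.sg * (2 * lg v.b)) % 3) *
        evW x w * evU x z (U.mul g ⟨0, iv v.b, 0, 0⟩ v')) = _
      rw [ev_mr R, hpow_mod R, pow_add, h6]
      calc τ ^ e * (evU x z u * evR x r (tw r k (iv v.b)) * (h ^ k * h ^ (w.r2.sg * (2 * lg v.b))) *
              evW x w * (x 1 2 (iv v.b) * evU x z v'))
          = τ ^ e * (evU x z u * (evR x r (tw r k (iv v.b)) * h ^ k) *
              (h ^ (w.r2.sg * (2 * lg v.b)) * (evW x w * (x 1 2 (iv v.b) * evU x z v')))) := by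
            simp only [mul_assoc]
        _ = _ := by rw [← h4]; simp only [mul_assoc]
    · skip
      have h2 := evW_root2 R w r hw v.b
      have h4 := hpow_evR R r k v.b
      unfold evC
      show τ ^ e * (evU x z (u.mr g r (tw r k v.b)) * h ^ k * evW x w.r2 * evU x z v') = _
      rw [ev_mr R, ← evW_r2 R]
      calc τ ^ e * (evU x z u * evR x r (tw r k v.b) * h ^ k * (evW x w * nn x 1 2) * evU x z v')
          = τ ^ e * (evU x z u * (evR x r (tw r k v.b) * h ^ k) * (evW x w * (nn x 1 2 *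
              evU x z v'))) := by simp only [mul_assoc]
        _ = τ ^ e * (evU x z u * h ^ k * ((evR x r v.b * evW x w) * (nn x 1 2 *
              evU x z v'))) := by rw [← h4]; simp only [mul_assoc]
        _ = _ := by rw [← h2]; simp only [mul_assoc]

end CEval

/-! ## Multiplication by `τ` -/

namespace U

/-- conjugation by `τ` -/
def tau (g : F4 → ℕ) (u : U) : U :=
  U.mul g ⟨0, u.a * u.a, 0, 0⟩ ⟨u.b * u.b, 0, u.c * u.c, 3 * u.i⟩

end U

namespace Cd

/-- right multiplication by `τ` -/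
def t (g : F4 → ℕ) (c : Cd) : Cd :=
  ⟨(c.e + 1) % 2, c.u.tau g, (2 * c.k) % 3, c.w.tau, c.v.tau g⟩

end Cd

section Tau

variable {x : Fin 3 → Fin 3 → F4 → G} {z h τ : G} {g : F4 → ℕ}

theorem tpow_mod (E : Ext x z h τ g) (e : ℕ) : τ ^ (e % 2) = τ ^ e := by
  have h2 : τ ^ 2 = 1 := by rw [pow_two, E.tt]
  conv_rhs => rw [← Nat.div_add_mod e 2, pow_add, pow_mul, h2, one_pow, one_mul]

theorem x_tau (E : Ext x z h τ g) (i j : Fin 3) (hij : i ≠ j) (u : F4) :
    x i j u * τ = τ * x (rv j) (rv i) (u * u) := by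
  rw [← E.sg i j hij u]; group

theorem nn_tau (E : Ext x z h τ g) (i j : Fin 3) (hij : i ≠ j) :
    nn x i j * τ = τ * nn x (rv j) (rv i) := by
  have h1 := x_tau E i j hij 1
  have h2 := x_tau E j i hij.symm 1
  have e1 : (1 : F4) * 1 = 1 := by decide
  rw [e1] at h1 h2
  calc nn x i j * τ = x i j 1 * x j i 1 * (x i j 1 * τ) := by unfold nn; simp only [mul_assoc]
    _ = x i j 1 * (x j i 1 * τ) * x (rv j) (rv i) 1 := by rw [h1]; simp only [mul_assoc]
    _ = (x i j 1 * τ) * x (rv i) (rv j) 1 * x (rv j) (rv i) 1 := by rw [h2]; simp only [mul_assoc]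
    _ = _ := by rw [h1]; unfold nn; simp only [mul_assoc]

theorem z_tau (E : Ext x z h τ g) (i : ℕ) : z ^ i * τ = τ * z ^ (3 * i) := by
  have h1 : τ⁻¹ * z ^ i * τ = (z⁻¹) ^ i := by
    have := (MulAut.conj τ⁻¹).toMonoidHom.map_pow z i
    have h2 : (MulAut.conj τ⁻¹).toMonoidHom z = z⁻¹ := by
      show τ⁻¹ * z * τ⁻¹⁻¹ = z⁻¹
      rw [inv_inv]; exact E.zt
    rw [h2] at this
    rw [← this]
    show _ = τ⁻¹ * z ^ i * τ⁻¹⁻¹
    rw [inv_inv]
  have h3 : z⁻¹ = z ^ 3 := by
    rw [inv_eq_iff_mul_eq_one, ← pow_succ']; exact E.R.z4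
  rw [h3, ← pow_mul] at h1
  rw [← h1]; group

theorem evU_tau (E : Ext x z h τ g) (u : U) : evU x z u * τ = τ * evU x z (u.tau g) := by
  have R := E.R
  have h1 := x_tau E 0 1 (by decide) u.a
  have h2 := x_tau E 1 2 (by decide) u.b
  have h3 := x_tau E 0 2 (by decide) u.c
  have e0 : rv 0 = 2 := by decide
  have e1 : rv 1 = 1 := by decide
  have e2 : rv 2 = 0 := by decide
  rw [e0, e1] at h1
  rw [e1, e2] at h2
  rw [e0, e2] at h3
  have h4 : evU x z (u.tau g) = x 1 2 (u.a * u.a) * x 0 1 (u.b * u.b) * x 0 2 (u.c * u.c) *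
      z ^ (3 * u.i) := by
    unfold U.tau
    rw [ev_mul R]
    show (x 0 1 0 * x 1 2 (u.a * u.a) * x 0 2 0 * z ^ 0) *
      (x 0 1 (u.b * u.b) * x 1 2 0 * x 0 2 (u.c * u.c) * z ^ (3 * u.i)) = _
    rw [mrel_zero R 0 1 (by decide), mrel_zero R 0 2 (by decide), mrel_zero R 1 2 (by decide)]
    simp only [one_mul, mul_one, pow_zero, mul_assoc]
  rw [h4]
  unfold evU
  calc x 0 1 u.a * x 1 2 u.b * x 0 2 u.c * z ^ u.i * τ
      = x 0 1 u.a * x 1 2 u.b * x 0 2 u.c * (z ^ u.i * τ) := by simp only [mul_assoc]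
    _ = x 0 1 u.a * x 1 2 u.b * (x 0 2 u.c * τ) * z ^ (3 * u.i) := by
        rw [z_tau E]; simp only [mul_assoc]
    _ = x 0 1 u.a * (x 1 2 u.b * τ) * x 0 2 (u.c * u.c) * z ^ (3 * u.i) := by
        rw [h3]; simp only [mul_assoc]
    _ = (x 0 1 u.a * τ) * x 0 1 (u.b * u.b) * x 0 2 (u.c * u.c) * z ^ (3 * u.i) := by
        rw [h2]; simp only [mul_assoc]
    _ = _ := by rw [h1]; simp only [mul_assoc]

theorem h_tau (E : Ext x z h τ g) : h * τ = τ * h⁻¹ := by
  have R := E.R
  have hn := nn_sq R 0 1 (by decide)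
  -- `h = x01(ω) x10(ω²) x01(ω) n01`
  have t1 := R.torus 0 1 (by decide)
  have k1 : kap (0 : Fin 3) 1 = ω := by decide
  have k2 : kap (1 : Fin 3) 0 = ω2 := by decide
  have k3 : kap (1 : Fin 3) 2 = ω := by decide
  have k4 : kap (2 : Fin 3) 1 = ω2 := by decide
  rw [k1, k2] at t1
  change _ * nn x 0 1 = h at t1
  have h1 := x_tau E 0 1 (by decide) ω
  have h2 := x_tau E 1 0 (by decide) ω2
  have h3 := nn_tau E 0 1 (by decide)
  have e0 : rv 0 = 2 := by decide
  have e1 : rv 1 = 1 := by decide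
  have s1 : ω * ω = ω2 := by decide
  have s2 : ω2 * ω2 = ω := by decide
  rw [e0, e1] at h1 h2 h3
  rw [s1] at h1
  rw [s2] at h2
  -- `x12(ω²) x21(ω) x12(ω²) = h n12 h⁻¹`
  have f1 := h_x R 1 2 (by decide) 1
  have f2 := h_x R 2 1 (by decide) 1
  rw [k4, mul_one] at f1
  rw [k3, mul_one] at f2
  have f3 : h * nn x 1 2 = x 1 2 ω2 * x 2 1 ω * x 1 2 ω2 * h := by
    calc h * nn x 1 2 = (h * x 1 2 1) * x 2 1 1 * x 1 2 1 := by
          unfold nn; simp only [mul_assoc]
      _ = x 1 2 ω2 * (h * x 2 1 1) * x 1 2 1 := by rw [f1]; simp only [mul_assoc]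
      _ = x 1 2 ω2 * x 2 1 ω * (h * x 1 2 1) := by rw [f2]; simp only [mul_assoc]
      _ = _ := by rw [f1]; simp only [mul_assoc]
  have f4 := nn_mul_h R 1 2 (by decide)
  have f5 : nn x 1 2 * h⁻¹ = h * nn x 1 2 := by
    have := f4
    calc nn x 1 2 * h⁻¹ = h * (h⁻¹ * nn x 1 2) * h⁻¹ := by group
      _ = h * (nn x 1 2 * h) * h⁻¹ := by rw [f4]
      _ = _ := by group
  have hn2 := nn_sq R 1 2 (by decide)
  have h3' := R.h3
  calc h * τ = x 0 1 ω * x 1 0 ω2 * x 0 1 ω * (nn x 0 1 * τ) := by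
        rw [← mul_assoc, t1]
    _ = x 0 1 ω * x 1 0 ω2 * (x 0 1 ω * τ) * nn x 1 2 := by rw [h3]; simp only [mul_assoc]
    _ = x 0 1 ω * (x 1 0 ω2 * τ) * x 1 2 ω2 * nn x 1 2 := by rw [h1]; simp only [mul_assoc]
    _ = (x 0 1 ω * τ) * x 2 1 ω * x 1 2 ω2 * nn x 1 2 := by rw [h2]; simp only [mul_assoc]
    _ = τ * (x 1 2 ω2 * x 2 1 ω * x 1 2 ω2) * nn x 1 2 := by rw [h1]; simp only [mul_assoc]
    _ = τ * (h * nn x 1 2 * h⁻¹) * nn x 1 2 := by rw [f3]; group
    _ = τ * (h * (nn x 1 2 * h⁻¹) * nn x 1 2) := by simp only [mul_assoc]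
    _ = τ * (h * h * (nn x 1 2 * nn x 1 2)) := by rw [f5]; simp only [mul_assoc]
    _ = τ * (h ^ 3 * h⁻¹) := by rw [hn2, pow_three]; group
    _ = τ * h⁻¹ := by rw [h3', one_mul]

theorem hpow_tau (E : Ext x z h τ g) (k : ℕ) : h ^ k * τ = τ * h ^ ((2 * k) % 3) := by
  rw [hpow_mod E.R]
  have h1 : h⁻¹ = h ^ 2 := by
    rw [inv_eq_iff_mul_eq_one, ← pow_succ']; exact E.R.h3
  induction k with
  | zero => simp
  | succ k ih =>
    rw [pow_succ, mul_assoc, h_tau E, h1, ← mul_assoc, ih, mul_assoc, ← pow_add]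
    congr 2

theorem evW_tau (E : Ext x z h τ g) (w : W) : evW x w * τ = τ * evW x w.tau := by
  have h1 := nn_tau E 0 1 (by decide)
  have h2 := nn_tau E 1 2 (by decide)
  have e0 : rv 0 = 2 := by decide
  have e1 : rv 1 = 1 := by decide
  have e2 : rv 2 = 0 := by decide
  rw [e0, e1] at h1
  rw [e1, e2] at h2
  have hb := braid E.R
  cases w
  · show 1 * τ = τ * 1
    rw [one_mul, mul_one]
  · exact h1
  · exact h2
  · show nn x 0 1 * nn x 1 2 * τ = τ * (nn x 1 2 * nn x 0 1)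
    rw [mul_assoc, h2, ← mul_assoc, h1, mul_assoc]
  · show nn x 1 2 * nn x 0 1 * τ = τ * (nn x 0 1 * nn x 1 2)
    rw [mul_assoc, h1, ← mul_assoc, h2, mul_assoc]
  · show nn x 0 1 * nn x 1 2 * nn x 0 1 * τ = τ * (nn x 0 1 * nn x 1 2 * nn x 0 1)
    rw [mul_assoc, h1, ← mul_assoc, mul_assoc (nn x 0 1), h2, ← mul_assoc, h1, hb]
    simp only [mul_assoc]

theorem ev_t (E : Ext x z h τ g) (c : Cd) :
    evC x z h τ (c.t g) = evC x z h τ c * τ := by
  obtain ⟨e, u, k, w, v⟩ := c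
  show τ ^ ((e + 1) % 2) * (evU x z (u.tau g) * h ^ ((2 * k) % 3) * evW x w.tau *
    evU x z (v.tau g)) = τ ^ e * (evU x z u * h ^ k * evW x w * evU x z v) * τ
  symm
  calc τ ^ e * (evU x z u * h ^ k * evW x w * evU x z v) * τ
      = τ ^ e * (evU x z u * h ^ k * evW x w * (evU x z v * τ)) := by simp only [mul_assoc]
    _ = τ ^ e * (evU x z u * h ^ k * (evW x w * τ) * evU x z (v.tau g)) := by
        rw [evU_tau E]; simp only [mul_assoc]
    _ = τ ^ e * (evU x z u * (h ^ k * τ) * evW x w.tau * evU x z (v.tau g)) := by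
        rw [evW_tau E]; simp only [mul_assoc]
    _ = τ ^ e * ((evU x z u * τ) * h ^ ((2 * k) % 3) * evW x w.tau * evU x z (v.tau g)) := by
        rw [hpow_tau E]; simp only [mul_assoc]
    _ = _ := by rw [evU_tau E, tpow_mod E, pow_succ]; simp only [mul_assoc]

end Tau

/-! ## Words -/

/-- letters -/
inductive L
  | p : Rt → F4 → L
  | n1 : L
  | n2 : L
  | z : L
  | t : L

/-- value of a letter -/
def evL (x : Fin 3 → Fin 3 → F4 → G) (z τ : G) : L → G
  | .p r c => evR x r c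
  | .n1 => nn x 0 1
  | .n2 => nn x 1 2
  | .z => z
  | .t => τ

/-- value of a word -/
def evWd (x : Fin 3 → Fin 3 → F4 → G) (z τ : G) (l : List L) : G := (l.map (evL x z τ)).prod

/-- multiply a code by a letter -/
def stp (g : F4 → ℕ) (c : Cd) : L → Cd
  | .p .a v => c.mu g ⟨v, 0, 0, 0⟩
  | .p .b v => c.mu g ⟨0, v, 0, 0⟩
  | .p .c v => c.mu g ⟨0, 0, v, 0⟩
  | .n1 => c.n1 g
  | .n2 => c.n2 g
  | .z => c.mu g ⟨0, 0, 0, 1⟩
  | .t => c.t g

/-- identity code -/
def Cd.one : Cd := ⟨0, U.one, 0, .e, U.one⟩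

section Words

variable {x : Fin 3 → Fin 3 → F4 → G} {z h τ : G} {g : F4 → ℕ}

theorem ev_stp (E : Ext x z h τ g) (c : Cd) (l : L) :
    evC x z h τ (stp g c l) = evC x z h τ c * evL x z τ l := by
  have R := E.R
  have z1 := mrel_zero R 0 1 (by decide)
  have z2 := mrel_zero R 1 2 (by decide)
  have z3 := mrel_zero R 0 2 (by decide)
  cases l with
  | p r v =>
    cases r
    · show evC x z h τ (c.mu g ⟨v, 0, 0, 0⟩) = _
      rw [ev_mu R]
      show _ * (x 0 1 v * x 1 2 0 * x 0 2 0 * z ^ 0) = _ * x 0 1 v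
      rw [z2, z3]; simp
    · show evC x z h τ (c.mu g ⟨0, v, 0, 0⟩) = _
      rw [ev_mu R]
      show _ * (x 0 1 0 * x 1 2 v * x 0 2 0 * z ^ 0) = _ * x 1 2 v
      rw [z1, z3]; simp
    · show evC x z h τ (c.mu g ⟨0, 0, v, 0⟩) = _
      rw [ev_mu R]
      show _ * (x 0 1 0 * x 1 2 0 * x 0 2 v * z ^ 0) = _ * x 0 2 v
      rw [z1, z2]; simp
  | n1 => exact ev_n1 R c
  | n2 => exact ev_n2 R c
  | z =>
    show evC x z h τ (c.mu g ⟨0, 0, 0, 1⟩) = _
    rw [ev_mu R]
    show _ * (x 0 1 0 * x 1 2 0 * x 0 2 0 * z ^ 1) = _ * z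
    rw [z1, z2, z3]; simp
  | t => exact ev_t E c

theorem ev_one' (E : Ext x z h τ g) : evC x z h τ Cd.one = 1 := by
  show τ ^ 0 * (evU x z U.one * h ^ 0 * 1 * evU x z U.one) = 1
  rw [ev_one E.R]; simp

theorem ev_foldl (E : Ext x z h τ g) (l : List L) (c : Cd) :
    evC x z h τ (l.foldl (stp g) c) = evC x z h τ c * evWd x z τ l := by
  induction l generalizing c with
  | nil => simp [evWd]
  | cons a l ih =>
    rw [List.foldl_cons, ih, ev_stp E, mul_assoc]
    simp [evWd]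

/-- the check: the code represents the identity -/
def Cd.isOne (g : F4 → ℕ) (c : Cd) : Bool :=
  c.e % 2 == 0 && c.k % 3 == 0 &&
    (match c.w with
      | .e => true
      | _ => false) &&
    (let u := c.u.mul g c.v
     u.a == 0 && u.b == 0 && u.c == 0 && u.i % 4 == 0)

theorem ev_isOne (E : Ext x z h τ g) (c : Cd) (hc : c.isOne g = true) : evC x z h τ c = 1 := by
  obtain ⟨e, u, k, w, v⟩ := c
  unfold Cd.isOne at hc
  simp only [Bool.and_eq_true, beq_iff_eq] at hc
  obtain ⟨⟨⟨h1, h2⟩, h3⟩, ⟨⟨h4, h5⟩, h6⟩, h7⟩ := hc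
  have hw : w = .e := by cases w <;> simp_all
  subst hw
  show τ ^ e * (evU x z u * h ^ k * 1 * evU x z v) = 1
  rw [← tpow_mod E, h1, ← hpow_mod E.R, h2, pow_zero, pow_zero, one_mul, mul_one, mul_one,
    ← ev_mul E.R]
  unfold evU
  rw [h4, h5, h6, ← pow_mod E.R, h7, mrel_zero E.R 0 1 (by decide), mrel_zero E.R 1 2 (by decide),
    mrel_zero E.R 0 2 (by decide)]
  simp

/-- evaluation of words -/
theorem ev_eq_one (E : Ext x z h τ g) (l : List L)
    (hl : (l.foldl (stp g) Cd.one).isOne g = true) : evWd x z τ l = 1 := by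
  have h1 := ev_foldl E l Cd.one
  rw [ev_one' E, one_mul, ev_isOne E _ hl] at h1
  exact h1.symm

theorem evWd_append (l m : List L) : evWd x z τ (l ++ m) = evWd x z τ l * evWd x z τ m := by
  simp [evWd]

/-- inverse of a letter -/
def linv : L → List L
  | .z => [.z, .z, .z]
  | l => [l]

/-- inverse of a word -/
def winv : List L → List L
  | [] => []
  | a :: l => winv l ++ linv a

/-- power of a word -/
def wpow (l : List L) : ℕ → List L
  | 0 => []
  | n + 1 => wpow l n ++ l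

theorem ev_linv (E : Ext x z h τ g) (a : L) : evWd x z τ (linv a) = (evL x z τ a)⁻¹ := by
  have R := E.R
  cases a with
  | p r v =>
    have : evR x r v * evR x r v = 1 := by
      cases r
      · exact mrel_sq R 0 1 (by decide) v
      · exact mrel_sq R 1 2 (by decide) v
      · exact mrel_sq R 0 2 (by decide) v
    show [evR x r v].prod = _
    rw [List.prod_singleton]
    exact eq_inv_of_mul_eq_one_left this
  | n1 =>
    show [nn x 0 1].prod = _
    rw [List.prod_singleton]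
    exact eq_inv_of_mul_eq_one_left (nn_sq R 0 1 (by decide))
  | n2 =>
    show [nn x 1 2].prod = _
    rw [List.prod_singleton]
    exact eq_inv_of_mul_eq_one_left (nn_sq R 1 2 (by decide))
  | z =>
    show [z, z, z].prod = z⁻¹
    apply eq_inv_of_mul_eq_one_left
    rw [← R.z4]
    simp only [List.prod_cons, List.prod_nil, pow_succ, pow_zero, one_mul, mul_one, mul_assoc]
  | t =>
    show [τ].prod = _
    rw [List.prod_singleton]
    exact eq_inv_of_mul_eq_one_left E.tt

theorem ev_winv (E : Ext x z h τ g) (l : List L) : evWd x z τ (winv l) = (evWd x z τ l)⁻¹ := by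
  induction l with
  | nil => simp [winv, evWd]
  | cons a l ih =>
    rw [winv, evWd_append, ih, ev_linv E]
    have : evWd x z τ (a :: l) = evL x z τ a * evWd x z τ l := by simp [evWd]
    rw [this, mul_inv_rev]

theorem ev_wpow (l : List L) (n : ℕ) : evWd x z τ (wpow l n) = (evWd x z τ l) ^ n := by
  induction n with
  | zero => simp [wpow, evWd]
  | succ n ih => rw [wpow, evWd_append, ih, pow_succ]

/-- the check of a relation -/
def chk (g : F4 → ℕ) (l m : List L) : Bool := ((l ++ winv m).foldl (stp g) Cd.one).isOne g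

theorem eq_of_chk (E : Ext x z h τ g) (l m : List L) (hl : chk g l m = true) :
    evWd x z τ l = evWd x z τ m := by
  have h1 := ev_eq_one E _ hl
  rw [evWd_append, ev_winv E] at h1
  exact mul_inv_eq_one.mp h1

end Words

end Cfsg.Agent.ONType.Eval
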