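import Mathlib

/-!
# O'Nan type groups: the relations of the Sylow 2-subgroup

`T` homocyclic of rank 3 and exponent `2^n`, in coordinates `τ a b c` (`a, b, c, -a-b-c` are the four coordinates, modulo
`2^n`), `x1, x2, x3` a four-group acting by the regular permutations of the coordinates, `s` an involution which acts by
`(y0,y1,y2,y3) ↦ -(y0,y2,y1,y3)` and satisfies `s x3 s = τ 1 0 0 * x3`.
-/

set_option autoImplicit false

namespace Cfsg.Agent.ONType.Rel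

/-- The relations of `S`. -/
structure Rel {G : Type*} [Group G] (n : ℕ) (T : Subgroup G) (τ : ℤ → ℤ → ℤ → G) (x1 x2 x3 s : G) : Prop where
  mul : ∀ a b c a' b' c', τ a b c * τ a' b' c' = τ (a + a') (b + b') (c + c')
  one : ∀ a b c, τ a b c = 1 ↔ (2 : ℤ) ^ n ∣ a ∧ (2 : ℤ) ^ n ∣ b ∧ (2 : ℤ) ^ n ∣ c
  mem : ∀ g, g ∈ T ↔ ∃ a b c, g = τ a b c
  x1x1 : x1 * x1 = 1
  x2x2 : x2 * x2 = 1
  x3x3 : x3 * x3 = 1
  x12 : x1 * x2 = x3
  x23 : x2 * x3 = x1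
  x31 : x3 * x1 = x2
  x1τ : ∀ a b c, x1 * τ a b c = τ b a (-a - b - c) * x1
  x2τ : ∀ a b c, x2 * τ a b c = τ c (-a - b - c) a * x2
  x3τ : ∀ a b c, x3 * τ a b c = τ (-a - b - c) c b * x3
  ss : s * s = 1
  sτ : ∀ a b c, s * τ a b c = τ (-a) (-c) (-b) * s
  sx1 : s * x1 = τ 1 0 (-1) * x2 * s
  sx2 : s * x2 = τ 1 (-1) 0 * x1 * s
  sx3 : s * x3 = τ 1 0 0 * x3 * s
  /-- the eight cosets of `T` are different -/
  cos : ∀ a b c, τ a b c ≠ x1 ∧ τ a b c ≠ x2 ∧ τ a b c ≠ x3 ∧ τ a b c ≠ s ∧ τ a b c ≠ x1 * s ∧ τ a b c ≠ x2 * s ∧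
    τ a b c ≠ x3 * s

/-- representatives of the cosets of `T` in `S` -/
def Rep {G : Type*} [Group G] (x1 x2 x3 s w : G) : Prop :=
  w = 1 ∨ w = x1 ∨ w = x2 ∨ w = x3 ∨ w = s ∨ w = x1 * s ∨ w = x2 * s ∨ w = x3 * s

/-- `S = T ⟨x1, x2, x3, s⟩` in coordinates. -/
structure RelS {G : Type*} [Group G] (n : ℕ) (T S : Subgroup G) (τ : ℤ → ℤ → ℤ → G) (x1 x2 x3 s : G) : Prop
    extends Rel n T τ x1 x2 x3 s where
  memS : ∀ g, g ∈ S ↔ ∃ a b c w, Rep x1 x2 x3 s w ∧ g = τ a b c * w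

end Cfsg.Agent.ONType.Rel
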