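import Mathlib

/-!
# Elementary abelian subgroups of order 8: independent triples
-/

set_option autoImplicit false

namespace Cfsg.Agent.ONType.Span

open Subgroup

variable {G : Type*} [Group G]

/-- `a, b, c` are independent -/
def Indep (a b c : G) : Prop :=
  a ≠ 1 ∧ b ≠ 1 ∧ b ≠ a ∧ c ≠ 1 ∧ c ≠ a ∧ c ≠ b ∧ c ≠ a * b

/-- the Klein group `{1, a, b, ab}` -/
def four (a b : G) (ha : a * a = 1) (hb : b * b = 1) (hab : a * b = b * a) : Subgroup G where
  carrier := {x | x = 1 ∨ x = a ∨ x = b ∨ x = a * b}
  one_mem' := Or.inl rfl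
  mul_mem' := by
    have e1 : a * (a * b) = b := by rw [← mul_assoc, ha, one_mul]
    have e2 : b * (a * b) = a := by rw [hab, ← mul_assoc, hb, one_mul]
    have e3 : a * b * a = b := by rw [hab, mul_assoc, ha, mul_one]
    have e4 : a * b * b = a := by rw [mul_assoc, hb, mul_one]
    have e5 : a * b * (a * b) = 1 := by rw [mul_assoc, e2, ha]
    rintro x y (rfl | rfl | rfl | rfl) (rfl | rfl | rfl | rfl)
    all_goals first
      | (left; simp [ha, hb, e5]; done)
      | (right; left; simp [e2, e4]; done)
      | (right; right; left; simp [e1, e3]; done)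
      | (right; right; right; simp [hab]; done)
  inv_mem' := by
    have ia : a⁻¹ = a := inv_eq_of_mul_eq_one_left ha
    have ib : b⁻¹ = b := inv_eq_of_mul_eq_one_left hb
    rintro x (rfl | rfl | rfl | rfl)
    · left; exact inv_one
    · right; left; exact ia
    · right; right; left; exact ib
    · right; right; right; rw [mul_inv_rev, ia, ib, hab]

theorem mem_four {a b : G} (ha : a * a = 1) (hb : b * b = 1) (hab : a * b = b * a) {x : G} :
    x ∈ four a b ha hb hab ↔ x = 1 ∨ x = a ∨ x = b ∨ x = a * b := Iff.rfl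

theorem card_four {a b : G} (ha : a * a = 1) (hb : b * b = 1) (hab : a * b = b * a)
    (h1 : a ≠ 1) (h2 : b ≠ 1) (h3 : b ≠ a) : Nat.card (four a b ha hb hab) = 4 := by
  have hs : ((four a b ha hb hab : Subgroup G) : Set G) = {1, a, b, a * b} := by
    ext x
    simp only [SetLike.mem_coe, mem_four, Set.mem_insert_iff, Set.mem_singleton_iff]
  have : Nat.card (four a b ha hb hab) = ((four a b ha hb hab : Subgroup G) : Set G).ncard := rfl
  rw [this, hs, Set.ncard_insert_of_notMem, Set.ncard_insert_of_notMem, Set.ncard_pair]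
  · intro h
    exact h1 (by rwa [right_eq_mul] at h)
  · simp only [Set.mem_insert_iff, Set.mem_singleton_iff, not_or]
    refine ⟨fun h => h3 h.symm, fun h => h2 (by rwa [left_eq_mul] at h)⟩
  · simp only [Set.mem_insert_iff, Set.mem_singleton_iff, not_or]
    refine ⟨fun h => h1 h.symm, fun h => h2 h.symm, fun h => h3 ?_⟩
    exact mul_left_cancel (h.symm.trans ha.symm)

/-- the elements of an elementary abelian group of order (at most) 8 -/
theorem span [Finite G] {A : Subgroup G} (hA : Nat.card A ≤ 8) (hsq : ∀ x ∈ A, x * x = 1) {a b c : G} (ha : a ∈ A) (hb : b ∈ A)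
    (hc : c ∈ A) (hI : Indep a b c) {t : G} (ht : t ∈ A) :
    (t = 1 ∨ t = a ∨ t = b ∨ t = a * b) ∨ (t = c ∨ t = a * c ∨ t = b * c ∨ t = a * b * c) := by
  obtain ⟨h1, h2, h3, h4, h5, h6, h7⟩ := hI
  have hcomm : ∀ x ∈ A, ∀ y ∈ A, x * y = y * x := by
    intro x hx y hy
    have h := hsq _ (mul_mem hx hy)
    calc x * y = x * (x * y * (x * y)) * y := by rw [h, mul_one]
      _ = (x * x) * (y * x) * (y * y) := by group
      _ = y * x := by rw [hsq x hx, hsq y hy, one_mul, mul_one]
  have hab := hcomm a ha b hb
  set F := four a b (hsq a ha) (hsq b hb) hab with hF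
  have hFA : F ≤ A := by
    intro x hx
    rw [hF, mem_four] at hx
    rcases hx with rfl | rfl | rfl | rfl
    · exact one_mem _
    · exact ha
    · exact hb
    · exact mul_mem ha hb
  have hF4 : Nat.card F = 4 := card_four _ _ _ h1 h2 h3
  have hcF : c ∉ F := by
    rw [hF, mem_four]
    push Not
    exact ⟨h4, h5, h6, h7⟩
  by_cases htF : t ∈ F
  · left
    rwa [hF, mem_four] at htF
  · right
    -- index
    have hidx : (F.subgroupOf A).index = 2 := by
      have h8 : Nat.card (F.subgroupOf A) = 4 := by
        rw [← hF4]; exact Nat.card_congr (subgroupOfEquivOfLe hFA).toEquiv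
      have h9 := (F.subgroupOf A).card_mul_index
      rw [h8] at h9
      have h10 : (F.subgroupOf A).index ≠ 1 := by
        intro h
        rw [index_eq_one] at h
        have : (⟨c, hc⟩ : A) ∈ F.subgroupOf A := h ▸ mem_top _
        exact hcF this
      have h11 : (F.subgroupOf A).index ≠ 0 := index_ne_zero_of_finite
      omega
    have h12 : (⟨t, ht⟩ : A) * ⟨c, hc⟩ ∈ F.subgroupOf A := by
      rw [mul_mem_iff_of_index_two hidx]
      constructor
      · intro h; exact absurd h htF
      · intro h; exact absurd h hcF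
    have h13 : t * c ∈ F := h12
    rw [hF, mem_four] at h13
    have hcc := hsq c hc
    have e : ∀ u, t * c = u → t = u * c := by
      intro u hu
      rw [← hu, mul_assoc, hcc, mul_one]
    rcases h13 with h | h | h | h
    · left; rw [e _ h, one_mul]
    · right; left; exact e _ h
    · right; right; left; exact e _ h
    · right; right; right; exact e _ h

end Cfsg.Agent.ONType.Span
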