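import Cfsg.Agent.ONType.Coord
import Cfsg.Agent.ONType.Rel
import Cfsg.Agent.ONType.Span

/-!
# O'Nan type groups: the extension of the homocyclic group by `S4`

`Γ` is a finite group, `T` a normal homocyclic subgroup of rank 3 and exponent `2^n`, self-centralising, every
automorphism of `A = Ω₁(T)` is induced by `Γ`, there is an involution outside `T` and there is no elementary abelian
subgroup of order 16.  Then the relations `Rel` hold for suitable elements.
-/

set_option autoImplicit false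
set_option linter.unusedSectionVars false
set_option linter.unusedVariables false

namespace Cfsg.Agent.ONType.Ext

open Subgroup
open scoped IsMulCommutative
open Cfsg.Agent.ONType.Coord Cfsg.Agent.ONType.Rel Cfsg.Agent.ONType.Span

/-- The hypotheses. -/
structure Hyp {Γ : Type*} [Group Γ] (T : Subgroup Γ) (n : ℕ) : Prop where
  hn : 1 ≤ n
  card : Nat.card T = 8 ^ n
  exp : ∀ t ∈ T, t ^ (2 ^ n) = 1
  eight : Nat.card {t : Γ // t ∈ T ∧ t * t = 1} ≤ 8
  faith : ∀ g : Γ, (∀ t ∈ T, t * t = 1 → g * t = t * g) → g ∈ T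
  full : ∀ a b c a' b' c' : Γ, a ∈ T → a * a = 1 → b ∈ T → b * b = 1 → c ∈ T → c * c = 1 →
    a' ∈ T → a' * a' = 1 → b' ∈ T → b' * b' = 1 → c' ∈ T → c' * c' = 1 → Indep a b c → Indep a' b' c' →
    ∃ g : Γ, g * a * g⁻¹ = a' ∧ g * b * g⁻¹ = b' ∧ g * c * g⁻¹ = c'
  inv : ∃ y : Γ, y ∉ T ∧ y * y = 1
  no16 : ∀ E : Subgroup Γ, (∀ x ∈ E, x * x = 1) → Nat.card E ≤ 8

section

variable {Γ : Type*} [Group Γ] (T : Subgroup Γ) [T.Normal] [IsMulCommutative T]

/-- conjugation on `T` -/
noncomputable def act (g : Γ) : Additive T →+ Additive T :=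
  MonoidHom.toAdditive (MulAut.conjNormal g : T ≃* T).toMonoidHom

variable {T}

theorem coe_act (g : Γ) (t : Additive T) : (((act T g t).toMul : T) : Γ) = g * ((t.toMul : T) : Γ) * g⁻¹ := rfl

theorem act_mul (g h : Γ) (t : Additive T) : act T (g * h) t = act T g (act T h t) := by
  apply Additive.toMul.injective
  apply Subtype.ext
  rw [coe_act, coe_act, coe_act]
  group

theorem act_one (t : Additive T) : act T (1 : Γ) t = t := by
  apply Additive.toMul.injective
  apply Subtype.ext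
  rw [coe_act]
  simp

theorem act_of_mem {g : Γ} (hg : g ∈ T) (t : Additive T) : act T g t = t := by
  apply Additive.toMul.injective
  apply Subtype.ext
  rw [coe_act]
  have := setLike_mul_comm hg (t.toMul).2
  rw [this, mul_inv_cancel_right]

/-- `A = Ω₁(T)` -/
def om (T : Subgroup Γ) [IsMulCommutative T] : Subgroup Γ where
  carrier := {t | t ∈ T ∧ t * t = 1}
  one_mem' := ⟨one_mem _, one_mul _⟩
  mul_mem' := by
    rintro a b ⟨ha, ha2⟩ ⟨hb, hb2⟩
    refine ⟨mul_mem ha hb, ?_⟩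
    have hab : b * a = a * b := setLike_mul_comm hb ha
    calc a * b * (a * b) = a * (b * a) * b := by group
      _ = (a * a) * (b * b) := by rw [hab]; group
      _ = 1 := by rw [ha2, hb2, one_mul]
  inv_mem' := by
    rintro a ⟨ha, ha2⟩
    refine ⟨inv_mem ha, ?_⟩
    rw [← mul_inv_rev, ha2, inv_one]

theorem mem_om {t : Γ} : t ∈ om T ↔ t ∈ T ∧ t * t = 1 := Iff.rfl

end

namespace Hyp

variable {Γ : Type*} [Group Γ] {T : Subgroup Γ} [T.Normal] [IsMulCommutative T] {n : ℕ} (h : Hyp T n)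
include h

/-- elements which agree on `A` agree on `T` -/
theorem agree {g k : Γ} (hgk : ∀ t ∈ T, t * t = 1 → g * t * g⁻¹ = k * t * k⁻¹) (t : Additive T) : act T g t = act T k t := by
  have h1 : k⁻¹ * g ∈ T := by
    apply h.faith
    intro t ht ht2
    have := hgk t ht ht2
    have e : k⁻¹ * (g * t * g⁻¹) * g = k⁻¹ * (k * t * k⁻¹) * g := by rw [this]
    calc k⁻¹ * g * t = k⁻¹ * (g * t * g⁻¹) * g := by group
      _ = k⁻¹ * (k * t * k⁻¹) * g := e
      _ = t * (k⁻¹ * g) := by group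
  have e : g = k * (k⁻¹ * g) := by group
  rw [e, act_mul, act_of_mem h1]

variable [Finite Γ]

theorem card_om : Nat.card (om T) ≤ 8 := h.eight

theorem span {a b c : Γ} (ha : a ∈ om T) (hb : b ∈ om T) (hc : c ∈ om T) (hI : Indep a b c) {t : Γ} (ht : t ∈ om T) :
    (t = 1 ∨ t = a ∨ t = b ∨ t = a * b) ∨ (t = c ∨ t = a * c ∨ t = b * c ∨ t = a * b * c) :=
  Span.span h.card_om (fun _ hx => hx.2) ha hb hc hI ht

/-- agreement on a basis -/
theorem agree_basis {a b c : Γ} (ha : a ∈ om T) (hb : b ∈ om T) (hc : c ∈ om T) (hI : Indep a b c) {g k : Γ}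
    (h1 : g * a * g⁻¹ = k * a * k⁻¹) (h2 : g * b * g⁻¹ = k * b * k⁻¹) (h3 : g * c * g⁻¹ = k * c * k⁻¹) (t : Additive T) :
    act T g t = act T k t := by
  apply h.agree
  intro u hu hu2
  have key : ∀ x y : Γ, g * x * g⁻¹ = k * x * k⁻¹ → g * y * g⁻¹ = k * y * k⁻¹ →
      g * (x * y) * g⁻¹ = k * (x * y) * k⁻¹ := by
    intro x y hx hy
    calc g * (x * y) * g⁻¹ = (g * x * g⁻¹) * (g * y * g⁻¹) := by group
      _ = (k * x * k⁻¹) * (k * y * k⁻¹) := by rw [hx, hy]
      _ = k * (x * y) * k⁻¹ := by group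
  rcases h.span ha hb hc hI (t := u) ⟨hu, hu2⟩ with (rfl | rfl | rfl | rfl) | (rfl | rfl | rfl | rfl)
  · simp
  · exact h1
  · exact h2
  · exact key _ _ h1 h2
  · exact h3
  · exact key _ _ h1 h3
  · exact key _ _ h2 h3
  · exact key _ _ (key _ _ h1 h2) h3

theorem card_om_eq : Nat.card (om T) = 8 := by
  have hn := h.hn
  have h1 : Nat.card (pw (Additive T) 1).ker = Nat.card (om T) := by
    refine Nat.card_congr
      { toFun := fun x => ⟨((x : Additive T).toMul : T), ?_⟩
        invFun := fun x => ⟨Additive.ofMul ⟨x.1, x.2.1⟩, ?_⟩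
        left_inv := fun x => rfl
        right_inv := fun x => rfl }
    · refine ⟨((x : Additive T).toMul).2, ?_⟩
      have := x.2
      rw [AddMonoidHom.mem_ker, pw_apply, pow_one, two_smul] at this
      exact congrArg (fun u : Additive T => ((u.toMul : T) : Γ)) this
    · rw [AddMonoidHom.mem_ker, pw_apply, pow_one, two_smul]
      apply Additive.toMul.injective
      apply Subtype.ext
      exact x.2.2
  have hcard : Nat.card (Additive T) = 8 ^ n := h.card
  have hle := h.card_om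
  have hexp : ∀ m : Additive T, (2 ^ n : ℕ) • m = 0 := by
    intro m
    apply Additive.toMul.injective
    apply Subtype.ext
    have := h.exp _ (m.toMul).2
    rw [toMul_nsmul]
    exact this
  obtain ⟨k, rfl⟩ : ∃ k, n = k + 1 := ⟨n - 1, by omega⟩
  have hk := card_ker_le (M := Additive T) (by rw [h1]; exact hle) k
  have h2 : Nat.card (Additive T) = Nat.card (pw (Additive T) k).ker * Nat.card (pw (Additive T) k).range := by
    rw [← Nat.card_congr (QuotientAddGroup.quotientKerEquivRange (pw (Additive T) k)).toEquiv, mul_comm]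
    exact AddSubgroup.card_eq_card_quotient_mul_card_addSubgroup _
  have hle3 : (pw (Additive T) k).range ≤ (pw (Additive T) 1).ker := by
    rintro _ ⟨m, rfl⟩
    rw [AddMonoidHom.mem_ker, pw_apply, pow_one, pw_apply, smul_smul, ← pow_succ']
    exact hexp m
  have hr := AddSubgroup.card_le_of_le hle3
  rw [h1] at hr
  rw [hcard, pow_succ] at h2
  have h8k : 0 < 8 ^ k := by positivity
  have : 8 ^ k * 8 ≤ 8 ^ k * Nat.card (om T) := by
    rw [h2]; exact Nat.mul_le_mul hk hr
  have := Nat.le_of_mul_le_mul_left this h8k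
  omega

/-- basis through a given element -/
theorem exists_basis {z : Γ} (hz : z ∈ om T) (hz1 : z ≠ 1) : ∃ a b, a ∈ om T ∧ b ∈ om T ∧ Indep a b z := by
  have hsq : ∀ x ∈ om T, x * x = 1 := fun x hx => hx.2
  have hc : Nat.card (om T) = ((om T : Subgroup Γ) : Set Γ).ncard := rfl
  have hex1 : ∃ a ∈ om T, a ∉ ({1, z} : Set Γ) := by
    by_contra hcon
    push Not at hcon
    have h1 : ((om T : Subgroup Γ) : Set Γ) ⊆ {1, z} := hcon
    have h2 := Set.ncard_le_ncard h1 (Set.toFinite _)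
    have h3 := Set.ncard_insert_le (1 : Γ) {z}
    rw [Set.ncard_singleton] at h3
    have := h.card_om_eq
    omega
  obtain ⟨a, ha, ha'⟩ := hex1
  have hex2 : ∃ b ∈ om T, b ∉ ({1, z, a, a * z} : Set Γ) := by
    by_contra hcon
    push Not at hcon
    have h1 : ((om T : Subgroup Γ) : Set Γ) ⊆ {1, z, a, a * z} := hcon
    have h2 := Set.ncard_le_ncard h1 (Set.toFinite _)
    have h3 := Set.ncard_insert_le (1 : Γ) {z, a, a * z}
    have h4 := Set.ncard_insert_le (z : Γ) {a, a * z}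
    have h5 := Set.ncard_insert_le (a : Γ) {a * z}
    rw [Set.ncard_singleton] at h5
    have := h.card_om_eq
    omega
  obtain ⟨b, hb, hb'⟩ := hex2
  simp only [Set.mem_insert_iff, Set.mem_singleton_iff, not_or] at ha' hb'
  refine ⟨a, b, ha, hb, ha'.1, hb'.1, hb'.2.2.1, hz1, fun e => ha'.2 e.symm, fun e => hb'.2.1 e.symm, ?_⟩
  intro e
  apply hb'.2.2.2
  rw [e, ← mul_assoc, hsq a ha, one_mul]

theorem exists_x3 {z a1 a2 : Γ} (hz : z ∈ om T) (h1 : a1 ∈ om T) (h2 : a2 ∈ om T) (hI : Indep a1 a2 z) :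
    ∃ x : Γ, x * x = 1 ∧ x * a1 * x⁻¹ = a1 * z ∧ x * a2 * x⁻¹ = a2 * z ∧ x * z * x⁻¹ = z := by
  obtain ⟨y, hyT, hyy⟩ := h.inv
  have hsq : ∀ x ∈ om T, x * x = 1 := fun x hx => hx.2
  have hcomm : ∀ x ∈ om T, ∀ y ∈ om T, x * y = y * x := fun x hx y hy => setLike_mul_comm hx.1 hy.1
  have hyinv : y⁻¹ = y := inv_eq_of_mul_eq_one_left hyy
  have hyom : ∀ x ∈ om T, y * x * y⁻¹ ∈ om T := by
    intro x hx
    refine ⟨Subgroup.Normal.conj_mem ‹_› x hx.1 y, ?_⟩
    calc y * x * y⁻¹ * (y * x * y⁻¹) = y * (x * x) * y⁻¹ := by group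
      _ = 1 := by rw [hsq x hx]; group
  have hyy' : ∀ x, y * (y * x * y⁻¹) * y⁻¹ = x := by
    intro x
    calc y * (y * x * y⁻¹) * y⁻¹ = (y * y) * x * (y * y)⁻¹ := by group
      _ = x := by rw [hyy]; group
  have hym : ∀ u v, y * (u * v) * y⁻¹ = (y * u * y⁻¹) * (y * v * y⁻¹) := by intro u v; group
  -- a moved element
  obtain ⟨a, ha, hya⟩ : ∃ a ∈ om T, y * a * y⁻¹ ≠ a := by
    by_contra hcon
    push Not at hcon
    apply hyT
    apply h.faith
    intro t ht ht2
    have := hcon t ⟨ht, ht2⟩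
    calc y * t = (y * t * y⁻¹) * y := by group
      _ = t * y := by rw [this]
  set c := a * (y * a * y⁻¹) with hc
  have hcA : c ∈ om T := mul_mem ha (hyom a ha)
  have hc1 : c ≠ 1 := by
    intro e
    apply hya
    have : a * (y * a * y⁻¹) = a * a := by rw [hsq a ha]; exact e
    exact mul_left_cancel this
  have hyac : y * a * y⁻¹ = a * c := by
    rw [hc, ← mul_assoc, hsq a ha, one_mul]
  have hyc : y * c * y⁻¹ = c := by
    rw [hc, hym, hyy', hcomm _ (hyom a ha) _ ha]
  have ha1 : a ≠ 1 := by rintro rfl; apply hya; simp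
  have hac : a ≠ c := by
    intro e; apply hya; rw [e]; exact hyc
  -- a fixed element outside `⟨c⟩`
  obtain ⟨b, hb, hyb, hb1, hbc⟩ : ∃ b ∈ om T, y * b * y⁻¹ = b ∧ b ≠ 1 ∧ b ≠ c := by
    obtain ⟨b0, hb0, hb0'⟩ : ∃ b0 ∈ om T, b0 ∉ ({1, a, c, a * c} : Set Γ) := by
      by_contra hcon
      push Not at hcon
      have h1 : ((om T : Subgroup Γ) : Set Γ) ⊆ {1, a, c, a * c} := hcon
      have h2 := Set.ncard_le_ncard h1 (Set.toFinite _)
      have h3 := Set.ncard_insert_le (1 : Γ) {a, c, a * c}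
      have h4 := Set.ncard_insert_le (a : Γ) {c, a * c}
      have h5 := Set.ncard_insert_le (c : Γ) {a * c}
      rw [Set.ncard_singleton] at h5
      have := h.card_om_eq
      have hc : Nat.card (om T) = ((om T : Subgroup Γ) : Set Γ).ncard := rfl
      omega
    simp only [Set.mem_insert_iff, Set.mem_singleton_iff, not_or] at hb0'
    by_cases hf : y * b0 * y⁻¹ = b0
    · exact ⟨b0, hb0, hf, hb0'.1, hb0'.2.2.1⟩
    · set c' := b0 * (y * b0 * y⁻¹) with hc'
      have hc'A : c' ∈ om T := mul_mem hb0 (hyom b0 hb0)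
      have hyb0 : y * b0 * y⁻¹ = b0 * c' := by rw [hc', ← mul_assoc, hsq b0 hb0, one_mul]
      by_cases hcc : c' = c
      · refine ⟨a * b0, mul_mem ha hb0, ?_, ?_, ?_⟩
        · rw [hym, hyac, hyb0, hcc]
          calc a * c * (b0 * c) = a * b0 * (c * c) := by
                rw [mul_assoc a c, ← mul_assoc c b0 c, hcomm c hcA b0 hb0]; group
            _ = a * b0 := by rw [hsq c hcA, mul_one]
        · intro e
          apply hb0'.2.1
          have : a * b0 = a * a := by rw [e, hsq a ha]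
          exact mul_left_cancel this
        · intro e
          apply hb0'.2.2.2
          rw [← e, ← mul_assoc, hsq a ha, one_mul]
      · refine ⟨c', hc'A, ?_, ?_, hcc⟩
        · rw [hc', hym, hyy', hcomm _ (hyom b0 hb0) _ hb0]
        · intro e
          apply hf
          have : b0 * (y * b0 * y⁻¹) = b0 * b0 := by rw [hsq b0 hb0]; exact e
          exact mul_left_cancel this
  have hab : b ≠ a := by rintro rfl; exact hya hyb
  have hIabc : Indep a b c := by
    refine ⟨ha1, hb1, hab, hc1, fun e => hac e.symm, fun e => hbc e.symm, ?_⟩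
    intro e
    apply hya
    -- `a = c * b` is fixed
    have ea : a = c * b := by rw [e, mul_assoc, hsq b hb, mul_one]
    rw [ea, hym, hyc, hyb]
  have hI' : Indep a1 (a1 * a2) z := by
    obtain ⟨i1, i2, i3, i4, i5, i6, i7⟩ := hI
    refine ⟨i1, ?_, ?_, i4, i5, i7, ?_⟩
    · intro e
      apply i3
      have : a1 * a2 = a1 * a1 := by rw [e, hsq a1 h1]
      exact mul_left_cancel this
    · intro e
      exact i2 (by rwa [mul_eq_left] at e)
    · intro e
      apply i6
      rw [e, ← mul_assoc, hsq a1 h1, one_mul]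
  obtain ⟨g, hga, hgb, hgc⟩ := h.full a b c a1 (a1 * a2) z ha.1 ha.2 hb.1 hb.2 hcA.1 hcA.2 h1.1 h1.2
    (mul_mem h1 h2).1 (mul_mem h1 h2).2 hz.1 hz.2 hIabc hI'
  have key : ∀ u v : Γ, y * u * y⁻¹ = v → (g * y * g⁻¹) * (g * u * g⁻¹) * (g * y * g⁻¹)⁻¹ = g * v * g⁻¹ := by
    intro u v huv
    rw [← huv]; group
  refine ⟨g * y * g⁻¹, ?_, ?_, ?_, ?_⟩
  · calc g * y * g⁻¹ * (g * y * g⁻¹) = g * (y * y) * g⁻¹ := by group
      _ = 1 := by rw [hyy]; group
  · have := key a (a * c) hyac
    rw [hga] at this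
    rw [this]
    calc g * (a * c) * g⁻¹ = (g * a * g⁻¹) * (g * c * g⁻¹) := by group
      _ = a1 * z := by rw [hga, hgc]
  · have e : a2 = g * (a * b) * g⁻¹ := by
      calc a2 = a1 * (a1 * a2) := by rw [← mul_assoc, hsq a1 h1, one_mul]
        _ = (g * a * g⁻¹) * (g * b * g⁻¹) := by rw [hga, hgb]
        _ = g * (a * b) * g⁻¹ := by group
    have hyab : y * (a * b) * y⁻¹ = (a * b) * c := by
      have hcb := hcomm c hcA b hb
      calc y * (a * b) * y⁻¹ = (y * a * y⁻¹) * (y * b * y⁻¹) := hym _ _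
        _ = a * (c * b) := by rw [hyac, hyb, mul_assoc]
        _ = a * b * c := by rw [hcb, mul_assoc]
    have := key (a * b) (a * b * c) hyab
    rw [← e] at this
    rw [this]
    calc g * (a * b * c) * g⁻¹ = (g * (a * b) * g⁻¹) * (g * c * g⁻¹) := by group
      _ = a2 * z := by rw [← e, hgc]
  · have := key c c hyc
    rwa [hgc] at this

end Hyp

end Cfsg.Agent.ONType.Ext
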