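import Cfsg.Agent.ONType.Ext

/-!
# O'Nan type groups: the extension, step 1

Coordinates and elements which induce the stabiliser of `z`.
-/

set_option autoImplicit false
set_option linter.unusedSectionVars false
set_option linter.unusedVariables false
set_option linter.unusedSimpArgs false
set_option linter.unusedTactic false
set_option linter.unreachableTactic false

namespace Cfsg.Agent.ONType.ExtPre

open Subgroup
open scoped IsMulCommutative
open Cfsg.Agent.ONType.Coord Cfsg.Agent.ONType.Rel Cfsg.Agent.ONType.Span Cfsg.Agent.ONType.Ext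

/-- Coordinates and the action. -/
structure Pre {Γ : Type*} [Group Γ] (T : Subgroup Γ) (n : ℕ) (z : Γ) (τ : ℤ → ℤ → ℤ → Γ) (x3 ξ s k : Γ) : Prop where
  mul : ∀ a b c a' b' c', τ a b c * τ a' b' c' = τ (a + a') (b + b') (c + c')
  one : ∀ a b c, τ a b c = 1 ↔ (2 : ℤ) ^ n ∣ a ∧ (2 : ℤ) ^ n ∣ b ∧ (2 : ℤ) ^ n ∣ c
  mem : ∀ g, g ∈ T ↔ ∃ a b c, g = τ a b c
  x3x3 : x3 * x3 = 1
  ξξξ : ξ * ξ * ξ = 1
  x3τ : ∀ a b c, x3 * τ a b c = τ (-a - b - c) c b * x3
  ξτ : ∀ a b c, ξ * τ a b c = τ a (-a - b - c) b * ξ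
  sτ : ∀ a b c, s * τ a b c = τ (-a) (-c) (-b) * s
  kxτ : ∀ a b c, k * x3 * k⁻¹ * τ a b c = τ (-a) (-c) (-b) * (k * x3 * k⁻¹)
  hz : τ (2 ^ (n - 1)) (2 ^ (n - 1)) (2 ^ (n - 1)) = z

variable {Γ : Type*} [Group Γ] {T : Subgroup Γ} [T.Normal] [IsMulCommutative T] {n : ℕ} (h : Hyp T n) [Finite Γ]
include h

theorem agree_conj {a b c : Γ} (ha : a ∈ om T) (hb : b ∈ om T) (hc : c ∈ om T) (hI : Indep a b c) {g k : Γ}
    (h1 : MulAut.conj g a = MulAut.conj k a) (h2 : MulAut.conj g b = MulAut.conj k b)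
    (h3 : MulAut.conj g c = MulAut.conj k c) (t : Additive T) :
    act T g t = act T k t := h.agree_basis ha hb hc hI h1 h2 h3 t

omit h in
omit [Finite Γ] in
theorem coe_act' (g : Γ) (t : Additive T) : (((act T g t).toMul : T) : Γ) = MulAut.conj g ((t.toMul : T) : Γ) := rfl

theorem exists_xi {a1 a2 z : Γ} (hz : z ∈ om T) (h1 : a1 ∈ om T) (h2 : a2 ∈ om T) (hI : Indep a1 a2 z) :
    ∃ ξ : Γ, ξ * ξ * ξ = 1 ∧ MulAut.conj ξ a1 = a2 ∧ MulAut.conj ξ a2 = a1 * a2 * z ∧ MulAut.conj ξ z = z := by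
  have hsq : ∀ x ∈ om T, x * x = 1 := fun x hx => hx.2
  have hcomm : ∀ x ∈ om T, ∀ y ∈ om T, x * y = y * x := fun x hx y hy => setLike_mul_comm hx.1 hy.1
  have hIξ : Indep a2 (a1 * a2 * z) z := by
    obtain ⟨i1, i2, i3, i4, i5, i6, i7⟩ := hI
    refine ⟨i2, ?_, ?_, i4, i6, ?_, ?_⟩
    · intro e
      apply i7
      have : a1 * a2 * z = z * z := by rw [e, hsq z hz]
      exact (mul_right_cancel this).symm
    · intro e
      apply i5
      have e2 : a1 * z = 1 := by
        have : a1 * a2 * z = a1 * z * a2 := by rw [mul_assoc, mul_assoc, hcomm a2 h2 z hz]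
        rw [this] at e
        exact mul_eq_right.mp e
      have : a1 * z = a1 * a1 := by rw [e2, hsq a1 h1]
      exact mul_left_cancel this
    · intro e
      apply i3
      have e2 : a1 * a2 = 1 := mul_eq_right.mp e.symm
      have : a1 * a2 = a1 * a1 := by rw [e2, hsq a1 h1]
      exact mul_left_cancel this
    · intro e
      apply i1
      have : a2 * (a1 * a2 * z) = a1 * z := by
        rw [hcomm a1 h1 a2 h2, mul_assoc, ← mul_assoc, hsq a2 h2, one_mul]
      rw [this] at e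
      exact mul_eq_right.mp e.symm
  obtain ⟨g, hg1, hg2, hg3⟩ := h.full a1 a2 z a2 (a1 * a2 * z) z h1.1 h1.2 h2.1 h2.2 hz.1 hz.2 h2.1 h2.2
    (mul_mem (mul_mem h1 h2) hz).1 (mul_mem (mul_mem h1 h2) hz).2 hz.1 hz.2 hI hIξ
  have c1 : MulAut.conj g a1 = a2 := hg1
  have c2 : MulAut.conj g a2 = a1 * a2 * z := hg2
  have c3 : MulAut.conj g z = z := hg3
  -- `g^3` is in `T`
  have r1 : a1 * a1 = 1 := hsq a1 h1
  have r2 : a2 * a2 = 1 := hsq a2 h2
  have r3 : z * z = 1 := hsq z hz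
  have r1' : ∀ x, a1 * (a1 * x) = x := fun x => by rw [← mul_assoc, r1, one_mul]
  have r2' : ∀ x, a2 * (a2 * x) = x := fun x => by rw [← mul_assoc, r2, one_mul]
  have r3' : ∀ x, z * (z * x) = x := fun x => by rw [← mul_assoc, r3, one_mul]
  have q1 : a2 * a1 = a1 * a2 := hcomm _ h2 _ h1
  have q2 : z * a1 = a1 * z := hcomm _ hz _ h1
  have q3 : z * a2 = a2 * z := hcomm _ hz _ h2
  have q1' : ∀ x, a2 * (a1 * x) = a1 * (a2 * x) := fun x => by rw [← mul_assoc, q1, mul_assoc]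
  have q2' : ∀ x, z * (a1 * x) = a1 * (z * x) := fun x => by rw [← mul_assoc, q2, mul_assoc]
  have q3' : ∀ x, z * (a2 * x) = a2 * (z * x) := fun x => by rw [← mul_assoc, q3, mul_assoc]
  have hggg : g * g * g ∈ T := by
    apply h.faith
    have e1 : MulAut.conj (g * g * g) a1 = a1 := by
      simp only [map_mul, MulAut.mul_apply, c1, c2, c3, mul_assoc, r1, r2, r3, r1', r2', r3', q1, q2, q3, q1', q2', q3',
        mul_one, one_mul]
    have e2 : MulAut.conj (g * g * g) a2 = a2 := by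
      simp only [map_mul, MulAut.mul_apply, c1, c2, c3, mul_assoc, r1, r2, r3, r1', r2', r3', q1, q2, q3, q1', q2', q3',
        mul_one, one_mul]
    have e3 : MulAut.conj (g * g * g) z = z := by
      simp only [map_mul, MulAut.mul_apply, c3]
    intro t ht ht2
    have e : MulAut.conj (g * g * g) t = t := by
      rcases h.span h1 h2 hz hI (t := t) ⟨ht, ht2⟩ with (rfl | rfl | rfl | rfl) | (rfl | rfl | rfl | rfl)
      · exact map_one _
      · exact e1
      · exact e2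
      · rw [(MulAut.conj (g * g * g)).map_mul, e1, e2]
      · exact e3
      · rw [(MulAut.conj (g * g * g)).map_mul, e1, e3]
      · rw [(MulAut.conj (g * g * g)).map_mul, e2, e3]
      · rw [(MulAut.conj (g * g * g)).map_mul, (MulAut.conj (g * g * g)).map_mul, e1, e2, e3]
    rw [MulAut.conj_apply] at e
    calc g * g * g * t = (g * g * g * t * (g * g * g)⁻¹) * (g * g * g) := by group
      _ = t * (g * g * g) := by rw [e]
  obtain ⟨j, hj⟩ : ∃ j : ℕ, 4 ^ n = 1 + 3 * j := by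
    have : 4 ^ n % 3 = 1 := by
      rw [Nat.pow_mod]; simp
    exact ⟨4 ^ n / 3, by omega⟩
  have hT : (g * g * g) ^ j ∈ T := pow_mem hggg j
  have e3 : g ^ 3 = g * g * g := by rw [pow_succ, pow_two]
  have hξ : g ^ (4 ^ n) = g * (g * g * g) ^ j := by
    rw [hj, pow_add, pow_one, pow_mul, e3]
  have hact : ∀ t ∈ om T, MulAut.conj (g ^ (4 ^ n)) t = MulAut.conj g t := by
    intro t ht
    rw [hξ, map_mul, MulAut.mul_apply]
    congr 1
    rw [MulAut.conj_apply]
    have := setLike_mul_comm hT ht.1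
    rw [this, mul_inv_cancel_right]
  refine ⟨g ^ (4 ^ n), ?_, ?_, ?_, ?_⟩
  · have e4 : g ^ (4 ^ n) * g ^ (4 ^ n) * g ^ (4 ^ n) = ((g * g * g) ^ (2 ^ n)) ^ (2 ^ n) := by
      rw [← pow_mul, ← mul_pow, ← e3, ← pow_mul, ← pow_add, ← pow_add]
      congr 1
      ring
    rw [e4, h.exp _ hggg, one_pow]
  · rw [hact _ h1, c1]
  · rw [hact _ h2, c2]
  · rw [hact _ hz, c3]

/-- coordinates for given elements -/
theorem exists_coord {a1 a2 z x ξ s k : Γ} (hz : z ∈ om T) (h1 : a1 ∈ om T) (h2 : a2 ∈ om T) (hI : Indep a1 a2 z)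
    (X1 : MulAut.conj x a1 = a1 * z) (X2 : MulAut.conj x a2 = a2 * z) (X3 : MulAut.conj x z = z)
    (Y1 : MulAut.conj ξ a1 = a2) (Y2 : MulAut.conj ξ a2 = a1 * a2 * z) (Y3 : MulAut.conj ξ z = z)
    (S1 : MulAut.conj s a1 = a2) (S2 : MulAut.conj s a2 = a1) (S3 : MulAut.conj s z = z)
    (K1 : MulAut.conj k a1 = a1) (K2 : MulAut.conj k a2 = a1 * z) (K3 : MulAut.conj k z = a1 * a2) :
    ∃ φ : ℤ → ℤ → ℤ → Additive T,
      IsCoord n (act T (ξ * x * (ξ * ξ))) (act T (ξ * ξ * x * ξ)) (act T x) (act T ξ) (act T s) φ ∧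
      (∀ m, act T k (act T x m) = act T s (act T k m)) ∧
      φ (2 ^ (n - 1)) (2 ^ (n - 1)) (2 ^ (n - 1)) = Additive.ofMul ⟨z, hz.1⟩ := by
  have hsq : ∀ x ∈ om T, x * x = 1 := fun x hx => hx.2
  have hcomm : ∀ x ∈ om T, ∀ y ∈ om T, x * y = y * x := fun x hx y hy => setLike_mul_comm hx.1 hy.1
  have r1 : a1 * a1 = 1 := hsq a1 h1
  have r2 : a2 * a2 = 1 := hsq a2 h2
  have r3 : z * z = 1 := hsq z hz
  have r1' : ∀ x, a1 * (a1 * x) = x := fun x => by rw [← mul_assoc, r1, one_mul]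
  have r2' : ∀ x, a2 * (a2 * x) = x := fun x => by rw [← mul_assoc, r2, one_mul]
  have r3' : ∀ x, z * (z * x) = x := fun x => by rw [← mul_assoc, r3, one_mul]
  have q1 : a2 * a1 = a1 * a2 := hcomm _ h2 _ h1
  have q2 : z * a1 = a1 * z := hcomm _ hz _ h1
  have q3 : z * a2 = a2 * z := hcomm _ hz _ h2
  have q1' : ∀ x, a2 * (a1 * x) = a1 * (a2 * x) := fun x => by rw [← mul_assoc, q1, mul_assoc]
  have q2' : ∀ x, z * (a1 * x) = a1 * (z * x) := fun x => by rw [← mul_assoc, q2, mul_assoc]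
  have q3' : ∀ x, z * (a2 * x) = a2 * (z * x) := fun x => by rw [← mul_assoc, q3, mul_assoc]
  have hone : ∀ u : Γ, MulAut.conj (1 : Γ) u = u := fun u => by simp
  -- transfer of an identity
  have tr : ∀ g g' : Γ, MulAut.conj g a1 = MulAut.conj g' a1 → MulAut.conj g a2 = MulAut.conj g' a2 →
      MulAut.conj g z = MulAut.conj g' z → ∀ t, act T g t = act T g' t :=
    fun g g' e1 e2 e3 t => agree_conj h h1 h2 hz hI e1 e2 e3 t
  have two : ∀ m : Additive T, 2 • m = 0 → ((m.toMul : T) : Γ) ∈ om T := by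
    intro m hm
    refine ⟨(m.toMul).2, ?_⟩
    rw [two_smul] at hm
    exact congrArg (fun u : Additive T => ((u.toMul : T) : Γ)) hm
  have act_iff : ∀ (g : Γ) (m m' : Additive T), act T g m = m' ↔
      MulAut.conj g ((m.toMul : T) : Γ) = ((m'.toMul : T) : Γ) := by
    intro g m m'
    rw [← coe_act' ]
    exact ⟨fun e => by rw [e], fun e => Additive.toMul.injective (Subtype.ext e)⟩
  have ex2 : ∀ u, u ∈ om T → u * u = 1 := hsq
  obtain ⟨i1, i2, i3, i4, i5, i6, i7⟩ := id hI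
  have inj : ∀ u v : Γ, u * u = 1 → u * v = 1 → v = u := fun u v e e' => mul_left_cancel (e'.trans e.symm)
  have n3 : a1 * a2 ≠ 1 := fun e => i3 (inj _ _ r1 e)
  have n5 : a1 * z ≠ 1 := fun e => i5 (inj _ _ r1 e)
  have n6 : a2 * z ≠ 1 := fun e => i6 (inj _ _ r2 e)
  have n7 : a1 * (a2 * z) ≠ 1 := by
    intro e
    apply i7
    apply inj (a1 * a2) z (hsq _ (mul_mem h1 h2))
    rw [mul_assoc]; exact e
  have hA : Act (Additive T) n (act T (ξ * x * (ξ * ξ))) (act T (ξ * ξ * x * ξ)) (act T x) (act T ξ) (act T s)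
      (Additive.ofMul ⟨z, hz.1⟩) := by
    have hexp : ∀ m : Additive T, (2 ^ n : ℕ) • m = 0 := by
      intro m
      apply Additive.toMul.injective
      apply Subtype.ext
      have := h.exp _ (m.toMul).2
      rw [toMul_nsmul]
      exact this
    have h8 : Nat.card (pw (Additive T) 1).ker ≤ 8 := by
      refine le_trans (Nat.card_le_card_of_injective (β := om T)
        (fun x : (pw (Additive T) 1).ker => ⟨((x : Additive T).toMul : T), ?_⟩) ?_) h.card_om
      · apply two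
        have := x.2
        rw [AddMonoidHom.mem_ker, pw_apply, pow_one] at this
        exact this
      · intro u v huv
        apply Subtype.ext
        apply Additive.toMul.injective
        apply Subtype.ext
        exact congrArg (fun w : om T => (w : Γ)) huv
    have hz2 : 2 • (Additive.ofMul (⟨z, hz.1⟩ : T)) = 0 := by
      rw [two_smul]
      apply Additive.toMul.injective
      exact Subtype.ext r3
    have hz0 : (Additive.ofMul (⟨z, hz.1⟩ : T)) ≠ 0 := by
      intro e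
      exact i4 (congrArg (fun u : Additive T => ((u.toMul : T) : Γ)) e)
    refine ⟨h.hn, h.card, hexp, h8, ?_, ?_, ?_, ?_, ?_, ?_, ?_, ?_, ?_, ?_, ?_, ?_, ?_, ?_, ?_, ?_, ?_, hz2, hz0,
      ?_, ?_, ?_, ?_, ?_, ?_, ?_, ?_, ?_⟩
    case refine_1 | refine_2 | refine_3 | refine_10 =>
      intro m
      simp only [← act_mul]
      rw [← act_one m, ← act_mul, mul_one]
      apply tr <;>
      simp only [map_mul, MulAut.mul_apply, X1, X2, X3, Y1, Y2, Y3, S1, S2, S3, mul_assoc, r1, r2, r3, r1', r2', r3', q1, q2, q3,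
        q1', q2', q3', mul_one, one_mul, map_one, MulAut.one_apply]
    case refine_4 | refine_5 | refine_6 | refine_7 | refine_8 | refine_9 | refine_11 | refine_12 | refine_13 | refine_14 |
        refine_15 | refine_16 | refine_17 =>
      intro m
      simp only [← act_mul]
      apply tr <;>
      simp only [map_mul, MulAut.mul_apply, X1, X2, X3, Y1, Y2, Y3, S1, S2, S3, mul_assoc, r1, r2, r3, r1', r2', r3', q1, q2, q3,
        q1', q2', q3', mul_one, one_mul, map_one, MulAut.one_apply]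
    case refine_18 | refine_19 | refine_20 | refine_21 =>
      rw [act_iff]
      simp only [toMul_ofMul, map_mul, MulAut.mul_apply, X1, X2, X3, Y1, Y2, Y3, S1, S2, S3]
    case refine_22 =>
      intro m hm hm1 hm2
      rw [act_iff] at hm1 hm2
      have hu := two m hm
      set u : Γ := ((m.toMul : T) : Γ) with hudef
      have e1 : MulAut.conj (ξ * x * (ξ * ξ)) u * u = 1 := by rw [hm1]; exact hsq _ hu
      have e2 : MulAut.conj (ξ * ξ * x * ξ) u * u = 1 := by rw [hm2]; exact hsq _ hu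
      have key : u = 1 ∨ u = z := by
        rcases h.span h1 h2 hz hI hu with (e | e | e | e) | (e | e | e | e) <;> rw [e] at e1 e2 ⊢ <;>
        simp only [map_mul, MulAut.mul_apply, X1, X2, X3, Y1, Y2, Y3, S1, S2, S3, mul_assoc, r1, r2, r3, r1', r2', r3',
          q1, q2, q3, q1', q2', q3', mul_one, one_mul, map_one, MulAut.one_apply, i4, i1, i2, n3, n5, n6, n7, true_or,
          or_true, or_false, false_or] at e1 e2 ⊢
      rcases key with e | e
      · left; exact Additive.toMul.injective (Subtype.ext e)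
      · right; exact Additive.toMul.injective (Subtype.ext e)
    case refine_23 =>
      intro m hm hm1
      rw [act_iff] at hm1
      have hu := two m hm
      set u : Γ := ((m.toMul : T) : Γ) with hudef
      have e1 : MulAut.conj ξ u * u = 1 := by rw [hm1]; exact hsq _ hu
      have key : u = 1 ∨ u = z := by
        rcases h.span h1 h2 hz hI hu with (e | e | e | e) | (e | e | e | e) <;> rw [e] at e1 ⊢ <;>
        simp only [map_mul, MulAut.mul_apply, X1, X2, X3, Y1, Y2, Y3, S1, S2, S3, mul_assoc, r1, r2, r3, r1', r2', r3',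
          q1, q2, q3, q1', q2', q3', mul_one, one_mul, map_one, MulAut.one_apply, i4, i1, i2, n3, n5, n6, n7, true_or,
          or_true, or_false, false_or] at e1 ⊢
      rcases key with e | e
      · left; exact Additive.toMul.injective (Subtype.ext e)
      · right; exact Additive.toMul.injective (Subtype.ext e)
    case refine_24 =>
      intro m hm
      have hu := two m hm
      rw [act_iff, act_iff]
      have e0 : (((m + Additive.ofMul (⟨z, hz.1⟩ : T)).toMul : T) : Γ) = ((m.toMul : T) : Γ) * z := rfl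
      rw [e0]
      set u : Γ := ((m.toMul : T) : Γ) with hudef
      rcases h.span h1 h2 hz hI hu with (e | e | e | e) | (e | e | e | e) <;> rw [e] <;>
        simp only [map_mul, MulAut.mul_apply, X1, X2, X3, Y1, Y2, Y3, S1, S2, S3, mul_assoc, r1, r2, r3, r1', r2', r3',
          q1, q2, q3, q1', q2', q3', mul_one, one_mul, map_one, MulAut.one_apply, true_or, or_true]
    case refine_25 =>
      intro m hm
      have hu := two m hm
      rw [act_iff, act_iff]
      have e0 : (((m + Additive.ofMul (⟨z, hz.1⟩ : T)).toMul : T) : Γ) = ((m.toMul : T) : Γ) * z := rfl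
      rw [e0]
      set u : Γ := ((m.toMul : T) : Γ) with hudef
      rcases h.span h1 h2 hz hI hu with (e | e | e | e) | (e | e | e | e) <;> rw [e] <;>
        simp only [map_mul, MulAut.mul_apply, X1, X2, X3, Y1, Y2, Y3, S1, S2, S3, mul_assoc, r1, r2, r3, r1', r2', r3',
          q1, q2, q3, q1', q2', q3', mul_one, one_mul, map_one, MulAut.one_apply, true_or, or_true]
    case refine_26 =>
      refine ⟨Additive.ofMul ⟨a2, h2.1⟩, ?_, ?_⟩
      · rw [two_smul]
        apply Additive.toMul.injective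
        exact Subtype.ext r2
      · rw [act_iff]
        have e0 : (((Additive.ofMul (⟨a2, h2.1⟩ : T) + Additive.ofMul (⟨z, hz.1⟩ : T)).toMul : T) : Γ) = a2 * z := rfl
        rw [e0]
        simp only [toMul_ofMul, map_mul, MulAut.mul_apply, X1, X2, X3, Y1, Y2, Y3, S1, S2, S3, mul_assoc, r1, r2, r3, r1', r2', r3',
          q1, q2, q3, q1', q2', q3', mul_one, one_mul, map_one, MulAut.one_apply, true_or, or_true]
  have hK : ∀ m, act T k (act T x m) = act T s (act T k m) := by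
    intro m
    simp only [← act_mul]
    apply tr <;>
    simp only [map_mul, MulAut.mul_apply, X1, X2, X3, Y1, Y2, Y3, S1, S2, S3, K1, K2, K3, mul_assoc, r1, r2, r3, r1', r2', r3',
      q1, q2, q3, q1', q2', q3', mul_one, one_mul, map_one, MulAut.one_apply]
  obtain ⟨φ, hφ⟩ := hA.exists_coord (act T k) (map_zero _) (map_add _)
    (fun m => ⟨act T k⁻¹ m, by rw [← act_mul, mul_inv_cancel, act_one]⟩) hK
  refine ⟨φ, hφ, hK, ?_⟩
  have hn := h.hn
  have hpow : (2 : ℤ) ^ n = 2 ^ (n - 1) * 2 := by rw [← pow_succ, Nat.sub_add_cancel hn]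
  have hcongr : ∀ a b c a' b' c', (2 : ℤ) ^ n ∣ a - a' → (2 : ℤ) ^ n ∣ b - b' → (2 : ℤ) ^ n ∣ c - c' →
      φ a b c = φ a' b' c' := by
    intro a b c a' b' c' h1 h2 h3
    have : φ a b c = φ (a - a') (b - b') (c - c') + φ a' b' c' := by
      rw [hφ.add]; congr 1 <;> ring
    rw [this, (hφ.eq_zero _ _ _).mpr ⟨h1, h2, h3⟩, zero_add]
  have d1 : (2 : ℤ) ^ n ∣ 2 ^ (n - 1) - 2 ^ (n - 1) := by rw [sub_self]; exact dvd_zero _
  have d2 : (2 : ℤ) ^ n ∣ -2 ^ (n - 1) - 2 ^ (n - 1) - 2 ^ (n - 1) - 2 ^ (n - 1) :=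
    ⟨-2, by rw [hpow]; ring⟩
  have f1 : 2 • φ (2 ^ (n - 1)) (2 ^ (n - 1)) (2 ^ (n - 1)) = 0 := by
    rw [two_smul, hφ.add, hφ.eq_zero]
    refine ⟨⟨1, ?_⟩, ⟨1, ?_⟩, ⟨1, ?_⟩⟩ <;> rw [hpow] <;> ring
  have f2 : act T (ξ * x * (ξ * ξ)) (φ (2 ^ (n - 1)) (2 ^ (n - 1)) (2 ^ (n - 1))) =
      φ (2 ^ (n - 1)) (2 ^ (n - 1)) (2 ^ (n - 1)) := by
    rw [hφ.R1_φ]
    exact hcongr _ _ _ _ _ _ d1 d1 d2
  have f3 : act T (ξ * ξ * x * ξ) (φ (2 ^ (n - 1)) (2 ^ (n - 1)) (2 ^ (n - 1))) =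
      φ (2 ^ (n - 1)) (2 ^ (n - 1)) (2 ^ (n - 1)) := by
    rw [hφ.R2_φ]
    exact hcongr _ _ _ _ _ _ d1 d2 d1
  rcases hA.fixV _ f1 f2 f3 with e | e
  · exfalso
    have := ((hφ.eq_zero _ _ _).mp e).1
    have h3 := Int.le_of_dvd (by positivity) this
    rw [hpow] at h3
    have : (0 : ℤ) < 2 ^ (n - 1) := by positivity
    omega
  · exact e

/-- **Step 1.** -/
theorem exists_pre {z : Γ} (hz : z ∈ om T) (hz1 : z ≠ 1) :
    ∃ (τ : ℤ → ℤ → ℤ → Γ) (x3 ξ s k : Γ), Pre T n z τ x3 ξ s k := by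
  obtain ⟨a1, a2, h1, h2, hI⟩ := h.exists_basis hz hz1
  obtain ⟨x, xx, X1, X2, X3⟩ := h.exists_x3 hz h1 h2 hI
  obtain ⟨ξ, ξξξ, Y1, Y2, Y3⟩ := exists_xi h hz h1 h2 hI
  have hsq : ∀ x ∈ om T, x * x = 1 := fun x hx => hx.2
  have hcomm : ∀ x ∈ om T, ∀ y ∈ om T, x * y = y * x := fun x hx y hy => setLike_mul_comm hx.1 hy.1
  obtain ⟨i1, i2, i3, i4, i5, i6, i7⟩ := id hI
  have inj : ∀ u v : Γ, u * u = 1 → u * v = 1 → v = u := fun u v e e' => mul_left_cancel (e'.trans e.symm)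
  have hIs : Indep a2 a1 z := by
    refine ⟨i2, i1, i3.symm, i4, i6, i5, ?_⟩
    rw [hcomm a2 h2 a1 h1]; exact i7
  have hIk : Indep a1 (a1 * z) (a1 * a2) := by
    refine ⟨i1, ?_, ?_, ?_, ?_, ?_, ?_⟩
    · intro e; exact i5 (inj _ _ (hsq _ h1) e)
    · intro e; exact i4 (mul_eq_left.mp e)
    · intro e; exact i3 (inj _ _ (hsq _ h1) e)
    · intro e; exact i2 (mul_eq_left.mp e)
    · intro e; exact i6 (mul_left_cancel e).symm
    · rw [← mul_assoc, hsq _ h1, one_mul]
      intro e; exact i7 e.symm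
  obtain ⟨s, S1, S2, S3⟩ := h.full a1 a2 z a2 a1 z h1.1 h1.2 h2.1 h2.2 hz.1 hz.2 h2.1 h2.2 h1.1 h1.2 hz.1 hz.2 hI hIs
  obtain ⟨k, K1, K2, K3⟩ := h.full a1 a2 z a1 (a1 * z) (a1 * a2) h1.1 h1.2 h2.1 h2.2 hz.1 hz.2 h1.1 h1.2
    (mul_mem h1 hz).1 (mul_mem h1 hz).2 (mul_mem h1 h2).1 (mul_mem h1 h2).2 hI hIk
  obtain ⟨φ, hφ, hK, hφz⟩ := exists_coord h hz h1 h2 hI (x := x) (ξ := ξ) (s := s) (k := k) X1 X2 X3 Y1 Y2 Y3 S1 S2 S3 K1 K2 K3
  have cj : ∀ (g : Γ) (m m' : Additive T), act T g m = m' → g * ((m.toMul : T) : Γ) = ((m'.toMul : T) : Γ) * g := by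
    intro g m m' e
    rw [← e, coe_act]
    group
  refine ⟨fun a b c => (((φ a b c).toMul : T) : Γ), x, ξ, s, k, ?_, ?_, ?_, xx, ξξξ, ?_, ?_, ?_, ?_, ?_⟩
  · intro a b c a' b' c'
    rw [← hφ.add]; rfl
  · intro a b c
    rw [← hφ.eq_zero]
    constructor
    · intro e; exact Additive.toMul.injective (Subtype.ext e)
    · intro e; rw [e]; rfl
  · intro g
    constructor
    · intro hg
      obtain ⟨a, b, c, e⟩ := hφ.surj (Additive.ofMul ⟨g, hg⟩)
      exact ⟨a, b, c, by rw [← e]; rfl⟩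
    · rintro ⟨a, b, c, rfl⟩
      exact ((φ a b c).toMul).2
  · intro a b c
    exact cj _ _ _ (hφ.R3_φ a b c)
  · intro a b c
    exact cj _ _ _ (hφ.X_φ a b c)
  · intro a b c
    exact cj _ _ _ (hφ.s_φ a b c)
  · intro a b c
    apply cj
    rw [← hφ.s_φ]
    have := hK (act T k⁻¹ (φ a b c))
    simp only [← act_mul] at this
    rw [show k * (x * k⁻¹) = k * x * k⁻¹ by group, show s * (k * k⁻¹) = s by group] at this
    exact this
  · -- `z`
    simp only [hφz]
    rfl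

end Cfsg.Agent.ONType.ExtPre
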