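import Cfsg.Agent.ONType.ExtPre

/-!
# O'Nan type groups: the extension, steps 2 to 4

The relations.
-/

set_option autoImplicit false
set_option linter.unusedSectionVars false
set_option linter.unusedVariables false
set_option linter.unusedSimpArgs false
set_option linter.unusedTactic false
set_option linter.unreachableTactic false

namespace Cfsg.Agent.ONType.ExtRel

open Subgroup
open scoped IsMulCommutative
open Cfsg.Agent.ONType.Coord Cfsg.Agent.ONType.Rel Cfsg.Agent.ONType.Span Cfsg.Agent.ONType.Ext Cfsg.Agent.ONType.ExtPre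

/-- relations of the element of order 3 -/
structure XiRel {G : Type*} [Group G] (τ : ℤ → ℤ → ℤ → G) (x1 x2 x3 s ξ : G) : Prop where
  ξξξ : ξ * ξ * ξ = 1
  ξτ : ∀ a b c, ξ * τ a b c = τ a (-a - b - c) b * ξ
  ξx3 : ξ * x3 = x1 * ξ
  ξx1 : ξ * x1 = x2 * ξ
  ξx2 : ξ * x2 = x3 * ξ
  sξ : s * ξ = ξ * ξ * s

/-- inverse of 3 modulo `2^n` -/
theorem exists_third (n : ℕ) (b : ℤ) : ∃ r : ℤ, (2 : ℤ) ^ n ∣ 3 * r - b := by
  have hc : IsCoprime (3 : ℤ) (2 ^ n) := by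
    apply IsCoprime.pow_right
    rw [Int.isCoprime_iff_gcd_eq_one]; decide
  obtain ⟨u, v, huv⟩ := hc
  exact ⟨u * b, ⟨-(v * b), by linear_combination b * huv⟩⟩

section

variable {Γ : Type*} [Group Γ] {T : Subgroup Γ} [T.Normal] [IsMulCommutative T] {n : ℕ} {z : Γ} {τ : ℤ → ℤ → ℤ → Γ}
  {x3 ξ s k : Γ} (P : Pre T n z τ x3 ξ s k)
include P

theorem τ_mem (a b c : ℤ) : τ a b c ∈ T := (P.mem _).mpr ⟨a, b, c, rfl⟩

theorem mulr (a b c a' b' c' : ℤ) (y : Γ) : τ a b c * (τ a' b' c' * y) = τ (a + a') (b + b') (c + c') * y := by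
  rw [← mul_assoc, P.mul]

theorem zero : τ 0 0 0 = 1 := (P.one _ _ _).mpr ⟨dvd_zero _, dvd_zero _, dvd_zero _⟩

theorem inv (a b c : ℤ) : (τ a b c)⁻¹ = τ (-a) (-b) (-c) := by
  rw [inv_eq_iff_mul_eq_one, P.mul]
  have : τ (a + -a) (b + -b) (c + -c) = τ 0 0 0 := by congr 1 <;> ring
  rw [this, zero P]

theorem cong {a b c a' b' c' : ℤ} : τ a b c = τ a' b' c' ↔
    (2 : ℤ) ^ n ∣ a - a' ∧ (2 : ℤ) ^ n ∣ b - b' ∧ (2 : ℤ) ^ n ∣ c - c' := by
  rw [← P.one, ← mul_inv_eq_one, inv P, P.mul]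
  simp only [sub_eq_add_neg]

theorem x3τr (a b c : ℤ) (y : Γ) : x3 * (τ a b c * y) = τ (-a - b - c) c b * (x3 * y) := by
  rw [← mul_assoc, P.x3τ, mul_assoc]

theorem ξτr (a b c : ℤ) (y : Γ) : ξ * (τ a b c * y) = τ a (-a - b - c) b * (ξ * y) := by
  rw [← mul_assoc, P.ξτ, mul_assoc]

theorem sτr (a b c : ℤ) (y : Γ) : s * (τ a b c * y) = τ (-a) (-c) (-b) * (s * y) := by
  rw [← mul_assoc, P.sτ, mul_assoc]

theorem x3r (y : Γ) : x3 * (x3 * y) = y := by rw [← mul_assoc, P.x3x3, one_mul]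

theorem ξr (y : Γ) : ξ * (ξ * (ξ * y)) = y := by rw [← mul_assoc, ← mul_assoc, P.ξξξ, one_mul]

theorem ξξ : ξ * (ξ * ξ) = 1 := by rw [← mul_assoc, P.ξξξ]

theorem ξinv : ξ⁻¹ = ξ * ξ := by rw [inv_eq_iff_mul_eq_one, ξξ P]

/-- the action of an element of `TT`: elements of `T` commute -/
theorem comm {t : Γ} (ht : t ∈ T) (a b c : ℤ) : t * τ a b c = τ a b c * t := setLike_mul_comm ht (τ_mem P a b c)

theorem replace {t : Γ} (ht : t ∈ T) (h2 : t * x3 * (t * x3) = 1) : Pre T n z τ (t * x3) ξ s k where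
  mul := P.mul
  one := P.one
  mem := P.mem
  x3x3 := h2
  ξξξ := P.ξξξ
  x3τ := by
    intro a b c
    rw [mul_assoc, P.x3τ, ← mul_assoc, comm P ht, mul_assoc]
  ξτ := P.ξτ
  sτ := P.sτ
  kxτ := by
    intro a b c
    have e : k * (t * x3) * k⁻¹ = (k * t * k⁻¹) * (k * x3 * k⁻¹) := by group
    have hk : k * t * k⁻¹ ∈ T := Subgroup.Normal.conj_mem ‹_› t ht k
    rw [e, mul_assoc, P.kxτ, ← mul_assoc, comm P hk, mul_assoc]
  hz := P.hz

theorem replace_s {t : Γ} (ht : t ∈ T) : Pre T n z τ x3 ξ (t * s) k where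
  mul := P.mul
  one := P.one
  mem := P.mem
  x3x3 := P.x3x3
  ξξξ := P.ξξξ
  x3τ := P.x3τ
  ξτ := P.ξτ
  sτ := by
    intro a b c
    rw [mul_assoc, P.sτ, ← mul_assoc, comm P ht, mul_assoc]
  kxτ := P.kxτ
  hz := P.hz

/-- **Step 2.** -/
theorem step2 (triv : ∀ g, (∀ a b c, g * τ a b c = τ a b c * g) → g ∈ T) :
    ∃ x3' : Γ, Pre T n z τ x3' ξ s k ∧ x3' * (ξ * x3' * (ξ * ξ)) * (ξ * ξ * x3' * ξ) = 1 := by
  have hp : x3 * (ξ * x3 * (ξ * ξ)) * (ξ * ξ * x3 * ξ) ∈ T := by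
    apply triv
    intro a b c
    simp only [mul_assoc, P.x3τ, P.ξτ, x3τr P, ξτr P, ← comm P (τ_mem P a b c)]
    congr 1
    congr 1 <;> ring
  obtain ⟨a, b, c, hp⟩ := (P.mem _).mp hp
  have e1 : x3 * τ a b c * x3 = ξ * τ a b c * (ξ * ξ) := by
    rw [← hp]
    simp only [mul_assoc, x3r P, ξr P, ξξ P, mul_one, P.x3x3]
  have e2 : τ (-a - b - c) c b = τ a (-a - b - c) b := by
    have : τ (-a - b - c) c b * (x3 * x3) = τ a (-a - b - c) b * (ξ * (ξ * ξ)) := by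
      simp only [mul_assoc, P.x3τ, P.ξτ, x3τr P, ξτr P] at e1
      exact e1
    rwa [P.x3x3, ξξ P, mul_one, mul_one] at this
  rw [cong P] at e2
  obtain ⟨d1, d2, -⟩ := e2
  have hinv : τ 0 a (-a) * x3 * (τ 0 a (-a) * x3) = 1 := by
    simp only [mul_assoc, x3τr P, mulr P, P.x3x3, mul_one, P.mul]
    rw [P.one]
    refine ⟨⟨0, by ring⟩, ⟨0, by ring⟩, ⟨0, by ring⟩⟩
  refine ⟨τ 0 a (-a) * x3, replace P (τ_mem P _ _ _) hinv, ?_⟩
  have e3 : τ 0 a (-a) * x3 * (ξ * (τ 0 a (-a) * x3) * (ξ * ξ)) * (ξ * ξ * (τ 0 a (-a) * x3) * ξ) =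
      τ (-a) (3 * a) (-a) * (x3 * (ξ * x3 * (ξ * ξ)) * (ξ * ξ * x3 * ξ)) := by
    simp only [mul_assoc, P.x3τ, P.ξτ, x3τr P, ξτr P, mulr P]
    congr 1
    congr 1 <;> ring
  rw [e3, hp, P.mul, P.one]
  obtain ⟨u, hu⟩ := d1
  obtain ⟨v, hv⟩ := d2
  exact ⟨⟨0, by ring⟩, ⟨-2 * u - v, by linear_combination (-2) * hu - hv⟩, ⟨u + v, by linear_combination hu + hv⟩⟩

/-- **Step 3.** -/
theorem step3 (triv : ∀ g, (∀ a b c, g * τ a b c = τ a b c * g) → g ∈ T) :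
    ∃ s' : Γ, Pre T n z τ x3 ξ s' k ∧ s' * ξ = ξ * ξ * s' ∧ s' * s' = 1 := by
  have hinv := ξinv P
  have ht : s * ξ * s⁻¹ * ξ ∈ T := by
    apply triv
    intro a b c
    have hs' : ∀ a b c, s⁻¹ * τ a b c = τ (-a) (-c) (-b) * s⁻¹ := by
      intro a b c
      rw [inv_mul_eq_iff_eq_mul, ← mul_assoc, P.sτ, mul_assoc, mul_inv_cancel, mul_one]
      congr 1 <;> ring
    have hs'' : ∀ a b c y, s⁻¹ * (τ a b c * y) = τ (-a) (-c) (-b) * (s⁻¹ * y) := by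
      intro a b c y
      rw [← mul_assoc, hs', mul_assoc]
    simp only [mul_assoc, P.ξτ, ξτr P, P.sτ, sτr P, hs', hs'', ← comm P (τ_mem P a b c)]
    congr 1
    congr 1 <;> ring
  obtain ⟨a, b, c, ht⟩ := (P.mem _).mp ht
  -- `s ξ s⁻¹ = t ξ⁻¹`
  have e1 : s * ξ = τ a b c * (ξ * ξ) * s := by
    rw [← ht]
    calc s * ξ = s * ξ * s⁻¹ * (ξ * (ξ * ξ)) * s := by rw [ξξ P]; group
      _ = s * ξ * s⁻¹ * ξ * (ξ * ξ) * s := by group
  -- the cube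
  have e2 : τ (a + a + a) (-a) (-a) = 1 := by
    have h1 : (s * ξ * s⁻¹) * (s * ξ * s⁻¹) * (s * ξ * s⁻¹) = 1 := by
      calc (s * ξ * s⁻¹) * (s * ξ * s⁻¹) * (s * ξ * s⁻¹) = s * (ξ * ξ * ξ) * s⁻¹ := by group
        _ = 1 := by rw [P.ξξξ]; group
    have h2 : s * ξ * s⁻¹ = τ a b c * (ξ * ξ) := by rw [e1]; group
    rw [h2] at h1
    simp only [mul_assoc, P.ξτ, ξτr P, mulr P, ξξ P, ξr P, mul_one, P.mul] at h1
    rw [← h1]
    congr 1 <;> ring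
  rw [P.one] at e2
  obtain ⟨-, ⟨u, hu⟩, -⟩ := e2
  obtain ⟨r, ⟨v, hv⟩⟩ := exists_third n (b - c)
  set s0 := τ 0 (r - b) r * s with hs0
  have P0 : Pre T n z τ x3 ξ s0 k := replace_s P (τ_mem P _ _ _)
  have e3 : s0 * ξ = ξ * ξ * s0 := by
    rw [hs0, mul_assoc, e1]
    simp only [mul_assoc, P.ξτ, ξτr P, mulr P, ξξ P, ξr P, mul_one]
    congr 1
    rw [cong P]
    refine ⟨⟨-u, ?_⟩, ⟨0 * v, ?_⟩, ⟨v, ?_⟩⟩
    · linear_combination -hu
    · ring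
    · linear_combination hv
  clear_value s0
  -- the square
  have hq : s0 * s0 ∈ T := by
    apply triv
    intro a b c
    simp only [mul_assoc, P0.sτ, sτr P0, ← comm P (τ_mem P a b c)]
    congr 1
    congr 1 <;> ring
  obtain ⟨a', b', c', hq⟩ := (P.mem _).mp hq
  have f1 : 2 ^ n ∣ a' + 3 * b' ∧ (2 : ℤ) ^ n ∣ c' - b' := by
    have g1 : ξ * (s0 * s0) = (s0 * s0) * ξ := by
      have g0 : s0 * (ξ * ξ) = ξ * s0 := by
        rw [← mul_assoc, e3, mul_assoc, e3, ← mul_assoc, ← mul_assoc, mul_assoc (ξ * ξ) ξ ξ]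
        have : ξ * ξ * (ξ * ξ) = ξ := by rw [← mul_assoc, P.ξξξ, one_mul]
        rw [this]
      rw [← mul_assoc, ← g0, mul_assoc, ← e3, mul_assoc]
    rw [hq, P.ξτ] at g1
    have g2 := mul_right_cancel g1
    rw [cong P] at g2
    obtain ⟨-, ⟨u1, h1⟩, ⟨u2, h2⟩⟩ := g2
    exact ⟨⟨-u1 + u2, by linear_combination -h1 + h2⟩, ⟨-u2, by linear_combination -h2⟩⟩
  have f2 : (2 : ℤ) ^ n ∣ b' + c' := by
    have g1 : s0 * (s0 * s0) = (s0 * s0) * s0 := by rw [mul_assoc]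
    rw [hq, P0.sτ] at g1
    have g2 := mul_right_cancel g1
    rw [cong P] at g2
    obtain ⟨-, ⟨u1, h1⟩, -⟩ := g2
    exact ⟨-u1, by linear_combination -h1⟩
  -- the involution `k x3 k⁻¹`
  have f3 : (2 : ℤ) ^ n ∣ a' := by
    have hmem : k * x3 * k⁻¹ * s0 ∈ T := by
      apply triv
      intro a b c
      have := P.kxτ (-a) (-c) (-b)
      rw [mul_assoc (k * x3 * k⁻¹), P0.sτ, ← mul_assoc, this]
      simp only [neg_neg, mul_assoc]
    obtain ⟨a, b, c, hy⟩ := (P.mem _).mp hmem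
    have g1 : (k * x3 * k⁻¹) * (k * x3 * k⁻¹) = 1 := by
      calc (k * x3 * k⁻¹) * (k * x3 * k⁻¹) = k * (x3 * x3) * k⁻¹ := by group
        _ = 1 := by rw [P.x3x3]; group
    have g2 : τ a b c * s0⁻¹ = k * x3 * k⁻¹ := by rw [← hy]; group
    rw [← g2] at g1
    have g3 : s0⁻¹ * τ a b c * s0 = τ (-a) (-c) (-b) := by
      rw [mul_assoc, inv_mul_eq_iff_eq_mul, P0.sτ]
      congr 1
      congr 1 <;> ring
    have g4 : τ a b c * τ (-a) (-c) (-b) = s0 * s0 := by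
      rw [← g3]
      calc τ a b c * (s0⁻¹ * τ a b c * s0) = (τ a b c * s0⁻¹ * (τ a b c * s0⁻¹)) * (s0 * s0) := by group
        _ = s0 * s0 := by rw [g1, one_mul]
    rw [P.mul, hq, cong P] at g4
    obtain ⟨⟨u1, h1⟩, -, -⟩ := g4
    exact ⟨-u1, by linear_combination -h1⟩
  refine ⟨s0, P0, e3, ?_⟩
  rw [hq, P.one]
  have f4 : (2 : ℤ) ^ n ∣ b' := by
    have hc : IsCoprime ((2 : ℤ) ^ n) 3 := by
      apply IsCoprime.pow_left
      rw [Int.isCoprime_iff_gcd_eq_one]; decide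
    have : (2 : ℤ) ^ n ∣ 3 * b' := by
      have := dvd_sub f1.1 f3
      rwa [add_sub_cancel_left] at this
    exact hc.dvd_of_dvd_mul_left this
  refine ⟨f3, f4, ?_⟩
  have := dvd_add f1.2 f4
  rwa [sub_add_cancel] at this

/-- **Step 4.** -/
theorem step4 (triv : ∀ g, (∀ a b c, g * τ a b c = τ a b c * g) → g ∈ T)
    (hK : ∀ y, x3 * (ξ * (x3 * y)) = ξ * (ξ * (x3 * (ξ * (ξ * y)))))
    (hsξ : s * ξ = ξ * ξ * s) (hss : s * s = 1) : ∃ p, s * x3 * s * x3 = τ p 0 0 := by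
  have hssr : ∀ y, s * (s * y) = y := fun y => by rw [← mul_assoc, hss, one_mul]
  have hsξr : ∀ y, s * (ξ * y) = ξ * (ξ * (s * y)) := fun y => by rw [← mul_assoc, hsξ, mul_assoc, mul_assoc]
  have hsξ' : s * ξ = ξ * (ξ * s) := by rw [hsξ, mul_assoc]
  have hd : s * x3 * s * x3 ∈ T := by
    apply triv
    intro a b c
    simp only [mul_assoc, P.sτ, sτr P, P.x3τ, x3τr P, ← comm P (τ_mem P a b c)]
    congr 1
    congr 1 <;> ring
  obtain ⟨p, q, r, hd⟩ := (P.mem _).mp hd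
  have hsx : s * x3 = τ p q r * (x3 * s) := by
    rw [← hd]
    simp only [mul_assoc, x3r P, hss, mul_one]
  have hsxr : ∀ y, s * (x3 * y) = τ p q r * (x3 * (s * y)) := fun y => by rw [← mul_assoc, hsx, mul_assoc, mul_assoc]
  have c1 : (2 : ℤ) ^ n ∣ q + r := by
    have h1 : s * (x3 * x3) = s := by rw [P.x3x3, mul_one]
    simp only [hsx, hsxr, P.x3τ, x3τr P, mulr P, mul_assoc, x3r P] at h1
    rw [mul_eq_right, P.one] at h1
    obtain ⟨-, h2, -⟩ := h1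
    exact h2
  have c2 : (2 : ℤ) ^ n ∣ r := by
    -- `s x3 (ξ ξ) = ...` and the cube
    have h0 : x3 * (ξ * (x3 * (ξ * (x3 * ξ)))) = 1 := by
      rw [hK]
      simp only [ξr P, x3r P, ξξ P]
    have h1 : s * (x3 * (ξ * (x3 * (ξ * (x3 * ξ))))) = s := by rw [h0, mul_one]
    simp only [hsx, hsxr, hsξr, hsξ', P.x3τ, x3τr P, mulr P, mul_assoc, x3r P, P.ξτ, ξτr P] at h1
    have h2 : x3 * (ξ * (ξ * (x3 * (ξ * (ξ * (x3 * (ξ * (ξ * s)))))))) = s := by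
      rw [← hK (x3 * (ξ * (ξ * s)))]
      simp only [x3r P, ξr P]
    rw [h2, mul_eq_right, P.one] at h1
    obtain ⟨⟨v, hv⟩, -, -⟩ := h1
    exact ⟨-v, by linear_combination -hv⟩
  refine ⟨p, ?_⟩
  rw [hd, cong P]
  refine ⟨⟨0, by ring⟩, ?_, ?_⟩
  · rw [sub_zero]
    exact (Int.dvd_iff_dvd_of_dvd_add c1).mpr c2
  · rw [sub_zero]; exact c2

theorem mkRel (hn : 1 ≤ n) (hK : ∀ y, x3 * (ξ * (x3 * y)) = ξ * (ξ * (x3 * (ξ * (ξ * y)))))
    (hsξ : s * ξ = ξ * ξ * s) (hss : s * s = 1) (hd : s * x3 * s * x3 = τ 1 0 0) :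
    Rel n T τ (ξ * x3 * (ξ * ξ)) (ξ * ξ * x3 * ξ) x3 s ∧ XiRel τ (ξ * x3 * (ξ * ξ)) (ξ * ξ * x3 * ξ) x3 s ξ := by
  have hssr : ∀ y, s * (s * y) = y := fun y => by rw [← mul_assoc, hss, one_mul]
  have hsξr : ∀ y, s * (ξ * y) = ξ * (ξ * (s * y)) := fun y => by rw [← mul_assoc, hsξ, mul_assoc, mul_assoc]
  have hsξ' : s * ξ = ξ * (ξ * s) := by rw [hsξ, mul_assoc]
  have hsx : s * x3 = τ 1 0 0 * (x3 * s) := by
    rw [← hd]
    simp only [mul_assoc, x3r P, hss, mul_one]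
  have hsxr : ∀ y, s * (x3 * y) = τ 1 0 0 * (x3 * (s * y)) := fun y => by rw [← mul_assoc, hsx, mul_assoc, mul_assoc]
  have hK1 : x3 * (ξ * x3) = ξ * (ξ * (x3 * (ξ * ξ))) := by
    have := hK 1
    simpa only [mul_one] using this
  have x1τ : ∀ a b c, (ξ * x3 * (ξ * ξ)) * τ a b c = τ b a (-a - b - c) * (ξ * x3 * (ξ * ξ)) := by
    intro a b c
    simp only [mul_assoc, P.ξτ, ξτr P, P.x3τ, x3τr P]
    congr 1
    congr 1 <;> ring
  have x2τ : ∀ a b c, (ξ * ξ * x3 * ξ) * τ a b c = τ c (-a - b - c) a * (ξ * ξ * x3 * ξ) := by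
    intro a b c
    simp only [mul_assoc, P.ξτ, ξτr P, P.x3τ, x3τr P]
    congr 1
    congr 1 <;> ring
  have hpow : ¬ (2 : ℤ) ^ n ∣ 1 := by
    intro hdvd
    have h2 : (2 : ℤ) ∣ 1 := dvd_trans (dvd_pow_self 2 (by omega)) hdvd
    omega
  -- an element which moves something is not in `T`
  have ncos : ∀ w : Γ, (∃ u ∈ T, ∃ v ∈ T, w * u = v * w ∧ v ≠ u) → ∀ a b c, τ a b c ≠ w := by
    rintro w ⟨u, hu, v, hv, huv, hne⟩ a b c e
    apply hne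
    have hw : w ∈ T := by rw [← e]; exact τ_mem P _ _ _
    rw [setLike_mul_comm hw hu] at huv
    exact (mul_right_cancel huv).symm
  have hne1 : ∀ a b c a' b' c' : ℤ, (a - a' = 1 ∨ b - b' = 1 ∨ c - c' = 1 ∨ a - a' = -1 ∨ b - b' = -1 ∨ c - c' = -1) →
      τ a b c ≠ τ a' b' c' := by
    intro a b c a' b' c' hh e
    rw [cong P] at e
    obtain ⟨e1, e2, e3⟩ := e
    rcases hh with hh | hh | hh | hh | hh | hh
    · rw [hh] at e1; exact hpow e1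
    · rw [hh] at e2; exact hpow e2
    · rw [hh] at e3; exact hpow e3
    · rw [hh, dvd_neg] at e1; exact hpow e1
    · rw [hh, dvd_neg] at e2; exact hpow e2
    · rw [hh, dvd_neg] at e3; exact hpow e3
  refine ⟨⟨P.mul, P.one, P.mem, ?_, ?_, P.x3x3, ?_, ?_, ?_, x1τ, x2τ, P.x3τ, hss, P.sτ, ?_, ?_, ?_, ?_⟩,
    ⟨P.ξξξ, P.ξτ, ?_, ?_, ?_, hsξ⟩⟩
  · simp only [mul_assoc, ξr P, x3r P, ξξ P]
  · simp only [mul_assoc, ξr P, x3r P, ξξ P]
  · simp only [mul_assoc, ξr P, x3r P, ξξ P, hK, hK1, mul_one]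
  · simp only [mul_assoc, ξr P, x3r P, ξξ P, hK, hK1, mul_one]
  · simp only [mul_assoc, ξr P, x3r P, ξξ P, hK, hK1, mul_one]
  · simp only [mul_assoc, hsξr, hsξ', hsxr, ξτr P, ξr P]
    congr 1
  · simp only [mul_assoc, hsξr, hsξ', hsxr, ξτr P, ξr P]
    congr 1
  · rw [hsx, mul_assoc]
  · intro a b c
    refine ⟨ncos _ ⟨τ 1 0 0, τ_mem P _ _ _, τ 0 1 (-1 - 0 - 0), τ_mem P _ _ _, x1τ _ _ _, hne1 _ _ _ _ _ _ (by norm_num)⟩ a b c,
      ncos _ ⟨τ 1 0 0, τ_mem P _ _ _, τ 0 (-1 - 0 - 0) 1, τ_mem P _ _ _, x2τ _ _ _, hne1 _ _ _ _ _ _ (by norm_num)⟩ a b c,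
      ncos _ ⟨τ 0 1 0, τ_mem P _ _ _, τ (-0 - 1 - 0) 0 1, τ_mem P _ _ _, P.x3τ _ _ _, hne1 _ _ _ _ _ _ (by norm_num)⟩ a b c,
      ncos _ ⟨τ 0 1 0, τ_mem P _ _ _, τ (-0) (-0) (-1), τ_mem P _ _ _, P.sτ _ _ _, hne1 _ _ _ _ _ _ (by norm_num)⟩ a b c,
      ncos _ ⟨τ 1 0 0, τ_mem P _ _ _, τ (-0) (-1) (- -1 - -0 - -0), τ_mem P _ _ _, ?_, hne1 _ _ _ _ _ _ (by norm_num)⟩ a b c,
      ncos _ ⟨τ 1 0 0, τ_mem P _ _ _, τ (-0) (- -1 - -0 - -0) (-1), τ_mem P _ _ _, ?_, hne1 _ _ _ _ _ _ (by norm_num)⟩ a b c,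
      ncos _ ⟨τ 0 1 0, τ_mem P _ _ _, τ (- -0 - -0 - -1) (-1) (-0), τ_mem P _ _ _, ?_, hne1 _ _ _ _ _ _ (by norm_num)⟩ a b c⟩
    · rw [mul_assoc, P.sτ, ← mul_assoc, x1τ, mul_assoc]
    · rw [mul_assoc, P.sτ, ← mul_assoc, x2τ, mul_assoc]
    · rw [mul_assoc, P.sτ, ← mul_assoc, P.x3τ, mul_assoc]
  · simp only [mul_assoc, ξr P, x3r P, ξξ P, mul_one]
  · simp only [mul_assoc, ξr P, x3r P, ξξ P, mul_one]
  · simp only [mul_assoc, ξr P, x3r P, ξξ P, mul_one]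

end

/-- a group generated by commuting involutions -/
theorem sq_closure {G : Type*} [Group G] (S : Set G) (hc : ∀ x ∈ S, ∀ y ∈ S, x * y = y * x) (h2 : ∀ x ∈ S, x * x = 1) :
    ∀ x ∈ closure S, x * x = 1 := by
  have hcomm : ∀ x ∈ closure S, ∀ y ∈ closure S, x * y = y * x := by
    have h1 : closure S ≤ centralizer S := by
      rw [closure_le]
      intro x hx y hy
      exact hc y hy x hx
    have h3 : S ⊆ (centralizer (closure S : Set G) : Set G) := by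
      intro x hx
      rw [SetLike.mem_coe, mem_centralizer_iff]
      intro y hy
      exact ((mem_centralizer_iff.mp (h1 hy)) x hx).symm
    have h4 : closure S ≤ centralizer (closure S : Set G) := (closure_le _).mpr h3
    intro x hx y hy
    exact ((mem_centralizer_iff.mp (h4 hx)) y hy).symm
  intro x hx
  induction hx using closure_induction with
  | mem x hx => exact h2 x hx
  | one => exact one_mul 1
  | mul x y hx hy ihx ihy =>
    have := hcomm y hy x hx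
    calc x * y * (x * y) = x * (y * x) * y := by group
      _ = (x * x) * (y * y) := by rw [this]; group
      _ = 1 := by rw [ihx, ihy, one_mul]
  | inv x hx ih => rw [← mul_inv_rev, ih, inv_one]

section

variable {Γ : Type*} [Group Γ] {T : Subgroup Γ} [T.Normal] [IsMulCommutative T] {n : ℕ} {z : Γ} {τ : ℤ → ℤ → ℤ → Γ}
  {x3 ξ s k : Γ} (P : Pre T n z τ x3 ξ s k) [Finite Γ]
include P

/-- no elementary abelian subgroup of order 16 -/
theorem not_comm (hn : 1 ≤ n) (no16 : ∀ E : Subgroup Γ, (∀ x ∈ E, x * x = 1) → Nat.card E ≤ 8) (hss : s * s = 1)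
    (hcomm : s * x3 = x3 * s) : False := by
  have hpow : (2 : ℤ) ^ n = 2 ^ (n - 1) * 2 := by rw [← pow_succ, Nat.sub_add_cancel hn]
  have hnd : ¬ (2 : ℤ) ^ n ∣ 2 ^ (n - 1) := by
    intro hd
    have h3 := Int.le_of_dvd (by positivity) hd
    rw [hpow] at h3
    have : (0 : ℤ) < 2 ^ (n - 1) := by positivity
    omega
  have hnd1 : ¬ (2 : ℤ) ^ n ∣ 1 := by
    intro hdvd
    have h2 : (2 : ℤ) ∣ 1 := dvd_trans (dvd_pow_self 2 (by omega)) hdvd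
    omega
  set e : ℤ := 2 ^ (n - 1) with he
  set u := τ e e e with hu
  set w := τ e 0 0 with hw
  have huw : u * w = w * u := by
    rw [hu, hw, P.mul, P.mul]; congr 1 <;> ring
  have hu2 : u * u = 1 := by
    rw [hu, P.mul, P.one]; refine ⟨⟨1, ?_⟩, ⟨1, ?_⟩, ⟨1, ?_⟩⟩ <;> rw [hpow] <;> ring
  have hw2 : w * w = 1 := by
    rw [hw, P.mul, P.one]; refine ⟨⟨1, ?_⟩, ⟨0, ?_⟩, ⟨0, ?_⟩⟩ <;> rw [hpow] <;> ring
  have hxu : x3 * u = u * x3 := by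
    rw [hu, P.x3τ]; congr 1
    rw [cong P]
    refine ⟨⟨-2, ?_⟩, ⟨0, ?_⟩, ⟨0, ?_⟩⟩ <;> rw [hpow] <;> ring
  have hxw : x3 * w = w * x3 := by
    rw [hw, P.x3τ]; congr 1
    rw [cong P]
    refine ⟨⟨-1, ?_⟩, ⟨0, ?_⟩, ⟨0, ?_⟩⟩ <;> rw [hpow] <;> ring
  have hsu : s * u = u * s := by
    rw [hu, P.sτ]; congr 1
    rw [cong P]
    refine ⟨⟨-1, ?_⟩, ⟨-1, ?_⟩, ⟨-1, ?_⟩⟩ <;> rw [hpow] <;> ring
  have hsw : s * w = w * s := by
    rw [hw, P.sτ]; congr 1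
    rw [cong P]
    refine ⟨⟨-1, ?_⟩, ⟨0, ?_⟩, ⟨0, ?_⟩⟩ <;> rw [hpow] <;> ring
  set S : Set Γ := {u, w, x3, s} with hS
  have hE : ∀ x ∈ closure S, x * x = 1 := by
    apply sq_closure
    · intro x hx y hy
      simp only [hS, Set.mem_insert_iff, Set.mem_singleton_iff] at hx hy
      rcases hx with rfl | rfl | rfl | rfl <;> rcases hy with rfl | rfl | rfl | rfl <;>
        first | rfl | assumption | (symm; assumption)
    · intro x hx
      simp only [hS, Set.mem_insert_iff, Set.mem_singleton_iff] at hx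
      rcases hx with rfl | rfl | rfl | rfl
      · exact hu2
      · exact hw2
      · exact P.x3x3
      · exact hss
  have hcard := no16 _ hE
  have huT : u ∈ T := τ_mem P _ _ _
  have hwT : w ∈ T := τ_mem P _ _ _
  -- `x3` and `s`, `x3 s` are not in `T`
  have nT : ∀ g : Γ, (∀ v ∈ T, g * v = v * g) → g * τ 0 1 0 = τ 0 1 0 * g := fun g hg => hg _ (τ_mem P _ _ _)
  have hcT : ∀ g ∈ T, g * τ 0 1 0 = τ 0 1 0 * g := fun g hg => setLike_mul_comm hg (τ_mem P _ _ _)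
  have hx3T : x3 ∉ T := by
    intro hx
    have := hcT _ hx
    rw [P.x3τ] at this
    have := mul_right_cancel this
    rw [cong P] at this
    apply hnd1
    have h3 := this.2.2
    norm_num at h3
    exact h3
  have hsT : s ∉ T := by
    intro hx
    have := hcT _ hx
    rw [P.sτ] at this
    have := mul_right_cancel this
    rw [cong P] at this
    apply hnd1
    have h3 := this.2.2
    norm_num at h3
    exact h3
  have hI : Indep u w x3 := by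
    refine ⟨?_, ?_, ?_, ?_, ?_, ?_, ?_⟩
    · rw [hu, Ne, P.one]; rintro ⟨h1, -⟩; exact hnd h1
    · rw [hw, Ne, P.one]; rintro ⟨h1, -⟩; exact hnd h1
    · rw [hu, hw, Ne, cong P]
      rintro ⟨-, h1, -⟩
      rw [zero_sub, dvd_neg] at h1
      exact hnd h1
    · rintro e1; exact hx3T (e1 ▸ one_mem _)
    · rintro e1; exact hx3T (e1 ▸ huT)
    · rintro e1; exact hx3T (e1 ▸ hwT)
    · rintro e1; exact hx3T (e1 ▸ mul_mem huT hwT)
  have key := Span.span hcard hE (a := u) (b := w) (c := x3) (subset_closure (by simp [hS])) (subset_closure (by simp [hS]))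
    (subset_closure (by simp [hS])) hI (t := s) (subset_closure (by simp [hS]))
  have key2 : s ∈ T ∨ ∃ v ∈ T, s = v * x3 := by
    rcases key with (e | e | e | e) | (e | e | e | e)
    · exact absurd (e ▸ one_mem _) hsT
    · exact absurd (e ▸ huT) hsT
    · exact absurd (e ▸ hwT) hsT
    · exact absurd (e ▸ mul_mem huT hwT) hsT
    · exact Or.inr ⟨1, one_mem _, by rw [one_mul]; exact e⟩
    · exact Or.inr ⟨u, huT, e⟩
    · exact Or.inr ⟨w, hwT, e⟩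
    · exact Or.inr ⟨u * w, mul_mem huT hwT, e⟩
  rcases key2 with h1 | ⟨v, hv, e1⟩
  · exact hsT h1
  · have h1 := P.sτ 0 1 0
    rw [e1, mul_assoc, P.x3τ, ← mul_assoc, setLike_mul_comm hv (τ_mem P _ _ _), mul_assoc] at h1
    have := mul_right_cancel h1
    rw [cong P] at this
    apply hnd1
    have h3 := this.1
    norm_num at h3
    exact h3

end

/-- **The extension.** -/
theorem exists_rel {Γ : Type*} [Group Γ] {T : Subgroup Γ} [T.Normal] [IsMulCommutative T] {n : ℕ} (h : Hyp T n) [Finite Γ]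
    {z : Γ} (hz : z ∈ om T) (hz1 : z ≠ 1) :
    ∃ (τ : ℤ → ℤ → ℤ → Γ) (x1 x2 x3 s ξ : Γ), Rel n T τ x1 x2 x3 s ∧ XiRel τ x1 x2 x3 s ξ ∧
      τ (2 ^ (n - 1)) (2 ^ (n - 1)) (2 ^ (n - 1)) = z := by
  obtain ⟨τ, x3, ξ, s, k, P⟩ := ExtPre.exists_pre h hz hz1
  have triv : ∀ g, (∀ a b c, g * τ a b c = τ a b c * g) → g ∈ T := by
    intro g hg
    apply h.faith
    intro t ht _
    obtain ⟨a, b, c, rfl⟩ := (P.mem _).mp ht
    exact hg a b c
  obtain ⟨x3, P, hprod⟩ := step2 P triv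
  have toK : ∀ x3 : Γ, x3 * x3 = 1 → x3 * (ξ * (x3 * (ξ * (x3 * ξ)))) = 1 →
      ∀ y, x3 * (ξ * (x3 * y)) = ξ * (ξ * (x3 * (ξ * (ξ * y)))) := by
    intro x3 h1 h2 y
    have e1 : ξ⁻¹ = ξ * ξ := ξinv P
    have e2 : x3⁻¹ = x3 := inv_eq_of_mul_eq_one_left h1
    have e3 : x3 * ξ * x3 = ξ⁻¹ * x3⁻¹ * ξ⁻¹ := by
      calc x3 * ξ * x3 = x3 * (ξ * (x3 * (ξ * (x3 * ξ)))) * ξ⁻¹ * x3⁻¹ * ξ⁻¹ := by group
        _ = ξ⁻¹ * x3⁻¹ * ξ⁻¹ := by rw [h2, one_mul]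
    rw [e2, e1] at e3
    calc x3 * (ξ * (x3 * y)) = (x3 * ξ * x3) * y := by group
      _ = ξ * (ξ * (x3 * (ξ * (ξ * y)))) := by rw [e3]; simp only [mul_assoc]
  have h0 : x3 * (ξ * (x3 * (ξ * (x3 * ξ)))) = 1 := by
    rw [← hprod]
    simp only [mul_assoc, ξr P]
  obtain ⟨s, P, hsξ, hss⟩ := step3 P triv
  obtain ⟨p, hp⟩ := step4 P triv (toK x3 P.x3x3 h0) hsξ hss
  have hsx : s * x3 = τ p 0 0 * (x3 * s) := by
    rw [← hp]
    simp only [mul_assoc, x3r P, hss, mul_one]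
  have hsxr : ∀ y, s * (x3 * y) = τ p 0 0 * (x3 * (s * y)) := fun y => by rw [← mul_assoc, hsx, mul_assoc, mul_assoc]
  have hssr : ∀ y, s * (s * y) = y := fun y => by rw [← mul_assoc, hss, one_mul]
  -- the replacement
  have hrep : ∀ a : ℤ, (τ a 0 0 * x3 * (τ a 0 0 * x3) = 1) ∧
      (τ a 0 0 * x3) * (ξ * ((τ a 0 0 * x3) * (ξ * ((τ a 0 0 * x3) * ξ)))) = 1 ∧
      s * (τ a 0 0 * x3) * s * (τ a 0 0 * x3) = τ (p - 2 * a) 0 0 := by
    intro a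
    refine ⟨?_, ?_, ?_⟩
    · simp only [mul_assoc, x3τr P, mulr P, P.x3x3, mul_one, P.mul]
      rw [P.one]
      refine ⟨⟨0, by ring⟩, ⟨0, by ring⟩, ⟨0, by ring⟩⟩
    · simp only [mul_assoc, x3τr P, ξτr P, mulr P, P.mul]
      rw [h0, mul_one, P.one]
      refine ⟨⟨0, by ring⟩, ⟨0, by ring⟩, ⟨0, by ring⟩⟩
    · simp only [mul_assoc, x3τr P, ξτr P, sτr P, hsxr, hsx, mulr P, P.mul, hss, hssr, mul_one, P.x3x3, x3r P]
      rw [cong P]
      refine ⟨⟨0, by ring⟩, ⟨0, by ring⟩, ⟨0, by ring⟩⟩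
  rcases Int.even_or_odd' p with ⟨a, ha | ha⟩
  · exfalso
    obtain ⟨e1, e2, e3⟩ := hrep a
    have P' := replace P (τ_mem P a 0 0) e1
    have e4 : s * (τ a 0 0 * x3) * s * (τ a 0 0 * x3) = 1 := by
      rw [e3, ha, sub_self]; exact zero P
    refine not_comm P' h.hn h.no16 hss ?_
    calc s * (τ a 0 0 * x3) = (s * (τ a 0 0 * x3) * s * (τ a 0 0 * x3)) * (τ a 0 0 * x3)⁻¹ * s⁻¹ := by group
      _ = (τ a 0 0 * x3) * s := by
        rw [e4, one_mul, inv_eq_of_mul_eq_one_left e1, inv_eq_of_mul_eq_one_left hss]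
  · obtain ⟨e1, e2, e3⟩ := hrep a
    have P' := replace P (τ_mem P a 0 0) e1
    have e4 : s * (τ a 0 0 * x3) * s * (τ a 0 0 * x3) = τ 1 0 0 := by
      rw [e3, ha]; congr 1; ring
    obtain ⟨hR, hX⟩ := mkRel P' h.hn (toK _ e1 e2) hsξ hss e4
    exact ⟨τ, _, _, _, s, ξ, hR, hX, P.hz⟩

end Cfsg.Agent.ONType.ExtRel
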