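import Cfsg.Agent.ONType.Control

/-!
# O'Nan type groups: the first fusion step, `Sit → Conj`

`x3 ~ z` gives `h ∈ C_G(z)` with `x3^h = w`, `C_S(x3)^h ≤ T⟨x3⟩` and `v^h = v^±1`.
-/

set_option autoImplicit false
set_option linter.unusedSectionVars false
set_option linter.unusedVariables false
set_option linter.unusedSimpArgs false
set_option linter.unusedTactic false
set_option linter.unreachableTactic false
set_option linter.dupNamespace false
set_option linter.unnecessarySeqFocus false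

namespace Cfsg.Agent.ONType.Fus

open Subgroup
open scoped Pointwise
open Cfsg.Agent.ONType.Rel Cfsg.Agent.ONType.Span Cfsg.Agent.ONType.Sit Cfsg.Agent.ONType.Facts Cfsg.Agent.ONType.Control

/-- conjugating a 2-subgroup of `H` into the Sylow 2-subgroup `S ≤ H` of `G` inside `H` -/
theorem exists_conj_into {G : Type*} [Group G] [Finite G] {S : Sylow 2 G} {H P : Subgroup G}
    (hS : (S : Subgroup G) ≤ H) (hP : IsPGroup 2 P) (hPH : P ≤ H) :
    ∃ h ∈ H, ∀ y ∈ P, h * y * h⁻¹ ∈ (S : Subgroup G) := by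
  let S' : Sylow 2 H := S.subtype hS
  have h2 : IsPGroup 2 (P.subgroupOf H) := hP.comap_of_injective _ H.subtype_injective
  obtain ⟨Q, hQ⟩ := h2.exists_le_sylow
  obtain ⟨m, hm⟩ := MulAction.exists_smul_eq H Q S'
  refine ⟨m, m.2, ?_⟩
  intro y hy
  have h3 : m * ⟨y, hPH hy⟩ * m⁻¹ ∈ S' := by
    rw [← hm, ← SetLike.mem_coe, Sylow.coe_smul]
    exact Set.mem_image_of_mem _ (hQ (show (⟨y, hPH hy⟩ : H) ∈ P.subgroupOf H from hy))
  exact h3

/-- a 2-subgroup of `H` of order `2^k`, `2^(k+1) ∣ |H|`, is of index 2 in a subgroup of `H` -/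
theorem exists_bigger {G : Type*} [Group G] [Finite G] {H D : Subgroup G} (hDH : D ≤ H) {k : ℕ} (hD : Nat.card D = 2 ^ k)
    (hH : 2 ^ (k + 1) ∣ Nat.card H) : ∃ E : Subgroup G, D ≤ E ∧ E ≤ H ∧ Nat.card E = 2 ^ (k + 1) ∧
      E ≤ normalizer (D : Set G) := by
  obtain ⟨K, hK, hDK⟩ := Sylow.exists_subgroup_card_pow_succ (p := 2) hH (H := D.subgroupOf H)
    (by rw [Nat.card_congr (subgroupOfEquivOfLe hDH).toEquiv, hD])
  have hDE : D ≤ K.map H.subtype := by
    intro d hd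
    exact ⟨⟨d, hDH hd⟩, hDK hd, rfl⟩
  have hcE : Nat.card (K.map H.subtype) = 2 ^ (k + 1) := by
    rw [← hK]; exact (Nat.card_congr (K.equivMapOfInjective _ H.subtype_injective).toEquiv).symm
  refine ⟨K.map H.subtype, hDE, map_subtype_le _, hcE, ?_⟩
  have hidx : (D.subgroupOf (K.map H.subtype)).index = 2 := by
    have h1 := (D.subgroupOf (K.map H.subtype)).card_mul_index
    rw [hcE, Nat.card_congr (subgroupOfEquivOfLe hDE).toEquiv, hD, pow_succ] at h1
    exact Nat.eq_of_mul_eq_mul_left (by positivity) h1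
  rw [← normal_subgroupOf_iff_le_normalizer hDE]
  exact normal_of_index_eq_two hidx

theorem cen_mul {G : Type*} [Group G] {a b y : G} (h1 : y * (a * b * a⁻¹) = (a * b * a⁻¹) * y) : (a⁻¹ * y * a) * b = b * (a⁻¹ * y * a) := by
  calc (a⁻¹ * y * a) * b = a⁻¹ * (y * (a * b * a⁻¹)) * a := by group
    _ = b * (a⁻¹ * y * a) := by rw [h1]; group

section

variable {G : Type*} [Group G] [Finite G] {n : ℕ} {S : Sylow 2 G} {T O : Subgroup G} {τ : ℤ → ℤ → ℤ → G}
  {x1 x2 x3 s ξ : G} (h : Sit n S T O τ x1 x2 x3 s ξ)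
include h

theorem z_central : (S : Subgroup G) ≤ centralizer {τ (2 ^ (n - 1)) (2 ^ (n - 1)) (2 ^ (n - 1))} := by
  have R := h.rel.toRel
  have hn1 : 1 ≤ n := by have := h.hn; omega
  intro g hg
  rw [mem_centralizer_singleton_iff]
  obtain ⟨t, ht, i, rfl⟩ := (mem_S h.rel g).1 hg
  have h1 := W_el R i ht 1 1 1
  have h2 : el n τ (M i 1 1 1).1 (M i 1 1 1).2.1 (M i 1 1 1).2.2 = el n τ 1 1 1 := by
    apply (el_eq R hn1).mpr
    fin_cases i <;> simp [M]
  rw [h2, el_111] at h1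
  calc t * W x1 x2 x3 s i * τ (2 ^ (n - 1)) (2 ^ (n - 1)) (2 ^ (n - 1))
      = (t * W x1 x2 x3 s i * τ (2 ^ (n - 1)) (2 ^ (n - 1)) (2 ^ (n - 1)) * (t * W x1 x2 x3 s i)⁻¹) * (t * W x1 x2 x3 s i) := by group
    _ = _ := by rw [h1]

/-- the centraliser in `S` of `w1 = el 1 1 0` -/
theorem cen_w1 {y : G} (hy : y ∈ (S : Subgroup G)) (hc : y * el n τ 1 1 0 = el n τ 1 1 0 * y) :
    ∃ t ∈ T, y = t ∨ y = t * x1 := by
  have R := h.rel.toRel
  have hn1 : 1 ≤ n := by have := h.hn; omega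
  obtain ⟨t, ht, i, rfl⟩ := (mem_S h.rel y).1 hy
  have h1 := W_el R i ht 1 1 0
  have h2 : t * W x1 x2 x3 s i * el n τ 1 1 0 * (t * W x1 x2 x3 s i)⁻¹ = el n τ 1 1 0 := by
    rw [hc]; group
  rw [h2, el_eq R hn1] at h1
  refine ⟨t, ht, ?_⟩
  fin_cases i
  · left; simp [W]
  · right; simp [W]
  all_goals
    exfalso
    revert h1
    simp [M]
    try norm_num

/-- an involution of `T` different from `z` is conjugate to `w = el 1 0 0` by an element `m ∈ C_G(z)` with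
`C_S(x')^m ≤ S` -/
theorem exists_m {x' : G} (hx : x' ∈ T) (hxx : x' * x' = 1) (hx1 : x' ≠ 1) (hxz : x' ≠ el n τ 1 1 1) :
    ∃ m : G, m ∈ normalizer (T : Set G) ∧ m * el n τ 1 1 1 = el n τ 1 1 1 * m ∧ m * x' * m⁻¹ = el n τ 1 0 0 ∧
      ∀ y ∈ (S : Subgroup G), y * x' = x' * y → m * y * m⁻¹ ∈ (S : Subgroup G) := by
  have R := h.rel.toRel
  have hn1 : 1 ≤ n := by have := h.hn; omega
  have hzc : ∀ g ∈ (S : Subgroup G), g * el n τ 1 1 1 = el n τ 1 1 1 * g := by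
    intro g hg
    rw [el_111]
    exact mem_centralizer_singleton_iff.mp (z_central h hg)
  have hSN := S_le_normalizer h.rel
  -- elements of `S`
  have hS : ∀ g ∈ (S : Subgroup G), g * x' * g⁻¹ = el n τ 1 0 0 →
      ∃ m : G, m ∈ normalizer (T : Set G) ∧ m * el n τ 1 1 1 = el n τ 1 1 1 * m ∧ m * x' * m⁻¹ = el n τ 1 0 0 ∧
      ∀ y ∈ (S : Subgroup G), y * x' = x' * y → m * y * m⁻¹ ∈ (S : Subgroup G) := by
    intro g hg e
    exact ⟨g, hSN hg, hzc g hg, e, fun y hy _ => mul_mem (mul_mem hg hy) (inv_mem hg)⟩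
  have hξz : ξ⁻¹ * el n τ 1 1 1 = el n τ 1 1 1 * ξ⁻¹ := by
    have h1 := ξ_el h 1 1 1
    have h2 : el n τ 1 (-1 - 1 - 1) 1 = el n τ 1 1 1 := by
      apply (el_eq R hn1).mpr; norm_num
    rw [h2] at h1
    calc ξ⁻¹ * el n τ 1 1 1 = ξ⁻¹ * (ξ * el n τ 1 1 1 * ξ⁻¹) := by rw [h1]
      _ = el n τ 1 1 1 * ξ⁻¹ := by group
  have hξw : ξ⁻¹ * el n τ 1 1 0 * ξ = el n τ 1 0 0 := by
    have h1 := ξ_el h 1 0 0
    have h2 : el n τ 1 (-1 - 0 - 0) 0 = el n τ 1 1 0 := by
      apply (el_eq R hn1).mpr; norm_num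
    rw [h2] at h1
    rw [← h1]; group
  have hξx : ξ⁻¹ * x1 * ξ = x3 := by
    rw [mul_assoc, ← h.ξx3, inv_mul_cancel_left]
  have hξ : ∀ g ∈ (S : Subgroup G), g * x' * g⁻¹ = el n τ 1 1 0 →
      ∃ m : G, m ∈ normalizer (T : Set G) ∧ m * el n τ 1 1 1 = el n τ 1 1 1 * m ∧ m * x' * m⁻¹ = el n τ 1 0 0 ∧
      ∀ y ∈ (S : Subgroup G), y * x' = x' * y → m * y * m⁻¹ ∈ (S : Subgroup G) := by
    intro g hg e
    have hξN := ξ_mem h
    refine ⟨ξ⁻¹ * g, mul_mem (inv_mem hξN) (hSN hg), ?_, ?_, ?_⟩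
    · rw [mul_assoc, hzc g hg, ← mul_assoc, hξz, mul_assoc]
    · calc ξ⁻¹ * g * x' * (ξ⁻¹ * g)⁻¹ = ξ⁻¹ * (g * x' * g⁻¹) * ξ := by group
        _ = el n τ 1 0 0 := by rw [e, hξw]
    · intro y hy hyx
      have h1 : g * y * g⁻¹ ∈ (S : Subgroup G) := mul_mem (mul_mem hg hy) (inv_mem hg)
      have h2 : (g * y * g⁻¹) * el n τ 1 1 0 = el n τ 1 1 0 * (g * y * g⁻¹) := by
        rw [← e]
        calc g * y * g⁻¹ * (g * x' * g⁻¹) = g * (y * x') * g⁻¹ := by group
          _ = g * x' * g⁻¹ * (g * y * g⁻¹) := by rw [hyx]; group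
      obtain ⟨t, ht, h3⟩ := cen_w1 h h1 h2
      have h4 : ξ⁻¹ * t * ξ ∈ T := conj_mem' hξN ht
      have e1 : ξ⁻¹ * g * y * (ξ⁻¹ * g)⁻¹ = ξ⁻¹ * (g * y * g⁻¹) * ξ := by group
      rw [e1]
      rcases h3 with h3 | h3
      · rw [h3]; exact T_le_S h.rel h4
      · rw [h3]
        have e2 : ξ⁻¹ * (t * x1) * ξ = (ξ⁻¹ * t * ξ) * (ξ⁻¹ * x1 * ξ) := by group
        rw [e2, hξx]
        exact mul_mem (T_le_S h.rel h4) (W_mem_S h.rel 3)
  have hW : ∀ (i : Fin 8) (a b c a' b' c' : ℤ), ((2 : ℤ) ∣ (M i a b c).1 - a' ∧ (2 : ℤ) ∣ (M i a b c).2.1 - b' ∧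
      (2 : ℤ) ∣ (M i a b c).2.2 - c') → W x1 x2 x3 s i * el n τ a b c * (W x1 x2 x3 s i)⁻¹ = el n τ a' b' c' := by
    intro i a b c a' b' c' hd
    rw [W_el' h]
    exact (el_eq R hn1).mpr hd
  obtain ⟨i, j, k, hi, hj, hk, rfl⟩ := exists_el R hn1 hx hxx
  rcases hi with rfl | rfl <;> rcases hj with rfl | rfl <;> rcases hk with rfl | rfl
  · exact absurd (el_000 R) hx1
  · -- 001
    refine hξ (W x1 x2 x3 s 3) (W_mem_S h.rel 3) (hW 3 _ _ _ _ _ _ (by norm_num [M_3]))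
  · -- 010
    refine hξ (W x1 x2 x3 s 7) (W_mem_S h.rel 7) (hW 7 _ _ _ _ _ _ (by norm_num [M_7]))
  · -- 011
    refine hS (W x1 x2 x3 s 1) (W_mem_S h.rel 1) (hW 1 _ _ _ _ _ _ (by norm_num [M_1]))
  · refine hS 1 (one_mem _) (by group)
  · -- 101
    refine hξ (W x1 x2 x3 s 4) (W_mem_S h.rel 4) (hW 4 _ _ _ _ _ _ (by norm_num [M_4]))
  · refine hξ 1 (one_mem _) (by group)
  · exact absurd rfl hxz

/-- **(3.3)** -/
theorem exists_h (hfus : ∃ k : G, k * x3 * k⁻¹ = τ (2 ^ (n - 1)) (2 ^ (n - 1)) (2 ^ (n - 1))) :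
    ∃ k : G, k * el n τ 1 1 1 = el n τ 1 1 1 * k ∧ k * x3 * k⁻¹ = el n τ 1 0 0 ∧
      ∀ y ∈ (S : Subgroup G), y * x3 = x3 * y → k * y * k⁻¹ ∈ (S : Subgroup G) := by
  have R := h.rel.toRel
  have hn := h.hn
  have hn1 : 1 ≤ n := by omega
  obtain ⟨k, hk⟩ := hfus
  set D : Subgroup G := (S : Subgroup G) ⊓ centralizer {x3} with hD
  have hcD : Nat.card D = 2 ^ (n + 3) := card_D hn h.rel
  have hcS : Nat.card (S : Subgroup G) = 8 ^ (n + 1) := card_S hn h.rel
  have hzS := z_central h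
  -- the order of `C_G(x3)`
  have hdvd : 2 ^ (n + 3 + 1) ∣ Nat.card (centralizer {x3} : Subgroup G) := by
    have h1 : (S : Subgroup G).map (MulAut.conj k⁻¹).toMonoidHom ≤ centralizer {x3} := by
      rintro _ ⟨y, hy, rfl⟩
      have h2 := mem_centralizer_singleton_iff.mp (hzS hy)
      rw [← hk] at h2
      rw [mem_centralizer_singleton_iff]
      change (k⁻¹ * y * k⁻¹⁻¹) * x3 = x3 * (k⁻¹ * y * k⁻¹⁻¹)
      rw [inv_inv]
      exact cen_mul h2
    have h2 := card_dvd_of_le h1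
    have h3 : Nat.card ((S : Subgroup G).map (MulAut.conj k⁻¹).toMonoidHom) = 8 ^ (n + 1) := by
      rw [← hcS]
      exact (Nat.card_congr ((S : Subgroup G).equivMapOfInjective _ (MulAut.conj k⁻¹).injective).toEquiv).symm
    rw [h3] at h2
    refine dvd_trans ?_ h2
    rw [show (8 : ℕ) = 2 ^ 3 by norm_num, ← pow_mul]
    exact pow_dvd_pow 2 (by omega)
  obtain ⟨E, hDE, hEC, hcE, hEN⟩ := exists_bigger (inf_le_right : D ≤ centralizer {x3}) hcD hdvd
  have hEz : E ≤ centralizer {τ (2 ^ (n - 1)) (2 ^ (n - 1)) (2 ^ (n - 1))} := by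
    intro y hy
    rw [mem_centralizer_singleton_iff]
    exact comm_z_of_normalizes hn h.rel (hEN hy)
  have hE2 : IsPGroup 2 E := IsPGroup.of_card hcE
  obtain ⟨g, hg, hgE⟩ := exists_conj_into hzS hE2 hEz
  have hx3E : x3 ∈ E := hDE ⟨W_mem_S h.rel 3, mem_centralizer_singleton_iff.mpr rfl⟩
  set x' := g * x3 * g⁻¹ with hx'
  have hx'S : x' ∈ (S : Subgroup G) := hgE _ hx3E
  have hx'x' : x' * x' = 1 := by
    calc x' * x' = g * (x3 * x3) * g⁻¹ := by rw [hx']; group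
      _ = 1 := by rw [R.x3x3]; group
  have hx'T : x' ∈ T := by
    by_contra hcon
    have h1 := card_cen_invol hn h.rel hx'S hcon hx'x'
    have h2 : E.map (MulAut.conj g).toMonoidHom ≤ (S : Subgroup G) ⊓ centralizer {x'} := by
      rintro _ ⟨y, hy, rfl⟩
      refine mem_inf.mpr ⟨hgE y hy, ?_⟩
      rw [mem_centralizer_singleton_iff]
      have h3 := mem_centralizer_singleton_iff.mp (hEC hy)
      change (g * y * g⁻¹) * (g * x3 * g⁻¹) = (g * x3 * g⁻¹) * (g * y * g⁻¹)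
      calc (g * y * g⁻¹) * (g * x3 * g⁻¹) = g * (y * x3) * g⁻¹ := by group
        _ = _ := by rw [h3]; group
    have h3 := card_le_of_le h2
    have h4 : Nat.card (E.map (MulAut.conj g).toMonoidHom) = 2 ^ (n + 3 + 1) := by
      rw [← hcE]
      exact (Nat.card_congr (E.equivMapOfInjective _ (MulAut.conj g).injective).toEquiv).symm
    rw [h4] at h3
    have h5 : 2 ^ (n + 3) < 2 ^ (n + 3 + 1) := Nat.pow_lt_pow_right (by norm_num) (by omega)
    omega
  have hx3T : x3 ∉ T := by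
    intro hx
    obtain ⟨a, b, c, e⟩ := (R.mem _).mp hx
    exact (R.cos a b c).2.2.1 e.symm
  have hgz : g * el n τ 1 1 1 = el n τ 1 1 1 * g := by
    rw [el_111]; exact mem_centralizer_singleton_iff.mp hg
  have hx'1 : x' ≠ 1 := by
    intro e
    apply hx3T
    have : x3 = g⁻¹ * x' * g := by rw [hx']; group
    rw [this, e]
    have : g⁻¹ * 1 * g = 1 := by group
    rw [this]; exact one_mem _
  have hx'z : x' ≠ el n τ 1 1 1 := by
    intro e
    apply hx3T
    have : x3 = g⁻¹ * x' * g := by rw [hx']; group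
    rw [this, e, mul_assoc, ← hgz, ← mul_assoc, inv_mul_cancel, one_mul]
    exact el_mem R _ _ _
  obtain ⟨m, hmN, hmz, hmx, hmS⟩ := exists_m h hx'T hx'x' hx'1 hx'z
  refine ⟨m * g, ?_, ?_, ?_⟩
  · rw [mul_assoc, hgz, ← mul_assoc, hmz, mul_assoc]
  · rw [← hmx, hx']; group
  · intro y hy hyx
    have hyE : y ∈ E := hDE ⟨hy, mem_centralizer_singleton_iff.mpr hyx⟩
    have h1 := hgE y hyE
    have e : m * g * y * (m * g)⁻¹ = m * (g * y * g⁻¹) * m⁻¹ := by group
    rw [e]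
    apply hmS _ h1
    rw [hx']
    calc (g * y * g⁻¹) * (g * x3 * g⁻¹) = g * (y * x3) * g⁻¹ := by group
      _ = _ := by rw [hyx]; group

/-- the centraliser in `S` of `w = el 1 0 0` -/
theorem cen_w {y : G} (hy : y ∈ (S : Subgroup G)) (hc : y * el n τ 1 0 0 = el n τ 1 0 0 * y) :
    ∃ t ∈ T, ∃ j : Fin 8, (j = 0 ∨ j = 3 ∨ j = 4 ∨ j = 7) ∧ y = t * W x1 x2 x3 s j := by
  have R := h.rel.toRel
  have hn1 : 1 ≤ n := by have := h.hn; omega
  obtain ⟨t, ht, i, rfl⟩ := (mem_S h.rel y).1 hy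
  have h1 := W_el R i ht 1 0 0
  have h2 : t * W x1 x2 x3 s i * el n τ 1 0 0 * (t * W x1 x2 x3 s i)⁻¹ = el n τ 1 0 0 := by
    rw [hc]; group
  rw [h2, el_eq R hn1] at h1
  refine ⟨t, ht, i, ?_, rfl⟩
  clear h2 hc hy
  fin_cases i
  · left; rfl
  · exfalso
    revert h1
    simp [M]
  · exfalso
    revert h1
    simp [M]
  · right; left; rfl
  · right; right; left; rfl
  · exfalso
    revert h1
    simp [M]
  · exfalso
    revert h1
    simp [M]
  · right; right; right; rfl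

/-- the action of `S` on `v` -/
theorem W_v (i : Fin 8) {t : G} (ht : t ∈ T) :
    ((i : ℕ) < 4 → (t * W x1 x2 x3 s i) * τ (2 ^ (n - 2)) (2 ^ (n - 2)) (2 ^ (n - 2)) * (t * W x1 x2 x3 s i)⁻¹ =
      τ (2 ^ (n - 2)) (2 ^ (n - 2)) (2 ^ (n - 2))) ∧
    (4 ≤ (i : ℕ) → (t * W x1 x2 x3 s i) * τ (2 ^ (n - 2)) (2 ^ (n - 2)) (2 ^ (n - 2)) * (t * W x1 x2 x3 s i)⁻¹ =
      (τ (2 ^ (n - 2)) (2 ^ (n - 2)) (2 ^ (n - 2)))⁻¹) := by
  have R := h.rel.toRel
  have hn := h.hn
  have E : (2 : ℤ) ^ n = 4 * 2 ^ (n - 2) := by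
    have : n = (n - 2) + 2 := by omega
    rw [show (2 : ℤ) ^ n = 2 ^ ((n - 2) + 2) by rw [← this], pow_add]; ring
  rw [conj_τ R i ht, τ_inv R]
  constructor
  · intro hi
    rw [tp, τ_eq R]
    fin_cases i
    · simp [M]
    · refine ⟨⟨0, ?_⟩, ⟨0, ?_⟩, ⟨-1, ?_⟩⟩ <;> simp [M, E] <;> ring
    · refine ⟨⟨0, ?_⟩, ⟨-1, ?_⟩, ⟨0, ?_⟩⟩ <;> simp [M, E] <;> ring
    · refine ⟨⟨-1, ?_⟩, ⟨0, ?_⟩, ⟨0, ?_⟩⟩ <;> simp [M, E] <;> ring
    all_goals simp at hi
  · intro hi
    rw [tp, τ_eq R]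
    fin_cases i
    · simp at hi
    · simp at hi
    · simp at hi
    · simp at hi
    · simp [M]
    · refine ⟨⟨0, ?_⟩, ⟨0, ?_⟩, ⟨1, ?_⟩⟩ <;> simp [M, E] <;> ring
    · refine ⟨⟨0, ?_⟩, ⟨1, ?_⟩, ⟨0, ?_⟩⟩ <;> simp [M, E] <;> ring
    · refine ⟨⟨1, ?_⟩, ⟨0, ?_⟩, ⟨0, ?_⟩⟩ <;> simp [M, E] <;> ring

/-- **(3.4)**: `Sit → Conj` -/
theorem exists_conj (hfus : ∃ k : G, k * x3 * k⁻¹ = τ (2 ^ (n - 1)) (2 ^ (n - 1)) (2 ^ (n - 1))) :
    ∃ k : G, Conj n S T τ x3 k := by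
  have R := h.rel.toRel
  have hn := h.hn
  have hn1 : 1 ≤ n := by omega
  obtain ⟨k, hkz, hkx, hkS⟩ := exists_h h hfus
  have E : (2 : ℤ) ^ n = 4 * 2 ^ (n - 2) := by
    have : n = (n - 2) + 2 := by omega
    rw [show (2 : ℤ) ^ n = 2 ^ ((n - 2) + 2) by rw [← this], pow_add]; ring
  have E1 : (2 : ℤ) ^ (n - 1) = 2 * 2 ^ (n - 2) := by
    have : n - 1 = (n - 2) + 1 := by omega
    rw [this, pow_succ]; ring
  have hpos : (0 : ℤ) < 2 ^ (n - 2) := by positivity
  have hnd : ¬ (2 : ℤ) ^ n ∣ 2 ^ (n - 1) := by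
    intro hd
    have h3 := Int.le_of_dvd (by positivity) hd
    rw [E, E1] at h3
    omega
  set v := τ (2 ^ (n - 2)) (2 ^ (n - 2)) (2 ^ (n - 2)) with hv
  have hvT : v ∈ T := mem_τ R _ _ _
  have hvS : v ∈ (S : Subgroup G) := T_le_S h.rel hvT
  have hv2 : v * v = el n τ 1 1 1 := by rw [el_111]; exact v_sq hn R
  have hz1 : el n τ 1 1 1 ≠ 1 := by rw [el_111]; exact z_ne_one hn1 R
  -- `v` commutes with `T⟨x1, x2, x3⟩`
  have hvc : ∀ i : Fin 8, (i : ℕ) < 4 → ∀ t ∈ T, (t * W x1 x2 x3 s i) * v = v * (t * W x1 x2 x3 s i) := by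
    intro i hi t ht
    have h1 := (W_v h i ht).1 hi
    calc (t * W x1 x2 x3 s i) * v = (t * W x1 x2 x3 s i * v * (t * W x1 x2 x3 s i)⁻¹) * (t * W x1 x2 x3 s i) := by group
      _ = _ := by rw [h1]
  have hvx : v * x3 = x3 * v := by
    have := hvc 3 (by decide) 1 (one_mem _)
    rw [one_mul] at this
    exact this.symm
  have hDv : ∀ y ∈ (S : Subgroup G), y * x3 = x3 * y → y * v = v * y := by
    intro y hy hyx
    obtain ⟨a, b, c, w, hw, rfl, -, -⟩ := (mem_D hn h.rel y).mp ⟨hy, hyx⟩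
    rcases hw with rfl | rfl | rfl | rfl
    · exact hvc 0 (by decide) _ (mem_τ R _ _ _)
    · exact hvc 1 (by decide) _ (mem_τ R _ _ _)
    · exact hvc 2 (by decide) _ (mem_τ R _ _ _)
    · exact hvc 3 (by decide) _ (mem_τ R _ _ _)
  set v' := k * v * k⁻¹ with hv'
  have hv'2 : v' * v' = el n τ 1 1 1 := by
    calc v' * v' = k * (v * v) * k⁻¹ := by rw [hv']; group
      _ = el n τ 1 1 1 := by rw [hv2, hkz]; group
  have hkc : ∀ y, y * x3 = x3 * y → (k * y * k⁻¹) * el n τ 1 0 0 = el n τ 1 0 0 * (k * y * k⁻¹) := by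
    intro y hy
    rw [← hkx]
    calc (k * y * k⁻¹) * (k * x3 * k⁻¹) = k * (y * x3) * k⁻¹ := by group
      _ = _ := by rw [hy]; group
  have hkv : ∀ y, y * v = v * y → (k * y * k⁻¹) * v' = v' * (k * y * k⁻¹) := by
    intro y hy
    rw [hv']
    calc (k * y * k⁻¹) * (k * v * k⁻¹) = k * (y * v) * k⁻¹ := by group
      _ = _ := by rw [hy]; group
  obtain ⟨t, ht, i, hi, hvi⟩ := cen_w h (hkS v hvS hvx) (hkc v hvx)
  obtain ⟨a, b, c, rfl⟩ := (R.mem t).mp ht
  -- `v' ∈ T`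
  have hv'T : v' ∈ T := by
    rcases hi with rfl | rfl | rfl | rfl
    · change v' = τ a b c * 1 at hvi
      rw [hvi, mul_one]; exact mem_τ R _ _ _
    · -- `v' = t x3`
      exfalso
      change v' = τ a b c * x3 at hvi
      have hbc : (2 : ℤ) ∣ b + c := by
        have h1 := hv'2
        rw [hvi] at h1
        have h2 : τ a b c * x3 * (τ a b c * x3) = τ (-b - c) (b + c) (c + b) := by
          calc τ a b c * x3 * (τ a b c * x3) = τ a b c * (x3 * τ a b c) * x3 := by group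
            _ = τ a b c * τ (-a - b - c) c b * (x3 * x3) := by rw [R.x3τ]; group
            _ = _ := by rw [R.x3x3, mul_one, R.mul]; congr 1; ring
        rw [h2, el_111, τ_eq R] at h1
        obtain ⟨-, ⟨u, hu⟩, -⟩ := h1
        rw [E, E1] at hu
        exact ⟨2 ^ (n - 2) * (2 * u + 1), by linear_combination hu⟩
      -- the conjugates of the elements of `D`
      have hform : ∀ y ∈ (S : Subgroup G), y * x3 = x3 * y →
          ∃ u ∈ T, u * v' = v' * u ∧ (k * y * k⁻¹ = u ∨ k * y * k⁻¹ = u * v') := by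
        intro y hy hyx
        have hyv := hkv y (hDv y hy hyx)
        obtain ⟨t', ht', j, hj, hyj⟩ := cen_w h (hkS y hy hyx) (hkc y hyx)
        have hno : ∀ j : Fin 8, 4 ≤ (j : ℕ) → k * y * k⁻¹ = t' * W x1 x2 x3 s j → False := by
          intro j hj e
          refine not_comm_x3 hn R hj ht' a b c hbc ?_
          rw [← e, ← hvi]; exact hyv
        rcases hj with rfl | rfl | rfl | rfl
        · have e : k * y * k⁻¹ = t' := by rw [hyj]; exact mul_one _
          refine ⟨t', ht', ?_, Or.inl e⟩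
          rw [← e]; exact hyv
        · change k * y * k⁻¹ = t' * x3 at hyj
          have e : k * y * k⁻¹ * v'⁻¹ = t' * (τ a b c)⁻¹ := by rw [hyj, hvi]; group
          refine ⟨k * y * k⁻¹ * v'⁻¹, ?_, ?_, Or.inr (by group)⟩
          · rw [e]; exact mul_mem ht' (inv_mem (mem_τ R _ _ _))
          · rw [inv_mul_cancel_right, ← mul_assoc, ← hyv, mul_inv_cancel_right]
        · exact (hno 4 (by decide) hyj).elim
        · exact (hno 7 (by decide) hyj).elim
      have hcomm : ∀ y ∈ (S : Subgroup G), y * x3 = x3 * y → ∀ y' ∈ (S : Subgroup G), y' * x3 = x3 * y' → y * y' = y' * y := by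
        intro y hy hyx y' hy' hyx'
        obtain ⟨u, hu, huv, e⟩ := hform y hy hyx
        obtain ⟨u', hu', huv', e'⟩ := hform y' hy' hyx'
        have huu := comm_T R u hu u' hu'
        have key : (k * y * k⁻¹) * (k * y' * k⁻¹) = (k * y' * k⁻¹) * (k * y * k⁻¹) := by
          rcases e with e | e <;> rcases e' with e' | e' <;> rw [e, e']
          · exact huu
          · calc u * (u' * v') = (u * u') * v' := by group
              _ = u' * (u * v') := by rw [huu]; group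
              _ = u' * v' * u := by rw [huv]; group
          · calc u * v' * u' = u * (v' * u') := by group
              _ = (u * u') * v' := by rw [← huv']; group
              _ = u' * (u * v') := by rw [huu]; group
          · calc u * v' * (u' * v') = u * (v' * u') * v' := by group
              _ = (u * u') * v' * v' := by rw [← huv']; group
              _ = u' * (u * v') * v' := by rw [huu]; group
              _ = u' * (v' * u) * v' := by rw [huv]
              _ = u' * v' * (u * v') := by group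
        have e1 : (k * y * k⁻¹) * (k * y' * k⁻¹) = k * (y * y') * k⁻¹ := by group
        have e2 : (k * y' * k⁻¹) * (k * y * k⁻¹) = k * (y' * y) * k⁻¹ := by group
        rw [e1, e2] at key
        exact mul_left_cancel (mul_right_cancel key)
      have hx1 := hcomm x1 (W_mem_S h.rel 1) (by rw [x13 R, R.x31]) (τ 1 (-1) (-1)) (T_le_S h.rel (mem_τ R _ _ _)) (by
        rw [R.x3τ]; congr 1)
      rw [R.x1τ] at hx1
      have h3 := mul_right_cancel hx1
      rw [τ_eq R] at h3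
      obtain ⟨⟨u, hu⟩, -, -⟩ := h3
      rw [E] at hu
      have : (4 : ℤ) ∣ -1 - 1 := ⟨2 ^ (n - 2) * u, by rw [hu]; ring⟩
      omega
    · -- `v' = t s`
      exfalso
      change v' = τ a b c * s at hvi
      have h1 := hv'2
      rw [hvi] at h1
      have h2 : τ a b c * s * (τ a b c * s) = τ 0 (b - c) (c - b) := by
        calc τ a b c * s * (τ a b c * s) = τ a b c * (s * τ a b c) * s := by group
          _ = τ a b c * τ (-a) (-c) (-b) * (s * s) := by rw [R.sτ]; group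
          _ = _ := by rw [R.ss, mul_one, R.mul]; congr 1; ring
      rw [h2, el_111, τ_eq R] at h1
      obtain ⟨h3, -, -⟩ := h1
      rw [zero_sub, dvd_neg] at h3
      exact hnd h3
    · exfalso
      change v' = τ a b c * (x3 * s) at hvi
      have h1 := hv'2
      rw [hvi] at h1
      have h2 : τ a b c * (x3 * s) * (τ a b c * (x3 * s)) = τ (2 * a + b + c - 1) 0 0 := by
        calc τ a b c * (x3 * s) * (τ a b c * (x3 * s)) = τ a b c * (x3 * (s * τ a b c)) * x3 * s := by group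
          _ = τ a b c * ((x3 * τ (-a) (-c) (-b)) * s) * x3 * s := by rw [R.sτ]; group
          _ = τ a b c * τ (- -a - -c - -b) (-b) (-c) * x3 * (s * x3) * s := by rw [R.x3τ]; group
          _ = τ a b c * τ (- -a - -c - -b) (-b) (-c) * (x3 * τ 1 0 0) * x3 * (s * s) := by rw [R.sx3]; group
          _ = τ a b c * τ (- -a - -c - -b) (-b) (-c) * τ (-1 - 0 - 0) 0 0 * (x3 * x3) := by
            rw [R.x3τ, R.ss]; group
          _ = _ := by
            rw [R.x3x3, mul_one, R.mul, R.mul]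
            congr 1 <;> ring
      rw [h2, el_111, τ_eq R] at h1
      obtain ⟨-, h3, -⟩ := h1
      rw [zero_sub, dvd_neg] at h3
      exact hnd h3
  -- `v' = v^±1`
  have hvv : v' = v ∨ v' = v⁻¹ := by
    obtain ⟨m, hmN, hm⟩ := control h {v} (by rintro x rfl; exact hvT) (g := k) (by rintro x rfl; exact hv'T)
    have hmv : m * v * m⁻¹ = v' := hm v rfl
    have hmz : m * el n τ 1 1 1 = el n τ 1 1 1 * m := by
      have e1 : m * (v * v) * m⁻¹ = v' * v' := by rw [← hmv]; group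
      rw [hv2, hv'2] at e1
      calc m * el n τ 1 1 1 = (m * el n τ 1 1 1 * m⁻¹) * m := by group
        _ = el n τ 1 1 1 * m := by rw [e1]
    rw [el_111] at hmz
    obtain ⟨o, ho, g, hg, i, hi, e⟩ := exists_dec h hmN hmz
    have hξv : ∀ i : ℕ, ξ ^ i * v * (ξ ^ i)⁻¹ = v := by
      intro i
      have h1 : ξ * v = v * ξ := by
        rw [hv, h.ξτ]
        congr 1
        rw [τ_eq R]
        exact ⟨⟨0, by ring⟩, ⟨-1, by rw [E]; ring⟩, ⟨0, by ring⟩⟩
      have h2 : Commute (ξ ^ i) v := (show Commute ξ v from h1).pow_left i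
      rw [h2.eq, mul_inv_cancel_right]
    have hov : ∀ u ∈ T, o * u * o⁻¹ = u := by
      intro u hu
      rw [h.O_le o ho u hu, mul_inv_cancel_right]
    have e1 : v' = o * (g * (ξ ^ i * v * (ξ ^ i)⁻¹) * g⁻¹) * o⁻¹ := by
      rw [← hmv, e]; group
    rw [hξv] at e1
    obtain ⟨t', ht', j, hj⟩ := (mem_S h.rel g).1 hg
    by_cases hj4 : (j : ℕ) < 4
    · left
      have h1 := (W_v h j ht').1 hj4
      rw [← hj] at h1
      rw [e1, h1, hov v hvT]
    · right
      have h1 := (W_v h j ht').2 (by omega)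
      rw [← hj] at h1
      rw [e1, h1, hov _ (inv_mem hvT)]
  refine ⟨k, ?_, ?_, hvv, ?_⟩
  · rw [← el_111 n τ]; exact hkz
  · rw [← el_100 n τ]; exact hkx
  · intro y hy hyx
    obtain ⟨t', ht', j, hj, hyj⟩ := cen_w h (hkS y hy hyx) (hkc y hyx)
    have hyv := hkv y (hDv y hy hyx)
    have hyv2 : (k * y * k⁻¹) * v = v * (k * y * k⁻¹) := by
      rcases hvv with e | e
      · rwa [e] at hyv
      · rw [e] at hyv
        have : Commute (k * y * k⁻¹) v⁻¹ := hyv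
        rwa [Commute.inv_right_iff] at this
    have hno : ∀ j : Fin 8, 4 ≤ (j : ℕ) → k * y * k⁻¹ = t' * W x1 x2 x3 s j → False := by
      intro j hj e
      have h1 := (W_v h j ht').2 hj
      rw [← e, hyv2, mul_inv_cancel_right] at h1
      apply hz1
      rw [← hv2]
      nth_rewrite 1 [h1]
      rw [inv_mul_cancel]
    rcases hj with rfl | rfl | rfl | rfl
    · exact ⟨t', ht', Or.inl (by rw [hyj]; exact mul_one _)⟩
    · exact ⟨t', ht', Or.inr hyj⟩
    · exact (hno 4 (by decide) hyj).elim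
    · exact (hno 7 (by decide) hyj).elim

end

end Cfsg.Agent.ONType.Fus
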