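import Cfsg.Agent.ONType.SSub
import Cfsg.Agent.ONType.FusionB1
import Cfsg.Agent.ONType.FusionB2

/-!
# Fusion of involutions in a simple group of type O'N

`Fusion.main`: for a finite simple group `G` in which the centraliser of an involution is one of the
twelve candidates, the centraliser is of type II with `τ = σγ`, `τ² = 1`, an element swaps `t` and
`u = x₁₃(1)`, and all involutions of `G` are conjugate.
-/

set_option autoImplicit false
set_option linter.constructorNameAsVariable false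

namespace Cfsg.Agent.ONType.Fusion

open Cfsg.Agent.SporadicA.FieldFour
open Cfsg.Agent.ONType.Psl (ω ω2)
open Cfsg.Agent.ONType.Data
open Cfsg.Agent.ONType.SGroup
open Cfsg.Agent.ONType.SFacts
open Cfsg.Agent.ONType.SChk
open Cfsg.Agent.ONType.SSub

section C0

variable {P : Par} {C₀ : Type*} [Group C₀] {t : C₀} {M : Subgroup C₀}
  {x : Fin 3 → Fin 3 → F4 → C₀} {z h τ : C₀} (D : SData P t M x z h τ)
include D

theorem e_of_not_mem {k : Cd} (h : ev x z τ k ∉ M) : k.e = true := by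
  cases he : k.e
  · exact absurd ((ev_mem_M D k).2 he) h
  · rfl

theorem mem_oinv {k : Cd} (hk : k.i < 4) (hM : ev x z τ k ∉ M)
    (h2 : ev x z τ k * ev x z τ k = 1) : k ∈ oinv P := by
  refine List.mem_filter.2 ⟨mem_os hk (e_of_not_mem D hM), ?_⟩
  rw [← mul_eq_iff' D (by decide), ev_c1 D]
  exact h2

theorem not_comm_sq (hP : P ∈ pars) {v : C₀} (hvS : v ∈ S D) (hvM : v ∉ M) (hv2 : v * v = 1) :
    ∃ y ∈ S D, v * (y * y) ≠ (y * y) * v := by
  obtain ⟨k, hk, rfl⟩ := hvS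
  have h1 := List.all_eq_true.1 (nosq_ok P hP) k (mem_oinv D hk hvM hv2)
  obtain ⟨y, hy, hne⟩ := List.any_eq_true.1 h1
  have hfew : ∀ y ∈ few, y.i < 4 := by decide
  refine ⟨ev x z τ y, ev_mem_S D (hfew y hy), ?_⟩
  intro heq
  rw [← ev_mul D.H y y, mul_eq_iff D] at heq
  rw [heq] at hne
  exact absurd hne (by decide)

theorem card_ne (hP : P ∈ pars) {v : C₀} (hvM : v ∉ M) (hv2 : v * v = 1) :
    Nat.card {y : C₀ // y * v = v * y} ≠ 256 := by
  intro hcard
  have := finite_C₀ D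
  set Q : Subgroup C₀ := Subgroup.centralizer ({v} : Set C₀) with hQ
  have hQc : Nat.card Q = 256 := by
    rw [← hcard]
    exact Nat.card_congr (Equiv.subtypeEquivRight fun y => Subgroup.mem_centralizer_singleton_iff)
  have hQ2 : IsPGroup 2 Q := IsPGroup.of_card (n := 8) (by rw [hQc]; norm_num)
  obtain ⟨c, hc⟩ := exists_conj_le D Q hQ2
  have hvQ : v ∈ Q := Subgroup.mem_centralizer_singleton_iff.2 rfl
  have hv'M : c * v * c⁻¹ ∉ M := by rw [conj_mem_iff D]; exact hvM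
  obtain ⟨y, hyS, hy⟩ := not_comm_sq D hP (hc v hvQ) hv'M (by
    calc c * v * c⁻¹ * (c * v * c⁻¹) = c * (v * v) * c⁻¹ := by group
      _ = 1 := by rw [hv2]; group)
  set Q' : Subgroup C₀ := Q.map (MulAut.conj c).toMonoidHom with hQ'
  have hQ'c : Nat.card Q' = 256 := by
    rw [← hQc]; exact Subgroup.card_map_of_injective (MulAut.conj c).injective
  have hQ'S : Q' ≤ S D := by
    rintro _ ⟨q, hq, rfl⟩
    exact hc q hq
  have hidx : (Q'.subgroupOf (S D)).index = 2 := by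
    have h1 := (Q'.subgroupOf (S D)).card_mul_index
    rw [card_S D, Nat.card_congr (Subgroup.subgroupOfEquivOfLe hQ'S).toEquiv, hQ'c] at h1
    omega
  have h2 := Subgroup.mul_self_mem_of_index_two hidx (⟨y, hyS⟩ : S D)
  rw [Subgroup.mem_subgroupOf] at h2
  obtain ⟨q, hq, hqy⟩ := h2
  have hqv : q * v = v * q := Subgroup.mem_centralizer_singleton_iff.1 hq
  apply hy
  have e1 : c * q * c⁻¹ = y * y := hqy
  rw [← e1]
  calc c * v * c⁻¹ * (c * q * c⁻¹) = c * (v * q) * c⁻¹ := by group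
    _ = c * (q * v) * c⁻¹ := by rw [hqv]
    _ = _ := by group

theorem central_S (hP : P ∈ pars) (htc : ∀ c : C₀, c * t = t * c) {c : C₀} (hc : c ∈ S D)
    (hcS : ∀ y ∈ S D, y * c = c * y) (hc2 : c * c = 1) : c = 1 ∨ c = t := by
  have := finite_C₀ D
  by_contra hcon
  push Not at hcon
  by_cases hcM : c ∈ M
  · obtain ⟨d, hd⟩ := invol D hcM hc2 hcon.1 hcon.2 htc
    have h1 : Nat.card {y : C₀ // y * c = c * y} = 256 := by
      rw [← card_cent_u D hP]
      refine Nat.card_congr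
        { toFun := fun y => ⟨d * y.1 * d⁻¹, ?_⟩
          invFun := fun y => ⟨d⁻¹ * y.1 * d, ?_⟩
          left_inv := fun y => by ext; simp only; group
          right_inv := fun y => by ext; simp only; group }
      · rw [← hd]
        calc d * y.1 * d⁻¹ * (d * c * d⁻¹) = d * (y.1 * c) * d⁻¹ := by group
          _ = d * (c * y.1) * d⁻¹ := by rw [y.2]
          _ = _ := by group
      · have h3 : y.1 * (d * c * d⁻¹) = (d * c * d⁻¹) * y.1 := by rw [hd]; exact y.2
        calc d⁻¹ * y.1 * d * c = d⁻¹ * (y.1 * (d * c * d⁻¹)) * d := by group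
          _ = d⁻¹ * ((d * c * d⁻¹) * y.1) * d := by rw [h3]
          _ = _ := by group
    have h2 : Nat.card (S D) ≤ Nat.card {y : C₀ // y * c = c * y} :=
      Nat.card_le_card_of_injective (fun y : S D => (⟨y.1, hcS y.1 y.2⟩ : {y : C₀ // y * c = c * y}))
        (fun a b hab => Subtype.ext (congrArg (fun y : {y : C₀ // y * c = c * y} => y.1) hab))
    rw [card_S D, h1] at h2
    omega
  · obtain ⟨y, hy, hne⟩ := not_comm_sq D hP hc hcM hc2
    exact hne (hcS _ ((S D).mul_mem hy hy)).symm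

theorem outer_conj (hP : P ∈ pars) (hneg : P.neg = true) {v : C₀} (hvS : v ∈ S D) (hvM : v ∉ M)
    (hv2 : v * v = 1) : ∃ m ∈ S D, ∃ j : ℕ, (j = 0 ∨ j = 1) ∧ v * m = m * ev x z τ (tau j) := by
  obtain ⟨k, hk, rfl⟩ := hvS
  have h1 := List.all_eq_true.1 (lang_ok P hP hneg) k (mem_oinv D hk hvM hv2)
  obtain ⟨m, hm, h2⟩ := List.any_eq_true.1 h1
  have hmi : m.i < 4 := by
    have : ∀ P ∈ pars, ∀ m ∈ tv P, m.i < 4 := by decide +kernel
    exact this P hP m hm
  rw [Bool.or_eq_true] at h2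
  rcases h2 with h2 | h2
  · exact ⟨_, ev_mem_S D hmi, 0, Or.inl rfl, (mul_eq_iff D).2 h2⟩
  · exact ⟨_, ev_mem_S D hmi, 1, Or.inr rfl, (mul_eq_iff D).2 h2⟩

theorem q_zero (hP : P ∈ pars) (hneg : P.neg = true) {v : C₀} (hvS : v ∈ S D) (hvM : v ∉ M)
    (hv2 : v * v = 1) : P.q = 0 := by
  by_contra hq
  obtain ⟨k, hk, rfl⟩ := hvS
  have h1 := oinv_ok P hP hneg hq
  have h2 := mem_oinv D hk hvM hv2
  rw [List.isEmpty_iff] at h1
  rw [h1] at h2
  exact absurd h2 List.not_mem_nil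

theorem comm_u_of_comm (hP : P ∈ pars) (hneg : P.neg = true) (hq : P.q = 0) {j : ℕ}
    (hj : j = 0 ∨ j = 1) {y : C₀} (hy : y ∈ S D) (hys : y * ev x z τ (tau j) = ev x z τ (tau j) * y) :
    y * x 0 2 1 = x 0 2 1 * y := by
  obtain ⟨k, hk, rfl⟩ := hy
  have h1 : b2a P (tau j) = true := by
    rcases hj with rfl | rfl
    · exact (b2a_ok P hP hneg hq).1
    · exact (b2a_ok P hP hneg hq).2
  have h2 := List.all_eq_true.1 h1 k (mem_all hk)
  rw [(mul_eq_iff D).1 hys] at h2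
  rw [← ev_cu D, mul_eq_iff D]
  simpa using h2

theorem conj_of_comm (hP : P ∈ pars) (hneg : P.neg = true) (hq : P.q = 0) {j : ℕ}
    (hj : j = 0 ∨ j = 1) {v : C₀} (hvS : v ∈ S D) (hvM : v ∉ M) (hv2 : v * v = 1)
    (hvs : ev x z τ (tau j) * v = v * ev x z τ (tau j)) :
    ∃ m ∈ S D, v * m = m * ev x z τ (tau j) := by
  obtain ⟨k, hk, rfl⟩ := hvS
  have h1 : b2b P (tau j) = true := by
    rcases hj with rfl | rfl
    · exact (b2b_ok P hP hneg hq).1
    · exact (b2b_ok P hP hneg hq).2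
  have h2 := List.all_eq_true.1 h1 k (mem_oinv D hk hvM hv2)
  rw [(mul_eq_iff D).1 hvs] at h2
  simp only [Bool.not_true, Bool.false_or] at h2
  obtain ⟨m, hm, h3⟩ := List.any_eq_true.1 h2
  have hmi : m.i < 4 := by
    have : ∀ P ∈ pars, ∀ m ∈ tv P, m.i < 4 := by decide +kernel
    exact this P hP m hm
  exact ⟨_, ev_mem_S D hmi, (mul_eq_iff D).2 h3⟩

theorem tau_not_mem (j : ℕ) : ev x z τ (tau j) ∉ M := by
  rw [ev_mem_M D]
  exact fun h => Bool.false_ne_true h.symm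

theorem u_mem : x 0 2 1 ∈ S D := ⟨cu, by decide, ev_cu D⟩
theorem t_mem : t ∈ S D := ⟨ct, by decide, ev_ct D⟩
theorem z_mem : z ∈ S D := ⟨cz, by decide, ev_cz D⟩

theorem u_sq : x 0 2 1 * x 0 2 1 = 1 := x_self D.H.R 0 2 (by decide) 1

theorem u_ne_one : x 0 2 1 ≠ 1 := by
  rw [← ev_cu D, Ne, ev_one_iff D (by decide)]
  decide

theorem u_ne_t : x 0 2 1 ≠ t := by
  rw [← ev_cu D, ← ev_ct D]
  intro h
  have := ev_inj D (by decide) (by decide) h
  exact absurd this (by decide)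

theorem t_ne_one : t ≠ 1 := by
  rw [← ev_ct D, Ne, ev_one_iff D (by decide)]
  decide

theorem t_sq : t * t = 1 := by
  have h4 := D.H.R.z4
  rw [← D.zz]
  calc z * z * (z * z) = z ^ 4 := by simp only [pow_succ, pow_zero, one_mul, mul_assoc]
    _ = 1 := h4

theorem t_mem_M : t ∈ M := by rw [← D.zz]; exact M.mul_mem D.zM D.zM

/-- `C₀` is not commutative -/
theorem not_comm : x 0 2 1 * x 0 1 ω ≠ x 0 1 ω * x 0 2 1 := by
  intro h
  have h1 := D.H.R.row 0 2 1 (by decide) (by decide) (by decide) 1 ω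
  rw [h] at h1
  have h2 : z ^ (2 * OuterM.trn (1 * ω)) = 1 := (mul_eq_left.1 h1.symm)
  have e : 2 * OuterM.trn (1 * ω) = 2 := by decide
  rw [e, pow_two, D.zz] at h2
  exact t_ne_one D h2

/-- the action on `z` -/
theorem z_act (y : C₀) : y * z = z * y ∨ y * z = z⁻¹ * y := by
  by_cases hy : y ∈ M
  · exact Or.inl (D.cz y hy)
  · have h1 : τ⁻¹ * y ∈ M := mul_mem_of_not_mem D (fun h => D.τM (by simpa using M.inv_mem h)) hy
    have h2 := D.cz _ h1
    have h3 := D.H.tz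
    have h4 : z * τ = τ * (if P.neg then z⁻¹ else z) := by rw [← h3]; group
    cases hn : P.neg
    · rw [hn] at h4
      simp only [Bool.false_eq_true, if_false] at h4
      left
      calc y * z = τ * ((τ⁻¹ * y) * z) := by group
        _ = τ * z * τ⁻¹ * y := by rw [h2]; group
        _ = z * τ * τ⁻¹ * y := by rw [h4]
        _ = z * y := by group
    · rw [hn] at h4
      simp only [if_true] at h4
      right
      have h5 : τ * z = z⁻¹ * τ := by
        have : z⁻¹ * (z * τ) * z = z⁻¹ * (τ * z⁻¹) * z := by rw [h4]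
        calc τ * z = z⁻¹ * (z * τ) * z := by group
          _ = z⁻¹ * (τ * z⁻¹) * z := by rw [h4]
          _ = _ := by group
      calc y * z = τ * ((τ⁻¹ * y) * z) := by group
        _ = (τ * z) * τ⁻¹ * y := by rw [h2]; group
        _ = z⁻¹ * τ * τ⁻¹ * y := by rw [h5]
        _ = z⁻¹ * y := by group

theorem z_central (hneg : P.neg = false) (y : C₀) : y * z = z * y := by
  by_cases hy : y ∈ M
  · exact D.cz y hy
  · have h1 : τ⁻¹ * y ∈ M := mul_mem_of_not_mem D (fun h => D.τM (by simpa using M.inv_mem h)) hy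
    have h2 := D.cz _ h1
    have h3 := D.H.tz
    rw [hneg] at h3
    simp only [Bool.false_eq_true, if_false] at h3
    calc y * z = τ * ((τ⁻¹ * y) * z) := by group
      _ = τ * z * τ⁻¹ * y := by rw [h2]; group
      _ = τ * (τ⁻¹ * z * τ) * τ⁻¹ * y := by rw [h3]
      _ = z * y := by group

theorem sq_mem (y : C₀) : y * y ∈ M := by
  by_cases hy : y ∈ M
  · exact M.mul_mem hy hy
  · exact mul_mem_of_not_mem D hy hy

end C0

section G

variable {P : Par} {C₀ : Type*} [Group C₀] {t : C₀} {M : Subgroup C₀}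
  {x : Fin 3 → Fin 3 → F4 → C₀} {z h τ : C₀} (D : SData P t M x z h τ)
  {G : Type*} [Group G] [Finite G] (φ : C₀ →* G) (hφ : Function.Injective φ)
  (hrange : ∀ y : G, y * φ t = φ t * y → ∃ c, φ c = y) (htc : ∀ c : C₀, c * t = t * c)
include D hφ hrange htc

set_option linter.unusedSectionVars false in
omit [Finite G] in
theorem comm_iff {c d : C₀} : φ c * φ d = φ d * φ c ↔ c * d = d * c := by
  rw [← map_mul, ← map_mul]
  exact hφ.eq_iff

omit [Finite G] in
/-- counting centralisers in `C₀` -/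
theorem card_cent (v : C₀) (q : C₀ → Prop) (r : G → Prop) (hqr : ∀ c, r (φ c) ↔ q c) :
    Nat.card {y : G // y * φ t = φ t * y ∧ y * φ v = φ v * y ∧ r y} =
      Nat.card {c : C₀ // c * v = v * c ∧ q c} := by
  symm
  apply Nat.card_congr
  refine Equiv.ofBijective (fun c => ⟨φ c.1, ?_, ?_, ?_⟩) ⟨?_, ?_⟩
  · rw [comm_iff D φ hφ hrange htc]; exact htc c.1
  · rw [comm_iff D φ hφ hrange htc]; exact c.2.1
  · rw [hqr]; exact c.2.2
  · intro c d hcd
    exact Subtype.ext (hφ (congrArg Subtype.val hcd))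
  · rintro ⟨y, h1, h2, h3⟩
    obtain ⟨c, rfl⟩ := hrange y h1
    exact ⟨⟨c, (comm_iff D φ hφ hrange htc).1 h2, (hqr c).1 h3⟩, rfl⟩

/-- the image of `S` is a Sylow `2`-subgroup of `G` -/
theorem exists_sylow_G (hP : P ∈ pars) : ∃ Q : Sylow 2 G, (Q : Subgroup G) = (S D).map φ := by
  obtain ⟨R, hR⟩ := exists_sylow D
  have h2 : Fact (Nat.Prime 2) := ⟨Nat.prime_two⟩
  refine FusionB1.sylow_of_center (t := φ t) _ ((isPGroup_S D).map φ) ?_ ?_ ?_ ?_
  · intro Q hQ hSQ hQt
    apply le_antisymm _ hSQ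
    intro y hy
    obtain ⟨c, rfl⟩ := hrange y (hQt y hy)
    have h3 : IsPGroup 2 (Q.comap φ) := hQ.comap_of_injective φ hφ
    have h4 : (R : Subgroup C₀) ≤ Q.comap φ := by
      rw [hR]
      intro d hd
      exact hSQ ⟨d, hd, rfl⟩
    have h5 := R.is_maximal' h3 h4
    refine ⟨c, ?_, rfl⟩
    have h6 : c ∈ Q.comap φ := hy
    rw [h5, hR] at h6
    exact h6
  · rintro _ ⟨c, _, rfl⟩
    rw [comm_iff D φ hφ hrange htc]; exact htc c
  · exact ⟨t, t_mem D, rfl⟩
  · rintro _ ⟨c, hc, rfl⟩ hcen hc2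
    rcases central_S D hP htc hc (fun y hy => (comm_iff D φ hφ hrange htc).1 (hcen _ ⟨y, hy, rfl⟩))
      (hφ (by rw [map_mul, hc2, map_one])) with h | h
    · left; rw [h, map_one]
    · right; rw [h]

omit hrange htc hφ [Finite G] D in
theorem isConj_map {a b : C₀} (hab : ∃ c, c * a * c⁻¹ = b) : IsConj (φ a) (φ b) := by
  obtain ⟨c, hc⟩ := hab
  rw [isConj_iff]
  exact ⟨φ c, by rw [← hc, map_mul, map_mul, map_inv]⟩

/-- **(B2)** if `t` is conjugate to an outer involution, it is conjugate to `u` -/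
theorem conj_of_outer (hP : P ∈ pars) (hneg : P.neg = true) {v : C₀} (hvS : v ∈ S D)
    (hvM : v ∉ M) (hv2 : v * v = 1) (hvt : IsConj (φ v) (φ t)) : IsConj (φ t) (φ (x 0 2 1)) := by
  have hfin := finite_C₀ D
  have h2 : Fact (Nat.Prime 2) := ⟨Nat.prime_two⟩
  have hq := q_zero D hP hneg hvS hvM hv2
  set Cv : Subgroup C₀ := Subgroup.centralizer ({v} : Set C₀) with hCv
  have hvCv : v ∈ Cv := Subgroup.mem_centralizer_singleton_iff.2 rfl
  -- a Sylow subgroup of `C(v)` containing `v`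
  have hvp : IsPGroup 2 (Subgroup.zpowers (⟨v, hvCv⟩ : Cv)) := by
    rw [IsPGroup.iff_card]
    have h1 : orderOf (⟨v, hvCv⟩ : Cv) ∣ 2 ^ 1 := by
      apply orderOf_dvd_of_pow_eq_one
      apply Subtype.ext
      show v ^ 2 ^ 1 = 1
      rw [pow_one, pow_two, hv2]
    obtain ⟨m, -, hm⟩ := (Nat.dvd_prime_pow Nat.prime_two).1 h1
    exact ⟨m, by rw [Nat.card_zpowers, hm]⟩
  obtain ⟨R, hR⟩ := hvp.exists_le_sylow
  set R' : Subgroup C₀ := (R : Subgroup Cv).map Cv.subtype with hR'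
  have hR'2 : IsPGroup 2 R' := R.isPGroup'.map _
  have hvR' : v ∈ R' := ⟨⟨v, hvCv⟩, hR (Subgroup.mem_zpowers _), rfl⟩
  have hR'c : Nat.card R' = Nat.card R :=
    Subgroup.card_map_of_injective (Subgroup.subtype_injective _)
  obtain ⟨c, hc⟩ := exists_conj_le D R' hR'2
  have hv'M : c * v * c⁻¹ ∉ M := by rw [conj_mem_iff D]; exact hvM
  have hv'2 : c * v * c⁻¹ * (c * v * c⁻¹) = 1 := by
    calc c * v * c⁻¹ * (c * v * c⁻¹) = c * (v * v) * c⁻¹ := by group
      _ = 1 := by rw [hv2]; group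
  obtain ⟨m, hm, j, hj, hmj⟩ := outer_conj D hP hneg (hc v hvR') hv'M hv'2
  set s : C₀ := ev x z τ (tau j) with hs
  have hd : (m⁻¹ * c) * v * (m⁻¹ * c)⁻¹ = s := by
    calc (m⁻¹ * c) * v * (m⁻¹ * c)⁻¹ = m⁻¹ * (c * v * c⁻¹ * m) := by group
      _ = m⁻¹ * (m * s) := by rw [hmj]
      _ = s := by group
  set d := m⁻¹ * c with hdd
  have hdR : ∀ q ∈ R', d * q * d⁻¹ ∈ S D := by
    intro q hq
    have : d * q * d⁻¹ = m⁻¹ * (c * q * c⁻¹) * m := by rw [hdd]; group
    rw [this]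
    exact (S D).mul_mem ((S D).mul_mem ((S D).inv_mem hm) (hc q hq)) hm
  have hsS : s ∈ S D := by rw [← hd]; exact hdR v hvR'
  have hsM : s ∉ M := tau_not_mem D j
  have hs2 : s * s = 1 := by
    rw [← hd]
    calc d * v * d⁻¹ * (d * v * d⁻¹) = d * (v * v) * d⁻¹ := by group
      _ = 1 := by rw [hv2]; group
  -- the centraliser of `s` in `S`
  set P₀ : Subgroup C₀ := S D ⊓ Subgroup.centralizer ({s} : Set C₀) with hP₀
  have mem_P₀ : ∀ y, y ∈ P₀ ↔ y ∈ S D ∧ y * s = s * y := by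
    intro y
    rw [hP₀, Subgroup.mem_inf, Subgroup.mem_centralizer_singleton_iff]
  have hRP : Nat.card R ≤ Nat.card P₀ := by
    rw [← hR'c, ← Subgroup.card_map_of_injective (K := R') (f := (MulAut.conj d).toMonoidHom)
      (MulAut.conj d).injective]
    apply Nat.le_of_dvd Nat.card_pos
    apply Subgroup.card_dvd_of_le
    rintro _ ⟨q, hq, rfl⟩
    show d * q * d⁻¹ ∈ P₀
    rw [mem_P₀]
    refine ⟨hdR q hq, ?_⟩
    obtain ⟨q', _, hq'⟩ := hq
    have h3 : q * v = v * q := by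
      rw [← hq']
      exact Subgroup.mem_centralizer_singleton_iff.1 q'.2
    rw [← hd]
    calc d * q * d⁻¹ * (d * v * d⁻¹) = d * (q * v) * d⁻¹ := by group
      _ = d * (v * q) * d⁻¹ := by rw [h3]
      _ = _ := by group
  -- maximality
  have hmax : ∀ Q : Subgroup C₀, IsPGroup 2 Q → P₀ ≤ Q → (∀ y ∈ Q, y * s = s * y) → Q = P₀ := by
    intro Q hQ hPQ hQs
    symm
    apply Subgroup.eq_of_le_of_card_ge hPQ
    refine le_trans ?_ hRP
    -- conjugate `Q` into `C(v)`
    set Q' : Subgroup C₀ := Q.map (MulAut.conj d⁻¹).toMonoidHom with hQ'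
    have hQ'c : Nat.card Q' = Nat.card Q :=
      Subgroup.card_map_of_injective (MulAut.conj d⁻¹).injective
    have hQ'v : Q' ≤ Cv := by
      rintro _ ⟨q, hq, rfl⟩
      rw [hCv, Subgroup.mem_centralizer_singleton_iff]
      show d⁻¹ * q * d⁻¹⁻¹ * v = v * (d⁻¹ * q * d⁻¹⁻¹)
      have h3 := hQs q hq
      rw [← hd] at h3
      calc d⁻¹ * q * d⁻¹⁻¹ * v = d⁻¹ * (q * (d * v * d⁻¹)) * d := by group
        _ = d⁻¹ * ((d * v * d⁻¹) * q) * d := by rw [h3]
        _ = _ := by group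
    have hQ'2 : IsPGroup 2 (Q'.subgroupOf Cv) :=
      (hQ.map _).of_equiv (Subgroup.subgroupOfEquivOfLe hQ'v).symm
    obtain ⟨R₂, hR₂⟩ := hQ'2.exists_le_sylow
    have h3 : Nat.card R₂ = Nat.card R := Nat.card_congr (Sylow.equiv R₂ R).toEquiv
    rw [← h3, ← hQ'c, ← Nat.card_congr (Subgroup.subgroupOfEquivOfLe hQ'v).toEquiv]
    exact Nat.le_of_dvd Nat.card_pos (Subgroup.card_dvd_of_le hR₂)
  have huM : x 0 2 1 ∈ M := D.xM 0 2 1
  have hst : IsConj (φ s) (φ t) :=
    (isConj_map (a := v) (b := s) φ ⟨d, hd⟩).symm.trans hvt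
  have hus : x 0 2 1 * s = s * x 0 2 1 :=
    (comm_u_of_comm D hP hneg hq hj hsS rfl).symm
  have hcm : ∀ {c d : C₀}, c * d = d * c → φ c * φ d = φ d * φ c :=
    fun h => (comm_iff D φ hφ hrange htc).2 h
  refine FusionB2.isConj_of_outer (φ t) (φ (x 0 2 1)) (φ s) (M.map φ) (P₀.map φ) ((S D).map φ)
    ?_ ?_ ?_ ?_ ?_ ?_ ?_ ?_ ?_ hst ?_ ?_ ?_ ?_ ?_ ?_ ?_ ?_ ?_ ?_ ?_
  · rw [← map_mul, t_sq D, map_one]
  · intro h3; exact t_ne_one D (hφ (by rw [h3, map_one]))
  · rw [← map_mul, u_sq D, map_one]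
  · intro h3; exact u_ne_one D (hφ (by rw [h3, map_one]))
  · exact hcm (htc _).symm
  · intro h3; exact u_ne_t D (hφ h3)
  · exact ⟨_, huM, rfl⟩
  · exact ⟨_, t_mem_M D, rfl⟩
  · rintro _ ⟨y, hy, rfl⟩ hy2 hy1 hyt
    apply isConj_map
    refine invol D hy (hφ (by rw [map_mul, hy2, map_one])) (fun h3 => hy1 (by rw [h3, map_one]))
      (fun h3 => hyt (by rw [h3])) htc
  · rintro _ ⟨y, _, rfl⟩
    exact hcm (htc y)
  · rintro _ ⟨y, hy, rfl⟩
    exact hcm ((mem_P₀ y).1 hy).2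
  · have : IsPGroup 2 P₀ := (isPGroup_S D).to_le inf_le_left
    exact this.map φ
  · intro Q hQ hPQ hQt hQs
    have h3 : Q.comap φ = P₀ := by
      apply hmax
      · exact hQ.comap_of_injective φ hφ
      · intro y hy; exact hPQ ⟨y, hy, rfl⟩
      · intro y hy
        exact (comm_iff D φ hφ hrange htc).1 (hQs _ hy)
    rw [← h3]
    apply le_antisymm
    · intro y hy
      obtain ⟨c, rfl⟩ := hrange y (hQt y hy)
      exact ⟨c, hy, rfl⟩
    · rintro _ ⟨c, hc, rfl⟩
      exact hc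
  · exact (isPGroup_S D).map φ
  · rintro _ ⟨y, _, rfl⟩
    exact hcm (htc y)
  · rw [Subgroup.card_map_of_injective hφ, Subgroup.card_map_of_injective hφ]
    rw [lt_iff_le_and_ne]
    refine ⟨Nat.le_of_dvd Nat.card_pos (Subgroup.card_dvd_of_le inf_le_left), ?_⟩
    intro h3
    have h4 : P₀ = S D := Subgroup.eq_of_le_of_card_ge inf_le_left h3.ge
    obtain ⟨y, hy, hne⟩ := not_comm_sq D hP hsS hsM hs2
    have h5 : y ∈ P₀ := by rw [h4]; exact hy
    have h6 := ((mem_P₀ y).1 h5).2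
    apply hne
    rw [← mul_assoc, ← h6, mul_assoc, ← h6, ← mul_assoc]
  · exact ⟨t, (mem_P₀ t).2 ⟨t_mem D, (htc s).symm⟩, rfl⟩
  · exact ⟨_, (mem_P₀ _).2 ⟨u_mem D, hus⟩, rfl⟩
  · rintro _ ⟨y, hy, rfl⟩
    obtain ⟨h3, h4⟩ := (mem_P₀ y).1 hy
    exact hcm (comm_u_of_comm D hP hneg hq hj h3 h4)
  · rintro _ ⟨y, hy, rfl⟩ hycen hyM hy2
    obtain ⟨h3, h4⟩ := (mem_P₀ y).1 hy
    have h5 : y ∉ M := fun h => hyM ⟨y, h, rfl⟩
    obtain ⟨m', _, hm'⟩ := conj_of_comm D hP hneg hq hj h3 h5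
      (hφ (by rw [map_mul, hy2, map_one])) h4.symm
    refine isConj_map φ ⟨m'⁻¹, ?_⟩
    rw [inv_inv]
    exact conj_of_mul_eq hm'

set_option linter.unusedSectionVars false in
omit htc in
/-- `t` is not central in `G` if `G` is simple -/
theorem exists_not_comm [IsSimpleGroup G] : ∃ g : G, g * φ t ≠ φ t * g := by
  by_contra hcon
  push Not at hcon
  have h1 : φ t ∈ Subgroup.center G := Subgroup.mem_center_iff.2 hcon
  rcases (inferInstance : (Subgroup.center G).Normal).eq_bot_or_eq_top with h | h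
  · rw [h, Subgroup.mem_bot] at h1
    exact t_ne_one D (hφ (by rw [h1, map_one]))
  · have h2 : φ (x 0 1 ω) ∈ Subgroup.center G := by rw [h]; trivial
    have h3 := Subgroup.mem_center_iff.1 h2 (φ (x 0 2 1))
    rw [← map_mul, ← map_mul] at h3
    exact not_comm D (hφ h3)

/-- `t` and `u` are conjugate -/
theorem conj_u [IsSimpleGroup G] (hP : P ∈ pars) : IsConj (φ t) (φ (x 0 2 1)) := by
  obtain ⟨Q, hQ⟩ := exists_sylow_G D φ hφ hrange htc hP
  have ht2 : φ t * φ t = 1 := by rw [← map_mul, t_sq D, map_one]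
  have ht1 : φ t ≠ 1 := fun h3 => t_ne_one D (hφ (by rw [h3, map_one]))
  have htQ : φ t ∈ Q := by
    have : φ t ∈ (Q : Subgroup G) := by rw [hQ]; exact ⟨t, t_mem D, rfl⟩
    exact this
  obtain ⟨g, hg, hgt⟩ := FusionB1.exists_fused Q ht2 ht1 htQ
    (exists_not_comm D φ hφ hrange)
  have hg' : g * φ t * g⁻¹ ∈ (S D).map φ := by rw [← hQ]; exact hg
  obtain ⟨v, hvS, hv⟩ := hg'
  have hconj : IsConj (φ t) (φ v) := by rw [isConj_iff]; exact ⟨g, hv.symm⟩
  have hv2 : v * v = 1 := by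
    apply hφ
    rw [map_mul, map_one, hv]
    calc g * φ t * g⁻¹ * (g * φ t * g⁻¹) = g * (φ t * φ t) * g⁻¹ := by group
      _ = 1 := by rw [ht2]; group
  have hv1 : v ≠ 1 := by
    rintro rfl
    rw [map_one] at hv
    apply ht1
    calc φ t = g⁻¹ * (g * φ t * g⁻¹) * g := by group
      _ = 1 := by rw [← hv]; group
  have hvt : v ≠ t := by
    rintro rfl
    exact hgt hv.symm
  by_cases hvM : v ∈ M
  · exact hconj.trans (isConj_map φ (invol D hvM hv2 hv1 hvt htc))
  · cases hneg : P.neg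
    · exfalso
      refine FusionB1.not_conj_of_central (t := φ t) (z := φ z) (s := φ v) ?_ ?_ ?_ ?_ hconj
      · rw [← map_mul, D.zz]
      · intro y hy
        obtain ⟨c, rfl⟩ := hrange y hy
        rw [comm_iff D φ hφ hrange htc]
        exact z_central D hneg c
      · rw [comm_iff D φ hφ hrange htc]; exact htc v
      · intro y hy hyv
        obtain ⟨c, rfl⟩ := hrange y hy
        rw [← map_mul] at hyv
        exact hvM (by rw [← hφ hyv]; exact sq_mem D c)
    · exact conj_of_outer D φ hφ hrange htc hP hneg hvS hvM hv2 hconj.symm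

/-- an element swapping `t` and `u` -/
theorem exists_swap [IsSimpleGroup G] (hP : P ∈ pars) :
    ∃ n : G, n * φ t * n⁻¹ = φ (x 0 2 1) ∧ n * φ (x 0 2 1) * n⁻¹ = φ t := by
  refine FusionB1.exists_swap ?_ ?_ ?_ ?_ (conj_u D φ hφ hrange htc hP) ?_
  · rw [← map_mul, t_sq D, map_one]
  · exact fun h3 => t_ne_one D (hφ (by rw [h3, map_one]))
  · exact (comm_iff D φ hφ hrange htc).2 (htc _).symm
  · exact fun h3 => u_ne_t D (hφ h3)
  · intro v hvt hv2 hv1 hvt' hcard
    obtain ⟨v, rfl⟩ := hrange v hvt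
    have hv2' : v * v = 1 := hφ (by rw [map_mul, hv2, map_one])
    have hv1' : v ≠ 1 := fun h3 => hv1 (by rw [h3, map_one])
    have hvt'' : v ≠ t := fun h3 => hvt' (by rw [h3])
    by_cases hvM : v ∈ M
    · obtain ⟨c, hc⟩ := invol D hvM hv2' hv1' hvt'' htc
      refine ⟨φ c, ?_, ?_⟩
      · rw [comm_iff D φ hφ hrange htc]; exact htc c
      · rw [← hc, map_mul, map_mul, map_inv]
    · exfalso
      apply card_ne D hP hvM hv2'
      have h1 := card_cent D φ hφ hrange htc v (fun _ => True) (fun _ => True) (fun _ => Iff.rfl)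
      have h2 := card_cent D φ hφ hrange htc (x 0 2 1) (fun _ => True) (fun _ => True)
        (fun _ => Iff.rfl)
      simp only [and_true] at h1 h2
      rw [← h1, hcard, h2]
      exact card_cent_u D hP

/-- the parameters -/
theorem par_eq [IsSimpleGroup G] (hP : P ∈ pars) : P = PON := by
  obtain ⟨n, hn1, hn2⟩ := exists_swap D φ hφ hrange htc hP
  apply test_ok P hP
  have hcm : ∀ {c d : C₀}, φ c * φ d = φ d * φ c → c * d = d * c :=
    fun h => (comm_iff D φ hφ hrange htc).1 h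
  unfold test
  simp only
  rw [Bool.and_eq_true]
  constructor
  · -- the numbers of square roots
    have h1 := FusionB1.card_roots hn1 hn2
    have h2 : ∀ k : Cd, k.i < 4 → Nat.card {y : G // y * φ t = φ t * y ∧
        y * φ (x 0 2 1) = φ (x 0 2 1) * y ∧ y * y = φ (ev x z τ k)} =
        ((T0 P).filter fun l => eqb (mul P l l) k).length := by
      intro k hk
      rw [card_cent D φ hφ hrange htc (x 0 2 1) (fun c => c * c = ev x z τ k)
        (fun y => y * y = φ (ev x z τ k)) (fun c => by rw [← map_mul]; exact hφ.eq_iff)]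
      unfold T0
      rw [List.filter_filter]
      apply card_filter D
      · intro y hy; exact mem_S_of_comm D hy.1
      · intro l hl
        rw [Bool.and_eq_true, ← ev_cu D, ← mul_eq_iff D, mul_eq_iff' D hk]
        exact and_comm
    have h3 := h2 ct (by decide)
    have h4 := h2 cu (by decide)
    rw [ev_ct D] at h3
    rw [ev_cu D] at h4
    rw [Nat.beq_eq, ← h3, ← h4, h1]
  · obtain ⟨w, hw2, hwt, hwu, hwx⟩ := FusionB1.exists_root (z := φ z) hn1 hn2
      (by rw [← map_mul, D.zz])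
      ((comm_iff D φ hφ hrange htc).2 (D.cz _ (D.xM 0 2 1)).symm)
      (by
        intro y hy
        obtain ⟨c, rfl⟩ := hrange y hy
        rcases z_act D c with h | h
        · left; rw [← map_mul, h, map_mul]
        · right; rw [← map_mul, h, map_mul, map_inv])
    obtain ⟨w, rfl⟩ := hrange w hwt
    have hwu' := hcm hwu
    obtain ⟨k, hk, rfl⟩ := mem_S_of_comm D hwu'
    refine List.any_eq_true.2 ⟨k, ?_, ?_⟩
    · refine List.mem_filter.2 ⟨mem_all hk, ?_⟩
      rw [← mul_eq_iff D, ev_cu D]; exact hwu'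
    · rw [Bool.and_eq_true]
      constructor
      · rw [← mul_eq_iff' D (by decide), ev_cu D]
        exact hφ (by rw [map_mul, hw2])
      · rw [List.all_eq_true]
        intro l hl
        obtain ⟨hl1, hl2⟩ := List.mem_filter.1 hl
        rw [← mul_eq_iff D, ev_cu D] at hl2
        rw [Bool.or_eq_true]
        rcases hwx (φ (ev x z τ l)) ((comm_iff D φ hφ hrange htc).2 (htc _))
          ((comm_iff D φ hφ hrange htc).2 hl2) with h | h
        · left
          rw [← mul_eq_iff D]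
          exact hcm h
        · right
          rw [eqb_iff]
          have h5 : ev x z τ l * ev x z τ k = (ev x z τ k)⁻¹ * ev x z τ l := by
            apply hφ
            rw [map_mul, map_mul, map_inv, h]
          apply ev_inj D (mul_i _ _ _) (all_i hl1)
          rw [ev_mul D.H, ev_mul D.H, h5]
          group

/-- all involutions of `G` are conjugate -/
theorem one_class [IsSimpleGroup G] (hP : P ∈ pars) (s : G) (hs2 : s * s = 1) (hs1 : s ≠ 1) :
    IsConj (φ t) s := by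
  have h2 : Fact (Nat.Prime 2) := ⟨Nat.prime_two⟩
  obtain ⟨Q, hQ⟩ := exists_sylow_G D φ hφ hrange htc hP
  have hu := conj_u D φ hφ hrange htc hP
  -- involutions of `M`
  have hM : ∀ v ∈ M, v * v = 1 → v ≠ 1 → IsConj (φ t) (φ v) := by
    intro v hv hv2 hv1
    by_cases hvt : v = t
    · rw [hvt]
    · exact hu.trans (isConj_map φ (invol D hv hv2 hv1 hvt htc)).symm
  -- conjugate `s` into `S`
  have hsp : IsPGroup 2 (Subgroup.zpowers s) := by
    rw [IsPGroup.iff_card]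
    refine ⟨1, ?_⟩
    rw [Nat.card_zpowers, pow_one]
    exact orderOf_eq_prime (by rw [pow_two, hs2]) hs1
  obtain ⟨R, hR⟩ := hsp.exists_le_sylow
  obtain ⟨g, hg⟩ := MulAction.exists_smul_eq G R Q
  have hgs : g * s * g⁻¹ ∈ Q := by
    rw [← hg]
    exact Subgroup.smul_mem_pointwise_smul _ (MulAut.conj g) _ (hR (Subgroup.mem_zpowers s))
  obtain ⟨n, hn⟩ := exists_not_comm D φ hφ hrange
  obtain ⟨g', h3, h4⟩ := FusionB1.exists_conj_mem (FusionB1.index_ne_two hn) Q (M.map φ)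
    (by
      intro a ha haM b hb hbM
      have ha' : a ∈ (S D).map φ := by rw [← hQ]; exact ha
      have hb' : b ∈ (S D).map φ := by rw [← hQ]; exact hb
      obtain ⟨a, _, rfl⟩ := ha'
      obtain ⟨b, _, rfl⟩ := hb'
      exact ⟨a * b, mul_mem_of_not_mem D (fun h => haM ⟨a, h, rfl⟩) (fun h => hbM ⟨b, h, rfl⟩),
        map_mul _ _ _⟩)
    (g * s * g⁻¹) hgs (by
      calc g * s * g⁻¹ * (g * s * g⁻¹) = g * (s * s) * g⁻¹ := by group
        _ = 1 := by rw [hs2]; group)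
  obtain ⟨v, hv, hvg⟩ := h4
  have h5 : IsConj (φ v) s := by
    rw [isConj_iff]
    refine ⟨(g'⁻¹ * g)⁻¹, ?_⟩
    rw [hvg]; group
  refine (hM v hv ?_ ?_).trans h5
  · apply hφ
    rw [map_mul, map_one, hvg]
    calc g'⁻¹ * (g * s * g⁻¹) * g' * (g'⁻¹ * (g * s * g⁻¹) * g')
        = g'⁻¹ * (g * (s * s) * g⁻¹) * g' := by group
      _ = 1 := by rw [hs2]; group
  · rintro rfl
    rw [map_one] at hvg
    apply hs1
    calc s = (g'⁻¹ * g)⁻¹ * (g'⁻¹ * (g * s * g⁻¹) * g') * (g'⁻¹ * g) := by group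
      _ = 1 := by rw [← hvg]; group

/-- **Fusion in a simple group of type O'N.** -/
theorem main [IsSimpleGroup G] (hP : P ∈ pars) : P = PON ∧
    (∃ n : G, n * φ t * n⁻¹ = φ (x 0 2 1) ∧ n * φ (x 0 2 1) * n⁻¹ = φ t) ∧
    ∀ s : G, s * s = 1 → s ≠ 1 → IsConj (φ t) s :=
  ⟨par_eq D φ hφ hrange htc hP, exists_swap D φ hφ hrange htc hP,
    one_class D φ hφ hrange htc hP⟩

end G

end Cfsg.Agent.ONType.Fusion
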