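import Cfsg.Agent.ONType.GlueCheck

/-!
# The gluing: from an element exchanging `t` and `u` to an involution `θ` with `c ↔ d`, `g` fixed
-/

set_option autoImplicit false
set_option linter.constructorNameAsVariable false

namespace Cfsg.Agent.ONType.Glue

open Cfsg.Agent.SporadicA.FieldFour
open Cfsg.Agent.ONType.Data
open Cfsg.Agent.ONType.SGroup
open Cfsg.Agent.ONType.GlueCheck

/-- `T₀ = C(t) ∩ C(u)` by codes -/
structure TData {G : Type*} [Group G] (E : Cd → G) (h : G) : Prop where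
  mul : ∀ k l, E (mul P0 k l) = E k * E l
  inj : ∀ k l, inT k → inT l → E k = E l → k = l
  mem : ∀ g : G, g * E tC = E tC * g → g * E uC = E uC * g → ∃ k, inT k ∧ E k = g
  hJ : ∀ (a c : F4) (i : ℕ), h⁻¹ * E ⟨false, a, a, c, i⟩ * h = E ⟨false, .w * a, .w * a, .v * c, i⟩

section
variable {G : Type*} [Group G] {E : Cd → G} {h : G}

/-- conjugation -/
def cg (θ g : G) : G := θ⁻¹ * g * θ

theorem cg_mul (θ a b : G) : cg θ (a * b) = cg θ a * cg θ b := by unfold cg; group

theorem cg_one (θ : G) : cg θ 1 = 1 := by unfold cg; group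

theorem cg_cg {θ : G} (h2 : θ * θ = 1) (a : G) : cg θ (cg θ a) = a := by
  have : cg θ (cg θ a) = (θ * θ)⁻¹ * a * (θ * θ) := by unfold cg; group
  rw [this, h2]; group

theorem cg_comp (θ η a : G) : cg η (cg θ a) = cg (θ * η) a := by unfold cg; group

theorem TData.mK (D : TData E h) (k l : Cd) : E (mK k l) = E k * E l := by
  rw [mK_eq]; exact D.mul k l

theorem TData.one (D : TData E h) : E GlueCheck.one = 1 := by
  have h1 : E (GlueCheck.mK GlueCheck.one GlueCheck.one) = E GlueCheck.one * E GlueCheck.one :=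
    D.mK _ _
  have h2 : GlueCheck.mK GlueCheck.one GlueCheck.one = GlueCheck.one := by decide
  rw [h2] at h1
  exact (mul_eq_left.mp h1.symm)

theorem inT_one : inT one := ⟨rfl, by decide⟩

theorem inT_pw {x : Cd} (hx : inT x) (n : ℕ) : inT (pw x n) := by
  match n with
  | 0 => exact inT_one
  | 1 => exact hx
  | 2 => exact inT_mK hx hx
  | n + 3 =>
    show inT (fC (mK x x) fun y => mK x y)
    rw [fC_eq]
    exact inT_mK hx (inT_mK hx hx)

theorem pw_three (x : Cd) : pw x 3 = mK x (mK x x) := rfl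

theorem pw_big (x : Cd) (n : ℕ) : pw x (n + 3) = mK x (mK x x) := rfl

/-- transport of words: `pw` -/
theorem TData.cg_pw (D : TData E h) {θ : G} {a a' : Cd} (ha : cg θ (E a) = E a') (n : ℕ) :
    cg θ (E (pw a n)) = E (pw a' n) := by
  match n with
  | 0 => show cg θ (E GlueCheck.one) = E GlueCheck.one; rw [D.one, cg_one]
  | 1 => exact ha
  | 2 => show cg θ (E (GlueCheck.mK a a)) = E (GlueCheck.mK a' a')
         rw [D.mK, D.mK, cg_mul, ha]
  | n + 3 => rw [pw_big, pw_big, D.mK, D.mK, D.mK, D.mK, cg_mul, cg_mul, ha]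

/-- the data of an involution exchanging `t` and `u` -/
structure Inv (E : Cd → G) (θ : G) (p d y1 : Cd) : Prop where
  sq : θ * θ = 1
  hp : inT p
  hd : inT d
  hy : inT y1
  ez : cg θ (E zC) = E p
  ec : cg θ (E cC) = E d
  ey : cg θ (E yC) = E y1

variable {θ : G} {p d y1 : Cd}

theorem Inv.ez' (I : Inv E θ p d y1) : cg θ (E p) = E zC := by rw [← I.ez, cg_cg I.sq]
theorem Inv.ec' (I : Inv E θ p d y1) : cg θ (E d) = E cC := by rw [← I.ec, cg_cg I.sq]
theorem Inv.ey' (I : Inv E θ p d y1) : cg θ (E y1) = E yC := by rw [← I.ey, cg_cg I.sq]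

theorem inT_zC : inT zC := ⟨rfl, by decide⟩
theorem inT_z3 : inT z3 := ⟨rfl, by decide⟩
theorem inT_tC : inT tC := ⟨rfl, by decide⟩
theorem inT_uC : inT uC := ⟨rfl, by decide⟩
theorem inT_cC : inT cC := ⟨rfl, by decide⟩
theorem inT_yC : inT yC := ⟨rfl, by decide⟩

theorem inT_dC (i : ℕ) : inT (dC i) := by
  match i with
  | 0 => exact ⟨rfl, by decide⟩
  | 1 => exact ⟨rfl, by decide⟩
  | n + 2 => exact ⟨rfl, by show 1 < 4; decide⟩

theorem inT_gC (i : ℕ) : inT (gC i) := by
  match i with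
  | 0 => exact ⟨rfl, by decide⟩
  | 1 => exact ⟨rfl, by decide⟩
  | 2 => exact ⟨rfl, by decide⟩
  | n + 3 => exact ⟨rfl, by show 0 < 4; decide⟩

/-- soundness of `thJ` -/
theorem thJ_sound (D : TData E h) (I : Inv E θ p d y1) {x r : Cd} (hr : thJ p y1 x = some r) :
    cg θ (E x) = E r ∧ inT r := by
  unfold thJ at hr
  simp only [fZ_eq, fC_eq] at hr
  split at hr
  · rename_i heq
    have hx := eq_of_eqC heq
    have hr' := Option.some.inj hr
    rw [← hx, ← hr']
    refine ⟨?_, ?_⟩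
    · rw [D.mK, D.mK, D.mK, D.mK, cg_mul, cg_mul, D.cg_pw I.ez, D.cg_pw I.ez', D.cg_pw I.ey]
    · exact inT_mK (inT_pw I.hp _) (inT_mK (inT_pw inT_zC _) (inT_pw I.hy _))
  · exact absurd hr (by simp)

/-- soundness of `th` -/
theorem th_sound (D : TData E h) (I : Inv E θ p d y1) (hdd : E d * E d = 1) {x r : Cd}
    (hr : th p d y1 x = some r) : cg θ (E x) = E r := by
  have hcc : E cC * E cC = 1 := by
    rw [← D.mK, (by decide : mK cC cC = one), D.one]
  unfold th at hr
  simp only [fC_eq] at hr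
  -- the value of `v`
  have key : ∀ r', cg θ (E (sel d x)) = E r' → cg θ (E x) = E (selc x.e r') := by
    intro r' h1
    unfold sel at h1
    unfold selc
    cases hx : x.e
    · rw [hx] at h1
      exact h1
    · rw [hx] at h1
      simp only at h1 ⊢
      rw [D.mK, ← h1, D.mK, cg_mul, I.ec', ← mul_assoc, hcc, one_mul]
  split at hr
  · split at hr
    · rename_i r' h1
      rw [key r' (thJ_sound D I h1).1, Option.some.inj hr]
    · exact absurd hr (by simp)
  · split at hr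
    · rename_i r' h1
      have h3 := (thJ_sound D I h1).1
      rw [D.mK, cg_mul, I.ec] at h3
      rw [key (mK d r') (by rw [D.mK, ← h3, ← mul_assoc, hdd, one_mul]), Option.some.inj hr]
    · exact absurd hr (by simp)

theorem inT_hK {x : Cd} (hx : inT x) : inT (hK x) := by
  obtain ⟨e, a, b, c, i⟩ := x
  simp only [hK, fF_eq]
  exact ⟨rfl, hx.2⟩

theorem hK_sound (D : TData E h) {x : Cd} (hx : inJ x = true) : cg h (E x) = E (hK x) := by
  obtain ⟨e, a, b, c, i⟩ := x
  cases e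
  · have hab : a = b := toNat_inj (Nat.eq_of_beq_eq_true hx)
    subst hab
    simp only [hK, fF_eq]
    exact D.hJ a c i
  · exact absurd hx (by simp [inJ])

theorem stp_sound (D : TData E h) (I : Inv E θ p d y1) {x : Option Cd} {r : Cd}
    (hr : stp p y1 x = some r) : ∃ a, x = some a ∧ cg (θ * h) (E a) = E r ∧ inT r := by
  unfold stp at hr
  split at hr
  · rename_i a
    refine ⟨a, rfl, ?_⟩
    split at hr
    · rename_i r' h1
      simp only [fC_eq] at hr
      split at hr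
      · rename_i h2
        have h3 := thJ_sound D I h1
        have h4 := hK_sound D h2
        rw [← Option.some.inj hr]
        exact ⟨by rw [← cg_comp, h3.1, h4], inT_hK h3.2⟩
      · exact absurd hr (by simp)
    · exact absurd hr (by simp)
  · exact absurd hr (by simp)

theorem stp7_sound (D : TData E h) (I : Inv E θ p d y1) {x r : Cd}
    (hr : stp7 p y1 x = some r) : cg ((θ * h) ^ 7) (E x) = E r ∧ inT r := by
  unfold stp7 at hr
  obtain ⟨a6, h6, e6, i6⟩ := stp_sound D I hr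
  obtain ⟨a5, h5, e5, -⟩ := stp_sound D I h6
  obtain ⟨a4, h4, e4, -⟩ := stp_sound D I h5
  obtain ⟨a3, h3, e3, -⟩ := stp_sound D I h4
  obtain ⟨a2, h2, e2, -⟩ := stp_sound D I h3
  obtain ⟨a1, h1, e1, -⟩ := stp_sound D I h2
  obtain ⟨a0, h0, e0, -⟩ := stp_sound D I h1
  rw [Option.some.inj h0]
  refine ⟨?_, i6⟩
  rw [← e6, ← e5, ← e4, ← e3, ← e2, ← e1, ← e0]
  simp only [cg_comp]
  congr 1
  simp only [pow_succ, pow_zero, one_mul]

theorem norm_z' (D : TData E h) {k : Cd} (hk : inT k) :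
    E zC * E k = E k * E zC ∨ E zC * E k = E k * E z3 := by
  have := allT_spec norm_z k hk
  rw [Bool.or_eq_true] at this
  rcases this with h1 | h1
  · left; rw [← D.mK, ← D.mK, eq_of_eqC h1]
  · right; rw [← D.mK, ← D.mK, eq_of_eqC h1]

theorem cent_tu' (D : TData E h) {k : Cd} (hk : inT k) :
    E tC * E k = E k * E tC ∧ E uC * E k = E k * E uC := by
  have := allT_spec cent_tu k hk
  rw [Bool.and_eq_true] at this
  exact ⟨by rw [← D.mK, ← D.mK, eq_of_eqC this.1], by rw [← D.mK, ← D.mK, eq_of_eqC this.2]⟩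

/-- the bad case is impossible -/
theorem not_bad (D : TData E h) (I : Inv E θ p d y1) : bad p y1 = false := by
  by_contra hb
  rw [Bool.not_eq_false] at hb
  unfold bad at hb
  rw [Bool.and_eq_true, Bool.and_eq_true] at hb
  obtain ⟨⟨h1, h2⟩, h3⟩ := hb
  rw [isS_iff] at h1 h2
  split at h3
  · rename_i r hr
    simp only [fC_eq, Bool.and_eq_true, Bool.not_eq_true'] at h3
    obtain ⟨h3, h4⟩ := h3
    have e1 := (stp7_sound D I h1).1
    have e2 := (stp7_sound D I h2).1
    obtain ⟨e3, i3⟩ := stp7_sound D I hr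
    set x := (θ * h) ^ 7
    have cm : ∀ a b : G, cg x a = b → a * x = x * b := fun a b hab => by
      rw [← hab]; unfold cg; group
    obtain ⟨k, hk, hkx⟩ := D.mem x (cm _ _ e1).symm (cm _ _ e2).symm
    have e4 := cm _ _ e3
    rw [← hkx] at e4
    rcases norm_z' D hk with h5 | h5
    · rw [h5] at e4
      have := D.inj _ _ inT_zC i3 (mul_left_cancel e4)
      rw [← this, eqC_self] at h3
      exact absurd h3 (by simp)
    · rw [h5] at e4
      have := D.inj _ _ inT_z3 i3 (mul_left_cancel e4)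
      rw [← this, eqC_self] at h4
      exact absurd h4 (by simp)
  · exact absurd h3 (by simp)

/-- the conditions hold for an actual involution -/
theorem conds (D : TData E h) (I : Inv E θ p d y1) (ht : cg θ (E tC) = E uC) :
    c1 p = true ∧ c2 p d = true ∧ c3 p d y1 = true := by
  have hut : cg θ (E uC) = E tC := by rw [← ht, cg_cg I.sq]
  -- images of codes
  have img : ∀ k, inT k → ∃ k', inT k' ∧ cg θ (E k') = E k := by
    intro k hk
    obtain ⟨h1, h2⟩ := cent_tu' D hk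
    have g1 : cg θ (E k) * E tC = E tC * cg θ (E k) := by
      rw [← hut, ← cg_mul, ← cg_mul, h2]
    have g2 : cg θ (E k) * E uC = E uC * cg θ (E k) := by
      rw [← ht, ← cg_mul, ← cg_mul, h1]
    obtain ⟨k', hk', e'⟩ := D.mem _ g1 g2
    exact ⟨k', hk', by rw [e', cg_cg I.sq]⟩
  have hz3 : E z3 = E (pw zC 3) := by rw [(by decide : pw zC 3 = z3)]
  have ez3 : cg θ (E z3) = E (pw p 3) := by rw [hz3]; exact D.cg_pw I.ez 3
  have hc1 : c1 p = true := by
    unfold c1
    rw [Bool.and_eq_true]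
    constructor
    · rw [eqC_iff]
      apply D.inj _ _ (inT_mK I.hp I.hp) inT_uC
      rw [D.mK, ← I.ez, ← cg_mul, ← D.mK, (by decide : mK zC zC = tC), ht]
    · rw [List.all_eq_true]
      intro k hk
      have hkT : inT k := by
        simp only [gens, List.mem_cons, List.not_mem_nil, or_false] at hk
        rcases hk with rfl | rfl | rfl | rfl <;> exact ⟨rfl, by decide⟩
      obtain ⟨k', hk', e'⟩ := img k hkT
      simp only [fC_eq, Bool.or_eq_true]
      rcases norm_z' D hk' with h5 | h5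
      · left
        rw [eqC_iff]
        apply D.inj _ _ (inT_mK I.hp hkT) (inT_mK hkT I.hp)
        rw [D.mK, D.mK, ← I.ez, ← e', ← cg_mul, ← cg_mul, h5]
      · right
        rw [eqC_iff]
        apply D.inj _ _ (inT_mK I.hp hkT) (inT_mK hkT (inT_pw I.hp 3))
        rw [D.mK, D.mK, ← ez3, ← I.ez, ← e', ← cg_mul, ← cg_mul, h5]
  have hpc : E p * E cC = E cC * E (pw p 3) := by
    have := allT_spec inv_p p I.hp
    rw [hc1, Bool.not_true, Bool.false_or] at this
    rw [← D.mK, ← D.mK, eq_of_eqC this]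
  have hpy : E yC * E p = E p * E yC := by
    have := allT_spec comm_p p I.hp
    rw [hc1, Bool.not_true, Bool.false_or] at this
    rw [← D.mK, ← D.mK, eq_of_eqC this]
  have hc2 : c2 p d = true := by
    unfold c2
    rw [Bool.and_eq_true, Bool.and_eq_true, eqC_iff, eqC_iff, eqC_iff]
    refine ⟨⟨?_, ?_⟩, ?_⟩
    · apply D.inj _ _ (inT_mK I.hd I.hd) inT_one
      rw [D.mK, ← I.ec, ← cg_mul, ← D.mK, (by decide : mK cC cC = one), D.one, cg_one]
    · apply D.inj _ _ (inT_mK I.hd I.hp) (inT_mK I.hp I.hd)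
      rw [D.mK, D.mK, ← I.ec, ← I.ez, ← cg_mul, ← cg_mul, ← D.mK, ← D.mK,
        (by decide : mK cC zC = mK zC cC)]
    · apply D.inj _ _ (inT_mK inT_zC I.hd) (inT_mK I.hd inT_z3)
      rw [D.mK, D.mK, ← I.ec, hz3, ← D.cg_pw I.ez' 3, ← cg_mul, ← hpc, cg_mul, I.ez']
  refine ⟨hc1, hc2, ?_⟩
  have hdd : E d * E d = 1 := by
    rw [← I.ec, ← cg_mul, ← D.mK, (by decide : mK cC cC = one), D.one, cg_one]
  unfold c3
  simp only [fC_eq, Bool.and_eq_true]
  refine ⟨⟨⟨⟨?_, ?_⟩, ?_⟩, ?_⟩, ?_⟩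
  · rw [eqC_iff]
    apply D.inj _ _ (inT_mK I.hy I.hp) (inT_mK I.hp I.hy)
    rw [D.mK, D.mK, ← I.ey, ← I.ez, ← cg_mul, ← cg_mul, ← D.mK, ← D.mK,
      (by decide : mK yC zC = mK zC yC)]
  · rw [eqC_iff]
    apply D.inj _ _ (inT_mK I.hy inT_zC) (inT_mK inT_zC I.hy)
    rw [D.mK, D.mK, ← I.ey, ← I.ez', ← cg_mul, ← cg_mul, hpy]
  · apply isN_of
    intro r hr
    obtain ⟨e1, i1⟩ := thJ_sound D I hr
    apply D.inj _ _ i1 inT_yC
    rw [← e1, I.ey']
  · rw [eqC_iff]
    apply D.inj _ _ (inT_mK I.hy I.hd)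
      (inT_mK I.hd (inT_mK (inT_mK (inT_pw I.hy 3) inT_tC) I.hp))
    have e1 : mK yC cC = mK cC (mK (mK (pw yC 3) uC) zC) := by decide
    rw [D.mK, D.mK, D.mK, D.mK, ← D.cg_pw I.ey 3, ← hut, ← I.ey, ← I.ec, ← I.ez, ← cg_mul,
      ← cg_mul, ← cg_mul, ← cg_mul, ← D.mK, ← D.mK, ← D.mK, ← D.mK, e1]
  · apply isN_of
    intro r hr
    obtain ⟨e1, i1⟩ := thJ_sound D I hr
    apply D.inj _ _ i1
      (inT_mK (inT_mK I.hd inT_cC) (inT_mK I.hd inT_cC))
    rw [← e1]
    simp only [D.mK, cg_mul, I.ec, I.ec']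

/-- **The gluing.** -/
theorem exists_theta (D : TData E h) (n : G) (hn1 : cg n (E tC) = E uC) (hn2 : cg n (E uC) = E tC) :
    ∃ (θ : G) (i : ℕ), i < 4 ∧ θ * θ = 1 ∧ cg θ (E tC) = E uC ∧ cg θ (E cC) = E (dC i) ∧
      cg θ (E (gC i)) = E (gC i) := by
  -- the involution
  set s : Cd := ⟨false, .w, .z, .z, 0⟩ with hs
  have hss : E s * E s = 1 := by rw [← D.mK, (by decide : mK s s = GlueCheck.one), D.one]
  have hst : cg (E s) (E tC) = E tC := by
    have : E tC * E s = E s * E tC := by rw [← D.mK, ← D.mK, (by decide : mK tC s = mK s tC)]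
    unfold cg; rw [mul_assoc, this]; group
  have hsu : cg (E s) (E uC) = E uC * E tC := by
    have : E uC * E s = E s * (E uC * E tC) := by
      rw [← D.mK, ← D.mK, ← D.mK, (by decide : mK uC s = mK s (mK uC tC))]
    unfold cg; rw [mul_assoc, this]; group
  set ρ := n * E s with hρ
  set θ := ρ⁻¹ * E s * ρ with hθ
  have hθ2 : θ * θ = 1 := by
    have : θ * θ = ρ⁻¹ * (E s * E s) * ρ := by rw [hθ]; group
    rw [this, hss]; group
  have r1 : cg ρ (E tC) = E uC * E tC := by rw [hρ, ← cg_comp, hn1, hsu]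
  have r2 : cg ρ (E uC) = E tC := by rw [hρ, ← cg_comp, hn2, hst]
  have r3 : cg ρ (E uC * E tC) = E uC := by
    rw [cg_mul, r1, r2]
    have h1 : E tC * E uC = E uC * E tC := by rw [← D.mK, ← D.mK, (by decide : mK tC uC = mK uC tC)]
    have h2 : E tC * E tC = 1 := by rw [← D.mK, (by decide : mK tC tC = GlueCheck.one), D.one]
    rw [← mul_assoc, h1, mul_assoc, h2, mul_one]
  have hθt : cg θ (E tC) = E uC := by
    have e1 : E tC = cg ρ (E uC) := r2.symm
    have e2 : cg θ (cg ρ (E uC)) = cg ρ (cg (E s) (E uC)) := by rw [hθ]; unfold cg; group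
    rw [e1, e2, hsu, r3]
  have hθu : cg θ (E uC) = E tC := by rw [← hθt, cg_cg hθ2]
  -- the images
  have img : ∀ k, inT k → ∃ k', inT k' ∧ cg θ (E k) = E k' := by
    intro k hk
    obtain ⟨h1, h2⟩ := cent_tu' D hk
    have g1 : cg θ (E k) * E tC = E tC * cg θ (E k) := by
      rw [← hθu, ← cg_mul, ← cg_mul, h2]
    have g2 : cg θ (E k) * E uC = E uC * cg θ (E k) := by
      rw [← hθt, ← cg_mul, ← cg_mul, h1]
    obtain ⟨k', hk', e'⟩ := D.mem _ g1 g2
    exact ⟨k', hk', e'.symm⟩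
  obtain ⟨p, hp, ep⟩ := img zC inT_zC
  obtain ⟨d, hd, ed⟩ := img cC inT_cC
  obtain ⟨y1, hy, ey⟩ := img yC inT_yC
  have I : Inv E θ p d y1 := ⟨hθ2, hp, hd, hy, ep, ed, ey⟩
  obtain ⟨k1, k2, k3⟩ := conds D I hθt
  have m1 := allT_spec main_check p hp
  simp only [k1, Bool.not_true, Bool.false_or] at m1
  have m2 := allT_spec m1 d hd
  simp only [k2, Bool.not_true, Bool.false_or] at m2
  have m3 := allT_spec m2 y1 hy
  simp only [k3, Bool.not_true, Bool.false_or, not_bad D I] at m3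
  have hdd : E d * E d = 1 := by
    rw [← ed, ← cg_mul, ← D.mK, (by decide : mK cC cC = GlueCheck.one), D.one, cg_one]
  unfold good at m3
  rw [List.any_eq_true] at m3
  obtain ⟨⟨x, x'⟩, hxx, m4⟩ := m3
  simp only [fC_eq] at m4
  rw [List.any_eq_true] at m4
  obtain ⟨i, hi, m5⟩ := m4
  rw [Bool.and_eq_true, Bool.and_eq_true, eqC_iff, isS_iff, isS_iff] at m5
  obtain ⟨⟨m6, m7⟩, m8⟩ := m5
  have hi4 : i < 4 := by
    simp only [l4, List.mem_cons, List.not_mem_nil, or_false] at hi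
    omega
  have ex' : E x' = (E x)⁻¹ :=
    eq_inv_of_mul_eq_one_right (by rw [← D.mK, m6, D.one])
  have ecj : ∀ a, E (cj x' a x) = cg (E x) (E a) := by
    intro a
    unfold cj
    rw [fC_eq, D.mK, D.mK, ex', ← mul_assoc]; rfl
  have q7 := th_sound D I hdd m7
  have q8 := th_sound D I hdd m8
  simp only [ecj] at q7 q8
  have hxT : inT x := (by decide : ∀ q ∈ xs, inT q.1) _ hxx
  obtain ⟨ct, cu⟩ := cent_tu' D hxT
  have back : ∀ a b : G, cg θ (cg (E x) a) = cg (E x) b → cg (E x * θ * (E x)⁻¹) a = b := by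
    intro a b hab
    have : cg (E x * θ * (E x)⁻¹) a = cg (E x)⁻¹ (cg θ (cg (E x) a)) := by unfold cg; group
    rw [this, hab]; unfold cg; group
  refine ⟨E x * θ * (E x)⁻¹, i, hi4, ?_, back _ _ ?_, back _ _ q7, back _ _ q8⟩
  · have : E x * θ * (E x)⁻¹ * (E x * θ * (E x)⁻¹) = E x * (θ * θ) * (E x)⁻¹ := by group
    rw [this, hθ2]; group
  · have e1 : cg (E x) (E tC) = E tC := by unfold cg; rw [mul_assoc, ct]; group
    have e2 : cg (E x) (E uC) = E uC := by unfold cg; rw [mul_assoc, cu]; group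
    rw [e1, e2, hθt]

end

end Cfsg.Agent.ONType.Glue
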