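import Cfsg.Agent.ONType.SGroup

/-!
# The gluing: the kernel computation

Type II, `τ` = field times graph automorphism, `τ² = 1`.  `T₀ = C_S(x₁₃(1))` is the group of order 256.
An automorphism `θ` of `T₀` with `θ² = 1` exchanging `t = z²` and `u = x₁₃(1)` is determined by
`p = z^θ`, `d = c^θ`, `y₁ = y^θ` where `c = x₂₃(1) x₁₃(1) t`, `y = x₁₂(ω) x₂₃(ω)`.
-/

set_option autoImplicit false
set_option linter.constructorNameAsVariable false

namespace Cfsg.Agent.ONType.GlueCheck

open Cfsg.Agent.SporadicA.FieldFour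
open Cfsg.Agent.ONType.OuterM (trn)
open Cfsg.Agent.ONType.Data
open Cfsg.Agent.ONType.SGroup

/-- type II, field, graph, `z` inverted, `τ² = 1` -/
def P0 : Par := ⟨true, true, true, true, 0⟩

def trK : F4 → ℕ
  | .z => 0
  | .o => 0
  | .w => 1
  | .v => 1

def nmK (e : Bool) (a b c : F4) (i : ℕ) (a' b' c' : F4) (j : ℕ) : Cd :=
  fF (F4.add a a') fun A => fF (F4.add b b') fun B => fF (F4.mul a' b) fun m =>
  fF (F4.add m c) fun c1 => fF (F4.add c1 c') fun C =>
  fF (F4.mul c a') fun m1 => fF (F4.mul b b) fun b2 => fF (F4.mul a' b2) fun m2 =>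
  fF (F4.mul c1 b') fun m3 =>
  fZ (i + j + (2 * trK m1 + 3 * gII m2 + 2 * trK m3)) fun i => ⟨e, A, B, C, i⟩

/-- fast multiplication -/
def mK (x y : Cd) : Cd :=
  match x with
  | ⟨e, a, b, c, i⟩ =>
    match y with
    | ⟨f, a', b', c', j⟩ =>
      match f with
      | false => nmK e a b c i a' b' c' j
      | true =>
        fF (F4.mul a a) fun a2 => fF (F4.mul b b) fun b2 => fF (F4.mul c c) fun c2 =>
        fF (F4.mul b2 a2) fun m => fF (F4.add m c2) fun c1 =>
        fF (F4.mul a2 a2) fun a4 => fF (F4.mul b2 a4) fun m4 =>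
        fZ (3 * i + 3 * gII m4) fun i1 =>
        match e with
        | false => nmK true b2 a2 c1 i1 a' b' c' j
        | true => nmK false b2 a2 c1 i1 a' b' c' j

theorem mK_eq (x y : Cd) : mK x y = mul P0 x y := by
  obtain ⟨e, a, b, c, i⟩ := x
  obtain ⟨f, a', b', c', j⟩ := y
  have ht : ∀ u : F4, trK u = trn u := by decide
  have ha : ∀ u v : F4, F4.add u v = u + v := fun _ _ => rfl
  have hm : ∀ u v : F4, F4.mul u v = u * v := fun _ _ => rfl
  have hg : gt true = gII := rfl
  cases f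
  · simp only [mK, mul, nmK, nm, fF_eq, fZ_eq, ht, ha, hm, hg, P0]
  · cases e
    · simp only [mK, mul, nmK, nm, tw, fF_eq, fZ_eq, ht, ha, hm, hg, P0, if_true]
    · simp only [mK, mul, nmK, nm, tw, fF_eq, fZ_eq, ht, ha, hm, hg, P0, if_true, adz, add_zero,
        Nat.mod_mod]

/-- equality test -/
def eqC (x y : Cd) : Bool :=
  match x with
  | ⟨e, a, b, c, i⟩ =>
    match y with
    | ⟨f, a', b', c', j⟩ =>
      match e, f with
      | true, true => Nat.beq (F4.toNat a) (F4.toNat a') && Nat.beq (F4.toNat b) (F4.toNat b') &&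
          Nat.beq (F4.toNat c) (F4.toNat c') && Nat.beq i j
      | false, false => Nat.beq (F4.toNat a) (F4.toNat a') && Nat.beq (F4.toNat b) (F4.toNat b') &&
          Nat.beq (F4.toNat c) (F4.toNat c') && Nat.beq i j
      | _, _ => false

theorem toNat_inj {a b : F4} (h : F4.toNat a = F4.toNat b) : a = b := by
  rw [← F4.ofNat_toNat a, h, F4.ofNat_toNat]

theorem eq_of_eqC {x y : Cd} (h : eqC x y = true) : x = y := by
  obtain ⟨e, a, b, c, i⟩ := x
  obtain ⟨f, a', b', c', j⟩ := y
  cases e <;> cases f <;> simp only [eqC, Bool.and_eq_true, Nat.beq_eq, Bool.false_eq_true] at h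
  · obtain ⟨⟨⟨h1, h2⟩, h3⟩, h4⟩ := h
    rw [toNat_inj h1, toNat_inj h2, toNat_inj h3, h4]
  · obtain ⟨⟨⟨h1, h2⟩, h3⟩, h4⟩ := h
    rw [toNat_inj h1, toNat_inj h2, toNat_inj h3, h4]

theorem eqC_self (x : Cd) : eqC x x = true := by
  obtain ⟨e, a, b, c, i⟩ := x
  cases e <;> simp [eqC]

theorem eqC_iff {x y : Cd} : eqC x y = true ↔ x = y :=
  ⟨eq_of_eqC, fun h => h ▸ eqC_self x⟩

/-- force a code -/
def fC {α : Type*} (x : Cd) (k : Cd → α) : α :=
  match x with
  | ⟨e, a, b, c, i⟩ => k ⟨e, a, b, c, i⟩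

theorem fC_eq {α : Type*} (x : Cd) (k : Cd → α) : fC x k = k x := rfl

def one : Cd := ⟨false, .z, .z, .z, 0⟩
def zC : Cd := ⟨false, .z, .z, .z, 1⟩
def z3 : Cd := ⟨false, .z, .z, .z, 3⟩
def tC : Cd := ⟨false, .z, .z, .z, 2⟩
def uC : Cd := ⟨false, .z, .z, .o, 0⟩
def cC : Cd := ⟨false, .z, .o, .o, 2⟩
def yC : Cd := ⟨false, .w, .w, .z, 0⟩
def dC : ℕ → Cd
  | 0 => ⟨true, .z, .z, .z, 0⟩
  | 1 => ⟨true, .z, .z, .z, 0⟩
  | _ => ⟨true, .z, .z, .z, 1⟩
def gC : ℕ → Cd
  | 0 => ⟨true, .w, .v, .v, 3⟩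
  | 1 => ⟨true, .v, .w, .w, 3⟩
  | 2 => ⟨true, .w, .v, .v, 0⟩
  | _ => ⟨true, .v, .w, .w, 0⟩

def fs : List F4 := [.z, .o, .w, .v]
def l4 : List ℕ := [0, 1, 2, 3]

/-- unipotent elements of `T₀` -/
def U0L : List (F4 × F4) := [(.z, .z), (.z, .o), (.o, .z), (.o, .o), (.w, .w), (.w, .v), (.v, .w), (.v, .v)]

/-- all of the codes of `T₀` satisfy `f` -/
def allT (f : Cd → Bool) : Bool :=
  [false, true].all fun e => U0L.all fun ab => fs.all fun c => l4.all fun i =>
    f ⟨e, ab.1, ab.2, c, i⟩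

/-- membership in `T₀` -/
def inT (x : Cd) : Prop := trK x.a = trK x.b ∧ x.i < 4

instance (x : Cd) : Decidable (inT x) := by unfold inT; infer_instance

theorem mem_U0L : ∀ a b : F4, trK a = trK b → (a, b) ∈ U0L := by decide

theorem mem_fs : ∀ a : F4, a ∈ fs := by decide

theorem mem_l4 {i : ℕ} (hi : i < 4) : i ∈ l4 := by
  unfold l4
  interval_cases i <;> decide

theorem allT_spec {f : Cd → Bool} (h : allT f = true) (x : Cd) (hx : inT x) : f x = true := by
  obtain ⟨e, a, b, c, i⟩ := x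
  obtain ⟨hab, hi⟩ := hx
  simp only at hab hi
  unfold allT at h
  rw [List.all_eq_true] at h
  have h1 := h e (by cases e <;> simp)
  rw [List.all_eq_true] at h1
  have h2 := h1 (a, b) (mem_U0L a b hab)
  rw [List.all_eq_true] at h2
  have h3 := h2 c (mem_fs c)
  rw [List.all_eq_true] at h3
  exact h3 i (mem_l4 hi)

def pw (x : Cd) (n : ℕ) : Cd :=
  match n with
  | 0 => one
  | 1 => x
  | 2 => mK x x
  | _ => fC (mK x x) fun y => mK x y

def fstBit : F4 → ℕ
  | .z => 0
  | .o => 1
  | .w => 0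
  | .v => 1
def sndBit : F4 → ℕ
  | .z => 0
  | .o => 0
  | .w => 1
  | .v => 1

/-- `θ` on `J = ⟨z, p, y⟩` -/
def thJ (p y1 x : Cd) : Option Cd :=
  fZ (fstBit x.a) fun j0 => fZ (sndBit x.a) fun k0 =>
  fC (pw p j0) fun pj => fC (pw yC k0) fun yk => fC (mK pj yk) fun q => fC (pw q 3) fun q3 =>
  fC (mK x q3) fun v =>
  fZ (k0 + 2 * sndBit v.c) fun k => fZ (j0 + 2 * (fstBit v.c + sndBit v.c)) fun j =>
  fC (pw p j) fun pj => fC (pw yC k) fun yk => fC (mK pj yk) fun q => fC (pw q 3) fun q3 =>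
  fC (mK x q3) fun r => fZ r.i fun i => fC (pw zC i) fun zi =>
  match eqC (mK zi q) x with
  | true => fC (pw p i) fun a => fC (pw zC j) fun b => fC (pw y1 k) fun c =>
      fC (mK b c) fun bc => some (mK a bc)
  | false => none

def sel (d x : Cd) : Cd :=
  match x.e with
  | true => mK d x
  | false => x

def selc (e : Bool) (r : Cd) : Cd :=
  match e with
  | true => mK cC r
  | false => r

/-- `θ` on `T₀` -/
def th (p d y1 x : Cd) : Option Cd :=
  fC (sel d x) fun v =>
  match Nat.beq (F4.toNat v.a) (F4.toNat v.b) with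
  | true =>
    match thJ p y1 v with
    | some r => fC r fun r => some (selc x.e r)
    | none => none
  | false =>
    fC (mK cC v) fun w =>
    match thJ p y1 w with
    | some r => fC r fun r => fC (mK d r) fun dr => some (selc x.e dr)
    | none => none

/-- the action of the torus element on `J` -/
def hK (x : Cd) : Cd :=
  match x with
  | ⟨_, a, _, c, i⟩ => fF (F4.mul .w a) fun a => fF (F4.mul .v c) fun c => ⟨false, a, a, c, i⟩

/-- membership in `J` -/
def inJ (x : Cd) : Bool :=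
  match x with
  | ⟨false, a, b, _, _⟩ => Nat.beq (F4.toNat a) (F4.toNat b)
  | _ => false

/-- one step `θ` then `h` on `J` -/
def stp (p y1 : Cd) (x : Option Cd) : Option Cd :=
  match x with
  | some x =>
    match thJ p y1 x with
    | some r => fC r fun r =>
      match inJ r with
      | true => fC (hK r) fun r => some r
      | false => none
    | none => none
  | none => none

def stp7 (p y1 x : Cd) : Option Cd :=
  stp p y1 (stp p y1 (stp p y1 (stp p y1 (stp p y1 (stp p y1 (stp p y1 (some x)))))))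

/-- equality test for the value of a partial function -/
def isS (o : Option Cd) (x : Cd) : Bool :=
  match o with
  | some y => eqC y x
  | none => false

theorem isS_iff {o : Option Cd} {x : Cd} : isS o x = true ↔ o = some x := by
  cases o with
  | none => simp [isS]
  | some y => simp [isS, eqC_iff]

/-- the bad case: `(θ h)^7` centralises `t`, `u` but does not normalise `⟨z⟩` -/
def bad (p y1 : Cd) : Bool :=
  isS (stp7 p y1 tC) tC && isS (stp7 p y1 uC) uC &&
    (match stp7 p y1 zC with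
     | some r => fC r fun r => !eqC r zC && !eqC r z3
     | none => false)

/-- conjugation `x⁻¹ a x` for `x` with inverse `x'` -/
def cj (x' a x : Cd) : Cd := fC (mK a x) fun w => mK x' w

/-- the seventh power (inverse) -/
def p7 (x : Cd) : Cd :=
  fC (mK x x) fun x2 => fC (mK x2 x2) fun x4 => fC (mK x4 x2) fun x6 => mK x6 x

/-- pairs `(x, x⁻¹)` -/
def xs : List (Cd × Cd) := [⟨false, .z, .z, .z, 0⟩, ⟨false, .z, .z, .z, 1⟩, ⟨false, .z, .o, .z, 0⟩,
  ⟨false, .z, .o, .z, 1⟩, ⟨false, .w, .w, .z, 0⟩, ⟨false, .w, .w, .z, 1⟩, ⟨false, .w, .v, .z, 0⟩,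
  ⟨false, .w, .v, .z, 1⟩].map fun x => (x, p7 x)

def good (p d y1 : Cd) : Bool :=
  xs.any fun xx => fC xx.1 fun x => fC xx.2 fun x' => l4.any fun i =>
    fC (dC i) fun di => fC (gC i) fun gi => eqC (mK x x') one &&
    isS (th p d y1 (cj x' cC x)) (cj x' di x) && isS (th p d y1 (cj x' gi x)) (cj x' gi x)

def gens : List Cd := [⟨true, .z, .z, .z, 0⟩, ⟨false, .o, .z, .z, 0⟩, ⟨false, .w, .w, .z, 0⟩,
  ⟨false, .z, .z, .w, 0⟩]

/-- conditions for `p` -/
def c1 (p : Cd) : Bool :=
  eqC (mK p p) uC && gens.all fun k =>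
    fC (mK p k) fun pk => eqC pk (mK k p) || fC (pw p 3) fun p3 => eqC pk (mK k p3)

/-- conditions for `d` -/
def c2 (p d : Cd) : Bool :=
  eqC (mK d d) one && eqC (mK d p) (mK p d) && eqC (mK zC d) (mK d z3)

/-- equality test for the value of a partial function; true if undefined -/
def isN (o : Option Cd) (x : Cd) : Bool :=
  match o with
  | some y => eqC y x
  | none => true

theorem isN_of {o : Option Cd} {x : Cd} (h : ∀ y, o = some y → y = x) : isN o x = true := by
  cases o with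
  | none => rfl
  | some y => exact eqC_iff.mpr (h y rfl)

/-- conditions for `y₁` -/
def c3 (p d y1 : Cd) : Bool :=
  eqC (mK y1 p) (mK p y1) && eqC (mK y1 zC) (mK zC y1) && isN (thJ p y1 y1) yC &&
  (fC (pw y1 3) fun y3 => fC (mK y3 tC) fun w => fC (mK w p) fun w => eqC (mK y1 d) (mK d w)) &&
  (fC (mK cC d) fun cd => fC (mK cd cd) fun w => fC (mK d cC) fun dc => isN (thJ p y1 w) (mK dc dc))

def main (p d : Cd) : Bool :=
  allT fun y1 => !c3 p d y1 || (bad p y1 || good p d y1)

set_option maxRecDepth 100000 in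
/-- **The kernel computation**: all the involutory automorphisms of `T₀` exchanging `t` and `u`. -/
theorem main_check :
    (allT fun p => !c1 p || allT fun d => !c2 p d || main p d) = true := by decide +kernel

/-- `T₀` normalises `⟨z⟩` -/
theorem norm_z : (allT fun k => eqC (mK zC k) (mK k zC) || eqC (mK zC k) (mK k z3)) = true := by
  decide +kernel

/-- `t` and `u` are central in `T₀` -/
theorem cent_tu : (allT fun k => eqC (mK tC k) (mK k tC) && eqC (mK uC k) (mK k uC)) = true := by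
  decide +kernel

/-- `p` commutes with `y` -/
theorem comm_p : (allT fun p => !c1 p || eqC (mK yC p) (mK p yC)) = true := by decide +kernel

/-- `c` inverts `p` -/
theorem inv_p : (allT fun p => !c1 p || eqC (mK p cC) (mK cC (pw p 3))) = true := by decide +kernel

theorem inT_mK {x y : Cd} (hx : inT x) (hy : inT y) : inT (mK x y) := by
  obtain ⟨e, a, b, c, i⟩ := x
  obtain ⟨f, a', b', c', j⟩ := y
  obtain ⟨h1, -⟩ := hx
  obtain ⟨h2, -⟩ := hy
  have hm : ∀ n : ℕ, n % 4 < 4 := fun n => Nat.mod_lt n (by decide)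
  simp only at h1 h2
  cases f
  · refine ⟨?_, ?_⟩
    · simp only [mK, nmK, fF_eq, fZ_eq]
      revert h1 h2; revert a b a' b'; decide
    · simp only [mK, nmK, fF_eq, fZ_eq]; exact hm _
  · cases e
    · refine ⟨?_, ?_⟩
      · simp only [mK, nmK, fF_eq, fZ_eq]
        revert h1 h2; revert a b a' b'; decide
      · simp only [mK, nmK, fF_eq, fZ_eq]; exact hm _
    · refine ⟨?_, ?_⟩
      · simp only [mK, nmK, fF_eq, fZ_eq]
        revert h1 h2; revert a b a' b'; decide
      · simp only [mK, nmK, fF_eq, fZ_eq]; exact hm _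

end Cfsg.Agent.ONType.GlueCheck
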