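import Cfsg.Agent.ONType.Eval
import Cfsg.Agent.ONType.Hom

/-!
# The four tuples `(a,b,c,d,f,g)` in the centraliser

`RelF` for the four tuples of elements of the split extension by `σγ` of the cover of type II, and
generation.
-/

set_option autoImplicit false
set_option linter.constructorNameAsVariable false
set_option linter.unusedVariables false

namespace Cfsg.Agent.ONType.RelFour

open Cfsg.Agent.SporadicA.FieldFour
open Cfsg.Agent.ONType.Psl
open Cfsg.Agent.ONType.Data
open Cfsg.Agent.ONType.Eval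
open Cfsg.Agent.ONType.OuterZ
open Cfsg.Agent.ONType.Hom

variable {G : Type*} [Group G]

/-- word of `a` -/
def wa : List L := [.p .c 1]
/-- word of `b` -/
def wb : List L := [.n1, .n2, .p .b 1, .n2, .n1]
/-- word of `c` -/
def wc : List L := [.p .b 1, .p .c 1, .z, .z]
/-- word of `f` -/
def wf : List L := [.z, .z]
/-- word of `d` -/
def wd : Fin 4 → List L
  | 0 => [.t]
  | 1 => [.t]
  | 2 => [.t, .z]
  | 3 => [.t, .z]
/-- word of `g` -/
def wg : Fin 4 → List L
  | 0 => [.t, .p .a ω, .p .b ω2, .p .c ω2, .z, .z, .z]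
  | 1 => [.t, .p .a ω2, .p .b ω, .p .c ω, .z, .z, .z]
  | 2 => [.t, .p .a ω, .p .b ω2, .p .c ω2]
  | 3 => [.t, .p .a ω2, .p .b ω, .p .c ω]

/-- the element `d` -/
def ed (z τ : G) : Fin 4 → G
  | 0 => τ
  | 1 => τ
  | 2 => τ * z
  | 3 => τ * z

/-- the element `g` -/
def eg (x : Fin 3 → Fin 3 → F4 → G) (z τ : G) : Fin 4 → G
  | 0 => τ * (x 0 1 ω * x 1 2 ω2 * x 0 2 ω2 * z ^ 3)
  | 1 => τ * (x 0 1 ω2 * x 1 2 ω * x 0 2 ω * z ^ 3)
  | 2 => τ * (x 0 1 ω * x 1 2 ω2 * x 0 2 ω2)
  | 3 => τ * (x 0 1 ω2 * x 1 2 ω * x 0 2 ω)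

variable {x : Fin 3 → Fin 3 → F4 → G} {z h τ : G}

theorem ev_a : evWd x z τ wa = x 0 2 1 := by simp [wa, evWd, evL, evR]

theorem ev_c : evWd x z τ wc = x 1 2 1 * x 0 2 1 * z ^ 2 := by
  simp [wc, evWd, evL, evR, pow_two, mul_assoc]

theorem ev_f : evWd x z τ wf = z ^ 2 := by simp [wf, evWd, evL, pow_two]

theorem ev_d (i : Fin 4) : evWd x z τ (wd i) = ed z τ i := by
  fin_cases i <;> simp [wd, ed, evWd, evL]

theorem ev_g (i : Fin 4) : evWd x z τ (wg i) = eg x z τ i := by
  fin_cases i <;> simp [wg, eg, evWd, evL, evR, mul_assoc, pow_succ]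

theorem ev_b {g : F4 → ℕ} (R : MRel x z h g) : evWd x z τ wb = x 2 0 1 := by
  have h1 := nn_conj R 1 2 1 2 (by decide) (by decide) 1
  have h2 := nn_conj R 0 1 2 1 (by decide) (by decide) 1
  have s1 : Equiv.swap (1 : Fin 3) 2 1 = 2 := by decide
  have s2 : Equiv.swap (1 : Fin 3) 2 2 = 1 := by decide
  have s3 : Equiv.swap (0 : Fin 3) 1 2 = 2 := by decide
  have s4 : Equiv.swap (0 : Fin 3) 1 1 = 0 := by decide
  rw [s1, s2] at h1
  rw [s3, s4] at h2
  have n1 := nn_sq R 0 1 (by decide)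
  have n2 := nn_sq R 1 2 (by decide)
  have e : evWd x z τ wb = nn x 0 1 * (nn x 1 2 * x 1 2 1) * nn x 1 2 * nn x 0 1 := by
    simp [wb, evWd, evL, evR, mul_assoc]
  rw [e, h1]
  calc nn x 0 1 * (x 2 1 1 * nn x 1 2) * nn x 1 2 * nn x 0 1
      = (nn x 0 1 * x 2 1 1) * (nn x 1 2 * nn x 1 2) * nn x 0 1 := by simp only [mul_assoc]
    _ = x 2 0 1 := by rw [h2, n2, mul_one, mul_assoc, n1, mul_one]

/-- **The relations of `C(f)`**. -/
theorem relF (E : Ext x z h τ gII) (i : Fin 4) :
    RelF (x 0 2 1) (x 2 0 1) (x 1 2 1 * x 0 2 1 * z ^ 2) (ed z τ i) (z ^ 2) (eg x z τ i) := by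
  rw [← ev_c (x := x) (z := z) (τ := τ), ← ev_a (x := x) (z := z) (τ := τ), ← ev_b (τ := τ) E.R,
    ← ev_f (x := x) (z := z) (τ := τ), ← ev_d (x := x) i, ← ev_g i]
  have key := eq_of_chk E
  have e1 : evWd x z τ [] = 1 := rfl
  constructor
  · have := key (wa ++ wa) [] (by decide +kernel)
    simpa only [evWd_append, ev_wpow, ev_winv E, e1] using this
  · have := key (wb ++ wb) [] (by decide +kernel)
    simpa only [evWd_append, ev_wpow, ev_winv E, e1] using this
  · have := key (wc ++ wc) [] (by decide +kernel)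
    simpa only [evWd_append, ev_wpow, ev_winv E, e1] using this
  · have := key (wd i ++ wd i) [] (by revert i; decide +kernel)
    simpa only [evWd_append, ev_wpow, ev_winv E, e1] using this
  · have := key (wf ++ wf) [] (by decide +kernel)
    simpa only [evWd_append, ev_wpow, ev_winv E, e1] using this
  · have := key (wpow (wa ++ wb) 3) [] (by decide +kernel)
    simpa only [evWd_append, ev_wpow, ev_winv E, e1] using this
  · have := key (wpow (wb ++ wc) 3) [] (by decide +kernel)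
    simpa only [evWd_append, ev_wpow, ev_winv E, e1] using this
  · have := key (wpow (wc ++ wd i) 8) [] (by revert i; decide +kernel)
    simpa only [evWd_append, ev_wpow, ev_winv E, e1] using this
  · have := key (wa ++ wc) (wc ++ wa) (by decide +kernel)
    simpa only [evWd_append, ev_wpow, ev_winv E, e1] using this
  · have := key (wa ++ wd i) (wd i ++ wa) (by revert i; decide +kernel)
    simpa only [evWd_append, ev_wpow, ev_winv E, e1] using this
  · have := key (wa ++ wf) (wf ++ wa) (by decide +kernel)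
    simpa only [evWd_append, ev_wpow, ev_winv E, e1] using this
  · have := key (wb ++ wd i) (wd i ++ wb) (by revert i; decide +kernel)
    simpa only [evWd_append, ev_wpow, ev_winv E, e1] using this
  · have := key (wb ++ wf) (wf ++ wb) (by decide +kernel)
    simpa only [evWd_append, ev_wpow, ev_winv E, e1] using this
  · have := key (wc ++ wf) (wf ++ wc) (by decide +kernel)
    simpa only [evWd_append, ev_wpow, ev_winv E, e1] using this
  · have := key (wd i ++ wf) (wf ++ wd i) (by revert i; decide +kernel)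
    simpa only [evWd_append, ev_wpow, ev_winv E, e1] using this
  · have := key (wa ++ wf) (wg i ++ wg i) (by revert i; decide +kernel)
    simpa only [evWd_append, ev_wpow, ev_winv E, e1] using this
  · have := key (wa ++ wf) (wpow (wc ++ wd i) 4) (by revert i; decide +kernel)
    simpa only [evWd_append, ev_wpow, ev_winv E, e1] using this
  · have := key (wc ++ (winv (wd i ++ wg i ++ wd i ++ wg i) ++ wc ++ (wd i ++ wg i ++ wd i ++ wg i)))
      [] (by revert i; decide +kernel)
    simpa only [evWd_append, ev_wpow, ev_winv E, e1] using this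
  · have := key (wd i ++ (winv (wc ++ wg i ++ wc ++ wg i) ++ wd i ++ (wc ++ wg i ++ wc ++ wg i)))
      [] (by revert i; decide +kernel)
    simpa only [evWd_append, ev_wpow, ev_winv E, e1] using this
  · have := key (wpow (wb ++ wc ++ wd i ++ wg i) 5) [] (by revert i; decide +kernel)
    simpa only [evWd_append, ev_wpow, ev_winv E, e1] using this
  · have := key (wg i ++ wb ++ (winv wc ++ wg i ++ wc) ++ (winv wb ++ wg i ++ wb) ++
      (winv wc ++ wg i ++ wc)) [] (by revert i; decide +kernel)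
    simpa only [evWd_append, ev_wpow, ev_winv E, e1] using this

/-- words of the four generators -/
def wgen (i : Fin 4) : Fin 4 → List L
  | 0 => wb
  | 1 => wc
  | 2 => wd i
  | 3 => wg i

/-- word in the four generators -/
def wsub (i : Fin 4) (s : List (Fin 4)) : List L := (s.map (wgen i)).flatten

theorem wsub_mem (i : Fin 4) (K : Subgroup G) (hK : ∀ j, evWd x z τ (wgen i j) ∈ K)
    (s : List (Fin 4)) : evWd x z τ (wsub i s) ∈ K := by
  induction s with
  | nil => exact K.one_mem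
  | cons a s ih =>
    have : evWd x z τ (wsub i (a :: s)) = evWd x z τ (wgen i a) * evWd x z τ (wsub i s) := by
      unfold wsub
      rw [List.map_cons, List.flatten_cons, evWd_append]
    rw [this]
    exact K.mul_mem (hK a) ih

/-- words for `x01(1), x01(ω), n01, n12, z, τ` -/
def sw1 : List (Fin 4) := [1, 2, 1, 2, 1]
/-- word -/
def sw2 : Fin 4 → List (Fin 4)
  | 0 => [0, 1, 2, 1, 0, 3, 3, 0, 1, 2, 3, 0, 1, 3, 0, 2, 3]
  | 1 => [0, 1, 3, 3, 0, 1, 2, 1, 0, 2, 1, 3, 0, 1, 3, 0, 2, 3]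
  | 2 => [0, 1, 2, 1, 0, 3, 3, 0, 1, 2, 3, 0, 1, 3, 0, 2, 3]
  | 3 => [0, 1, 3, 3, 0, 1, 2, 1, 0, 2, 1, 3, 0, 1, 3, 0, 2, 3]
/-- word -/
def sw3 : List (Fin 4) := [0, 2, 1, 0, 2, 1, 0, 2, 1, 0, 2]
/-- word -/
def sw4 : List (Fin 4) := [0, 1, 0, 2, 1, 0, 2, 1, 0]
/-- word -/
def sw5 : List (Fin 4) := [3, 2, 3, 2, 3, 3]
/-- word -/
def sw6 : Fin 4 → List (Fin 4)
  | 0 => [2]
  | 1 => [2]
  | 2 => [3, 2, 3, 3, 3]
  | 3 => [3, 2, 3, 3, 3]

theorem x_mem_of {g : F4 → ℕ} (R : MRel x z h g) (K : Subgroup G) (h1 : x 0 1 1 ∈ K)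
    (h2 : x 0 1 ω ∈ K) (h3 : nn x 0 1 ∈ K) (h4 : nn x 1 2 ∈ K) :
    ∀ i j, i ≠ j → ∀ u, x i j u ∈ K := by
  have h5 : ∀ u, x 0 1 u ∈ K := by
    intro u
    cases u
    · have := mrel_zero R 0 1 (by decide)
      show x 0 1 0 ∈ K
      rw [this]; exact K.one_mem
    · exact h1
    · exact h2
    · have e : F4.v = 1 + ω := by decide
      rw [e, ← R.add 0 1 (by decide)]
      exact K.mul_mem h1 h2
  have key : ∀ i j k l : Fin 3, i ≠ j → k ≠ l → nn x i j ∈ K → (∀ u, x k l u ∈ K) →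
      ∀ u, x (Equiv.swap i j k) (Equiv.swap i j l) u ∈ K := by
    intro i j k l hij hkl hn hx u
    have := nn_conj R i j k l hij hkl u
    have e : x (Equiv.swap i j k) (Equiv.swap i j l) u = nn x i j * x k l u * (nn x i j)⁻¹ := by
      rw [this]; group
    rw [e]
    exact K.mul_mem (K.mul_mem hn (hx u)) (K.inv_mem hn)
  have a1 : ∀ u, x 1 0 u ∈ K := by
    intro u
    have := key 0 1 0 1 (by decide) (by decide) h3 h5 u
    rwa [show Equiv.swap (0 : Fin 3) 1 0 = 1 by decide, show Equiv.swap (0 : Fin 3) 1 1 = 0 by decide]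
      at this
  have a2 : ∀ u, x 0 2 u ∈ K := by
    intro u
    have := key 1 2 0 1 (by decide) (by decide) h4 h5 u
    rwa [show Equiv.swap (1 : Fin 3) 2 0 = 0 by decide, show Equiv.swap (1 : Fin 3) 2 1 = 2 by decide]
      at this
  have a3 : ∀ u, x 2 0 u ∈ K := by
    intro u
    have := key 1 2 1 0 (by decide) (by decide) h4 a1 u
    rwa [show Equiv.swap (1 : Fin 3) 2 0 = 0 by decide, show Equiv.swap (1 : Fin 3) 2 1 = 2 by decide]
      at this
  have a4 : ∀ u, x 1 2 u ∈ K := by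
    intro u
    have := key 0 1 0 2 (by decide) (by decide) h3 a2 u
    rwa [show Equiv.swap (0 : Fin 3) 1 0 = 1 by decide, show Equiv.swap (0 : Fin 3) 1 2 = 2 by decide]
      at this
  have a5 : ∀ u, x 2 1 u ∈ K := by
    intro u
    have := key 0 1 2 0 (by decide) (by decide) h3 a3 u
    rwa [show Equiv.swap (0 : Fin 3) 1 0 = 1 by decide, show Equiv.swap (0 : Fin 3) 1 2 = 2 by decide]
      at this
  intro i j hij u
  fin_cases i <;> fin_cases j
  · exact absurd rfl hij
  · exact h5 u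
  · exact a2 u
  · exact a1 u
  · exact absurd rfl hij
  · exact a4 u
  · exact a3 u
  · exact a5 u
  · exact absurd rfl hij

/-- **Generation.** -/
theorem mem_of (E : Ext x z h τ gII) (i : Fin 4) (K : Subgroup G) (hb : x 2 0 1 ∈ K)
    (hc : x 1 2 1 * x 0 2 1 * z ^ 2 ∈ K) (hd : ed z τ i ∈ K) (hg : eg x z τ i ∈ K) :
    (∀ i j, i ≠ j → ∀ u, x i j u ∈ K) ∧ z ∈ K ∧ τ ∈ K := by
  have hK : ∀ j, evWd x z τ (wgen i j) ∈ K := by
    intro j
    fin_cases j
    · show evWd x z τ wb ∈ K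
      rw [ev_b E.R]; exact hb
    · show evWd x z τ wc ∈ K
      rw [ev_c]; exact hc
    · show evWd x z τ (wd i) ∈ K
      rw [ev_d]; exact hd
    · show evWd x z τ (wg i) ∈ K
      rw [ev_g]; exact hg
  have key := eq_of_chk E
  have m1 : x 0 1 1 ∈ K := by
    have h1 := key (wsub i sw1) [.p .a 1] ((by decide +kernel : ∀ i, chk gII (wsub i sw1) [.p .a 1] = true) i)
    have h2 : evWd x z τ [.p .a 1] = x 0 1 1 := by simp [evWd, evL, evR]
    rw [← h2, ← h1]; exact wsub_mem i K hK _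
  have m2 : x 0 1 ω ∈ K := by
    have h1 := key (wsub i (sw2 i)) [.p .a ω] ((by decide +kernel : ∀ i, chk gII (wsub i (sw2 i)) [.p .a ω] = true) i)
    have h2 : evWd x z τ [.p .a ω] = x 0 1 ω := by simp [evWd, evL, evR]
    rw [← h2, ← h1]; exact wsub_mem i K hK _
  have m3 : nn x 0 1 ∈ K := by
    have h1 := key (wsub i sw3) [.n1] ((by decide +kernel : ∀ i, chk gII (wsub i sw3) [.n1] = true) i)
    have h2 : evWd x z τ [.n1] = nn x 0 1 := by simp [evWd, evL]
    rw [← h2, ← h1]; exact wsub_mem i K hK _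
  have m4 : nn x 1 2 ∈ K := by
    have h1 := key (wsub i sw4) [.n2] ((by decide +kernel : ∀ i, chk gII (wsub i sw4) [.n2] = true) i)
    have h2 : evWd x z τ [.n2] = nn x 1 2 := by simp [evWd, evL]
    rw [← h2, ← h1]; exact wsub_mem i K hK _
  have m5 : z ∈ K := by
    have h1 := key (wsub i sw5) [.z] ((by decide +kernel : ∀ i, chk gII (wsub i sw5) [.z] = true) i)
    have h2 : evWd x z τ [.z] = z := by simp [evWd, evL]
    rw [← h2, ← h1]; exact wsub_mem i K hK _
  have m6 : τ ∈ K := by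
    have h1 := key (wsub i (sw6 i)) [.t] ((by decide +kernel : ∀ i, chk gII (wsub i (sw6 i)) [.t] = true) i)
    have h2 : evWd x z τ [.t] = τ := by simp [evWd, evL]
    rw [← h2, ← h1]; exact wsub_mem i K hK _
  exact ⟨x_mem_of E.R K m1 m2 m3 m4, m5, m6⟩

end Cfsg.Agent.ONType.RelFour
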