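import Cfsg.Agent.ONType.PslCard

/-!
# The centraliser of a transvection in `PSL(3,4)`
-/

set_option autoImplicit false
set_option linter.constructorNameAsVariable false

namespace Cfsg.Agent.ONType.PslCent

open Matrix
open Cfsg.Agent.SporadicA.FieldFour
open Cfsg.Agent.ONType.Psl
open Cfsg.Agent.ONType.PslCard

/-- an element of `PSL(3,4)` commuting with the transvection `t 0 2 1` is unitriangular -/
theorem cent_t (p : PSL3) (h : p * t 0 2 1 = t 0 2 1 * p) :
    ∃ a b c, p = t 0 1 a * t 1 2 b * t 0 2 c := by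
  obtain ⟨A, rfl⟩ := QuotientGroup.mk_surjective p
  have h1 : (QuotientGroup.mk (A * T 0 2 1) : PSL3) = QuotientGroup.mk (T 0 2 1 * A) := h
  rw [QuotientGroup.eq, Matrix.SpecialLinearGroup.mem_center_iff] at h1
  obtain ⟨r, _, hr⟩ := h1
  have e1 : ((T 0 2 1 * A : SL3) : Matrix (Fin 3) (Fin 3) F4) =
      ((A * T 0 2 1 : SL3) : Matrix (Fin 3) (Fin 3) F4) * Matrix.scalar (Fin 3) r := by
    rw [hr]
    have : T 0 2 1 * A = (A * T 0 2 1) * ((A * T 0 2 1)⁻¹ * (T 0 2 1 * A)) := by group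
    conv_lhs => rw [this]
    rfl
  have e2 : tm 0 2 1 * A.1 = (A.1 * tm 0 2 1) * Matrix.scalar (Fin 3) r := e1
  have en : ∀ i j, (tm 0 2 1 * A.1) i j = (A.1 * tm 0 2 1) i j * r := by
    intro i j
    rw [e2]
    simp [Matrix.mul_diagonal]
  -- entries
  set B := A.1 with hB
  have l0 : ∀ j, (tm 0 2 1 * B) 0 j = B 0 j + B 2 j := by
    intro j
    rw [Matrix.mul_apply, Fin.sum_univ_three]
    have t0 : tm 0 2 1 0 0 = 1 := by decide
    have t1 : tm 0 2 1 0 1 = 0 := by decide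
    have t2 : tm 0 2 1 0 2 = 1 := by decide
    rw [t0, t1, t2]; ring
  have l1 : ∀ j, (tm 0 2 1 * B) 1 j = B 1 j := by
    intro j
    rw [Matrix.mul_apply, Fin.sum_univ_three]
    have t0 : tm 0 2 1 1 0 = 0 := by decide
    have t1 : tm 0 2 1 1 1 = 1 := by decide
    have t2 : tm 0 2 1 1 2 = 0 := by decide
    rw [t0, t1, t2]; ring
  have l2 : ∀ j, (tm 0 2 1 * B) 2 j = B 2 j := by
    intro j
    rw [Matrix.mul_apply, Fin.sum_univ_three]
    have t0 : tm 0 2 1 2 0 = 0 := by decide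
    have t1 : tm 0 2 1 2 1 = 0 := by decide
    have t2 : tm 0 2 1 2 2 = 1 := by decide
    rw [t0, t1, t2]; ring
  have r0 : ∀ i, (B * tm 0 2 1) i 0 = B i 0 := by
    intro i
    rw [Matrix.mul_apply, Fin.sum_univ_three]
    have t0 : tm 0 2 1 0 0 = 1 := by decide
    have t1 : tm 0 2 1 1 0 = 0 := by decide
    have t2 : tm 0 2 1 2 0 = 0 := by decide
    rw [t0, t1, t2]; ring
  have r1 : ∀ i, (B * tm 0 2 1) i 1 = B i 1 := by
    intro i
    rw [Matrix.mul_apply, Fin.sum_univ_three]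
    have t0 : tm 0 2 1 0 1 = 0 := by decide
    have t1 : tm 0 2 1 1 1 = 1 := by decide
    have t2 : tm 0 2 1 2 1 = 0 := by decide
    rw [t0, t1, t2]; ring
  have r2 : ∀ i, (B * tm 0 2 1) i 2 = B i 0 + B i 2 := by
    intro i
    rw [Matrix.mul_apply, Fin.sum_univ_three]
    have t0 : tm 0 2 1 0 2 = 1 := by decide
    have t1 : tm 0 2 1 1 2 = 0 := by decide
    have t2 : tm 0 2 1 2 2 = 1 := by decide
    rw [t0, t1, t2]; ring
  have e00 := en 0 0; rw [l0, r0] at e00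
  have e02 := en 0 2; rw [l0, r2] at e02
  have e12 := en 1 2; rw [l1, r2] at e12
  have e20 := en 2 0; rw [l2, r0] at e20
  have e21 := en 2 1; rw [l2, r1] at e21
  have e22 := en 2 2; rw [l2, r2] at e22
  have e01 := en 0 1; rw [l0, r1] at e01
  have hdet : B.det = 1 := A.2
  rw [Matrix.det_fin_three] at hdet
  have key : ∀ y : F4, y = y * r → r = 1 ∨ y = 0 := by
    intro y hy
    by_cases h0 : y = 0
    · exact Or.inr h0
    · left
      have : y * (r - 1) = 0 := by rw [mul_sub, mul_one, ← hy, sub_self]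
      rcases mul_eq_zero.1 this with h2 | h2
      · exact absurd h2 h0
      · exact sub_eq_zero.1 h2
  have hr1 : r = 1 := by
    by_contra hne
    have h20 : B 2 0 = 0 := (key _ e20).resolve_left hne
    have h21 : B 2 1 = 0 := (key _ e21).resolve_left hne
    rw [h20, zero_add] at e22
    have h22 : B 2 2 = 0 := (key _ e22).resolve_left hne
    rw [h20, h21, h22] at hdet
    simp at hdet
  rw [hr1, mul_one] at e00 e01 e02 e12 e22
  have h20 : B 2 0 = 0 := by simpa using e00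
  have h21 : B 2 1 = 0 := by simpa using e01
  have h10 : B 1 0 = 0 := by simpa using e12
  have h22 : B 2 2 = B 0 0 := by
    have : B 0 2 + B 2 2 = B 0 2 + B 0 0 := by rw [e02]; ring
    exact add_left_cancel this
  rw [h20, h21, h10, h22] at hdet
  have hdet' : B 0 0 * B 1 1 * B 0 0 = 1 := by
    rw [← hdet]; ring
  have h11 : B 1 1 = B 0 0 ∧ B 0 0 ≠ 0 := by
    generalize B 0 0 = a at hdet'
    generalize B 1 1 = b at hdet'
    revert a b; decide
  obtain ⟨h11, h00⟩ := h11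
  set s := B 0 0 with hs
  refine ⟨B 0 1 * s⁻¹, B 1 2 * s⁻¹, B 0 2 * s⁻¹ - (B 0 1 * s⁻¹) * (B 1 2 * s⁻¹), ?_⟩
  show (QuotientGroup.mk A : PSL3) = QuotientGroup.mk (T 0 1 _ * T 1 2 _ * T 0 2 _)
  symm
  rw [QuotientGroup.eq, Matrix.SpecialLinearGroup.mem_center_iff]
  refine ⟨s, ?_, ?_⟩
  · rw [Fintype.card_fin]
    generalize s = a at h00
    revert a; decide
  · set U : SL3 := T 0 1 (B 0 1 * s⁻¹) * T 1 2 (B 1 2 * s⁻¹) *
      T 0 2 (B 0 2 * s⁻¹ - (B 0 1 * s⁻¹) * (B 1 2 * s⁻¹)) with hU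
    have eU : U.1 = um (B 0 1 * s⁻¹) (B 1 2 * s⁻¹) (B 0 2 * s⁻¹) := by
      have := tm_prod (B 0 1 * s⁻¹) (B 1 2 * s⁻¹)
        (B 0 2 * s⁻¹ - (B 0 1 * s⁻¹) * (B 1 2 * s⁻¹))
      rw [add_sub_cancel] at this
      exact this
    have eA : A.1 = U.1 * Matrix.scalar (Fin 3) s := by
      rw [eU]
      ext i j
      have : (um (B 0 1 * s⁻¹) (B 1 2 * s⁻¹) (B 0 2 * s⁻¹) * Matrix.scalar (Fin 3) s) i j =
          um (B 0 1 * s⁻¹) (B 1 2 * s⁻¹) (B 0 2 * s⁻¹) i j * s := by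
        simp [Matrix.mul_diagonal]
      rw [this]
      have c : ∀ y : F4, y * s⁻¹ * s = y := fun y => by
        rw [mul_assoc, inv_mul_cancel₀ h00, mul_one]
      fin_cases i <;> fin_cases j
      · show B 0 0 = 1 * s
        rw [one_mul]
      · show B 0 1 = B 0 1 * s⁻¹ * s
        rw [c]
      · show B 0 2 = B 0 2 * s⁻¹ * s
        rw [c]
      · show B 1 0 = 0 * s
        rw [h10, zero_mul]
      · show B 1 1 = 1 * s
        rw [one_mul, h11]
      · show B 1 2 = B 1 2 * s⁻¹ * s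
        rw [c]
      · show B 2 0 = 0 * s
        rw [h20, zero_mul]
      · show B 2 1 = 0 * s
        rw [h21, zero_mul]
      · show B 2 2 = 1 * s
        rw [one_mul, h22]
    show Matrix.scalar (Fin 3) s = (U⁻¹ * A : SL3).1
    have h3 : (U⁻¹ * A : SL3).1 = (U⁻¹ : SL3).1 * (U.1 * Matrix.scalar (Fin 3) s) := by
      rw [← eA]; rfl
    rw [h3, ← mul_assoc]
    have h4 : (U⁻¹ : SL3).1 * U.1 = 1 := congrArg Subtype.val (inv_mul_cancel U)
    rw [h4, one_mul]

end Cfsg.Agent.ONType.PslCent
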