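import Cfsg.Agent.ONType.SGroup
import Cfsg.Agent.ONType.PslCent
import Cfsg.Agent.TwoFusion.IsolatedCenter

/-!
# The centraliser of an involution of type O'N: facts for all twelve candidates

`SData` is the interface; `exists_sdata` produces it from the hypotheses of S1661.
-/

set_option autoImplicit false
set_option linter.constructorNameAsVariable false

namespace Cfsg.Agent.ONType.SFacts

open Cfsg.Agent.SporadicA.FieldFour
open Cfsg.Agent.ONType.Psl
open Cfsg.Agent.ONType.PslCard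
open Cfsg.Agent.ONType.Lift
open Cfsg.Agent.ONType.Data
open Cfsg.Agent.ONType.SGroup
open Cfsg.Agent.ONType.OuterZ (IsSigma IsGamma IsSG)

/-- the twelve parameter sets -/
def pars : List Par :=
  [⟨false, true, false, true, 0⟩, ⟨false, true, false, true, 2⟩,
   ⟨false, false, true, false, 0⟩, ⟨false, false, true, false, 1⟩,
   ⟨false, true, true, true, 0⟩, ⟨false, true, true, true, 2⟩,
   ⟨true, true, false, false, 0⟩, ⟨true, true, false, false, 1⟩,
   ⟨true, false, true, true, 0⟩, ⟨true, false, true, true, 2⟩,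
   ⟨true, true, true, true, 0⟩, ⟨true, true, true, true, 2⟩]

/-- The centraliser `C₀` of an involution `t` in a group of type O'N: `M` of index two, with root
elements `x i j u`, `z` of order four generating the centre, `h` of order three, `τ` outside `M`. -/
structure SData (P : Par) {C₀ : Type*} [Group C₀] (t : C₀) (M : Subgroup C₀)
    (x : Fin 3 → Fin 3 → F4 → C₀) (z h τ : C₀) : Prop where
  H : Hyp P x z h τ
  xM : ∀ i j u, x i j u ∈ M
  zM : z ∈ M
  hM : h ∈ M
  zz : z * z = t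
  oz : orderOf z = 4
  τM : τ ∉ M
  idx : M.index = 2
  cz : ∀ m ∈ M, m * z = z * m
  card : Nat.card C₀ = 161280
  inj : ∀ (a b c : F4) (i : ℕ) (a' b' c' : F4) (i' : ℕ), i < 4 → i' < 4 →
    x 0 1 a * x 1 2 b * x 0 2 c * z ^ i = x 0 1 a' * x 1 2 b' * x 0 2 c' * z ^ i' →
    a = a' ∧ b = b' ∧ c = c' ∧ i = i'
  cent : ∀ m ∈ M, m * x 0 2 1 = x 0 2 1 * m →
    ∃ (a b c : F4) (i : ℕ), i < 4 ∧ m = x 0 1 a * x 1 2 b * x 0 2 c * z ^ i
  gen : Subgroup.closure {y : C₀ | ∃ (i j : Fin 3) (u : F4), i ≠ j ∧ y = x i j u} = M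

theorem sdata_of {C₀ : Type*} [Group C₀] [Finite C₀] {t : C₀} {M : Subgroup C₀}
    (hidx : M.index = 2) {π : M →* PSL3} (C : CExt π) (hperf : commutator M = ⊤) {z : M} {τ : C₀}
    (hker : π.ker = Subgroup.center M) (hcz : Subgroup.center M = Subgroup.zpowers z)
    (oz : orderOf z = 4) (zz : (z : C₀) * z = t) (τM : τ ∉ M) {P : Par}
    (R : MRel C.x z C.h (gt P.two))
    (tx : ∀ i j : Fin 3, i ≠ j → ∀ u : F4, τ⁻¹ * (C.x i j u : C₀) * τ =
      (if P.gr then (C.x (OuterL.rv j) (OuterL.rv i) (if P.fld then u * u else u) : C₀)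
        else (C.x i j (if P.fld then u * u else u) : C₀)))
    (tz : τ⁻¹ * (z : C₀) * τ = if P.neg then (z : C₀)⁻¹ else z)
    (tt : τ * τ = (z : C₀) ^ P.q) :
    SData P t M (fun i j u => (C.x i j u : C₀)) (z : C₀) (C.h : C₀) τ := by
  have hz1 : π z = 1 := by
    have : z ∈ π.ker := by rw [hker, hcz]; exact Subgroup.mem_zpowers z
    exact this
  have oz' : orderOf (z : C₀) = 4 := by rw [Subgroup.orderOf_coe, oz]
  have mapn : ∀ (a b c : F4) (i : ℕ), π (C.x 0 1 a * C.x 1 2 b * C.x 0 2 c * z ^ i) =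
      Psl.t 0 1 a * Psl.t 1 2 b * Psl.t 0 2 c := by
    intro a b c i
    rw [map_mul, map_mul, map_mul, map_pow, hz1, one_pow, mul_one, C.map_x 0 1 (by decide),
      C.map_x 1 2 (by decide), C.map_x 0 2 (by decide)]
  refine
    { H := ⟨R.map M.subtype, tx, tz, tt⟩
      xM := fun i j u => (C.x i j u).2
      zM := z.2
      hM := C.h.2
      zz := zz
      oz := oz'
      τM := τM
      idx := hidx
      cz := ?_
      card := ?_
      inj := ?_
      cent := ?_
      gen := ?_ }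
  · intro m hm
    have := C.cen z hz1 ⟨m, hm⟩
    exact (congrArg Subtype.val this).symm
  · have h1 : Nat.card M = Nat.card π.ker * 20160 := C.card_M
    have h2 : Nat.card π.ker = 4 := by rw [hker, hcz, Nat.card_zpowers, oz]
    have h3 := M.card_mul_index
    rw [h1, h2, hidx] at h3
    exact h3.symm
  · intro a b c i a' b' c' i' hi hi' heq
    have heq' : C.x 0 1 a * C.x 1 2 b * C.x 0 2 c * z ^ i =
        C.x 0 1 a' * C.x 1 2 b' * C.x 0 2 c' * z ^ i' := Subtype.ext heq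
    have h1 := congrArg π heq'
    rw [mapn, mapn] at h1
    obtain ⟨ha, hb, hc⟩ := t_inj h1
    subst ha hb hc
    refine ⟨rfl, rfl, rfl, ?_⟩
    have h2 := mul_left_cancel heq'
    exact pow_injOn_Iio_orderOf (by rw [Set.mem_Iio, oz]; exact hi)
      (by rw [Set.mem_Iio, oz]; exact hi') h2
  · intro m hm hmu
    have h1 : (⟨m, hm⟩ : M) * C.x 0 2 1 = C.x 0 2 1 * ⟨m, hm⟩ := Subtype.ext hmu
    have h2 := congrArg π h1
    rw [map_mul, map_mul, C.map_x 0 2 (by decide)] at h2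
    obtain ⟨a, b, c, habc⟩ := PslCent.cent_t _ h2
    have h3 := mapn a b c 0
    rw [pow_zero, mul_one] at h3
    have h4 : (C.x 0 1 a * C.x 1 2 b * C.x 0 2 c)⁻¹ * ⟨m, hm⟩ ∈ π.ker := by
      rw [MonoidHom.mem_ker, map_mul, map_inv, h3, habc, inv_mul_cancel]
    rw [hker, hcz] at h4
    rw [← mem_powers_iff_mem_zpowers] at h4
    obtain ⟨i, hi⟩ := (Submonoid.mem_powers_iff _ _).1 h4
    refine ⟨a, b, c, i % 4, Nat.mod_lt _ (by decide), ?_⟩
    have h5 : z ^ (i % 4) = z ^ i := by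
      rw [← oz, pow_mod_orderOf]
    have h6 : (⟨m, hm⟩ : M) = C.x 0 1 a * C.x 1 2 b * C.x 0 2 c * z ^ (i % 4) := by
      rw [h5, hi]; group
    exact congrArg Subtype.val h6
  · have h1 := congrArg (Subgroup.map M.subtype) (OuterC.closure_x C hperf)
    rw [MonoidHom.map_closure, ← MonoidHom.range_eq_map, Subgroup.range_subtype] at h1
    refine Eq.trans ?_ h1
    congr 1
    ext y
    constructor
    · rintro ⟨i, j, u, hij, rfl⟩
      exact ⟨C.x i j u, ⟨i, j, u, hij, rfl⟩, rfl⟩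
    · rintro ⟨_, ⟨i, j, u, hij, rfl⟩, rfl⟩
      exact ⟨i, j, u, hij, rfl⟩

/-- **The interface** from the hypotheses of S1661. -/
theorem exists_sdata {C₀ : Type*} [Group C₀] [Finite C₀] (t : C₀) (ht : orderOf t = 2)
    (htc : ∀ c : C₀, c * t = t * c) (M : Subgroup C₀) [M.Normal] (hM : M.index = 2)
    (hout : Subgroup.centralizer (M : Set C₀) ≤ M) (hZc : IsCyclic (Subgroup.center M))
    (hZ4 : Nat.card (Subgroup.center M) = 4) (hperf : commutator M = ⊤)
    (F : Type) [Field F] [Fintype F] (hF : Fintype.card F = 4)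
    (e : M ⧸ Subgroup.center M ≃* Matrix.ProjectiveSpecialLinearGroup (Fin 3) F) :
    ∃ P ∈ pars, ∃ (x : Fin 3 → Fin 3 → F4 → C₀) (z h τ : C₀), SData P t M x z h τ := by
  obtain ⟨π, C, z, τ, hker, hcz, oz, zz, τM, hR⟩ :=
    OuterZ.partA t ht htc M hM hout hZc hZ4 hperf F hF e
  have key : ∀ P ∈ pars, MRel C.x z C.h (gt P.two) →
      (∀ i j : Fin 3, i ≠ j → ∀ u : F4, τ⁻¹ * (C.x i j u : C₀) * τ =
      (if P.gr then (C.x (OuterL.rv j) (OuterL.rv i) (if P.fld then u * u else u) : C₀)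
        else (C.x i j (if P.fld then u * u else u) : C₀))) →
      (τ⁻¹ * (z : C₀) * τ = if P.neg then (z : C₀)⁻¹ else z) → (τ * τ = (z : C₀) ^ P.q) →
      ∃ P ∈ pars, ∃ (x : Fin 3 → Fin 3 → F4 → C₀) (z h τ : C₀), SData P t M x z h τ :=
    fun P hP R tx tz tt => ⟨P, hP, _, _, _, _, sdata_of hM C hperf hker hcz oz zz τM R tx tz tt⟩
  have e0 : ∀ y : C₀, y = 1 → y = (z : C₀) ^ 0 := fun y hy => by rw [pow_zero, hy]
  have e2 : ∀ y : C₀, y = t → y = (z : C₀) ^ 2 := fun y hy => by rw [pow_two, zz, hy]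
  have e1 : ∀ y : C₀, y = (z : C₀) → y = (z : C₀) ^ 1 := fun y hy => by rw [pow_one, hy]
  rcases hR with ⟨R, ⟨hs, tz, tt⟩ | ⟨hs, tz, tt⟩ | ⟨hs, tz, tt⟩⟩ |
    ⟨R, ⟨hs, tz, tt⟩ | ⟨hs, tz, tt⟩ | ⟨hs, tz, tt⟩⟩
  · rcases tt with tt | tt
    · exact key ⟨false, true, false, true, 0⟩ (by simp [pars]) R hs tz (e0 _ tt)
    · exact key ⟨false, true, false, true, 2⟩ (by simp [pars]) R hs tz (e2 _ tt)
  · rcases tt with tt | tt
    · exact key ⟨false, false, true, false, 0⟩ (by simp [pars]) R hs tz (e0 _ tt)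
    · exact key ⟨false, false, true, false, 1⟩ (by simp [pars]) R hs tz (e1 _ tt)
  · rcases tt with tt | tt
    · exact key ⟨false, true, true, true, 0⟩ (by simp [pars]) R hs tz (e0 _ tt)
    · exact key ⟨false, true, true, true, 2⟩ (by simp [pars]) R hs tz (e2 _ tt)
  · rcases tt with tt | tt
    · exact key ⟨true, true, false, false, 0⟩ (by simp [pars]) R hs tz (e0 _ tt)
    · exact key ⟨true, true, false, false, 1⟩ (by simp [pars]) R hs tz (e1 _ tt)
  · rcases tt with tt | tt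
    · exact key ⟨true, false, true, true, 0⟩ (by simp [pars]) R hs tz (e0 _ tt)
    · exact key ⟨true, false, true, true, 2⟩ (by simp [pars]) R hs tz (e2 _ tt)
  · rcases tt with tt | tt
    · exact key ⟨true, true, true, true, 0⟩ (by simp [pars]) R hs tz (e0 _ tt)
    · exact key ⟨true, true, true, true, 2⟩ (by simp [pars]) R hs tz (e2 _ tt)

end Cfsg.Agent.ONType.SFacts
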