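import Cfsg.Agent.ONType.GlueOut
import Cfsg.Agent.ONType.SFacts
import Cfsg.Agent.ONType.RelFour
import Cfsg.Agent.ONType.CfClose
import Cfsg.Agent.R04.EndON

/-!
# The gluing for an actual involution centraliser
-/

set_option autoImplicit false
set_option linter.constructorNameAsVariable false

namespace Cfsg.Agent.ONType.GlueFin

open Cfsg.Agent.SporadicA.FieldFour
open Cfsg.Agent.ONType.Psl
open Cfsg.Agent.ONType.Data
open Cfsg.Agent.ONType.SGroup
open Cfsg.Agent.ONType.GlueCheck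
open Cfsg.Agent.ONType.Glue
open Cfsg.Agent.ONType.GlueOut
open Cfsg.Agent.ONType.Hom
open Cfsg.Agent.ONType.SFacts
open Cfsg.Agent.ONType.RelFour
open Cfsg.Agent.ONType.Eval (Ext)

section
variable {C₀ : Type*} [Group C₀] {t : C₀} {M : Subgroup C₀}
  {x : Fin 3 → Fin 3 → F4 → C₀} {z h τ : C₀}

theorem ext_of (S : SData P0 t M x z h τ) : Ext x z h τ gII where
  R := S.H.R
  sg := fun i j hij u => S.H.tx i j hij u
  zt := S.H.tz
  tt := by rw [S.H.tt]; exact pow_zero _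

theorem zt (S : SData P0 t M x z h τ) : z ^ 2 = t := by rw [pow_two, S.zz]

theorem x0 (S : SData P0 t M x z h τ) (i j : Fin 3) (hij : i ≠ j) : x i j 0 = 1 :=
  x_zero (P := P0) S.H.R i j hij

/-- the values of the codes -/
theorem ev_tC (S : SData P0 t M x z h τ) : ev x z τ tC = t := by
  rw [← zt S]
  show (if false = true then τ else 1) * (x 0 1 0 * x 1 2 0 * x 0 2 0 * z ^ 2) = _
  rw [x0 S 0 1 (by decide), x0 S 1 2 (by decide), x0 S 0 2 (by decide)]
  simp

theorem ev_uC (S : SData P0 t M x z h τ) : ev x z τ uC = x 0 2 1 := by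
  show (if false = true then τ else 1) * (x 0 1 0 * x 1 2 0 * x 0 2 1 * z ^ 0) = _
  rw [x0 S 0 1 (by decide), x0 S 1 2 (by decide)]
  simp

theorem ev_cC (S : SData P0 t M x z h τ) : ev x z τ cC = x 1 2 1 * x 0 2 1 * z ^ 2 := by
  show (if false = true then τ else 1) * (x 0 1 0 * x 1 2 1 * x 0 2 1 * z ^ 2) = _
  rw [x0 S 0 1 (by decide)]
  simp

theorem ev_dC (S : SData P0 t M x z h τ) (i : Fin 4) : ev x z τ (dC i) = ed z τ i := by
  fin_cases i
  · show (if true = true then τ else 1) * (x 0 1 0 * x 1 2 0 * x 0 2 0 * z ^ 0) = τ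
    rw [x0 S 0 1 (by decide), x0 S 1 2 (by decide), x0 S 0 2 (by decide)]
    simp
  · show (if true = true then τ else 1) * (x 0 1 0 * x 1 2 0 * x 0 2 0 * z ^ 0) = τ
    rw [x0 S 0 1 (by decide), x0 S 1 2 (by decide), x0 S 0 2 (by decide)]
    simp
  · show (if true = true then τ else 1) * (x 0 1 0 * x 1 2 0 * x 0 2 0 * z ^ 1) = τ * z
    rw [x0 S 0 1 (by decide), x0 S 1 2 (by decide), x0 S 0 2 (by decide)]
    simp
  · show (if true = true then τ else 1) * (x 0 1 0 * x 1 2 0 * x 0 2 0 * z ^ 1) = τ * z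
    rw [x0 S 0 1 (by decide), x0 S 1 2 (by decide), x0 S 0 2 (by decide)]
    simp

theorem ev_gC (i : Fin 4) : ev x z τ (gC i) = eg x z τ i := by
  fin_cases i
  · show (if true = true then τ else 1) * (x 0 1 ω * x 1 2 ω2 * x 0 2 ω2 * z ^ 3) = _
    simp [eg]
  · show (if true = true then τ else 1) * (x 0 1 ω2 * x 1 2 ω * x 0 2 ω * z ^ 3) = _
    simp [eg]
  · show (if true = true then τ else 1) * (x 0 1 ω * x 1 2 ω2 * x 0 2 ω2 * z ^ 0) = _
    simp [eg]
  · show (if true = true then τ else 1) * (x 0 1 ω2 * x 1 2 ω * x 0 2 ω * z ^ 0) = _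
    simp [eg]

theorem un_mem (S : SData P0 t M x z h τ) (k : Cd) :
    x 0 1 k.a * x 1 2 k.b * x 0 2 k.c * z ^ k.i ∈ M :=
  M.mul_mem (M.mul_mem (M.mul_mem (S.xM _ _ _) (S.xM _ _ _)) (S.xM _ _ _)) (M.pow_mem S.zM _)

theorem e_iff (S : SData P0 t M x z h τ) (k : Cd) : ev x z τ k ∈ M ↔ k.e = false := by
  unfold ev
  rw [M.mul_mem_cancel_right (un_mem S k)]
  cases k.e
  · simp [M.one_mem]
  · simp [S.τM]

theorem ev_inj (S : SData P0 t M x z h τ) (k l : Cd) (hk : k.i < 4) (hl : l.i < 4)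
    (hkl : ev x z τ k = ev x z τ l) : k = l := by
  have he : k.e = l.e := by
    have h1 := e_iff S k
    have h2 := e_iff S l
    rw [hkl] at h1
    cases hk' : k.e <;> cases hl' : l.e
    · rfl
    · rw [hk'] at h1; rw [hl'] at h2
      exact absurd (h2.mp (h1.mpr rfl)) (by simp)
    · rw [hk'] at h1; rw [hl'] at h2
      exact absurd (h1.mp (h2.mpr rfl)) (by simp)
    · rfl
  unfold ev at hkl
  rw [he] at hkl
  obtain ⟨h1, h2, h3, h4⟩ := S.inj _ _ _ _ _ _ _ _ hk hl (mul_left_cancel hkl)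
  obtain ⟨e, a, b, c, i⟩ := k
  obtain ⟨e', a', b', c', i'⟩ := l
  simp only at he h1 h2 h3 h4
  rw [he, h1, h2, h3, h4]

/-- commuting with `u` on codes -/
theorem tr_of_comm : ∀ (e : Bool) (a b c : F4),
    eqC (mK ⟨e, a, b, c, 0⟩ uC) (mK uC ⟨e, a, b, c, 0⟩) = true → trK a = trK b := by decide +kernel

theorem ev_mK (S : SData P0 t M x z h τ) (k l : Cd) :
    ev x z τ (mK k l) = ev x z τ k * ev x z τ l := by rw [mK_eq]; exact ev_mul S.H k l

theorem idx (S : SData P0 t M x z h τ) (g : C₀) (hg : g ∉ M) : τ⁻¹ * g ∈ M := by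
  have := (Subgroup.mul_mem_iff_of_index_two S.idx (a := τ⁻¹) (b := g))
  rw [this]
  have h1 : τ⁻¹ ∉ M := fun h => S.τM (by simpa using M.inv_mem h)
  exact ⟨fun h => absurd h h1, fun h => absurd h hg⟩

theorem comm_u (S : SData P0 t M x z h τ) (g : C₀) (hg : g * x 0 2 1 = x 0 2 1 * g) :
    ∃ k, inT k ∧ ev x z τ k = g := by
  have hτu : τ * x 0 2 1 = x 0 2 1 * τ := by
    have h1 := S.H.tx 0 2 (by decide) 1
    have h2 : τ⁻¹ * x 0 2 1 * τ = x 0 2 1 := h1
    calc τ * x 0 2 1 = τ * (τ⁻¹ * x 0 2 1 * τ) := by rw [h2]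
      _ = _ := by group
  -- a code with value `g`
  have key : ∃ k : Cd, k.i < 4 ∧ ev x z τ k = g := by
    by_cases hM : g ∈ M
    · obtain ⟨a, b, c, i, hi, e⟩ := S.cent g hM hg
      exact ⟨⟨false, a, b, c, i⟩, hi, by rw [e]; simp [ev]⟩
    · have h1 := idx S g hM
      have h2 : τ⁻¹ * g * x 0 2 1 = x 0 2 1 * (τ⁻¹ * g) := by
        have : τ⁻¹ * x 0 2 1 = x 0 2 1 * τ⁻¹ := by
          calc τ⁻¹ * x 0 2 1 = τ⁻¹ * (x 0 2 1 * τ) * τ⁻¹ := by group
            _ = τ⁻¹ * (τ * x 0 2 1) * τ⁻¹ := by rw [hτu]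
            _ = _ := by group
        rw [mul_assoc, hg, ← mul_assoc, this, mul_assoc]
      obtain ⟨a, b, c, i, hi, e⟩ := S.cent _ h1 h2
      refine ⟨⟨true, a, b, c, i⟩, hi, ?_⟩
      unfold ev
      simp only [if_true]
      rw [← e]; group
  obtain ⟨⟨e, a, b, c, i⟩, hi, hk⟩ := key
  refine ⟨⟨e, a, b, c, i⟩, ⟨?_, hi⟩, hk⟩
  -- trace condition
  have hz : ∀ j : ℕ, ev x z τ ⟨e, a, b, c, 0⟩ * z ^ j = ev x z τ ⟨e, a, b, c, j⟩ := by
    intro j
    unfold ev
    simp only [pow_zero, mul_one, mul_assoc]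
  have hzu : ∀ j : ℕ, z ^ j * x 0 2 1 = x 0 2 1 * z ^ j := fun j =>
    ((Commute.pow_right (show Commute (x 0 2 1) z from S.H.R.zc 0 2 1 (by decide)) j).eq).symm
  have h0 : ev x z τ ⟨e, a, b, c, 0⟩ * x 0 2 1 = x 0 2 1 * ev x z τ ⟨e, a, b, c, 0⟩ := by
    have h1 : ev x z τ ⟨e, a, b, c, 0⟩ = g * (z ^ i)⁻¹ := by
      rw [eq_mul_inv_iff_mul_eq, hz, hk]
    have h2 : (z ^ i)⁻¹ * x 0 2 1 = x 0 2 1 * (z ^ i)⁻¹ := by
      calc (z ^ i)⁻¹ * x 0 2 1 = (z ^ i)⁻¹ * (x 0 2 1 * z ^ i) * (z ^ i)⁻¹ := by group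
        _ = (z ^ i)⁻¹ * (z ^ i * x 0 2 1) * (z ^ i)⁻¹ := by rw [hzu]
        _ = _ := by group
    rw [h1, mul_assoc, h2, ← mul_assoc, hg, mul_assoc]
  apply tr_of_comm e a b c
  rw [eqC_iff]
  have hlt : ∀ k l : Cd, (mK k l).i < 4 := by
    intro k l
    obtain ⟨e, a, b, c, i⟩ := k
    obtain ⟨f, a', b', c', j⟩ := l
    cases f
    · simp only [mK, nmK, fF_eq, fZ_eq]; exact Nat.mod_lt _ (by decide)
    · cases e
      · simp only [mK, nmK, fF_eq, fZ_eq]; exact Nat.mod_lt _ (by decide)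
      · simp only [mK, nmK, fF_eq, fZ_eq]; exact Nat.mod_lt _ (by decide)
  apply ev_inj S _ _ (hlt _ _) (hlt _ _)
  rw [ev_mK S, ev_mK S, ev_uC S, h0]

theorem kap01 : kap 0 1 = .w := by decide
theorem kap12 : kap 1 2 = .w := by decide
theorem kap02 : kap 0 2 = .v := by decide

theorem hJ (S : SData P0 t M x z h τ) (a c : F4) (i : ℕ) :
    h⁻¹ * ev x z τ ⟨false, a, a, c, i⟩ * h = ev x z τ ⟨false, .w * a, .w * a, .v * c, i⟩ := by
  have e1 : h⁻¹ * (x 0 1 a * x 1 2 a * x 0 2 c * z ^ i) * h =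
      (h⁻¹ * x 0 1 a * h) * (h⁻¹ * x 1 2 a * h) * (h⁻¹ * x 0 2 c * h) * (h⁻¹ * z ^ i * h) := by
    group
  have hz : h⁻¹ * z ^ i * h = z ^ i := by
    have := (Commute.pow_right (show Commute h z from S.H.R.zh) i).eq
    rw [mul_assoc, ← this]; group
  show h⁻¹ * (1 * (x 0 1 a * x 1 2 a * x 0 2 c * z ^ i)) * h =
    1 * (x 0 1 (.w * a) * x 1 2 (.w * a) * x 0 2 (.v * c) * z ^ i)
  rw [one_mul, one_mul, e1, hz, S.H.R.tor 0 1 (by decide), S.H.R.tor 1 2 (by decide),
    S.H.R.tor 0 2 (by decide), kap01, kap12, kap02]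

end

section
variable {G : Type*} [Group G] {t : G} {M : Subgroup (Subgroup.centralizer ({t} : Set G))}
  {x : Fin 3 → Fin 3 → F4 → Subgroup.centralizer ({t} : Set G)}
  {t₀ z h τ : Subgroup.centralizer ({t} : Set G)}

/-- codes in `G` -/
def EG (x : Fin 3 → Fin 3 → F4 → Subgroup.centralizer ({t} : Set G))
    (z τ : Subgroup.centralizer ({t} : Set G)) (k : Cd) : G :=
  ((ev x z τ k : Subgroup.centralizer ({t} : Set G)) : G)

theorem tdata (ht : (t₀ : G) = t) (S : SData P0 t₀ M x z h τ) : TData (EG x z τ) (h : G) where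
  mul k l := by
    show ((ev x z τ (mul P0 k l) : Subgroup.centralizer ({t} : Set G)) : G) = _
    rw [ev_mul S.H]; rfl
  inj k l hk hl hkl := ev_inj S k l hk.2 hl.2 (Subtype.ext hkl)
  mem g h1 h2 := by
    have e1 : EG x z τ tC = t := by
      show ((ev x z τ tC : Subgroup.centralizer ({t} : Set G)) : G) = t
      rw [ev_tC S, ht]
    have hg : g ∈ Subgroup.centralizer ({t} : Set G) := by
      rw [Subgroup.mem_centralizer_singleton_iff]
      rw [e1] at h1; exact h1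
    have h3 : (⟨g, hg⟩ : Subgroup.centralizer ({t} : Set G)) * x 0 2 1 = x 0 2 1 * ⟨g, hg⟩ := by
      apply Subtype.ext
      rw [← ev_uC S]
      exact h2
    obtain ⟨k, hk, e⟩ := comm_u S _ h3
    exact ⟨k, hk, congrArg Subtype.val e⟩
  hJ a c i := congrArg Subtype.val (hJ S a c i)

/-- **The two sides.** -/
theorem exists_sides (ht : (t₀ : G) = t) (S : SData P0 t₀ M x z h τ)
    (hgen : ∀ K : Subgroup (Subgroup.centralizer ({t} : Set G)),
      (∀ i j : Fin 3, i ≠ j → ∀ u, x i j u ∈ K) → M ≤ K)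
    (n : G) (hn1 : n⁻¹ * t * n = (x 0 2 1 : Subgroup.centralizer ({t} : Set G)))
    (hn2 : n⁻¹ * (x 0 2 1 : Subgroup.centralizer ({t} : Set G)) * n = t) :
    ∃ a b c d e g : G, CfSide.Side a b c d t g ∧ CfSide.Side t e d c a g := by
  have D := tdata ht S
  have et : EG x z τ tC = t := by
    show ((ev x z τ tC : Subgroup.centralizer ({t} : Set G)) : G) = t
    rw [ev_tC S, ht]
  have eu : EG x z τ uC = (x 0 2 1 : Subgroup.centralizer ({t} : Set G)) := by
    show ((ev x z τ uC : Subgroup.centralizer ({t} : Set G)) : G) = _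
    rw [ev_uC S]
  have E := ext_of S
  have hcard : Nat.card (Subgroup.centralizer ({EG x z τ tC} : Set G)) = 161280 := by
    rw [et]; exact S.card
  have hrel : ∀ i < 4, RelF (EG x z τ uC) ((x 2 0 1 : Subgroup.centralizer ({t} : Set G)) : G)
      (EG x z τ cC) (EG x z τ (dC i)) (EG x z τ tC) (EG x z τ (gC i)) := by
    intro i hi
    have h1 := RelF.map' (relF E ⟨i, hi⟩) (Subgroup.centralizer ({t} : Set G)).subtype
    rw [← ev_cC S, ← ev_uC S, ← ev_dC S, ← ev_gC, zt S, ← ev_tC S] at h1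
    exact h1
  have hclo : ∀ i < 4, Subgroup.centralizer ({EG x z τ tC} : Set G) =
      Subgroup.closure {((x 2 0 1 : Subgroup.centralizer ({t} : Set G)) : G), EG x z τ cC,
        EG x z τ (dC i), EG x z τ (gC i)} := by
    intro i hi
    rw [et]
    set K₀ : Subgroup (Subgroup.centralizer ({t} : Set G)) :=
      Subgroup.closure {x 2 0 1, ev x z τ cC, ev x z τ (dC i), ev x z τ (gC i)} with hK₀
    have hm := mem_of E ⟨i, hi⟩ K₀ (Subgroup.subset_closure (by simp))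
      (by rw [← ev_cC S]; exact Subgroup.subset_closure (by simp))
      (by rw [← ev_dC S]; exact Subgroup.subset_closure (by simp))
      (by rw [← ev_gC]; exact Subgroup.subset_closure (by simp))
    obtain ⟨hx, hz, hτ⟩ := hm
    have hMK : M ≤ K₀ := hgen K₀ hx
    have htop : K₀ = ⊤ := by
      rw [eq_top_iff]
      intro g _
      by_cases hg : g ∈ M
      · exact hMK hg
      · have h1 := hMK (idx S g hg)
        have := K₀.mul_mem hτ h1
        rwa [mul_inv_cancel_left] at this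
    have h2 := congrArg (Subgroup.map (Subgroup.centralizer ({t} : Set G)).subtype) htop
    rw [← MonoidHom.range_eq_map, Subgroup.range_subtype, hK₀, MonoidHom.map_closure] at h2
    refine h2.symm.trans ?_
    simp only [Set.image_insert_eq, Set.image_singleton, Subgroup.coe_subtype]
    rfl
  obtain ⟨a, b, c, d, e, f, g, hf, R, R', dg, cg', c1, c2, k1, k2, ne, f1, kT, θ, th2, tha, thb,
    thc, thg⟩ := exists_elements D n (by unfold cg; rw [et, eu]; exact hn1)
      (by unfold cg; rw [et, eu]; exact hn2) _ hrel hclo hcard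
  rw [et] at hf
  subst hf
  have a1 : a ≠ 1 := by
    intro h1
    apply f1
    rw [← cg', show c * g = θ * (d * g) * θ⁻¹ by rw [← thc]; nth_rewrite 2 [← thg]; group] at h1
    rw [conj_pow, dg] at h1
    rw [mul_inv_eq_one] at h1
    exact mul_eq_left.mp h1
  refine ⟨a, b, c, d, e, g, ⟨R, dg, cg', ne, f1, c1, k1, kT⟩,
    ⟨R', cg', dg, ne.symm, a1, c2, k2, ?_⟩⟩
  rw [inf_comm]; exact kT

/-- **S1661 from the structure of the centraliser, fusion, and the order of the presented group.** -/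
theorem isoON [Finite G] (hON : Cfsg.IsON Cfsg.Spor.ON) (ht : (t₀ : G) = t)
    (S : SData P0 t₀ M x z h τ)
    (hgen : ∀ K : Subgroup (Subgroup.centralizer ({t} : Set G)),
      (∀ i j : Fin 3, i ≠ j → ∀ u, x i j u ∈ K) → M ≤ K)
    (n : G) (hn1 : n⁻¹ * t * n = (x 0 2 1 : Subgroup.centralizer ({t} : Set G)))
    (hn2 : n⁻¹ * (x 0 2 1 : Subgroup.centralizer ({t} : Set G)) * n = t)
    (hone : ∀ H : Subgroup G, Subgroup.centralizer ({t} : Set G) ≤ H → IsSimpleGroup H →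
      ∀ y ∈ H, orderOf y = 2 → ∃ k ∈ H, k * t * k⁻¹ = y) : Cfsg.Spor.IsoON G := by
  obtain ⟨a, b, c, d, e, g, S1, S2⟩ := exists_sides ht S hgen n hn1 hn2
  refine Cfsg.Agent.R04.EndON.isoON_of hON S1.toRelF S2.toRelF (CfSide.be_comm S1 S2) S1.f1 ?_
    S1.cardC hone
  rw [S1.cent, Subgroup.closure_le]
  intro y hy
  simp only [Set.mem_insert_iff, Set.mem_singleton_iff] at hy
  rcases hy with rfl | rfl | rfl | rfl
  · exact Subgroup.subset_closure (by simp)
  · exact Subgroup.subset_closure (by simp)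
  · exact Subgroup.subset_closure (by simp)
  · exact Subgroup.subset_closure (by simp)

end

end Cfsg.Agent.ONType.GlueFin
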