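import Cfsg.Agent.ONType.Glue
import Cfsg.Agent.ONType.Hom

/-!
# The gluing: output in the form used for the presentation
-/

set_option autoImplicit false
set_option linter.constructorNameAsVariable false

namespace Cfsg.Agent.ONType.GlueOut

open Cfsg.Agent.SporadicA.FieldFour
open Cfsg.Agent.ONType.Data
open Cfsg.Agent.ONType.SGroup
open Cfsg.Agent.ONType.GlueCheck
open Cfsg.Agent.ONType.Glue
open Cfsg.Agent.ONType.Hom

theorem RelF.map' {G H : Type*} [Group G] [Group H] {a b c d f g : G} (R : RelF a b c d f g)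
    (φ : G →* H) : RelF (φ a) (φ b) (φ c) (φ d) (φ f) (φ g) where
  aa := by rw [← map_mul, R.aa, map_one]
  bb := by rw [← map_mul, R.bb, map_one]
  cc := by rw [← map_mul, R.cc, map_one]
  dd := by rw [← map_mul, R.dd, map_one]
  ff := by rw [← map_mul, R.ff, map_one]
  ab := by rw [← map_mul, ← map_pow, R.ab, map_one]
  bc := by rw [← map_mul, ← map_pow, R.bc, map_one]
  cd := by rw [← map_mul, ← map_pow, R.cd, map_one]
  ac := by rw [← map_mul, R.ac, map_mul]
  ad := by rw [← map_mul, R.ad, map_mul]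
  af := by rw [← map_mul, R.af, map_mul]
  bd := by rw [← map_mul, R.bd, map_mul]
  bf := by rw [← map_mul, R.bf, map_mul]
  cf := by rw [← map_mul, R.cf, map_mul]
  df := by rw [← map_mul, R.df, map_mul]
  gg := by rw [← map_mul, R.gg, map_mul]
  cd4 := by rw [← map_mul, R.cd4, map_pow, map_mul]
  cg := by simpa using congrArg φ R.cg
  dg := by simpa using congrArg φ R.dg
  five := by simpa using congrArg φ R.five
  gb := by simpa using congrArg φ R.gb

/-- codes of `T₀` -/
def TT : Type := Bool × {ab : F4 × F4 // trK ab.1 = trK ab.2} × F4 × Fin 4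

instance : Fintype TT := by unfold TT; infer_instance

theorem card_TT : Fintype.card TT = 256 := by decide +kernel

def toT (k : TT) : Cd := ⟨k.1, k.2.1.1.1, k.2.1.1.2, k.2.2.1, k.2.2.2⟩

theorem inT_toT (k : TT) : inT (toT k) := ⟨k.2.1.2, k.2.2.2.2⟩

section
variable {G : Type*} [Group G] {E : Cd → G} {h : G}

theorem card_T0 (D : TData E h) :
    Nat.card (Subgroup.centralizer ({E uC} : Set G) ⊓ Subgroup.centralizer ({E tC} : Set G) :
      Subgroup G) = 256 := by
  let F : TT → (Subgroup.centralizer ({E uC} : Set G) ⊓ Subgroup.centralizer ({E tC} : Set G) :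
      Subgroup G) := fun k => ⟨E (toT k), by
    obtain ⟨h1, h2⟩ := cent_tu' D (inT_toT k)
    refine Subgroup.mem_inf.mpr ⟨?_, ?_⟩
    · rw [Subgroup.mem_centralizer_singleton_iff]; exact h2.symm
    · rw [Subgroup.mem_centralizer_singleton_iff]; exact h1.symm⟩
  have hF : Function.Bijective F := by
    constructor
    · intro k l hkl
      have h1 : E (toT k) = E (toT l) := congrArg Subtype.val hkl
      have h2 := D.inj _ _ (inT_toT k) (inT_toT l) h1
      obtain ⟨e, ⟨⟨a, b⟩, hab⟩, c, i⟩ := k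
      obtain ⟨e', ⟨⟨a', b'⟩, hab'⟩, c', i'⟩ := l
      simp only [toT, Cd.mk.injEq] at h2
      obtain ⟨rfl, rfl, rfl, rfl, h3⟩ := h2
      have : i = i' := Fin.ext h3
      subst this
      rfl
    · rintro ⟨g, hg⟩
      obtain ⟨h1, h2⟩ := Subgroup.mem_inf.mp hg
      rw [Subgroup.mem_centralizer_singleton_iff] at h1 h2
      obtain ⟨⟨e, a, b, c, i⟩, hk, hkg⟩ := D.mem g h2 h1
      refine ⟨⟨e, ⟨(a, b), hk.1⟩, c, ⟨i, hk.2⟩⟩, Subtype.ext hkg⟩
  rw [← Nat.card_congr (Equiv.ofBijective F hF), Nat.card_eq_fintype_card, card_TT]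

/-- conjugation of subgroups generated by four elements and of centralisers -/
theorem closure_conj {θ a f b c d g : G} (ha : a = cg θ f)
    (hc : Subgroup.centralizer ({f} : Set G) = Subgroup.closure {b, c, d, g}) :
    Subgroup.centralizer ({a} : Set G) =
      Subgroup.closure {cg θ b, cg θ c, cg θ d, cg θ g} := by
  set φ : G →* G := (MulAut.conj θ⁻¹).toMonoidHom with hφ
  have hφa : ∀ x, φ x = cg θ x := fun x => by simp [hφ, cg]
  have h1 : (Subgroup.closure {b, c, d, g}).map φ =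
      Subgroup.closure {cg θ b, cg θ c, cg θ d, cg θ g} := by
    rw [MonoidHom.map_closure]
    congr 1
    simp only [Set.image_insert_eq, Set.image_singleton, hφa]
  rw [← h1, ← hc]
  ext y
  rw [Subgroup.mem_centralizer_singleton_iff, Subgroup.mem_map]
  constructor
  · intro hy
    refine ⟨θ * y * θ⁻¹, ?_, by rw [hφa]; unfold cg; group⟩
    rw [Subgroup.mem_centralizer_singleton_iff]
    rw [ha] at hy
    unfold cg at hy
    calc θ * y * θ⁻¹ * f = θ * (y * (θ⁻¹ * f * θ)) * θ⁻¹ := by group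
      _ = θ * (θ⁻¹ * f * θ * y) * θ⁻¹ := by rw [hy]
      _ = _ := by group
  · rintro ⟨x, hx, rfl⟩
    rw [Subgroup.mem_centralizer_singleton_iff] at hx
    rw [hφa, ha, ← cg_mul, ← cg_mul, hx]

/-- **Output of the gluing** -/
theorem exists_elements (D : TData E h) (n : G) (hn1 : cg n (E tC) = E uC)
    (hn2 : cg n (E uC) = E tC) (b : G)
    (hb : ∀ i < 4, RelF (E uC) b (E cC) (E (dC i)) (E tC) (E (gC i)))
    (hgen : ∀ i < 4, Subgroup.centralizer ({E tC} : Set G) =
      Subgroup.closure {b, E cC, E (dC i), E (gC i)})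
    (hcard : Nat.card (Subgroup.centralizer ({E tC} : Set G)) = 161280) :
    ∃ a b c d e f g : G, f = E tC ∧ RelF a b c d f g ∧ RelF f e d c a g ∧ (d * g) ^ 4 = f ∧
      (c * g) ^ 4 = a ∧ Subgroup.centralizer ({f} : Set G) = Subgroup.closure {b, c, d, g} ∧
      Subgroup.centralizer ({a} : Set G) = Subgroup.closure {e, d, c, g} ∧
      Nat.card (Subgroup.centralizer ({f} : Set G)) = 161280 ∧
      Nat.card (Subgroup.centralizer ({a} : Set G)) = 161280 ∧ a ≠ f ∧ f ≠ 1 ∧
      Nat.card (Subgroup.centralizer ({a} : Set G) ⊓ Subgroup.centralizer ({f} : Set G) :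
        Subgroup G) = 256 ∧ (∃ θ : G, θ * θ = 1 ∧ θ⁻¹ * a * θ = f ∧ θ⁻¹ * b * θ = e ∧
        θ⁻¹ * c * θ = d ∧ θ⁻¹ * g * θ = g) := by
  obtain ⟨θ, i, hi, h2, ht, hc, hg⟩ := exists_theta D n hn1 hn2
  have hu : cg θ (E uC) = E tC := by rw [← ht, cg_cg h2]
  have hd : cg θ (E (dC i)) = E cC := by rw [← hc, cg_cg h2]
  have R := hb i hi
  have R' := RelF.map' R (MulAut.conj θ⁻¹).toMonoidHom
  have hφa : ∀ x, (MulAut.conj θ⁻¹).toMonoidHom x = cg θ x := fun x => by simp [cg]
  simp only [hφa] at R'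
  rw [hu, hc, hd, ht, hg] at R'
  have hdg : (E (dC i) * E (gC i)) ^ 4 = E tC := by
    have : ∀ i < 4, pw (mK (dC i) (gC i)) 2 = pw (mK (dC i) (gC i)) 2 ∧
        mK (pw (mK (dC i) (gC i)) 2) (pw (mK (dC i) (gC i)) 2) = tC := by decide
    have h1 := (this i hi).2
    rw [← h1, D.mK, ← D.mK]
    show E (mK (dC i) (gC i)) ^ 4 =
      E (mK (mK (dC i) (gC i)) (mK (dC i) (gC i))) * E (mK (mK (dC i) (gC i)) (mK (dC i) (gC i)))
    rw [D.mK (mK (dC i) (gC i))]
    simp only [pow_succ, pow_zero, one_mul, mul_assoc]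
  have hne : E uC ≠ E tC := by
    intro h'
    exact absurd (D.inj _ _ inT_uC inT_tC h') (by decide)
  have hne1 : E tC ≠ 1 := by
    intro h'
    rw [← D.one] at h'
    exact absurd (D.inj _ _ inT_tC inT_one h') (by decide)
  have hcent := closure_conj ht.symm (hgen i hi)
  rw [hc, hd, hg] at hcent
  refine ⟨E uC, b, E cC, E (dC i), cg θ b, E tC, E (gC i), rfl, R, R', hdg, ?_, hgen i hi, hcent,
    hcard, ?_, hne, hne1, card_T0 D, θ, h2, hu, rfl, hc, hg⟩
  · rw [← hd, ← hg, ← cg_mul]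
    have : ∀ (x : G) (n : ℕ), cg θ x ^ n = cg θ (x ^ n) := by
      intro x n
      have := conj_pow (i := n) (a := θ⁻¹) (b := x)
      rw [inv_inv] at this; exact this
    rw [this, hdg, ht]
  · rw [← hcard]
    apply Nat.card_congr
    refine ⟨fun y => ⟨cg θ y, ?_⟩, fun y => ⟨cg θ y, ?_⟩, fun y => Subtype.ext (cg_cg h2 _),
      fun y => Subtype.ext (cg_cg h2 _)⟩
    · have := y.2
      rw [Subgroup.mem_centralizer_singleton_iff] at this ⊢
      rw [← hu, ← cg_mul, ← cg_mul, this]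
    · have := y.2
      rw [Subgroup.mem_centralizer_singleton_iff] at this ⊢
      rw [← ht, ← cg_mul, ← cg_mul, this]

end

end Cfsg.Agent.ONType.GlueOut
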