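import Cfsg.Agent.ONType.Psl

/-!
# Canonical lifts of the root elements of `PSL(3,4)` to a central extension by `Z/4`
-/

set_option autoImplicit false
set_option linter.constructorNameAsVariable false

namespace Cfsg.Agent.ONType.Lift

open Cfsg.Agent.SporadicA.FieldFour
open Cfsg.Agent.ONType.Psl

/-- `M` is a central extension of `PSL(3,4)` by a group of exponent dividing `4`. -/
structure CExt {M : Type*} [Group M] (π : M →* PSL3) : Prop where
  surj : Function.Surjective π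
  cen : ∀ k : M, π k = 1 → ∀ m : M, k * m = m * k
  exp : ∀ k : M, π k = 1 → k ^ 4 = 1

variable {M : Type*} [Group M] {π : M →* PSL3}

/-- third index -/
def third (i j : Fin 3) : Fin 3 := if i ≠ 0 ∧ j ≠ 0 then 0 else if i ≠ 1 ∧ j ≠ 1 then 1 else 2

theorem third_spec (i j : Fin 3) (h : i ≠ j) : i ≠ third i j ∧ j ≠ third i j := by
  revert i j; decide

namespace CExt

variable (C : CExt π)
include C

omit C in
theorem eq_mul_of_map_eq {y y' : M} (h : π y = π y') : ∃ c, π c = 1 ∧ y' = y * c :=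
  ⟨y⁻¹ * y', by rw [map_mul, map_inv, h, inv_mul_cancel], by group⟩

/-- elements commuting modulo the centre with two elements centralise their commutator -/
theorem three_sub {a p q : M} (hp : π a * π p = π p * π a) (hq : π a * π q = π q * π a) :
    Commute a (p⁻¹ * q⁻¹ * p * q) := by
  obtain ⟨c, hc, hc'⟩ := eq_mul_of_map_eq (y := p) (y' := a⁻¹ * p * a)
    (by rw [map_mul, map_mul, map_inv, mul_assoc, ← hp, inv_mul_cancel_left])
  obtain ⟨d, hd, hd'⟩ := eq_mul_of_map_eq (y := q) (y' := a⁻¹ * q * a)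
    (by rw [map_mul, map_mul, map_inv, mul_assoc, ← hq, inv_mul_cancel_left])
  have e1 : a⁻¹ * (p⁻¹ * q⁻¹ * p * q) * a = p⁻¹ * q⁻¹ * p * q := by
    have : a⁻¹ * (p⁻¹ * q⁻¹ * p * q) * a =
        (a⁻¹ * p * a)⁻¹ * (a⁻¹ * q * a)⁻¹ * (a⁻¹ * p * a) * (a⁻¹ * q * a) := by group
    rw [this, hc', hd']
    have cc := C.cen c hc
    have dd := C.cen d hd
    calc (p * c)⁻¹ * (q * d)⁻¹ * (p * c) * (q * d)
        = c⁻¹ * p⁻¹ * d⁻¹ * q⁻¹ * (p * c) * (q * d) := by group
      _ = c⁻¹ * p⁻¹ * d⁻¹ * q⁻¹ * (c * p) * (d * q) := by rw [cc p, dd q]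
      _ = c⁻¹ * (p⁻¹ * d⁻¹) * (q⁻¹ * c) * (p * d) * q := by group
      _ = c⁻¹ * (d⁻¹ * p⁻¹) * (c * q⁻¹) * (d * p) * q := by
          rw [cc q⁻¹, ← dd p]
          congr 3
          congr 1
          have := dd p
          rw [← mul_inv_rev, ← mul_inv_rev, dd p]
      _ = (c⁻¹ * d⁻¹ * p⁻¹ * c) * (q⁻¹ * d) * p * q := by group
      _ = (c⁻¹ * d⁻¹ * p⁻¹ * c) * (d * q⁻¹) * p * q := by rw [dd q⁻¹]
      _ = (c⁻¹ * (d⁻¹ * p⁻¹ * (c * d))) * q⁻¹ * p * q := by group
      _ = (c⁻¹ * (d⁻¹ * ((c * d) * p⁻¹))) * q⁻¹ * p * q := by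
          congr 4
          have h1 := cc p⁻¹
          have h2 := dd p⁻¹
          calc d⁻¹ * p⁻¹ * (c * d) = d⁻¹ * ((p⁻¹ * c) * d) := by group
            _ = d⁻¹ * ((c * p⁻¹) * d) := by rw [h1]
            _ = d⁻¹ * (c * (p⁻¹ * d)) := by group
            _ = d⁻¹ * (c * (d * p⁻¹)) := by rw [h2]
            _ = d⁻¹ * ((c * d) * p⁻¹) := by group
      _ = (c⁻¹ * (d⁻¹ * (c * d))) * p⁻¹ * q⁻¹ * p * q := by group
      _ = p⁻¹ * q⁻¹ * p * q := by rw [cc d]; group
  have e2 : a * (p⁻¹ * q⁻¹ * p * q) = (p⁻¹ * q⁻¹ * p * q) * a := by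
    conv_lhs => rw [← e1]
    group
  exact e2

/-- some lift -/
noncomputable def l (p : PSL3) : M := (C.surj p).choose

theorem l_spec (p : PSL3) : π (C.l p) = p := (C.surj p).choose_spec

/-- the lift of order three of the torus element -/
noncomputable def h : M := (C.l hh) ^ 4

theorem map_h : π C.h = hh := by
  rw [h, map_pow, C.l_spec, pow_succ, hh_pow, one_mul]

theorem h_pow : C.h ^ 3 = 1 := by
  rw [h, ← pow_mul, pow_mul' _ 4 3]
  exact C.exp _ (by rw [map_pow, C.l_spec, hh_pow])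

theorem comm_lift {i j : Fin 3} (hij : i ≠ j) {u v : F4} {y y' : M} (hy : π y = t i j u)
    (hy' : π y' = t i j v) : Commute y y' := by
  obtain ⟨h1, h2⟩ := third_spec i j hij
  set k := third i j
  set p := C.l (t i k 1) with hp
  set q := C.l (t k j v) with hq
  have ep : π p = t i k 1 := C.l_spec _
  have eq : π q = t k j v := C.l_spec _
  have hc : π (p⁻¹ * q⁻¹ * p * q) = t i j v := by
    simp only [map_mul, map_inv, ep, eq]
    have := t_sum i j k 1 v hij h1 h2
    rw [one_mul] at this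
    rw [mul_assoc, this]; group
  obtain ⟨c, hc1, hc2⟩ := eq_mul_of_map_eq (hc.trans hy'.symm)
  have hA : Commute y (p⁻¹ * q⁻¹ * p * q) := by
    apply C.three_sub
    · rw [hy, ep]; exact t_row i j k u 1 hij h1
    · rw [hy, eq]; exact t_col i j k u v hij h2.symm
  rw [hc2]
  exact hA.mul_right (C.cen c hc1 y).symm

end CExt

/-- the canonical lift obtained from an arbitrary lift `y` -/
def hat (h y : M) : M := y * y * (h⁻¹ * y * h) * (h * y * h⁻¹)

namespace CExt

variable (C : CExt π)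
include C

theorem hat_mul_central (h y c : M) (hc : π c = 1) : hat h (y * c) = hat h y := by
  have c4 := C.exp c hc
  have cc : ∀ m : M, m * c = c * m := fun m => (C.cen c hc m).symm
  have cl : ∀ m n : M, m * (c * n) = c * (m * n) := fun m n => by
    rw [← mul_assoc, cc, mul_assoc]
  unfold hat
  calc y * c * (y * c) * (h⁻¹ * (y * c) * h) * (h * (y * c) * h⁻¹)
      = c * (c * (c * (c * (y * y * (h⁻¹ * y * h) * (h * y * h⁻¹))))) := by
        simp only [mul_assoc, cl y, cl h, cl h⁻¹, cc y]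
    _ = c ^ 4 * (y * y * (h⁻¹ * y * h) * (h * y * h⁻¹)) := by
        simp only [pow_succ, pow_zero, one_mul, mul_assoc]
    _ = _ := by rw [c4, one_mul]

/-- conjugates of lifts by `h` -/
theorem map_conj {i j : Fin 3} (hij : i ≠ j) {u : F4} {y : M} (hy : π y = t i j u) :
    π (C.h⁻¹ * y * C.h) = t i j (kap i j * u) := by
  rw [map_mul, map_mul, map_inv, hy, C.map_h, mul_assoc, t_h i j u hij, inv_mul_cancel_left]

omit C in
theorem kap_mul (i j : Fin 3) (hij : i ≠ j) (u : F4) : kap i j * (kap j i * u) = u := by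
  revert i j u; decide

theorem map_conj' {i j : Fin 3} (hij : i ≠ j) {u : F4} {y : M} (hy : π y = t i j u) :
    π (C.h * y * C.h⁻¹) = t i j (kap j i * u) := by
  rw [map_mul, map_mul, map_inv, hy, C.map_h, mul_inv_eq_iff_eq_mul]
  rw [t_h i j _ hij, kap_mul i j hij]

theorem hat_eq {i j : Fin 3} (hij : i ≠ j) {u : F4} {y y' : M} (hy : π y = t i j u)
    (hy' : π y' = t i j u) : hat C.h y = hat C.h y' := by
  obtain ⟨c, h1, h2⟩ := eq_mul_of_map_eq (hy.trans hy'.symm)
  rw [h2, C.hat_mul_central _ _ _ h1]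

/-- the canonical lift -/
noncomputable def x (i j : Fin 3) (u : F4) : M := hat C.h (C.l (t i j u))

theorem x_eq {i j : Fin 3} (hij : i ≠ j) {u : F4} {y : M} (hy : π y = t i j u) :
    C.x i j u = hat C.h y := C.hat_eq hij (C.l_spec _) hy

theorem map_hat {i j : Fin 3} (hij : i ≠ j) {u : F4} {y : M} (hy : π y = t i j u) :
    π (hat C.h y) = t i j u := by
  unfold hat
  rw [map_mul, map_mul, map_mul, C.map_conj hij hy, C.map_conj' hij hy, hy, t_add _ _ _ _ hij,
    t_add _ _ _ _ hij, t_add _ _ _ _ hij]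
  congr 1
  have : ∀ i j : Fin 3, i ≠ j → ∀ u : F4, u + u + kap i j * u + kap j i * u = u := by decide
  exact this i j hij u

theorem map_x (i j : Fin 3) (hij : i ≠ j) (u : F4) : π (C.x i j u) = t i j u :=
  C.map_hat hij (C.l_spec _)

theorem x_add (i j : Fin 3) (hij : i ≠ j) (u v : F4) : C.x i j u * C.x i j v = C.x i j (u + v) := by
  set y := C.l (t i j u)
  set y' := C.l (t i j v)
  have ey : π y = t i j u := C.l_spec _
  have ey' : π y' = t i j v := C.l_spec _
  have e1 : π (y * y') = t i j (u + v) := by rw [map_mul, ey, ey', t_add _ _ _ _ hij]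
  rw [C.x_eq hij e1, C.x_eq hij ey, C.x_eq hij ey']
  have a1 : Commute y y' := C.comm_lift hij ey ey'
  have a2 : Commute (C.h⁻¹ * y * C.h) y' := C.comm_lift hij (C.map_conj hij ey) ey'
  have a3 : Commute (C.h * y * C.h⁻¹) y' := C.comm_lift hij (C.map_conj' hij ey) ey'
  have a4 : Commute (C.h * y * C.h⁻¹) (C.h⁻¹ * y' * C.h) :=
    C.comm_lift hij (C.map_conj' hij ey) (C.map_conj hij ey')
  unfold hat
  have e : y * y' * (y * y') * (C.h⁻¹ * (y * y') * C.h) * (C.h * (y * y') * C.h⁻¹) =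
      y * (y' * y) * y' * ((C.h⁻¹ * y * C.h) * (C.h⁻¹ * y' * C.h)) *
        ((C.h * y * C.h⁻¹) * (C.h * y' * C.h⁻¹)) := by group
  rw [e]
  set a := C.h⁻¹ * y * C.h
  set b := C.h * y * C.h⁻¹
  set a' := C.h⁻¹ * y' * C.h
  set b' := C.h * y' * C.h⁻¹
  simp only [mul_assoc]
  rw [a3.left_comm, a3.left_comm, a2.left_comm, a2.left_comm, a4.left_comm,
    a1.left_comm (y' * (a * (a' * (b * b'))))]

theorem x_zero (i j : Fin 3) (hij : i ≠ j) : C.x i j 0 = 1 := by
  have h := C.x_add i j hij 0 0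
  rw [add_zero] at h
  exact mul_eq_left.mp h

theorem x_sq (i j : Fin 3) (hij : i ≠ j) (u : F4) : C.x i j u * C.x i j u = 1 := by
  rw [C.x_add i j hij]
  have : u + u = 0 := by revert u; decide
  rw [this, C.x_zero i j hij]

theorem x_inv (i j : Fin 3) (hij : i ≠ j) (u : F4) : (C.x i j u)⁻¹ = C.x i j u :=
  inv_eq_of_mul_eq_one_left (C.x_sq i j hij u)

/-- EXACT transport of the canonical lifts under endomorphisms normalising `h` -/
theorem x_map (α : M →* M) (hα : α C.h = C.h ∨ α C.h = C.h⁻¹) {i j k m : Fin 3} (hij : i ≠ j)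
    (hkm : k ≠ m) {u u' : F4} {y : M} (hy : π y = t i j u) (hy' : π (α y) = t k m u') :
    α (C.x i j u) = C.x k m u' := by
  rw [C.x_eq hij hy, C.x_eq hkm hy']
  unfold hat
  simp only [map_mul, map_inv]
  rcases hα with e | e
  · rw [e]
  · rw [e, inv_inv]
    have hc : Commute (C.h * α y * C.h⁻¹) (C.h⁻¹ * α y * C.h) :=
      C.comm_lift hkm (C.map_conj' hkm hy') (C.map_conj hkm hy')
    rw [mul_assoc (α y * α y), hc.eq, ← mul_assoc]

/-- the version for conjugations -/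
theorem x_conj (g : M) (hg : g⁻¹ * C.h * g = C.h ∨ g⁻¹ * C.h * g = C.h⁻¹) {i j k m : Fin 3}
    (hij : i ≠ j) (hkm : k ≠ m) {u u' : F4} (h' : (π g)⁻¹ * t i j u * π g = t k m u') :
    g⁻¹ * C.x i j u * g = C.x k m u' := by
  have := C.x_map (MulAut.conj g⁻¹).toMonoidHom (by simpa using hg) hij hkm
    (u := u) (u' := u') (y := C.l (t i j u)) (C.l_spec _) (by
      show π (g⁻¹ * C.l (t i j u) * g⁻¹⁻¹) = _
      rw [inv_inv, map_mul, map_mul, map_inv, C.l_spec, h'])
  simpa using this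

theorem h_conj_x (i j : Fin 3) (hij : i ≠ j) (u : F4) :
    (C.h)⁻¹ * C.x i j u * C.h = C.x i j (kap i j * u) := by
  apply C.x_conj _ (Or.inl (by group)) hij hij
  rw [C.map_h, mul_assoc, t_h i j u hij, inv_mul_cancel_left]

/-- the Weyl elements -/
noncomputable def n (i j : Fin 3) : M := C.x i j 1 * C.x j i 1 * C.x i j 1

theorem map_n (i j : Fin 3) (hij : i ≠ j) : π (C.n i j) = nn i j := by
  rw [n, map_mul, map_mul, C.map_x _ _ hij, C.map_x _ _ hij.symm]; rfl

theorem n_sq (i j : Fin 3) (hij : i ≠ j) : C.n i j * C.n i j = 1 := by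
  have h1 := C.x_sq i j hij 1
  have h2 := C.x_sq j i hij.symm 1
  unfold n
  calc C.x i j 1 * C.x j i 1 * C.x i j 1 * (C.x i j 1 * C.x j i 1 * C.x i j 1)
      = C.x i j 1 * C.x j i 1 * (C.x i j 1 * C.x i j 1) * C.x j i 1 * C.x i j 1 := by group
    _ = C.x i j 1 * (C.x j i 1 * C.x j i 1) * C.x i j 1 := by rw [h1]; group
    _ = 1 := by rw [h2, mul_one, h1]

theorem n_inv (i j : Fin 3) (hij : i ≠ j) : (C.n i j)⁻¹ = C.n i j :=
  inv_eq_of_mul_eq_one_left (C.n_sq i j hij)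

/-- uniqueness of lifts of order three -/
theorem eq_of_cube {a b : M} (hab : π a = π b) (ha : a ^ 3 = 1) (hb : b ^ 3 = 1) : a = b := by
  obtain ⟨c, h1, h2⟩ := eq_mul_of_map_eq hab.symm
  have hc : Commute b c := (C.cen c h1 b).symm
  rw [h2, hc.mul_pow, hb, one_mul] at ha
  have h4 := C.exp c h1
  have : c = 1 := by
    calc c = c ^ 4 * (c ^ 3)⁻¹ := by group
      _ = 1 := by rw [h4, ha]; group
  rw [h2, this, mul_one]

theorem n_conj_h (i j : Fin 3) (hij : i ≠ j) : (C.n i j)⁻¹ * C.h * C.n i j = C.h⁻¹ := by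
  apply C.eq_of_cube
  · rw [map_mul, map_mul, map_inv, map_inv, C.map_n i j hij, C.map_h, mul_assoc,
      inv_mul_eq_iff_eq_mul, eq_mul_inv_iff_mul_eq, hnh i j hij]
  · have : ((C.n i j)⁻¹ * C.h * C.n i j) ^ 3 = (C.n i j)⁻¹ * C.h ^ 3 * C.n i j := by
      rw [pow_three, pow_three]; group
    rw [this, C.h_pow]; group
  · rw [inv_pow, C.h_pow, inv_one]

theorem n_conj_x (i j k m : Fin 3) (hij : i ≠ j) (hkm : k ≠ m) (u : F4) :
    (C.n i j)⁻¹ * C.x k m u * C.n i j = C.x (Equiv.swap i j k) (Equiv.swap i j m) u := by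
  apply C.x_conj _ (Or.inr (C.n_conj_h i j hij)) hkm
    (fun e => hkm ((Equiv.swap i j).injective e))
  rw [C.map_n i j hij, mul_assoc, t_n i j k m u hij hkm, inv_mul_cancel_left]

/-- `h` inside every root `SL₂` -/
theorem h_eq (i j : Fin 3) (hij : i ≠ j) :
    C.x i j (kap i j) * C.x j i (kap j i) * C.x i j (kap i j) * C.n i j = C.h := by
  have h1 := C.h_conj_x i j hij 1
  have h2 := C.h_conj_x j i hij.symm 1
  rw [mul_one] at h1 h2
  have h3 : (C.h)⁻¹ * C.n i j * C.h = C.x i j (kap i j) * C.x j i (kap j i) * C.x i j (kap i j) := by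
    rw [← h1, ← h2, n]; group
  rw [← h3]
  have h4 := C.n_conj_h i j hij
  have h5 : C.h * C.n i j = C.n i j * (C.h)⁻¹ := by rw [← h4]; group
  have h6 := C.n_sq i j hij
  have h7 := C.h_pow
  calc (C.h)⁻¹ * C.n i j * C.h * C.n i j
      = (C.h)⁻¹ * C.n i j * (C.h * C.n i j) := by group
    _ = (C.h)⁻¹ * (C.n i j * C.n i j) * (C.h)⁻¹ := by rw [h5]; group
    _ = (C.h ^ 3)⁻¹ * C.h := by rw [h6, pow_three]; group
    _ = C.h := by rw [h7]; group

end CExt

end Cfsg.Agent.ONType.Lift
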