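import Mathlib

set_option autoImplicit false

/-! Transfer: a central element detected by a character of exponent two of a subgroup of odd
index is not in the commutator subgroup. -/

namespace Cfsg.Agent.ONType.Transfer

/-- If `P ≤ N` has odd index, `z ∈ P` is central in `N`, and some homomorphism from `P` to an abelian
group of exponent two does not kill `z`, then `z` is not in the commutator subgroup of `N`. -/
theorem not_mem_commutator {N : Type*} [Group N] {A : Type*} [CommGroup A]
    (P : Subgroup N) (hodd : Odd P.index) (z : N) (hzP : z ∈ P) (hz : z ∈ Subgroup.center N)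
    (φ : P →* A) (hφ : φ ⟨z, hzP⟩ ≠ 1) (hA : ∀ a : A, a ^ 2 = 1) :
    z ∉ commutator N := by
  haveI : P.FiniteIndex := ⟨fun h => by rw [h] at hodd; exact absurd hodd (by decide)⟩
  intro hmem
  have key : ∀ (k : ℕ) (g₀ : N), g₀⁻¹ * z ^ k * g₀ ∈ P → g₀⁻¹ * z ^ k * g₀ = z ^ k := by
    intro k g₀ _
    have : z ^ k ∈ Subgroup.center N := (Subgroup.center N).pow_mem hz k
    have h := Subgroup.mem_center_iff.mp this g₀
    rw [mul_assoc, ← h, ← mul_assoc, inv_mul_cancel, one_mul]
  have h1 : MonoidHom.transfer φ z = φ ⟨z ^ P.index, MonoidHom.transfer_eq_pow_aux z key⟩ :=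
    MonoidHom.transfer_eq_pow φ z key
  have h2 : MonoidHom.transfer φ z = 1 := by
    have := Abelianization.commutator_subset_ker (MonoidHom.transfer φ) hmem
    exact this
  obtain ⟨m, hm⟩ := hodd
  have h3 : (⟨z ^ P.index, MonoidHom.transfer_eq_pow_aux z key⟩ : P) = ⟨z, hzP⟩ ^ P.index := by
    ext; simp
  rw [h1, h3, map_pow, hm, pow_add, pow_mul, hA, one_pow, one_mul, pow_one] at h2
  exact hφ h2

/-- Corollary: such a group is not perfect. -/
theorem commutator_ne_top {N : Type*} [Group N] {A : Type*} [CommGroup A]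
    (P : Subgroup N) (hodd : Odd P.index) (z : N) (hzP : z ∈ P) (hz : z ∈ Subgroup.center N)
    (φ : P →* A) (hφ : φ ⟨z, hzP⟩ ≠ 1) (hA : ∀ a : A, a ^ 2 = 1) :
    commutator N ≠ ⊤ := by
  intro h
  exact not_mem_commutator P hodd z hzP hz φ hφ hA (h ▸ Subgroup.mem_top z)

/-- Subgroup version: `Q ≤ P` of index two in `P`, `P` of odd index in `N`, `z ∈ P \ Q` central. -/
theorem not_mem_commutator_of_index_two {N : Type*} [Group N]
    (P : Subgroup N) (hodd : Odd P.index) (Q : Subgroup P) (hQ : Q.index = 2)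
    (z : N) (hzP : z ∈ P) (hz : z ∈ Subgroup.center N) (hzQ : (⟨z, hzP⟩ : P) ∉ Q) :
    z ∉ commutator N := by
  haveI : Q.Normal := Subgroup.normal_of_index_eq_two hQ
  have hc : Nat.card (P ⧸ Q) = 2 := hQ
  haveI : Fact (Nat.Prime 2) := ⟨Nat.prime_two⟩
  haveI hcyc : IsCyclic (P ⧸ Q) := isCyclic_of_prime_card hc
  letI : CommGroup (P ⧸ Q) := IsCyclic.commGroup
  refine not_mem_commutator (A := P ⧸ Q) P hodd z hzP hz (QuotientGroup.mk' Q) ?_ ?_
  · intro h
    exact hzQ ((QuotientGroup.eq_one_iff _).mp h)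
  · intro a
    have := pow_card_eq_one' (x := a)
    rwa [hc] at this

end Cfsg.Agent.ONType.Transfer
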