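import Cfsg.Agent.ONType.Comm
import Cfsg.Agent.ONType.PslCard
import Cfsg.Agent.ONType.Transfer

/-!
# The commutator form is not trivial when the extension is perfect with centre of order four
-/

set_option autoImplicit false
set_option linter.constructorNameAsVariable false
set_option linter.unusedVariables false

namespace Cfsg.Agent.ONType.Lift.CExt

open Cfsg.Agent.SporadicA.FieldFour
open Cfsg.Agent.ONType.Psl
open Cfsg.Agent.ONType.PslCard
open Cfsg.Agent.ONType.Comm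

variable {M : Type*} [Group M] {π : M →* PSL3} (C : CExt π)
include C

theorem mul_swap (hf : ∀ s, C.f s = 1) (b a : F4) :
    C.x 1 2 b * C.x 0 1 a = C.x 0 1 a * C.x 1 2 b * C.x 0 2 (a * b) * (C.g (a * (b * b)))⁻¹ := by
  have h := C.rel_sum 0 2 1 (by decide) (by decide) (by decide) a b
  have h2 := C.rel_row 0 2 1 (by decide) (by decide) (by decide) (a * b) a
  have h3 := C.rel_col 0 2 1 (by decide) (by decide) (by decide) (a * b) b
  rw [hf, mul_one] at h2 h3
  have hi := C.x_inv 0 2 (by decide) (a * b)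
  have hg := C.g_cen (a * (b * b))
  rw [h]
  calc C.x 1 2 b * C.x 0 1 a = C.x 1 2 b * C.x 0 1 a * (C.x 0 2 (a * b) * (C.x 0 2 (a * b))⁻¹) *
        (C.g (a * (b * b)) * (C.g (a * (b * b)))⁻¹) := by group
    _ = C.x 1 2 b * C.x 0 1 a * (C.x 0 2 (a * b) * ((C.x 0 2 (a * b))⁻¹ *
        C.g (a * (b * b))) * (C.g (a * (b * b)))⁻¹) := by group
    _ = C.x 1 2 b * C.x 0 1 a * (C.x 0 2 (a * b) * (C.g (a * (b * b)) * C.x 0 2 (a * b)) *
        (C.g (a * (b * b)))⁻¹) := by rw [← hg, hi]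
    _ = _ := by group

/-- normal form product -/
noncomputable def nf (a b c : F4) (k : M) : M := C.x 0 1 a * C.x 1 2 b * C.x 0 2 c * k

theorem map_nf (a b c : F4) (k : M) (hk : π k = 1) :
    π (C.nf a b c k) = t 0 1 a * t 1 2 b * t 0 2 c := by
  unfold nf
  rw [map_mul, map_mul, map_mul, C.map_x 0 1 (by decide), C.map_x 1 2 (by decide),
    C.map_x 0 2 (by decide), hk, mul_one]

theorem nf_mul (hf : ∀ s, C.f s = 1) (a b c a' b' c' : F4) (k k' : M) (hk : π k = 1)
    (hk' : π k' = 1) : C.nf a b c k * C.nf a' b' c' k' =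
      C.nf (a + a') (b + b') (a' * b + c + c') (k * k' * (C.g (a' * (b * b)))⁻¹) := by
  have h2 := C.rel_row 0 2 1 (by decide) (by decide) (by decide) c a'
  have h3 := C.rel_col 0 2 1 (by decide) (by decide) (by decide) c b'
  have h3' := C.rel_col 0 2 1 (by decide) (by decide) (by decide) (a' * b) b'
  rw [hf, mul_one] at h2 h3 h3'
  have ck := C.cen k hk
  have ck' := C.cen k' hk'
  have cg : ∀ m : M, (C.g (a' * (b * b)))⁻¹ * m = m * (C.g (a' * (b * b)))⁻¹ := by
    intro m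
    exact C.cen _ (by rw [map_inv, C.g_map, inv_one]) m
  unfold nf
  calc C.x 0 1 a * C.x 1 2 b * C.x 0 2 c * k * (C.x 0 1 a' * C.x 1 2 b' * C.x 0 2 c' * k')
      = C.x 0 1 a * C.x 1 2 b * C.x 0 2 c * (k * (C.x 0 1 a' * C.x 1 2 b' * C.x 0 2 c')) * k' := by
        group
    _ = C.x 0 1 a * C.x 1 2 b * (C.x 0 2 c * C.x 0 1 a') * C.x 1 2 b' * C.x 0 2 c' * (k * k') := by
        rw [ck]; group
    _ = C.x 0 1 a * C.x 1 2 b * C.x 0 1 a' * (C.x 0 2 c * C.x 1 2 b') * C.x 0 2 c' * (k * k') := by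
        rw [h2]; group
    _ = C.x 0 1 a * (C.x 1 2 b * C.x 0 1 a') * C.x 1 2 b' * (C.x 0 2 c * C.x 0 2 c') * (k * k') := by
        rw [h3]; group
    _ = C.x 0 1 a * (C.x 0 1 a' * C.x 1 2 b * C.x 0 2 (a' * b)) *
        ((C.g (a' * (b * b)))⁻¹ * (C.x 1 2 b' * (C.x 0 2 c * C.x 0 2 c') * (k * k'))) := by
        rw [C.mul_swap hf]; group
    _ = (C.x 0 1 a * C.x 0 1 a') * C.x 1 2 b * (C.x 0 2 (a' * b) * C.x 1 2 b') *
        (C.x 0 2 c * C.x 0 2 c') * (k * k') * (C.g (a' * (b * b)))⁻¹ := by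
        rw [cg]; group
    _ = (C.x 0 1 a * C.x 0 1 a') * (C.x 1 2 b * C.x 1 2 b') * (C.x 0 2 (a' * b) *
        (C.x 0 2 c * C.x 0 2 c')) * (k * k' * (C.g (a' * (b * b)))⁻¹) := by
        rw [h3']; group
    _ = _ := by
        rw [C.x_add 0 1 (by decide), C.x_add 1 2 (by decide), C.x_add 0 2 (by decide),
          C.x_add 0 2 (by decide), add_assoc (a' * b)]

theorem nf_inv (hf : ∀ s, C.f s = 1) (a b c : F4) (k : M) (hk : π k = 1) :
    (C.nf a b c k)⁻¹ = C.nf a b (a * b + c) (k⁻¹ * C.g (a * (b * b))) := by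
  apply inv_eq_of_mul_eq_one_right
  have hk2 : π (k⁻¹ * C.g (a * (b * b))) = 1 := by
    rw [map_mul, map_inv, hk, C.g_map, inv_one, one_mul]
  rw [C.nf_mul hf _ _ _ _ _ _ _ _ hk hk2]
  have e1 : a + a = 0 := add_self a
  have e2 : b + b = 0 := add_self b
  have e3 : a * b + c + (a * b + c) = 0 := add_self _
  rw [e1, e2, e3]
  unfold nf
  rw [C.x_zero 0 1 (by decide), C.x_zero 1 2 (by decide), C.x_zero 0 2 (by decide)]
  group

theorem nf_inj {a b c a' b' c' : F4} {k k' : M} (hk : π k = 1) (hk' : π k' = 1)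
    (h : C.nf a b c k = C.nf a' b' c' k') : a = a' ∧ b = b' ∧ c = c' ∧ k = k' := by
  have h1 := congrArg π h
  rw [C.map_nf _ _ _ _ hk, C.map_nf _ _ _ _ hk'] at h1
  obtain ⟨ea, eb, ec⟩ := t_inj h1
  subst ea eb ec
  exact ⟨rfl, rfl, rfl, mul_left_cancel h⟩

/-- the subgroup of the unitriangular elements times a central subgroup -/
noncomputable def W (hf : ∀ s, C.f s = 1) (A : Subgroup M) (hA : A ≤ π.ker) (hg : ∀ s, C.g s ∈ A) :
    Subgroup M where
  carrier := {m | ∃ (a b c : F4) (k : M), k ∈ A ∧ m = C.nf a b c k}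
  mul_mem' := by
    rintro _ _ ⟨a, b, c, k, hk, rfl⟩ ⟨a', b', c', k', hk', rfl⟩
    refine ⟨_, _, _, _, ?_, C.nf_mul hf _ _ _ _ _ _ _ _ (hA hk) (hA hk')⟩
    exact A.mul_mem (A.mul_mem hk hk') (A.inv_mem (hg _))
  one_mem' := by
    refine ⟨0, 0, 0, 1, A.one_mem, ?_⟩
    unfold nf
    rw [C.x_zero 0 1 (by decide), C.x_zero 1 2 (by decide), C.x_zero 0 2 (by decide)]
    group
  inv_mem' := by
    rintro _ ⟨a, b, c, k, hk, rfl⟩
    exact ⟨_, _, _, _, A.mul_mem (A.inv_mem hk) (hg _), C.nf_inv hf _ _ _ _ (hA hk)⟩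

theorem card_W (hf : ∀ s, C.f s = 1) (A : Subgroup M) (hA : A ≤ π.ker) (hg : ∀ s, C.g s ∈ A) :
    Nat.card (C.W hf A hA hg) = 64 * Nat.card A := by
  have e : Nat.card (C.W hf A hA hg) = Nat.card (F4 × F4 × F4 × A) := by
    symm
    apply Nat.card_congr
    refine Equiv.ofBijective (fun p => ⟨C.nf p.1 p.2.1 p.2.2.1 p.2.2.2.1,
      ⟨p.1, p.2.1, p.2.2.1, p.2.2.2.1, p.2.2.2.2, rfl⟩⟩) ⟨?_, ?_⟩
    · rintro ⟨a, b, c, k, hk⟩ ⟨a', b', c', k', hk'⟩ h
      have h' := congrArg Subtype.val h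
      obtain ⟨h1, h2, h3, h4⟩ := C.nf_inj (hA hk) (hA hk') h'
      simp only [Prod.mk.injEq, Subtype.mk.injEq]
      exact ⟨h1, h2, h3, h4⟩
    · rintro ⟨_, a, b, c, k, hk, rfl⟩
      exact ⟨⟨a, b, c, k, hk⟩, rfl⟩
  rw [e, Nat.card_prod, Nat.card_prod, Nat.card_prod]
  have : Nat.card F4 = 4 := by rw [Nat.card_eq_fintype_card]; exact F4.card_eq
  rw [this]; ring

theorem card_M : Nat.card M = Nat.card π.ker * 20160 := by
  have h := Subgroup.card_mul_index π.ker
  rw [Subgroup.index_ker, MonoidHom.range_eq_top.mpr C.surj, Subgroup.card_top, card_PSL3] at h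
  exact h.symm

/-- the row form is not trivial -/
theorem exists_f_ne_one [Finite M] (hperf : commutator M = ⊤) (hker : Nat.card π.ker = 4)
    (z : M) (hz : π z = 1) (hz2 : z * z ≠ 1) : ∃ s, C.f s ≠ 1 := by
  by_contra hcon
  push Not at hcon
  have hg2 : ∀ s, C.g s * C.g s = 1 := fun s => by rw [C.g_sq, hcon]
  -- the subgroup of elements of the kernel of square one
  let A : Subgroup M :=
    { carrier := {k | π k = 1 ∧ k * k = 1}
      mul_mem' := by
        rintro a b ⟨ha, ha2⟩ ⟨hb, hb2⟩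
        refine ⟨by rw [map_mul, ha, hb, one_mul], ?_⟩
        have := C.cen a ha b
        calc a * b * (a * b) = a * (b * a) * b := by group
          _ = (a * a) * (b * b) := by rw [← this]; group
          _ = 1 := by rw [ha2, hb2, one_mul]
      one_mem' := ⟨map_one π, one_mul 1⟩
      inv_mem' := by
        rintro a ⟨ha, ha2⟩
        refine ⟨by rw [map_inv, ha, inv_one], ?_⟩
        have := congrArg (·⁻¹) ha2
        simpa using this }
  have hA : A ≤ π.ker := fun k hk => hk.1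
  have hgA : ∀ s, C.g s ∈ A := fun s => ⟨C.g_map s, hg2 s⟩
  have hgK : ∀ s, C.g s ∈ π.ker := fun s => C.g_map s
  have hAne : A ≠ π.ker := by
    intro e
    have : z ∈ A := by rw [e]; exact hz
    exact hz2 this.2
  have hz4 := C.exp z hz
  have hz2A : z * z ∈ A := by
    refine ⟨by rw [map_mul, hz, one_mul], ?_⟩
    rw [← hz4]; simp only [pow_succ, pow_zero, one_mul, mul_assoc]
  have hcA : Nat.card A = 2 := by
    have hdvd : Nat.card A ∣ 4 := hker ▸ Subgroup.card_dvd_of_le hA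
    have hlt : Nat.card A < 4 := by
      rcases Nat.lt_or_ge (Nat.card A) 4 with h | h
      · exact h
      · exact absurd (Subgroup.eq_of_le_of_card_ge hA (by rw [hker]; exact h)) hAne
    have h1 : Nat.card A ≠ 1 := by
      intro h
      have := Subgroup.card_eq_one.mp h
      rw [this] at hz2A
      exact hz2 hz2A
    have h0 : 0 < Nat.card A := Nat.card_pos
    have h3 : Nat.card A ≠ 3 := by
      intro h; rw [h] at hdvd; exact absurd hdvd (by decide)
    omega
  set P := C.W hcon π.ker le_rfl hgK with hP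
  set Q := C.W hcon A hA hgA with hQ
  have cP : Nat.card P = 256 := by rw [hP, C.card_W, hker]
  have cQ : Nat.card Q = 128 := by rw [hQ, C.card_W, hcA]
  have hQP : Q ≤ P := by
    rintro _ ⟨a, b, c, k, hk, rfl⟩
    exact ⟨a, b, c, k, hA hk, rfl⟩
  have hidx : P.index = 315 := by
    have h := Subgroup.card_mul_index P
    rw [cP, C.card_M, hker] at h
    omega
  have hrel : (Q.subgroupOf P).index = 2 := by
    have h := Subgroup.card_mul_index (Q.subgroupOf P)
    have h2 : Nat.card (Q.subgroupOf P) = 128 := by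
      rw [← cQ]
      exact Nat.card_congr (Subgroup.subgroupOfEquivOfLe hQP).toEquiv
    rw [h2, cP] at h
    omega
  have hzP : z ∈ P := by
    refine ⟨0, 0, 0, z, hz, ?_⟩
    unfold nf
    rw [C.x_zero 0 1 (by decide), C.x_zero 1 2 (by decide), C.x_zero 0 2 (by decide)]
    group
  have hzc : z ∈ Subgroup.center M := by
    rw [Subgroup.mem_center_iff]
    intro m
    exact (C.cen z hz m).symm
  refine Cfsg.Agent.ONType.Transfer.not_mem_commutator_of_index_two P (by rw [hidx]; decide)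
    (Q.subgroupOf P) hrel z hzP hzc ?_ (by rw [hperf]; exact Subgroup.mem_top z)
  intro hmem
  rw [Subgroup.mem_subgroupOf] at hmem
  obtain ⟨a, b, c, k, hk, e⟩ := hmem
  have e0 : C.nf 0 0 0 z = C.nf a b c k := by
    rw [← e]
    unfold nf
    rw [C.x_zero 0 1 (by decide), C.x_zero 1 2 (by decide), C.x_zero 0 2 (by decide)]
    group
  obtain ⟨-, -, -, h4⟩ := C.nf_inj hz (hA hk) e0
  exact hz2 (h4 ▸ hk.2)

end Cfsg.Agent.ONType.Lift.CExt
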