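import Cfsg.Agent.ONType.Nontriv

/-!
# Normalisation of the commutator form by a diagonal automorphism
-/

set_option autoImplicit false
set_option linter.constructorNameAsVariable false
set_option linter.unusedVariables false

namespace Cfsg.Agent.ONType.Norm

open Matrix
open Cfsg.Agent.SporadicA.FieldFour
open Cfsg.Agent.ONType.Psl
open Cfsg.Agent.ONType.PslCard
open Cfsg.Agent.ONType.Lift
open Cfsg.Agent.ONType.Comm

/-- conjugation by an invertible matrix on `SL(3,4)` -/
def slConj (g : (Matrix (Fin 3) (Fin 3) F4)ˣ) : SL3 ≃* SL3 where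
  toFun A := ⟨g.inv * A.1 * g.val, by
    have := Matrix.det_units_conj' g A.1
    rw [A.2] at this
    exact this⟩
  invFun A := ⟨g.val * A.1 * g.inv, by
    have := Matrix.det_units_conj g A.1
    rw [A.2] at this
    exact this⟩
  left_inv A := by
    apply Subtype.ext
    show g.val * (g.inv * A.1 * g.val) * g.inv = A.1
    rw [mul_assoc g.inv, ← mul_assoc g.val g.inv, g.val_inv, one_mul, mul_assoc, g.val_inv, mul_one]
  right_inv A := by
    apply Subtype.ext
    show g.inv * (g.val * A.1 * g.inv) * g.val = A.1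
    rw [mul_assoc g.val, ← mul_assoc g.inv g.val, g.inv_val, one_mul, mul_assoc, g.inv_val, mul_one]
  map_mul' A B := by
    apply Subtype.ext
    show g.inv * (A.1 * B.1) * g.val = (g.inv * A.1 * g.val) * (g.inv * B.1 * g.val)
    have : (g.inv * A.1 * g.val) * (g.inv * B.1 * g.val) =
      g.inv * A.1 * (g.val * g.inv) * B.1 * g.val := by
        simp only [mul_assoc]
    rw [this, g.val_inv, mul_one]
    simp only [mul_assoc]

/-- diagonal matrix `diag(1,1,d)` -/
def dm (d : F4) : Matrix (Fin 3) (Fin 3) F4 := fun i j =>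
  if i = j then (if i = 2 then d else 1) else 0

/-- the diagonal unit -/
def du (d : F4) (hd : d ≠ 0) : (Matrix (Fin 3) (Fin 3) F4)ˣ where
  val := dm d
  inv := dm (d * d)
  val_inv := by revert d; decide +kernel
  inv_val := by revert d; decide +kernel

/-- the diagonal automorphism of `PSL(3,4)` -/
noncomputable def δ (d : F4) (hd : d ≠ 0) : PSL3 ≃* PSL3 :=
  QuotientGroup.congr _ _ (slConj (du d hd)) (map_center_eq _)

/-- the character -/
def dch (i j : Fin 3) (d : F4) : F4 :=
  (if i = 2 then d * d else 1) * (if j = 2 then d else 1)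

theorem δ_t (d : F4) (hd : d ≠ 0) (i j : Fin 3) (hij : i ≠ j) (u : F4) :
    δ d hd (t i j u) = t i j (dch i j d * u) := by
  show (QuotientGroup.mk (slConj (du d hd) (T i j u)) : PSL3) = QuotientGroup.mk (T i j _)
  congr 1
  apply Subtype.ext
  show dm (d * d) * tm i j u * dm d = tm i j (dch i j d * u)
  revert i j u d; decide +kernel

theorem δ_h (d : F4) (hd : d ≠ 0) : δ d hd hh = hh := by
  show (QuotientGroup.mk (slConj (du d hd) H) : PSL3) = QuotientGroup.mk H
  congr 1
  apply Subtype.ext
  show dm (d * d) * hm * dm d = hm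
  revert d; decide +kernel

variable {M : Type*} [Group M] {π : M →* PSL3}

/-- the twisted extension -/
theorem twist (C : CExt π) (d : F4) (hd : d ≠ 0) : CExt ((δ d hd).toMonoidHom.comp π) where
  surj := (δ d hd).surjective.comp C.surj
  cen := by
    intro k hk
    apply C.cen
    have : δ d hd (π k) = 1 := hk
    rwa [map_eq_one_iff _ (δ d hd).injective] at this
  exp := by
    intro k hk
    apply C.exp
    have : δ d hd (π k) = 1 := hk
    rwa [map_eq_one_iff _ (δ d hd).injective] at this

theorem twist_h (C : CExt π) (d : F4) (hd : d ≠ 0) : (twist C d hd).h = C.h := by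
  apply C.eq_of_cube _ (twist C d hd).h_pow C.h_pow
  have h1 : δ d hd (π (twist C d hd).h) = hh := (twist C d hd).map_h
  rw [C.map_h]
  apply (δ d hd).injective
  rw [h1, δ_h]

theorem twist_x (C : CExt π) (d : F4) (hd : d ≠ 0) (i j : Fin 3) (hij : i ≠ j) (u : F4) :
    (twist C d hd).x i j (dch i j d * u) = C.x i j u := by
  have e1 : ((δ d hd).toMonoidHom.comp π) (C.l (t i j u)) = t i j (dch i j d * u) := by
    show δ d hd (π _) = _
    rw [C.l_spec, δ_t d hd i j hij]
  rw [(twist C d hd).x_eq hij e1, twist_h]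
  rfl

theorem twist_f (C : CExt π) (d : F4) (hd : d ≠ 0) (s : F4) :
    (twist C d hd).f (d * s) = C.f s := by
  have h1 := twist_x C d hd 0 1 (by decide) 1
  have h2 := twist_x C d hd 0 2 (by decide) s
  have e1 : dch 0 1 d * 1 = 1 := by
    have : ∀ d : F4, d ≠ 0 → dch 0 1 d * 1 = 1 := by decide
    exact this d hd
  have e2 : dch 0 2 d * s = d * s := by
    have : ∀ d s : F4, dch 0 2 d * s = d * s := by decide
    exact this d s
  rw [e1] at h1
  rw [e2] at h2
  show cm _ _ = cm _ _
  rw [h1, h2]

/-- kernel elements of order dividing two -/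
theorem f_cases (C : CExt π) {z : M} (hker : π.ker = Subgroup.zpowers z) (hz : orderOf z = 4) (s : F4) :
    C.f s = 1 ∨ C.f s = z * z := by
  have h1 : C.f s ∈ Subgroup.zpowers z := by rw [← hker]; exact C.f_map s
  obtain ⟨n, hn⟩ := Subgroup.mem_zpowers_iff.mp h1
  have h2 := C.f_sq s
  rw [← hn, ← _root_.zpow_add] at h2
  rw [← hn]
  have h3 : (4 : ℤ) ∣ n + n := by
    have := orderOf_dvd_iff_zpow_eq_one.mpr h2
    rwa [hz] at this
  have h4 : (2 : ℤ) ∣ n := by omega
  obtain ⟨k, hk⟩ := h4
  have hz4 : z ^ (4 : ℤ) = 1 := by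
    have h4 : z ^ 4 = 1 := by rw [← hz]; exact pow_orderOf_eq_one z
    exact_mod_cast h4
  rcases Int.even_or_odd k with ⟨m, hm⟩ | ⟨m, hm⟩
  · left
    have : n = 4 * m := by omega
    rw [this, _root_.zpow_mul, hz4, _root_.one_zpow]
  · right
    have : n = 4 * m + 2 := by omega
    rw [this, _root_.zpow_add, _root_.zpow_mul, hz4, _root_.one_zpow, one_mul]
    rw [show (2 : ℤ) = 1 + 1 by norm_num, _root_.zpow_add, _root_.zpow_one]

/-- NORMALISATION: after a diagonal automorphism the form is the trace form. -/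
theorem exists_normalized [Finite M] (C : CExt π) (hperf : commutator M = ⊤) {z : M}
    (hker : π.ker = Subgroup.zpowers z) (hz : orderOf z = 4) :
    ∃ (π' : M →* PSL3) (C' : CExt π'), π'.ker = π.ker ∧ C'.f 1 = 1 ∧ C'.f ω = z * z ∧
      C'.f ω2 = z * z := by
  have hcard : ∀ d hd, Nat.card ((δ d hd).toMonoidHom.comp π).ker = 4 ∧
      ((δ d hd).toMonoidHom.comp π).ker = π.ker := by
    intro d hd
    have : ((δ d hd).toMonoidHom.comp π).ker = π.ker := by
      ext k
      constructor
      · intro hk
        have : δ d hd (π k) = 1 := hk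
        rwa [map_eq_one_iff _ (δ d hd).injective] at this
      · intro hk
        have hk' : π k = 1 := hk
        show δ d hd (π k) = 1
        rw [hk', map_one]
    refine ⟨?_, this⟩
    rw [this, hker, Nat.card_zpowers, hz]
  have hzz : z * z ≠ 1 := by
    intro h
    have : orderOf z ∣ 2 := orderOf_dvd_of_pow_eq_one (by rw [pow_two, h])
    rw [hz] at this
    exact absurd this (by decide)
  have hzk : π z = 1 := by
    have : z ∈ π.ker := by rw [hker]; exact Subgroup.mem_zpowers z
    exact this
  -- choose r ≠ 0 with f r = 1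
  have hr : ∃ r : F4, r ≠ 0 ∧ C.f r = 1 := by
    by_contra hcon
    push Not at hcon
    have h1 := (f_cases C hker hz 1).resolve_left (hcon 1 (by decide))
    have h2 := (f_cases C hker hz ω).resolve_left (hcon ω (by decide))
    have h3 := hcon ω2 (by decide)
    apply h3
    have e : ω2 = 1 + ω := by decide
    rw [e, C.f_add, h1, h2]
    have hz4 : z ^ 4 = 1 := by rw [← hz]; exact pow_orderOf_eq_one z
    rw [← hz4]; simp only [pow_succ, pow_zero, one_mul, mul_assoc]
  obtain ⟨r, hr0, hr1⟩ := hr
  -- d * r = 1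
  have hd0 : r * r ≠ 0 := mul_ne_zero hr0 hr0
  have hdr : r * r * r = 1 := by
    have : ∀ r : F4, r ≠ 0 → r * r * r = 1 := by decide
    exact this r hr0
  obtain ⟨hc4, hkk⟩ := hcard (r * r) hd0
  set C' := twist C (r * r) hd0 with hC'
  have hf1 : C'.f 1 = 1 := by
    have := twist_f C (r * r) hd0 r
    rw [hdr] at this
    rw [hC', this, hr1]
  have hex := C'.exists_f_ne_one hperf hc4 z (by
    show δ _ _ (π z) = 1
    rw [hzk, map_one]) hzz
  have hker' : ((δ (r * r) hd0).toMonoidHom.comp π).ker = Subgroup.zpowers z := hkk.trans hker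
  have hω : C'.f ω ≠ 1 := by
    intro hw
    obtain ⟨s, hs⟩ := hex
    apply hs
    cases s
    · exact C'.f_zero
    · exact hf1
    · exact hw
    · have e : F4.v = 1 + ω := by decide
      rw [e, C'.f_add, hf1, hw, one_mul]
  have hω' : C'.f ω = z * z := (f_cases C' hker' hz ω).resolve_left hω
  refine ⟨_, C', hkk, hf1, hω', ?_⟩
  have e : ω2 = 1 + ω := by decide
  rw [e, C'.f_add, hf1, hω', one_mul]

end Cfsg.Agent.ONType.Norm
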