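import Mathlib
import Cfsg.Agent.ONType.CentX

set_option autoImplicit false
set_option linter.style.haveILetI false

/-! O'Nan type, part (C): the centraliser of a subgroup `P` of order 9 of the centraliser of an involution. -/

namespace Cfsg.Agent.ONType.OddCent

open Subgroup Cfsg
open Cfsg.Agent.J3Type.ExistsW (HD8)
open Cfsg.Agent.ONType.HDFacts Cfsg.Agent.ONType.QuotHD

/-- Hypotheses: `t` an involution, all involutions are conjugate, `P` a Sylow 3-subgroup of order 9 and exponent 3 of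
`C(t)`, `D` dihedral of order 8 with `t` central, `C(x) ∩ C(t) = P D` for `1 ≠ x ∈ P`, and an element `k` of `N(P)`
with `k²` inverting `P`. -/
structure Hyp {G : Type*} [Group G] (t : G) (P D : Subgroup G) (k : G) : Prop where
  ht : orderOf t = 2
  one : ∀ s : G, orderOf s = 2 → ∃ g, g * t * g⁻¹ = s
  cardP : Nat.card P = 9
  expP : ∀ p ∈ P, p ^ 3 = 1
  Pt : ∀ p ∈ P, p * t = t * p
  syl : ¬ 27 ∣ Nat.card (centralizer ({t} : Set G))
  tD : t ∈ D
  Dt : ∀ d ∈ D, d * t = t * d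
  dih : Nonempty (D ≃* DihedralGroup 4)
  DP : ∀ d ∈ D, ∀ p ∈ P, d * p = p * d
  cent : ∀ x ∈ P, x ≠ 1 → ∀ g : G, g * x = x * g → g * t = t * g → ∃ p ∈ P, ∃ d ∈ D, g = p * d
  kP : ∀ p ∈ P, k * p * k⁻¹ ∈ P
  kinv : ∀ p ∈ P, (k * k) * p * (k * k)⁻¹ = p⁻¹

/-- two subgroups of order `p ^ n` of a group are conjugate if `p ^ n` is the exact power dividing the order. -/
theorem exists_conj_of_card {G : Type*} [Group G] [Finite G] (A B : Subgroup G)
    (hA : Nat.card A = 9) (hB : Nat.card B = 9) (h27 : ¬ 27 ∣ Nat.card G) :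
    ∃ c : G, ∀ x : G, x ∈ A ↔ c⁻¹ * x * c ∈ B := by
  haveI : Fact (Nat.Prime 3) := ⟨Nat.prime_three⟩
  have hpos : Nat.card G ≠ 0 := Nat.card_pos.ne'
  have h9 : 3 ^ 2 ∣ Nat.card G := by
    rw [show (3 : ℕ) ^ 2 = 9 by norm_num, ← hA]; exact card_subgroup_dvd_card _
  have hfac : (Nat.card G).factorization 3 = 2 := by
    have h2 : 2 ≤ (Nat.card G).factorization 3 := (Nat.prime_three.pow_dvd_iff_le_factorization hpos).mp h9
    have h3 : ¬ 3 ≤ (Nat.card G).factorization 3 := by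
      intro h3
      apply h27
      have := (Nat.prime_three.pow_dvd_iff_le_factorization hpos).mpr h3
      norm_num at this
      exact this
    omega
  let S : Sylow 3 G := Sylow.ofCard A (by rw [hA, hfac]; norm_num)
  let T : Sylow 3 G := Sylow.ofCard B (by rw [hB, hfac]; norm_num)
  obtain ⟨c, hc⟩ := MulAction.exists_smul_eq G T S
  refine ⟨c, fun x => ?_⟩
  have h1 := AutSL2Mem.mem_smul_sylow T c x
  rw [hc] at h1
  exact h1

theorem conj_mem_iff {G : Type*} [Group G] [Finite G] (P : Subgroup G) {g : G}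
    (h : ∀ p ∈ P, g * p * g⁻¹ ∈ P) (x : G) : x ∈ P ↔ g * x * g⁻¹ ∈ P := by
  refine ⟨h x, fun hx => ?_⟩
  have h1 : P.map (MulAut.conj g).toMonoidHom ≤ P := by
    rintro _ ⟨p, hp, rfl⟩; exact h p hp
  have h2 : P.map (MulAut.conj g).toMonoidHom = P :=
    eq_of_le_of_card_ge h1 (card_map_of_injective (MulAut.conj g).injective).ge
  rw [← h2] at hx
  obtain ⟨p, hp, hpx⟩ := hx
  have : p = x := (MulAut.conj g).injective hpx
  rwa [← this]

section
variable {G : Type*} [Group G] [Finite G] {t : G} {P D : Subgroup G} {k : G}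

theorem Hyp.comm (h : Hyp t P D k) : ∀ p ∈ P, ∀ q ∈ P, p * q = q * p := by
  haveI : Fact (Nat.Prime 3) := ⟨Nat.prime_three⟩
  have h1 := IsPGroup.isMulCommutative_of_card_eq_prime_sq (p := 3) (G := P) (by rw [h.cardP]; norm_num)
  intro p hp q hq
  exact congrArg Subtype.val (h1.is_comm.comm (⟨p, hp⟩ : P) ⟨q, hq⟩)

/-- `X = C_G(P)` -/
def XX (P : Subgroup G) : Subgroup G := centralizer (P : Set G)

theorem mem_XX {P : Subgroup G} {g : G} : g ∈ XX P ↔ ∀ p ∈ P, g * p = p * g := by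
  rw [XX, mem_centralizer_iff]
  exact ⟨fun h p hp => (h p hp).symm, fun h p hp => (h p hp).symm⟩

theorem Hyp.P_le (h : Hyp t P D k) : P ≤ XX P := fun p hp => mem_XX.mpr (h.comm p hp)

theorem Hyp.D_le (h : Hyp t P D k) : D ≤ XX P := fun d hd => mem_XX.mpr (h.DP d hd)

theorem conj_mem_XX {P : Subgroup G} {g : G} (hg : ∀ p ∈ P, g * p * g⁻¹ ∈ P) {x : G} (hx : x ∈ XX P) :
    g⁻¹ * x * g ∈ XX P := by
  rw [mem_XX] at hx ⊢
  intro p hp
  have h1 := hx _ (hg p hp)
  calc g⁻¹ * x * g * p = g⁻¹ * (x * (g * p * g⁻¹)) * g := by group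
    _ = g⁻¹ * ((g * p * g⁻¹) * x) * g := by rw [h1]
    _ = p * (g⁻¹ * x * g) := by group

/-- every involution of `C(P)` is conjugate to `t` under the normaliser of `P`. -/
theorem Hyp.exists_norm (h : Hyp t P D k) {j : G} (hj : orderOf j = 2) (hjX : j ∈ XX P) :
    ∃ g : G, (∀ p ∈ P, g * p * g⁻¹ ∈ P) ∧ g * j * g⁻¹ = t := by
  obtain ⟨g, hg⟩ := h.one j hj
  -- P' = g⁻¹ P g ≤ C(t)
  let C := centralizer ({t} : Set G)
  have hPC : P ≤ C := fun p hp => mem_centralizer_singleton_iff.mpr (h.Pt p hp)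
  let P' : Subgroup G := P.map (MulAut.conj g⁻¹).toMonoidHom
  have hP'C : P' ≤ C := by
    rintro _ ⟨p, hp, rfl⟩
    show g⁻¹ * p * g⁻¹⁻¹ ∈ C
    rw [inv_inv]
    refine mem_centralizer_singleton_iff.mpr ?_
    have h1 := mem_XX.mp hjX p hp
    rw [← hg] at h1
    calc g⁻¹ * p * g * t = g⁻¹ * (p * (g * t * g⁻¹)) * g := by group
      _ = g⁻¹ * ((g * t * g⁻¹) * p) * g := by rw [h1]
      _ = t * (g⁻¹ * p * g) := by group
  have hP'card : Nat.card P' = 9 := by
    rw [← h.cardP]; exact card_map_of_injective (MulAut.conj g⁻¹).injective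
  obtain ⟨c, hc⟩ := exists_conj_of_card (P.subgroupOf C) (P'.subgroupOf C)
    (by rw [Nat.card_congr (subgroupOfEquivOfLe hPC).toEquiv, h.cardP])
    (by rw [Nat.card_congr (subgroupOfEquivOfLe hP'C).toEquiv, hP'card]) h.syl
  have hct : (c : G) * t = t * c := mem_centralizer_singleton_iff.mp c.2
  -- x ∈ P ↔ c⁻¹ x c ∈ P'
  have hP' : ∀ x : G, x ∈ P' ↔ g * x * g⁻¹ ∈ P := by
    intro x
    constructor
    · rintro ⟨p, hp, rfl⟩
      have : g * ((MulAut.conj g⁻¹).toMonoidHom p) * g⁻¹ = p := by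
        show g * (g⁻¹ * p * g⁻¹⁻¹) * g⁻¹ = p
        group
      rw [this]; exact hp
    · intro hx
      refine ⟨_, hx, ?_⟩
      show g⁻¹ * (g * x * g⁻¹) * g⁻¹⁻¹ = x
      group
  refine ⟨c * g⁻¹, ?_, ?_⟩
  · intro p hp
    -- p ∈ P, so g⁻¹ p g ∈ P', so c (g⁻¹ p g) c⁻¹ ∈ P
    have h1 : g⁻¹ * p * g ∈ P' := by
      rw [hP']
      have : g * (g⁻¹ * p * g) * g⁻¹ = p := by group
      rw [this]; exact hp
    have h1C := hP'C h1
    have h2 : (⟨g⁻¹ * p * g, h1C⟩ : C) ∈ P'.subgroupOf C := mem_subgroupOf.mpr h1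
    have h3 : c * ⟨g⁻¹ * p * g, h1C⟩ * c⁻¹ ∈ P.subgroupOf C := by
      rw [hc]
      have : c⁻¹ * (c * ⟨g⁻¹ * p * g, h1C⟩ * c⁻¹) * c = ⟨g⁻¹ * p * g, h1C⟩ := by group
      rw [this]; exact h2
    have h4 := mem_subgroupOf.mp h3
    have h5 : ((c * ⟨g⁻¹ * p * g, h1C⟩ * c⁻¹ : C) : G) = c * g⁻¹ * p * (c * g⁻¹)⁻¹ := by
      show (c : G) * (g⁻¹ * p * g) * (c : G)⁻¹ = _
      group
    rw [h5] at h4
    exact h4
  · rw [← hg]
    calc (c : G) * g⁻¹ * (g * t * g⁻¹) * (c * g⁻¹)⁻¹ = c * t * (c : G)⁻¹ := by group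
      _ = t * c * (c : G)⁻¹ := by rw [hct]
      _ = t := by group

theorem Hyp.normal (h : Hyp t P D k) : (P.subgroupOf (XX P)).Normal := by
  constructor
  intro n hn g
  have h1 : g * n * g⁻¹ = n := by
    apply Subtype.ext
    have := mem_XX.mp g.2 n (mem_subgroupOf.mp hn)
    show (g : G) * n * (g : G)⁻¹ = n
    rw [this]; group
  rw [h1]; exact hn

theorem Hyp.hPodd (h : Hyp t P D k) : Odd (Nat.card (P.subgroupOf (XX P))) := by
  rw [Nat.card_congr (subgroupOfEquivOfLe h.P_le).toEquiv, h.cardP]; decide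

theorem Hyp.hcen (h : Hyp t P D k) : ∀ p ∈ P.subgroupOf (XX P), ∀ g : XX P, g * p = p * g := by
  intro p hp g
  exact Subtype.ext (mem_XX.mp g.2 p (mem_subgroupOf.mp hp))

/-- centralisers of involutions in `X = C(P)` -/
theorem Hyp.exists_D (h : Hyp t P D k) {j : G} (hj : orderOf j = 2) (hjX : j ∈ XX P) :
    ∃ D' : Subgroup G, D' ≤ XX P ∧ Nonempty (D' ≃* DihedralGroup 4) ∧ (∀ d ∈ D', d * j = j * d) ∧
      ∀ x ∈ P, x ≠ 1 → ∀ c : G, c * x = x * c → c * j = j * c → ∃ p ∈ P, ∃ d ∈ D', c = p * d := by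
  obtain ⟨g, hgP, hgj⟩ := h.exists_norm hj hjX
  have hPiff := conj_mem_iff P hgP
  let D' : Subgroup G := D.map (MulAut.conj g⁻¹).toMonoidHom
  have hD' : ∀ x : G, x ∈ D' ↔ g * x * g⁻¹ ∈ D := by
    intro x
    constructor
    · rintro ⟨p, hp, rfl⟩
      have : g * ((MulAut.conj g⁻¹).toMonoidHom p) * g⁻¹ = p := by
        show g * (g⁻¹ * p * g⁻¹⁻¹) * g⁻¹ = p
        group
      rw [this]; exact hp
    · intro hx
      refine ⟨_, hx, ?_⟩
      show g⁻¹ * (g * x * g⁻¹) * g⁻¹⁻¹ = x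
      group
  have hjt : j = g⁻¹ * t * g := by rw [← hgj]; group
  refine ⟨D', ?_, ?_, ?_, ?_⟩
  · intro x hx
    rw [hD'] at hx
    have := conj_mem_XX hgP (h.D_le hx)
    have h2 : g⁻¹ * (g * x * g⁻¹) * g = x := by group
    rwa [h2] at this
  · obtain ⟨e⟩ := h.dih
    exact ⟨(D.equivMapOfInjective _ (MulAut.conj g⁻¹).injective).symm.trans e⟩
  · intro d hd
    rw [hD'] at hd
    have h1 := h.Dt _ hd
    rw [hjt]
    calc d * (g⁻¹ * t * g) = g⁻¹ * (g * d * g⁻¹ * t) * g := by group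
      _ = g⁻¹ * (t * (g * d * g⁻¹)) * g := by rw [h1]
      _ = g⁻¹ * t * g * d := by group
  · intro x hx hx1 c hcx hcj
    have h1 : g * c * g⁻¹ * (g * x * g⁻¹) = g * x * g⁻¹ * (g * c * g⁻¹) := by
      calc g * c * g⁻¹ * (g * x * g⁻¹) = g * (c * x) * g⁻¹ := by group
        _ = g * (x * c) * g⁻¹ := by rw [hcx]
        _ = g * x * g⁻¹ * (g * c * g⁻¹) := by group
    have h2 : g * c * g⁻¹ * t = t * (g * c * g⁻¹) := by
      rw [hjt] at hcj
      calc g * c * g⁻¹ * t = g * (c * (g⁻¹ * t * g)) * g⁻¹ := by group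
        _ = g * (g⁻¹ * t * g * c) * g⁻¹ := by rw [hcj]
        _ = t * (g * c * g⁻¹) := by group
    have hx1' : g * x * g⁻¹ ≠ 1 := by
      intro h3
      apply hx1
      calc x = g⁻¹ * (g * x * g⁻¹) * g := by group
        _ = 1 := by rw [h3]; group
    obtain ⟨p, hp, d, hd, hpd⟩ := h.cent _ (hgP x hx) hx1' _ h1 h2
    refine ⟨g⁻¹ * p * g, ?_, g⁻¹ * d * g, ?_, ?_⟩
    · rw [hPiff]
      have : g * (g⁻¹ * p * g) * g⁻¹ = p := by group
      rw [this]; exact hp
    · rw [hD']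
      have : g * (g⁻¹ * d * g) * g⁻¹ = d := by group
      rw [this]; exact hd
    · calc c = g⁻¹ * (g * c * g⁻¹) * g := by group
        _ = g⁻¹ * (p * d) * g := by rw [hpd]
        _ = g⁻¹ * p * g * (g⁻¹ * d * g) := by group

theorem Hyp.exists_ne (h : Hyp t P D k) : ∃ x ∈ P, x ≠ 1 := by
  by_contra hcon
  push Not at hcon
  have : P = ⊥ := by
    rw [eq_bot_iff]; intro x hx; exact mem_bot.mpr (hcon x hx)
  have h9 := h.cardP
  rw [this, card_bot] at h9
  omega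

theorem Hyp.hd8 (h : Hyp t P D k) :
    haveI := h.normal
    HD8 (XX P ⧸ P.subgroupOf (XX P)) := by
  haveI := h.normal
  apply QuotHD.hd8 _ h.hPodd h.hcen
  intro j hj
  obtain ⟨x, hx, hx1⟩ := h.exists_ne
  obtain ⟨D', hD'X, ⟨e⟩, hD'j, hD'c⟩ := h.exists_D (j := j) (by rw [orderOf_coe]; exact hj) j.2
  refine ⟨D'.subgroupOf (XX P), ⟨(subgroupOfEquivOfLe hD'X).trans e⟩, ?_, ?_⟩
  · intro d hd
    exact Subtype.ext (hD'j d (mem_subgroupOf.mp hd))
  · intro c hc
    obtain ⟨p, hp, d, hd, hpd⟩ := hD'c x hx hx1 c (mem_XX.mp c.2 x hx) (congrArg Subtype.val hc)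
    exact ⟨⟨p, h.P_le hp⟩, mem_subgroupOf.mpr hp, ⟨d, hD'X hd⟩, mem_subgroupOf.mpr hd, Subtype.ext hpd⟩

/-- all involutions of `C(P)` are conjugate in `C(P)` -/
theorem Hyp.isConj_XX (h : Hyp t P D k) {a b : G} (ha : orderOf a = 2) (haX : a ∈ XX P)
    (hb : orderOf b = 2) (hbX : b ∈ XX P) : ∃ g ∈ XX P, g * a * g⁻¹ = b := by
  haveI := h.normal
  obtain ⟨g, hg⟩ := CentX.isConj_lift _ h.hPodd h.hcen h.hd8
    (j := ⟨a, haX⟩) (r := ⟨b, hbX⟩) ((orderOf_mk a haX).trans ha) ((orderOf_mk b hbX).trans hb)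
  exact ⟨g, g.2, congrArg Subtype.val hg⟩

theorem Hyp.tX (h : Hyp t P D k) : t ∈ XX P := h.D_le h.tD

theorem HD8_of_equiv {Y Z : Type*} [Group Y] [Group Z] (e : Y ≃* Z) (hY : HD8 Y) : HD8 Z := by
  intro s hs
  obtain ⟨f⟩ := hY (e.symm s) (by rw [← hs]; exact MulEquiv.orderOf_eq e.symm s)
  refine ⟨MulEquiv.trans ?_ f⟩
  exact
    { toFun := fun c => ⟨e.symm c, by
        rw [mem_centralizer_singleton_iff, ← map_mul, ← map_mul]
        exact congrArg e.symm (mem_centralizer_singleton_iff.mp c.2)⟩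
      invFun := fun c => ⟨e c, by
        rw [mem_centralizer_singleton_iff]
        have := congrArg e (mem_centralizer_singleton_iff.mp c.2)
        rw [map_mul, map_mul, e.apply_symm_apply] at this
        exact this⟩
      left_inv := fun c => Subtype.ext (e.apply_symm_apply c)
      right_inv := fun c => Subtype.ext (e.symm_apply_apply c)
      map_mul' := fun a b => Subtype.ext (map_mul e.symm (a : Z) b) }

/-- `N_G(P) ∩ C_G(x) ≤ C_G(P)` for `1 ≠ x ∈ P`. -/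
theorem Hyp.norm_cent (h : Hyp t P D k) {x : G} (hx : x ∈ P) (hx1 : x ≠ 1) {g : G}
    (hgP : ∀ p ∈ P, g * p * g⁻¹ ∈ P) (hgx : g * x = x * g) : g ∈ XX P := by
  -- g t g⁻¹ is an involution of X
  have hPiff := conj_mem_iff P hgP
  have hgP' : ∀ p ∈ P, g⁻¹ * p * g⁻¹⁻¹ ∈ P := by
    intro p hp
    rw [hPiff]
    have : g * (g⁻¹ * p * g⁻¹⁻¹) * g⁻¹ = p := by group
    rw [this]; exact hp
  have h1 : g * t * g⁻¹ ∈ XX P := by
    have := conj_mem_XX hgP' h.tX
    rwa [inv_inv] at this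
  have h2 : orderOf (g * t * g⁻¹) = 2 := by
    rw [Cfsg.Agent.TwoFusion.StronglyEmbeddedBasic.orderOf_conj]; exact h.ht
  obtain ⟨y, hy, hyt⟩ := h.isConj_XX h2 h1 h.ht h.tX
  have h3 : y * g * t = t * (y * g) := by
    calc y * g * t = y * (g * t * g⁻¹) * y⁻¹ * (y * g) := by group
      _ = t * (y * g) := by rw [hyt]
  have h4 : y * g * x = x * (y * g) := by
    calc y * g * x = y * (g * x) := by group
      _ = y * (x * g) := by rw [hgx]
      _ = (y * x) * g := by group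
      _ = (x * y) * g := by rw [mem_XX.mp hy x hx]
      _ = x * (y * g) := by group
  obtain ⟨p, hp, d, hd, hpd⟩ := h.cent x hx hx1 _ h4 h3
  have h5 : y * g ∈ XX P := by rw [hpd]; exact mul_mem (h.P_le hp) (h.D_le hd)
  have h6 : g = y⁻¹ * (y * g) := by group
  rw [h6]; exact mul_mem (inv_mem hy) h5

/-- `C_G(x) = C_G(P)` for `1 ≠ x ∈ P`. -/
theorem Hyp.cent_eq (h : Hyp t P D k) {x : G} (hx : x ∈ P) (hx1 : x ≠ 1) {g : G}
    (hgx : g * x = x * g) : g ∈ XX P := by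
  haveI := h.normal
  let H := centralizer ({x} : Set G)
  have hXH : XX P ≤ H := fun y hy => mem_centralizer_singleton_iff.mpr (mem_XX.mp hy x hx)
  have hPH : P ≤ H := h.P_le.trans hXH
  have key : (XX P).subgroupOf H = ⊤ := by
    have hn : ((P.subgroupOf H).subgroupOf ((XX P).subgroupOf H)).Normal := by
      constructor
      intro n hn y
      have h1 : y * n * y⁻¹ = n := by
        apply Subtype.ext
        apply Subtype.ext
        have := mem_XX.mp (mem_subgroupOf.mp y.2) n (mem_subgroupOf.mp (mem_subgroupOf.mp hn))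
        show (y : G) * n * (y : G)⁻¹ = n
        rw [this]; group
      rw [h1]; exact hn
    let e : (XX P).subgroupOf H ≃* XX P := subgroupOfEquivOfLe hXH
    have hmap : ((P.subgroupOf H).subgroupOf ((XX P).subgroupOf H)).map (e : _ →* _) =
        P.subgroupOf (XX P) := by
      ext y
      constructor
      · rintro ⟨z, hz, rfl⟩
        exact mem_subgroupOf.mpr (mem_subgroupOf.mp (mem_subgroupOf.mp hz))
      · intro hy
        refine ⟨⟨⟨y, hXH y.2⟩, mem_subgroupOf.mpr y.2⟩, ?_, rfl⟩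
        exact mem_subgroupOf.mpr (mem_subgroupOf.mpr (mem_subgroupOf.mp hy))
    have hHD : HD8 (((XX P).subgroupOf H) ⧸ (P.subgroupOf H).subgroupOf ((XX P).subgroupOf H)) := by
      have e2 := QuotientGroup.congr ((P.subgroupOf H).subgroupOf ((XX P).subgroupOf H))
        (P.subgroupOf (XX P)) e hmap
      exact HD8_of_equiv e2.symm h.hd8
    refine CentX.eq_top (P.subgroupOf H) ((XX P).subgroupOf H) ⟨x, hPH hx⟩ ⟨t, hXH h.tX⟩
      (mem_subgroupOf.mpr hx) ?_ ?_ ?_ ?_ ?_ ?_ ((orderOf_mk _ _).trans h.ht) (mem_subgroupOf.mpr h.tX) ?_ ?_ hn hHD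
    · intro h1; exact hx1 (congrArg Subtype.val h1)
    · intro y
      exact Subtype.ext (mem_centralizer_singleton_iff.mp y.2)
    · rw [Nat.card_congr (subgroupOfEquivOfLe hPH).toEquiv, h.cardP]
    · intro p hp
      exact Subtype.ext (h.expP p (mem_subgroupOf.mp hp))
    · intro p hp
      exact mem_subgroupOf.mpr (h.P_le (mem_subgroupOf.mp hp))
    · intro y
      rw [mem_subgroupOf, mem_XX]
      constructor
      · intro h1 p hp
        exact Subtype.ext (h1 p (mem_subgroupOf.mp hp))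
      · intro h1 p hp
        exact congrArg Subtype.val (h1 ⟨p, hPH hp⟩ (mem_subgroupOf.mpr hp))
    · intro y hy
      rw [mem_subgroupOf]
      obtain ⟨p, hp, d, hd, hpd⟩ := h.cent x hx hx1 y (mem_centralizer_singleton_iff.mp y.2)
        (congrArg Subtype.val hy)
      rw [hpd]; exact mul_mem (h.P_le hp) (h.D_le hd)
    · intro y hy
      rw [mem_subgroupOf]
      apply h.norm_cent hx hx1 _ (mem_centralizer_singleton_iff.mp y.2)
      intro p hp
      exact mem_subgroupOf.mp (hy ⟨p, hPH hp⟩ (mem_subgroupOf.mpr hp))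
  have h1 : (⟨g, mem_centralizer_singleton_iff.mpr hgx⟩ : H) ∈ (XX P).subgroupOf H := by
    rw [key]; exact mem_top _
  exact mem_subgroupOf.mp h1

end

end Cfsg.Agent.ONType.OddCent
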