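import Mathlib
import Cfsg.Agent.ONType.OddCent

set_option autoImplicit false
set_option linter.style.haveILetI false
set_option linter.unusedSectionVars false

/-! O'Nan type, part (C): `|C(P) / P|` is not 168. -/

namespace Cfsg.Agent.ONType.OddCent

open Subgroup Cfsg
open Cfsg.Agent.J3Type.ExistsW (HD8)
open Cfsg.Agent.ONType.HDFacts Cfsg.Agent.ONType.QuotHD

/-- two subgroups of order `p ^ n` of a group are conjugate if `p ^ n` is the exact power dividing the order. -/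
theorem exists_conj_of_card_pow {G : Type*} [Group G] [Finite G] {p n : ℕ} (hp : p.Prime) (A B : Subgroup G)
    (hA : Nat.card A = p ^ n) (hB : Nat.card B = p ^ n) (hn : ¬ p ^ (n + 1) ∣ Nat.card G) :
    ∃ c : G, ∀ x : G, x ∈ A ↔ c⁻¹ * x * c ∈ B := by
  haveI : Fact p.Prime := ⟨hp⟩
  have hpos : Nat.card G ≠ 0 := Nat.card_pos.ne'
  have h9 : p ^ n ∣ Nat.card G := by
    rw [← hA]; exact card_subgroup_dvd_card _
  have hfac : (Nat.card G).factorization p = n := by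
    have h2 : n ≤ (Nat.card G).factorization p := (hp.pow_dvd_iff_le_factorization hpos).mp h9
    have h3 : ¬ n + 1 ≤ (Nat.card G).factorization p := by
      intro h3
      exact hn ((hp.pow_dvd_iff_le_factorization hpos).mpr h3)
    omega
  let S : Sylow p G := Sylow.ofCard A (by rw [hA, hfac])
  let T : Sylow p G := Sylow.ofCard B (by rw [hB, hfac])
  obtain ⟨c, hc⟩ := MulAction.exists_smul_eq G T S
  refine ⟨c, fun x => ?_⟩
  have h1 := AutSL2Mem.mem_smul_sylow T c x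
  rw [hc] at h1
  exact h1

/-- a `p`-subgroup is contained in a conjugate of a subgroup of order the full power of `p` -/
theorem exists_conj_le {G : Type*} [Group G] [Finite G] {p n m : ℕ} (hp : p.Prime) (A B : Subgroup G)
    (hA : Nat.card A = p ^ m) (hB : Nat.card B = p ^ n) (hn : ¬ p ^ (n + 1) ∣ Nat.card G) :
    ∃ c : G, ∀ x ∈ A, c⁻¹ * x * c ∈ B := by
  haveI : Fact p.Prime := ⟨hp⟩
  obtain ⟨S, hS⟩ := (IsPGroup.of_card hA).exists_le_sylow
  have hpos : Nat.card G ≠ 0 := Nat.card_pos.ne'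
  have h9 : p ^ n ∣ Nat.card G := by
    rw [← hB]; exact card_subgroup_dvd_card _
  have hfac : (Nat.card G).factorization p = n := by
    have h2 : n ≤ (Nat.card G).factorization p := (hp.pow_dvd_iff_le_factorization hpos).mp h9
    have h3 : ¬ n + 1 ≤ (Nat.card G).factorization p := by
      intro h3
      exact hn ((hp.pow_dvd_iff_le_factorization hpos).mpr h3)
    omega
  obtain ⟨c, hc⟩ := exists_conj_of_card_pow hp (S : Subgroup G) B
    (by rw [S.card_eq_multiplicity, hfac]) hB hn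
  exact ⟨c, fun x hx => (hc x).mp (hS hx)⟩

section
variable {G : Type*} [Group G] [Finite G] {t : G} {P D : Subgroup G} {k : G}

/-- elements of odd order of `C(P)` commuting with an involution of `C(P)` lie in `P` -/
theorem Hyp.mem_P_of_comm (h : Hyp t P D k) {j e : G} (hj : orderOf j = 2) (hjX : j ∈ XX P)
    (heX : e ∈ XX P) {m : ℕ} (hm : Odd m) (hem : e ^ m = 1) (hej : e * j = j * e) : e ∈ P := by
  obtain ⟨x, hx, hx1⟩ := h.exists_ne
  obtain ⟨D', hD'X, ⟨f⟩, hD'j, hD'c⟩ := h.exists_D hj hjX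
  obtain ⟨p, hp, d, hd, hpd⟩ := hD'c x hx hx1 e (mem_XX.mp heX x hx) hej
  have hcm : Commute p d := (mem_XX.mp (hD'X hd) p hp).symm
  have h1 : d ^ (3 * m) = 1 := by
    have h2 : e ^ (3 * m) = 1 := by rw [mul_comm, pow_mul, hem, one_pow]
    rw [hpd, hcm.mul_pow, pow_mul, h.expP p hp, one_pow, one_mul] at h2
    exact h2
  have h3 : d ^ 8 = 1 := by
    have := pow_card_eq_one' (G := D') (x := ⟨d, hd⟩)
    rw [Nat.card_congr f.toEquiv, DihedralGroup.nat_card] at this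
    exact congrArg Subtype.val this
  have hodd : Odd (3 * m) := Odd.mul (by decide) hm
  have hco : Nat.Coprime (3 * m) 8 := by
    have : Nat.Coprime (3 * m) 2 := hodd.coprime_two_right
    exact Nat.Coprime.pow_right 3 this
  have h5 : orderOf d ∣ 1 := by
    rw [← hco.gcd_eq_one]
    exact Nat.dvd_gcd (orderOf_dvd_of_pow_eq_one h1) (orderOf_dvd_of_pow_eq_one h3)
  have h6 : d = 1 := by rw [← orderOf_eq_one_iff]; exact Nat.dvd_one.mp h5
  rw [hpd, h6, mul_one]; exact hp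

/-- normal 3-subgroup `P` lies in every Sylow 3-subgroup of `C(P)`. -/
theorem Hyp.P_le_of_card (h : Hyp t P D k) (T : Subgroup G) (hTX : T ≤ XX P) {n : ℕ}
    (hT : Nat.card T = 3 ^ n) (hn : ¬ 3 ^ (n + 1) ∣ Nat.card (XX P)) : P ≤ T := by
  obtain ⟨c, hc⟩ := exists_conj_le Nat.prime_three (P.subgroupOf (XX P)) (T.subgroupOf (XX P))
    (m := 2) (n := n)
    (by rw [Nat.card_congr (subgroupOfEquivOfLe h.P_le).toEquiv, h.cardP]; norm_num)
    (by rw [Nat.card_congr (subgroupOfEquivOfLe hTX).toEquiv, hT]) hn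
  intro p hp
  have h1 := hc ⟨p, h.P_le hp⟩ (mem_subgroupOf.mpr hp)
  have h2 : c⁻¹ * ⟨p, h.P_le hp⟩ * c = ⟨p, h.P_le hp⟩ := by
    rw [mul_assoc, ← h.hcen ⟨p, h.P_le hp⟩ (mem_subgroupOf.mpr hp) c]
    group
  rw [h2] at h1
  exact mem_subgroupOf.mp h1

/-- Frattini: an element of `N(P)` can be modified by an element of `C(P)` to normalise `T`. -/
theorem Hyp.frattini (h : Hyp t P D k) (T : Subgroup G) (hTX : T ≤ XX P) {n : ℕ}
    (hT : Nat.card T = 3 ^ n) (hn : ¬ 3 ^ (n + 1) ∣ Nat.card (XX P)) {g : G}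
    (hg : ∀ p ∈ P, g * p * g⁻¹ ∈ P) : ∃ y ∈ XX P, ∀ s ∈ T, (y * g) * s * (y * g)⁻¹ ∈ T := by
  have hgiff := conj_mem_iff P hg
  have hg' : ∀ p ∈ P, g⁻¹ * p * g⁻¹⁻¹ ∈ P := by
    intro p hp
    rw [hgiff]
    have : g * (g⁻¹ * p * g⁻¹⁻¹) * g⁻¹ = p := by group
    rw [this]; exact hp
  let T' : Subgroup G := T.map (MulAut.conj g).toMonoidHom
  have hT'X : T' ≤ XX P := by
    rintro _ ⟨s, hs, rfl⟩
    have := conj_mem_XX hg' (hTX hs)
    rw [inv_inv] at this
    exact this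
  obtain ⟨c, hc⟩ := exists_conj_of_card_pow Nat.prime_three (T'.subgroupOf (XX P)) (T.subgroupOf (XX P))
    (n := n)
    (by rw [Nat.card_congr (subgroupOfEquivOfLe hT'X).toEquiv,
          show Nat.card T' = Nat.card T from card_map_of_injective (MulAut.conj g).injective, hT])
    (by rw [Nat.card_congr (subgroupOfEquivOfLe hTX).toEquiv, hT]) hn
  refine ⟨(c : G)⁻¹, inv_mem c.2, ?_⟩
  intro s hs
  have h1 : g * s * g⁻¹ ∈ T' := ⟨s, hs, rfl⟩
  have h2 := (hc ⟨g * s * g⁻¹, hT'X h1⟩).mp (mem_subgroupOf.mpr h1)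
  have h3 := mem_subgroupOf.mp h2
  have h4 : ((c⁻¹ * ⟨g * s * g⁻¹, hT'X h1⟩ * c : XX P) : G) = (c : G)⁻¹ * g * s * ((c : G)⁻¹ * g)⁻¹ := by
    show (c : G)⁻¹ * (g * s * g⁻¹) * c = _
    group
  rw [h4] at h3
  exact h3

theorem Hyp.card_XX (h : Hyp t P D k) : haveI := h.normal
    Nat.card (XX P) = Nat.card (XX P ⧸ P.subgroupOf (XX P)) * 9 := by
  haveI := h.normal
  rw [Subgroup.card_eq_card_quotient_mul_card_subgroup (P.subgroupOf (XX P)),
    Nat.card_congr (subgroupOfEquivOfLe h.P_le).toEquiv, h.cardP]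

theorem Hyp.card_XX' (h : Hyp t P D k) : Nat.card (XX P) = 1512 ∨ Nat.card (XX P) = 3240 := by
  haveI := h.normal
  have hs : orderOf (QuotientGroup.mk (⟨t, h.tX⟩ : XX P) : XX P ⧸ P.subgroupOf (XX P)) = 2 :=
    CentX.orderOf_mk_eq _ h.hPodd ((orderOf_mk _ _).trans h.ht)
  have h1 := HD8.card_eq h.hd8 hs
  have h2 := h.card_XX
  rcases h1 with h1 | h1
  · left; rw [h2, h1]
  · right; rw [h2, h1]

theorem Hyp.eq_one_of_inv (h : Hyp t P D k) {p : G} (hp : p ∈ P) (h1 : p = p⁻¹) : p = 1 := by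
  have h2 : p * p = 1 := by
    nth_rewrite 2 [h1]; group
  calc p = (p * p) * (p * p) * (p ^ 3)⁻¹ := by group
    _ = 1 := by rw [h2, h.expP p hp]; group

/-- power of an element inverting `P` -/
theorem pow_inv {P : Subgroup G} {z : G} (hz : ∀ p ∈ P, z * p * z⁻¹ = p⁻¹) {m : ℕ} (hm : Odd m) :
    ∀ p ∈ P, z ^ m * p * (z ^ m)⁻¹ = p⁻¹ := by
  obtain ⟨n, rfl⟩ := hm
  have h2 : ∀ n : ℕ, ∀ p ∈ P, z ^ (2 * n) * p * (z ^ (2 * n))⁻¹ = p := by
    intro n
    induction n with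
    | zero => intro p _; simp
    | succ n ih =>
      intro p hp
      have e : z ^ (2 * (n + 1)) = z * (z * z ^ (2 * n)) := by
        rw [show 2 * (n + 1) = (2 * n + 1) + 1 by ring, pow_succ', pow_succ']
      rw [e]
      calc z * (z * z ^ (2 * n)) * p * (z * (z * z ^ (2 * n)))⁻¹
          = z * (z * (z ^ (2 * n) * p * (z ^ (2 * n))⁻¹) * z⁻¹) * z⁻¹ := by group
        _ = z * (z * p * z⁻¹) * z⁻¹ := by rw [ih p hp]
        _ = z * p⁻¹ * z⁻¹ := by rw [hz p hp]
        _ = p := by rw [hz _ (P.inv_mem hp), inv_inv]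
  intro p hp
  rw [pow_succ']
  calc z * z ^ (2 * n) * p * (z * z ^ (2 * n))⁻¹
      = z * (z ^ (2 * n) * p * (z ^ (2 * n))⁻¹) * z⁻¹ := by group
    _ = p⁻¹ := by rw [h2 n p hp, hz p hp]

theorem Hyp.not_168 (h : Hyp t P D k) : Nat.card (XX P) ≠ 1512 := by
  intro hX
  haveI : Fact (Nat.Prime 3) := ⟨Nat.prime_three⟩
  haveI : Fact (Nat.Prime 2) := ⟨Nat.prime_two⟩
  have hnd : ¬ 3 ^ (3 + 1) ∣ Nat.card (XX P) := by rw [hX]; norm_num
  have hd : 3 ^ 3 ∣ Nat.card (XX P) := by rw [hX]; norm_num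
  obtain ⟨T0, hT0⟩ := Sylow.exists_subgroup_card_pow_prime 3 hd
  let T : Subgroup G := T0.map (XX P).subtype
  have hTX : T ≤ XX P := map_subtype_le _
  have hT : Nat.card T = 3 ^ 3 := by
    rw [← hT0]; exact card_map_of_injective (XX P).subtype_injective
  have hPT : P ≤ T := h.P_le_of_card T hTX hT hnd
  have hcenT : ∀ p ∈ P, ∀ s ∈ T, s * p = p * s := fun p hp s hs => mem_XX.mp (hTX hs) p hp
  -- T/P has order 3
  have hPTn : (P.subgroupOf T).Normal := by
    constructor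
    intro n hn g
    have h1 : g * n * g⁻¹ = n := by
      apply Subtype.ext
      have := hcenT n (mem_subgroupOf.mp hn) g g.2
      show (g : G) * n * (g : G)⁻¹ = n
      rw [this]; group
    rw [h1]; exact hn
  have hq3 : Nat.card (T ⧸ P.subgroupOf T) = 3 := by
    have h1 := Subgroup.card_eq_card_quotient_mul_card_subgroup (P.subgroupOf T)
    rw [Nat.card_congr (subgroupOfEquivOfLe hPT).toEquiv, h.cardP, hT] at h1
    omega
  have hcyc : IsCyclic (T ⧸ P.subgroupOf T) := isCyclic_of_prime_card hq3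
  have hTc : ∀ a ∈ T, ∀ b ∈ T, a * b = b * a := by
    have h1 := MonoidHom.isMulCommutative_of_isCyclic_of_ker_le_center (QuotientGroup.mk' (P.subgroupOf T))
      (by
        rw [QuotientGroup.ker_mk']
        intro p hp
        rw [mem_center_iff]
        intro g
        exact Subtype.ext (hcenT p (mem_subgroupOf.mp hp) g g.2))
    intro a ha b hb
    exact congrArg Subtype.val (h1.is_comm.comm (⟨a, ha⟩ : T) ⟨b, hb⟩)
  obtain ⟨e₀, he₀T, he₀P⟩ : ∃ e ∈ T, e ∉ P := by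
    by_contra hcon
    push Not at hcon
    have := card_le_of_le (show T ≤ P from hcon)
    rw [hT, h.cardP] at this
    omega
  -- every element of T is in P, e₀ P or e₀⁻¹ P
  have htri : ∀ y ∈ T, y ∈ P ∨ e₀⁻¹ * y ∈ P ∨ e₀ * y ∈ P := by
    intro y hy
    have hne : (QuotientGroup.mk (⟨e₀, he₀T⟩ : T) : T ⧸ P.subgroupOf T) ≠ 1 := by
      intro h1
      exact he₀P (mem_subgroupOf.mp ((QuotientGroup.eq_one_iff _).mp h1))
    have hmem := mem_zpowers_of_prime_card (p := 3) hq3 hne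
      (g' := (QuotientGroup.mk (⟨y, hy⟩ : T) : T ⧸ P.subgroupOf T))
    rw [← mem_powers_iff_mem_zpowers, Submonoid.mem_powers_iff] at hmem
    obtain ⟨n, hn⟩ := hmem
    have h3 : (QuotientGroup.mk (⟨e₀, he₀T⟩ : T) : T ⧸ P.subgroupOf T) ^ 3 = 1 := by
      rw [← hq3]; exact pow_card_eq_one'
    have hmod : (QuotientGroup.mk (⟨e₀, he₀T⟩ : T) : T ⧸ P.subgroupOf T) ^ (n % 3) =
        QuotientGroup.mk (⟨y, hy⟩ : T) := by
      rw [← hn]
      conv_rhs => rw [← Nat.div_add_mod n 3, pow_add, pow_mul, h3, one_pow, one_mul]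
    have hlt : n % 3 < 3 := Nat.mod_lt _ (by norm_num)
    have hcases : n % 3 = 0 ∨ n % 3 = 1 ∨ n % 3 = 2 := by omega
    rcases hcases with h0 | h0 | h0
    · left
      rw [h0, pow_zero] at hmod
      exact mem_subgroupOf.mp ((QuotientGroup.eq_one_iff _).mp hmod.symm)
    · right; left
      rw [h0, pow_one, QuotientGroup.eq] at hmod
      exact mem_subgroupOf.mp hmod
    · right; right
      rw [h0] at hmod
      have h4 : (QuotientGroup.mk (⟨e₀, he₀T⟩ * ⟨y, hy⟩ : T) : T ⧸ P.subgroupOf T) = 1 := by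
        rw [QuotientGroup.mk_mul, ← hmod, ← pow_succ']
        exact h3
      exact mem_subgroupOf.mp ((QuotientGroup.eq_one_iff _).mp h4)
  -- Frattini
  obtain ⟨x₁, hx₁, ha⟩ := h.frattini T hTX hT hnd h.kP
  set a := x₁ * k with hadef
  have haP : ∀ p ∈ P, a * p * a⁻¹ = k * p * k⁻¹ := by
    intro p hp
    have := mem_XX.mp hx₁ _ (h.kP p hp)
    calc a * p * a⁻¹ = x₁ * (k * p * k⁻¹) * x₁⁻¹ := by rw [hadef]; group
      _ = k * p * k⁻¹ := by rw [this]; group
  have haP' : ∀ p ∈ P, a * p * a⁻¹ ∈ P := fun p hp => by rw [haP p hp]; exact h.kP p hp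
  have haPiff := conj_mem_iff P haP'
  set z := a * a with hzdef
  have hzinv : ∀ p ∈ P, z * p * z⁻¹ = p⁻¹ := by
    intro p hp
    calc z * p * z⁻¹ = a * (a * p * a⁻¹) * a⁻¹ := by rw [hzdef]; group
      _ = a * (k * p * k⁻¹) * a⁻¹ := by rw [haP p hp]
      _ = k * (k * p * k⁻¹) * k⁻¹ := haP _ (h.kP p hp)
      _ = (k * k) * p * (k * k)⁻¹ := by group
      _ = p⁻¹ := h.kinv p hp
  have hze : ∃ q ∈ P, z * e₀ * z⁻¹ = e₀ * q := by
    have h1 : a * e₀ * a⁻¹ ∈ T := ha e₀ he₀T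
    have h2 : a * e₀ * a⁻¹ ∉ P := fun h2 => he₀P ((haPiff e₀).mpr h2)
    rcases htri _ h1 with h3 | h3 | h3
    · exact absurd h3 h2
    · refine ⟨(e₀⁻¹ * (a * e₀ * a⁻¹)) * (a * (e₀⁻¹ * (a * e₀ * a⁻¹)) * a⁻¹),
        P.mul_mem h3 (haP' _ h3), ?_⟩
      rw [hzdef]; group
    · set q := e₀ * (a * e₀ * a⁻¹) with hq
      have h4 : a * e₀ * a⁻¹ = e₀⁻¹ * q := by rw [hq]; group
      refine ⟨q⁻¹ * (a * q * a⁻¹), P.mul_mem (P.inv_mem h3) (haP' _ h3), ?_⟩
      have h5 : e₀ * q⁻¹ = q⁻¹ * e₀ := hcenT _ (P.inv_mem h3) e₀ he₀T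
      calc z * e₀ * z⁻¹ = a * (a * e₀ * a⁻¹) * a⁻¹ := by rw [hzdef]; group
        _ = a * (e₀⁻¹ * q) * a⁻¹ := by rw [h4]
        _ = (a * e₀ * a⁻¹)⁻¹ * (a * q * a⁻¹) := by group
        _ = (e₀⁻¹ * q)⁻¹ * (a * q * a⁻¹) := by rw [h4]
        _ = q⁻¹ * e₀ * (a * q * a⁻¹) := by group
        _ = e₀ * q⁻¹ * (a * q * a⁻¹) := by rw [h5]
        _ = e₀ * (q⁻¹ * (a * q * a⁻¹)) := by group
  have hzpow : ∀ n : ℕ, ∃ q ∈ P, z ^ n * e₀ * (z ^ n)⁻¹ = e₀ * q := by
    intro n
    induction n with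
    | zero => exact ⟨1, P.one_mem, by simp⟩
    | succ n ih =>
      obtain ⟨q, hq, hq2⟩ := ih
      obtain ⟨r, hr, hr2⟩ := hze
      refine ⟨r * q⁻¹, P.mul_mem hr (P.inv_mem hq), ?_⟩
      rw [pow_succ']
      calc z * z ^ n * e₀ * (z * z ^ n)⁻¹ = z * (z ^ n * e₀ * (z ^ n)⁻¹) * z⁻¹ := by group
        _ = z * (e₀ * q) * z⁻¹ := by rw [hq2]
        _ = (z * e₀ * z⁻¹) * (z * q * z⁻¹) := by group
        _ = e₀ * r * q⁻¹ := by rw [hr2, hzinv q hq]
        _ = e₀ * (r * q⁻¹) := by group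
  -- the 2-part of z
  obtain ⟨b, m, hmodd, hbm⟩ := Nat.exists_eq_two_pow_mul_odd (n := orderOf z) (orderOf_pos z).ne'
  set y := z ^ m with hydef
  have hy2b : y ^ (2 ^ b) = 1 := by
    rw [hydef, ← pow_mul, mul_comm, ← hbm]; exact pow_orderOf_eq_one z
  have hyinv : ∀ p ∈ P, y * p * y⁻¹ = p⁻¹ := pow_inv hzinv hmodd
  obtain ⟨p₀, hp₀, hye⟩ := hzpow m
  rw [← hydef] at hye
  set e := e₀ * (p₀ * p₀) with hedef
  have heT : e ∈ T := T.mul_mem he₀T (hPT (P.mul_mem hp₀ hp₀))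
  have heP : e ∉ P := by
    intro h1
    apply he₀P
    have : e₀ = e * (p₀ * p₀)⁻¹ := by rw [hedef]; group
    rw [this]; exact P.mul_mem h1 (P.inv_mem (P.mul_mem hp₀ hp₀))
  have heX : e ∈ XX P := hTX heT
  have hyec : y * e * y⁻¹ = e := by
    calc y * e * y⁻¹ = (y * e₀ * y⁻¹) * (y * p₀ * y⁻¹) * (y * p₀ * y⁻¹) := by rw [hedef]; group
      _ = e₀ * p₀ * p₀⁻¹ * p₀⁻¹ := by rw [hye, hyinv p₀ hp₀]
      _ = e₀ * (p₀ * p₀) * (p₀ ^ 3)⁻¹ := by group
      _ = e := by rw [h.expP p₀ hp₀, inv_one, mul_one]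
  have hey : e * y = y * e := by
    calc e * y = y * e * y⁻¹ * y := by rw [hyec]
      _ = y * e := by group
  have he27 : e ^ 27 = 1 := by
    have := pow_card_eq_one' (G := T) (x := ⟨e, heT⟩)
    rw [hT] at this
    exact congrArg Subtype.val this
  obtain ⟨x, hx, hx1⟩ := h.exists_ne
  have hy1 : y ≠ 1 := by
    intro h1
    apply hx1
    apply h.eq_one_of_inv hx
    have := hyinv x hx
    rw [h1] at this
    simpa using this
  -- y has order 2
  obtain ⟨c, -, hc⟩ := (Nat.dvd_prime_pow Nat.prime_two).mp (orderOf_dvd_of_pow_eq_one hy2b)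
  have hyo : orderOf y = 2 := by
    rcases Nat.lt_or_ge c 2 with hc2 | hc2
    · interval_cases c
      · exact absurd (orderOf_eq_one_iff.mp (by simpa using hc)) hy1
      · simpa using hc
    · exfalso
      obtain ⟨c', rfl⟩ := Nat.exists_eq_add_of_le hc2
      let w := (y ^ 2) ^ (2 ^ c')
      have hwo : orderOf w = 2 := by
        apply orderOf_eq_prime
        · show ((y ^ 2) ^ (2 ^ c')) ^ 2 = 1
          rw [← pow_mul, ← pow_mul, show 2 * (2 ^ c' * 2) = 2 ^ (2 + c') by ring, ← hc]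
          exact pow_orderOf_eq_one y
        · intro h1
          have h2 : y ^ (2 ^ (1 + c')) = 1 := by
            have e1 : (2 : ℕ) ^ (1 + c') = 2 * 2 ^ c' := by ring
            rw [e1, pow_mul y 2 (2 ^ c')]
            exact h1
          have h3 := orderOf_dvd_of_pow_eq_one h2
          rw [hc] at h3
          have := (Nat.pow_dvd_pow_iff_le_right (by norm_num : 1 < 2)).mp h3
          omega
      have hy2X : y ^ 2 ∈ XX P := by
        rw [mem_XX]
        intro p hp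
        have : y ^ 2 * p * (y ^ 2)⁻¹ = p := by
          rw [pow_two]
          calc y * y * p * (y * y)⁻¹ = y * (y * p * y⁻¹) * y⁻¹ := by group
            _ = p := by rw [hyinv p hp, hyinv _ (P.inv_mem hp), inv_inv]
        calc y ^ 2 * p = y ^ 2 * p * (y ^ 2)⁻¹ * y ^ 2 := by group
          _ = p * y ^ 2 := by rw [this]
      have hwX : w ∈ XX P := (XX P).pow_mem hy2X _
      have hew : e * w = w * e := (((show Commute e y from hey).pow_right 2).pow_right (2 ^ c'))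
      exact heP (h.mem_P_of_comm hwo hwX heX (m := 27) (by decide) he27 hew)
  -- e has order 3
  have he3P : e ^ 3 ∈ P := by
    have h1 : (QuotientGroup.mk (⟨e, heT⟩ : T) : T ⧸ P.subgroupOf T) ^ 3 = 1 := by
      rw [← hq3]; exact pow_card_eq_one'
    rw [← QuotientGroup.mk_pow, QuotientGroup.eq_one_iff] at h1
    exact mem_subgroupOf.mp h1
  have he3 : e ^ 3 = 1 := by
    apply h.eq_one_of_inv he3P
    have h1 := hyinv _ he3P
    rw [← conj_pow, hyec] at h1
    exact h1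
  have he1 : e ≠ 1 := fun h1 => heP (h1 ▸ P.one_mem)
  -- move y to t
  obtain ⟨g, hg⟩ := h.one y hyo
  have hyt : g⁻¹ * y * g = t := by rw [← hg]; group
  let C := centralizer ({t} : Set G)
  have he'C : g⁻¹ * e * g ∈ C := by
    refine mem_centralizer_singleton_iff.mpr ?_
    rw [← hyt]
    calc g⁻¹ * e * g * (g⁻¹ * y * g) = g⁻¹ * (e * y) * g := by group
      _ = g⁻¹ * (y * e) * g := by rw [hey]
      _ = g⁻¹ * y * g * (g⁻¹ * e * g) := by group
  have hPC : P ≤ C := fun p hp => mem_centralizer_singleton_iff.mpr (h.Pt p hp)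
  have he'o : orderOf (⟨g⁻¹ * e * g, he'C⟩ : C) = 3 := by
    rw [orderOf_mk]
    apply orderOf_eq_prime
    · have : (g⁻¹ * e * g) ^ 3 = g⁻¹ * e ^ 3 * g := by
        have := conj_pow (a := g⁻¹) (b := e) (i := 3)
        rwa [inv_inv] at this
      rw [this, he3]; group
    · intro h1
      apply he1
      calc e = g * (g⁻¹ * e * g) * g⁻¹ := by group
        _ = 1 := by rw [h1]; group
  obtain ⟨cc, hcc⟩ := exists_conj_le Nat.prime_three (zpowers (⟨g⁻¹ * e * g, he'C⟩ : C)) (P.subgroupOf C)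
    (m := 1) (n := 2) (by rw [Nat.card_zpowers, he'o]; norm_num)
    (by rw [Nat.card_congr (subgroupOfEquivOfLe hPC).toEquiv, h.cardP]; norm_num)
    (by
      have := h.syl
      norm_num
      exact this)
  have h1 := mem_subgroupOf.mp (hcc _ (mem_zpowers _))
  -- w := cc⁻¹ g⁻¹
  set w := (cc : G)⁻¹ * g⁻¹ with hwdef
  have hwe : w * e * w⁻¹ ∈ P := by
    have h2 : ((cc⁻¹ * ⟨g⁻¹ * e * g, he'C⟩ * cc : C) : G) = w * e * w⁻¹ := by
      show (cc : G)⁻¹ * (g⁻¹ * e * g) * cc = _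
      rw [hwdef]; group
    rw [h2] at h1; exact h1
  have hwe1 : w * e * w⁻¹ ≠ 1 := by
    intro h2
    apply he1
    calc e = w⁻¹ * (w * e * w⁻¹) * w := by group
      _ = 1 := by rw [h2]; group
  -- elements commuting with e are conjugated into X by w
  have hCe : ∀ s : G, s * e = e * s → w * s * w⁻¹ ∈ XX P := by
    intro s hs
    apply h.cent_eq hwe hwe1
    calc w * s * w⁻¹ * (w * e * w⁻¹) = w * (s * e) * w⁻¹ := by group
      _ = w * (e * s) * w⁻¹ := by rw [hs]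
      _ = w * e * w⁻¹ * (w * s * w⁻¹) := by group
  -- T' = w T w⁻¹ ≤ X contains P
  let T' : Subgroup G := T.map (MulAut.conj w).toMonoidHom
  have hT'X : T' ≤ XX P := by
    rintro _ ⟨s, hs, rfl⟩
    exact hCe s (hTc s hs e heT)
  have hPT' : P ≤ T' := by
    apply h.P_le_of_card T' hT'X (n := 3) _ hnd
    rw [← hT]; exact card_map_of_injective (MulAut.conj w).injective
  -- Pe = w⁻¹ P w ≤ T, meets P
  let Pe : Subgroup G := P.map (MulAut.conj w⁻¹).toMonoidHom
  have hPe : ∀ s : G, s ∈ Pe ↔ w * s * w⁻¹ ∈ P := by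
    intro x
    constructor
    · rintro ⟨p, hp, rfl⟩
      have : w * ((MulAut.conj w⁻¹).toMonoidHom p) * w⁻¹ = p := by
        show w * (w⁻¹ * p * w⁻¹⁻¹) * w⁻¹ = p
        group
      rw [this]; exact hp
    · intro hx
      refine ⟨_, hx, ?_⟩
      show w⁻¹ * (w * x * w⁻¹) * w⁻¹⁻¹ = x
      group
  have hPeT : Pe ≤ T := by
    intro s hs
    obtain ⟨r, hr, hrs⟩ := hPT' ((hPe s).mp hs)
    have : r = s := (MulAut.conj w).injective hrs
    rwa [← this]
  have hPecard : Nat.card Pe = 9 := by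
    rw [← h.cardP]; exact card_map_of_injective (MulAut.conj w⁻¹).injective
  have hmeet : ∃ q ∈ P ⊓ Pe, q ≠ 1 := by
    by_contra hcon
    push Not at hcon
    -- injection P × Pe → T
    let f : P × Pe → T := fun pq => ⟨pq.1 * pq.2, T.mul_mem (hPT pq.1.2) (hPeT pq.2.2)⟩
    have hf : Function.Injective f := by
      rintro ⟨p, q⟩ ⟨p', q'⟩ hpq
      have h2 : (p : G) * q = p' * q' := congrArg Subtype.val hpq
      have h3 : (p' : G)⁻¹ * p = q' * (q : G)⁻¹ := by
        calc (p' : G)⁻¹ * p = (p' : G)⁻¹ * (p * q) * (q : G)⁻¹ := by group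
          _ = (p' : G)⁻¹ * (p' * q') * (q : G)⁻¹ := by rw [h2]
          _ = q' * (q : G)⁻¹ := by group
      have h4 : (p' : G)⁻¹ * p = 1 := by
        apply hcon
        refine ⟨P.mul_mem (P.inv_mem p'.2) p.2, ?_⟩
        rw [h3]; exact Pe.mul_mem q'.2 (Pe.inv_mem q.2)
      have h5 : (q' : G) * (q : G)⁻¹ = 1 := by rw [← h3]; exact h4
      have h6 : p = p' := Subtype.ext (inv_mul_eq_one.mp h4).symm
      have h7 : q = q' := Subtype.ext (mul_inv_eq_one.mp h5).symm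
      rw [h6, h7]
    have h8 := Nat.card_le_card_of_injective f hf
    rw [Nat.card_prod, h.cardP, hPecard, hT] at h8
    omega
  obtain ⟨q, hq, hq1⟩ := hmeet
  apply hq1
  apply h.eq_one_of_inv hq.1
  -- y commutes with q
  have h2 := mem_XX.mp (hCe y hey.symm) _ ((hPe q).mp hq.2)
  have h3 : y * q = q * y := by
    calc y * q = w⁻¹ * (w * y * w⁻¹ * (w * q * w⁻¹)) * w := by group
      _ = w⁻¹ * (w * q * w⁻¹ * (w * y * w⁻¹)) * w := by rw [h2]
      _ = q * y := by group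
  calc q = y * q * y⁻¹ := by rw [h3]; group
    _ = q⁻¹ := hyinv q hq.1

end

end Cfsg.Agent.ONType.OddCent
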