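import Mathlib
import Cfsg.Agent.ONType.OddCentB
import Cfsg.Agent.PermutationGroups.InducedAlt
import Cfsg.Agent.Classification.Order360Iso

set_option autoImplicit false
set_option linter.style.haveILetI false
set_option linter.unusedSectionVars false

/-! O'Nan type, part (C): `C(P) = P × A₆`. -/

namespace Cfsg.Agent.ONType.OddCent

open Subgroup Cfsg
open Cfsg.Agent.J3Type.ExistsW (HD8)
open Cfsg.Agent.ONType.HDFacts Cfsg.Agent.ONType.QuotHD

section HD
variable {Y : Type*} [Group Y] [Finite Y]

theorem centralizer_le_of_normal (h : HD8 Y) {s : Y} (hs : orderOf s = 2) (N : Subgroup Y)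
    (hN : ∀ r : Y, orderOf r = 2 → r ∈ N) : centralizer ({s} : Set Y) ≤ N := by
  haveI : Fact (Nat.Prime 2) := ⟨Nat.prime_two⟩
  obtain ⟨e⟩ := h s hs
  intro x hx
  obtain ⟨a, b, ha, hb, hab⟩ := J3Type.ExistsW.dih_gen (e ⟨x, hx⟩)
  have key : ∀ a : DihedralGroup 4, a * a = 1 → ((e.symm a : centralizer ({s} : Set Y)) : Y) ∈ N := by
    intro a ha
    by_cases h1 : a = 1
    · rw [h1, map_one]; exact one_mem _
    · apply hN
      rw [orderOf_eq_prime_iff]
      constructor
      · rw [pow_two, ← coe_mul, ← map_mul, ha, map_one]; rfl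
      · intro h2
        apply h1
        have h3 : e.symm a = 1 := Subtype.ext h2
        exact e.symm.map_eq_one_iff.mp h3
  have h1 : (⟨x, hx⟩ : centralizer ({s} : Set Y)) = e.symm a * e.symm b := by
    rw [← map_mul, ← hab, e.symm_apply_apply]
  have h2 : x = (e.symm a : Y) * (e.symm b : Y) := congrArg Subtype.val h1
  rw [h2]
  exact mul_mem (key a ha) (key b hb)

/-- a group with dihedral involution centralisers is simple -/
theorem isSimple (h : HD8 Y) {s : Y} (hs : orderOf s = 2) : IsSimpleGroup Y := by
  haveI : Fact (Nat.Prime 2) := ⟨Nat.prime_two⟩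
  have hs1 : s ≠ 1 := by rintro rfl; simp at hs
  haveI : Nontrivial Y := ⟨⟨s, 1, hs1⟩⟩
  refine { eq_bot_or_eq_top_of_normal := fun N hN => ?_ }
  by_cases h2 : 2 ∣ Nat.card N
  · right
    obtain ⟨r, hr⟩ := exists_prime_orderOf_dvd_card' 2 h2
    have hr' : orderOf (r : Y) = 2 := by rw [orderOf_coe]; exact hr
    have hall : ∀ j : Y, orderOf j = 2 → j ∈ N := by
      intro j hj
      obtain ⟨g, hg⟩ := isConj_of h hr' hj
      rw [← hg]; exact hN.conj_mem _ r.2 g
    have hle : ∀ j : Y, orderOf j = 2 → centralizer ({j} : Set Y) ≤ N :=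
      fun j hj => centralizer_le_of_normal h hj N hall
    have hHDN : HD8 N := by
      intro j hj
      have hj' : orderOf (j : Y) = 2 := by rw [orderOf_coe]; exact hj
      obtain ⟨e⟩ := h j hj'
      refine ⟨MulEquiv.trans ?_ e⟩
      exact
        { toFun := fun c => ⟨c, by
            rw [mem_centralizer_singleton_iff]
            exact congrArg Subtype.val (mem_centralizer_singleton_iff.mp c.2)⟩
          invFun := fun c => ⟨⟨c, hle j hj' c.2⟩, by
            rw [mem_centralizer_singleton_iff]
            exact Subtype.ext (mem_centralizer_singleton_iff.mp c.2)⟩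
          left_inv := fun c => rfl
          right_inv := fun c => rfl
          map_mul' := fun a b => rfl }
    have h1 := CentX.card_involutions h hs
    have h3 := CentX.card_involutions hHDN hr
    have h4 : Nat.card {j : N // orderOf j = 2} = Nat.card {j : Y // orderOf j = 2} := by
      refine Nat.card_congr ⟨fun j => ⟨j.1, by rw [orderOf_coe]; exact j.2⟩,
        fun j => ⟨⟨j.1, hall _ j.2⟩, by rw [← orderOf_coe]; exact j.2⟩, fun j => rfl, fun j => rfl⟩
    exact eq_top_of_card_eq N (by rw [← h1, ← h3, h4])
  · left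
    obtain ⟨e⟩ := h s hs
    have hodd : Odd (Nat.card N) := by
      rw [← Nat.not_even_iff_odd, even_iff_two_dvd]; exact h2
    have hinv : ∀ j : Y, orderOf j = 2 → ∀ n ∈ N, j * n * j = n⁻¹ := by
      intro j hj
      have hj2 : j * j = 1 := by rw [← pow_two, ← hj]; exact pow_orderOf_eq_one j
      have hji : j⁻¹ = j := by rw [inv_eq_iff_mul_eq_one]; exact hj2
      refine PermutationGroups.InducedAlt.inverts N j hj2 ?_ ?_
      · intro a ha
        have := hN.conj_mem a ha j
        rwa [hji] at this
      · intro a ha hja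
        have h3 : a ∈ centralizer ({j} : Set Y) := mem_centralizer_singleton_iff.mpr hja.symm
        have h4 : a ^ 8 = 1 := by
          have := pow_card_eq_one' (G := centralizer ({j} : Set Y)) (x := ⟨a, h3⟩)
          rw [h.card hj] at this
          exact congrArg Subtype.val this
        have h5 : a ^ Nat.card N = 1 :=
          congrArg Subtype.val (pow_card_eq_one' (G := N) (x := ⟨a, ha⟩))
        have hco : Nat.Coprime (Nat.card N) 8 := by
          have : Nat.Coprime (Nat.card N) 2 := hodd.coprime_two_right
          exact Nat.Coprime.pow_right 3 this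
        have h6 : orderOf a ∣ 1 := by
          rw [← hco.gcd_eq_one]
          exact Nat.dvd_gcd (orderOf_dvd_of_pow_eq_one h5) (orderOf_dvd_of_pow_eq_one h4)
        rw [← orderOf_eq_one_iff]; exact Nat.dvd_one.mp h6
    -- an involution `r ≠ s` commuting with `s`
    obtain ⟨r, hr, hrs, hrs1⟩ : ∃ r : Y, orderOf r = 2 ∧ r * s = s * r ∧ r ≠ s := by
      have hd : orderOf (DihedralGroup.sr 0 : DihedralGroup 4) = 2 := DihedralGroup.orderOf_sr 0
      have hd' : orderOf (DihedralGroup.sr 1 : DihedralGroup 4) = 2 := DihedralGroup.orderOf_sr 1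
      have h1 : ∀ d : DihedralGroup 4, orderOf d = 2 → orderOf ((e.symm d : centralizer ({s} : Set Y)) : Y) = 2 := by
        intro d hd
        rw [orderOf_coe, MulEquiv.orderOf_eq]; exact hd
      have h2 : ∀ d : DihedralGroup 4, ((e.symm d : centralizer ({s} : Set Y)) : Y) * s =
          s * ((e.symm d : centralizer ({s} : Set Y)) : Y) :=
        fun d => mem_centralizer_singleton_iff.mp (e.symm d).2
      by_cases h3 : ((e.symm (DihedralGroup.sr 0) : centralizer ({s} : Set Y)) : Y) = s
      · refine ⟨_, h1 _ hd', h2 _, ?_⟩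
        intro h4
        have h5 := e.symm.injective (Subtype.ext (h4.trans h3.symm))
        exact absurd h5 (by decide)
      · exact ⟨_, h1 _ hd, h2 _, h3⟩
    have hs2 : s * s = 1 := by rw [← pow_two, ← hs]; exact pow_orderOf_eq_one s
    have hr2 : r * r = 1 := by rw [← pow_two, ← hr]; exact pow_orderOf_eq_one r
    have hsr : orderOf (r * s) = 2 := by
      apply orderOf_eq_prime
      · rw [pow_two]
        calc r * s * (r * s) = r * s * (s * r) := by rw [hrs]
          _ = r * (s * s) * r := by group
          _ = 1 := by rw [hs2, mul_one, hr2]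
      · intro h1
        apply hrs1
        calc r = r * (s * s) := by rw [hs2, mul_one]
          _ = (r * s) * s := by group
          _ = s := by rw [h1, one_mul]
    have hsr2 : r * s * (r * s) = 1 := by rw [← pow_two, ← hsr]; exact pow_orderOf_eq_one _
    have h3 := PermutationGroups.InducedAlt.sq_eq_one_of_inverts N r s (r * s) hr2 hs2 hsr2
      (hinv r hr) (hinv s hs) (hinv _ hsr) (by
        have : r * s * r * s = r * s * (r * s) := by group
        rw [this, hsr2]; exact N.one_mem)
    rw [eq_bot_iff]
    intro a ha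
    rw [mem_bot]
    apply eq_one_of_sq hodd
    · exact congrArg Subtype.val (pow_card_eq_one' (G := N) (x := ⟨a, ha⟩))
    · rw [pow_two]; exact h3 a ha

end HD

end Cfsg.Agent.ONType.OddCent
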