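import Mathlib
import Cfsg.Agent.Classification.Order360Iso

set_option autoImplicit false
set_option linter.style.haveILetI false
set_option linter.unusedSectionVars false

/-! The square of every automorphism of a simple group of order 360 is inner. -/

namespace Cfsg.Agent.ONType.OutSix

open Subgroup Cfsg.Agent.Classification Order360 Order360Action Order360Iso

variable {L : Type*} [Group L] [Finite L] [IsSimpleGroup L] (h : Nat.card L = 360)

theorem smul_def {L : Type*} [Group L] (l : L) (S : Sylow 3 L) : l • S = MulAut.conj l • S := rfl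

theorem conj_apply' {L : Type*} [Group L] (φ : MulAut L) (l : L) :
    MulAut.conj (φ l) = φ * MulAut.conj l * φ⁻¹ := by
  ext x
  simp [MulAut.conj_apply]

theorem smul_apply {L : Type*} [Group L] (φ : MulAut L) (l : L) (S : Sylow 3 L) :
    φ l • φ • S = φ • l • S := by
  rw [smul_def, smul_def, conj_apply', mul_smul, mul_smul, inv_smul_smul]

theorem mem_smul_iff {L : Type*} [Group L] (φ : MulAut L) (S : Sylow 3 L) (x : L) :
    φ x ∈ φ • S ↔ x ∈ S := by
  show φ x ∈ ((φ • S : Sylow 3 L) : Subgroup L) ↔ x ∈ (S : Subgroup L)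
  rw [Sylow.pointwise_smul_def]
  constructor
  · rintro ⟨y, hy, hyx⟩
    have : y = x := φ.injective hyx
    rwa [← this]
  · intro hx
    exact ⟨x, hx, rfl⟩

include h

theorem exists_fix (φ : MulAut L) {P Q : Sylow 3 L} (hPQ : P ≠ Q) :
    ∃ l : L, (MulAut.conj l * φ) • P = P ∧ (MulAut.conj l * φ) • Q = Q := by
  obtain ⟨l₁, hl₁⟩ := MulAction.exists_smul_eq L (φ • P) P
  have hne : P ≠ l₁ • φ • Q := by
    intro h1
    have h2 : l₁ • φ • P = l₁ • φ • Q := hl₁.trans h1
    exact hPQ (MulAction.injective φ (MulAction.injective l₁ h2))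
  obtain ⟨x, hx, hxQ⟩ := exists_smul_eq h hne hPQ
  refine ⟨x * l₁, ?_, ?_⟩
  · rw [map_mul, mul_smul, mul_smul, ← smul_def, ← smul_def, hl₁, smul_self hx]
  · rw [map_mul, mul_smul, mul_smul, ← smul_def, ← smul_def, hxQ]

theorem eq_one_of_fix (χ : MulAut L) (hχ : ∀ R : Sylow 3 L, χ • R = R) : χ = 1 := by
  ext l
  have h1 : l⁻¹ * χ l = 1 := by
    apply faithful h
    intro R
    have h2 := smul_apply χ l R
    rw [hχ, hχ] at h2
    rw [mul_smul, h2, inv_smul_smul]
  exact (inv_mul_eq_one.mp h1).symm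

omit h [Finite L] [IsSimpleGroup L] in
theorem f_nsmul {a b : L} (ha : a ^ 3 = 1) (hb : b ^ 3 = 1) (hab : a * b = b * a) (n : ℕ)
    (p : ZMod 3 × ZMod 3) : f a b (n • p) = f a b p ^ n := by
  induction n with
  | zero => rw [zero_smul, f_zero, pow_zero]
  | succ n ih => rw [succ_nsmul, f_add ha hb hab, ih, pow_succ]

theorem sq_eq_conj_of_fix (ψ : MulAut L) {P Q : Sylow 3 L} (hPQ : P ≠ Q) (hψP : ψ • P = P)
    (hψQ : ψ • Q = Q) : ∃ w : L, ψ * ψ = MulAut.conj w := by
  obtain ⟨k, hkP, hkQ, hk, hk4⟩ := exists_k h hPQ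
  have hψkP : ψ k • P = P := by
    have := smul_apply ψ k P
    rwa [hψP, hkP, hψP] at this
  have hψkQ : ψ k • Q = Q := by
    have := smul_apply ψ k Q
    rwa [hψQ, hkQ, hψQ] at this
  have hψk : ψ k = k ∨ ψ k = k⁻¹ := by
    rcases eq_pow_of_stab h hPQ hkP hkQ hk hk4 hψkP hψkQ with h1 | h1 | h1 | h1
    · exfalso
      apply hk
      have : k = 1 := (MulEquiv.map_eq_one_iff ψ).mp h1
      rw [this, one_mul]
    · exact Or.inl h1
    · exfalso
      apply hk
      have h2 : ψ (k * k) = 1 := by rw [map_mul, h1]; exact hk4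
      exact (MulEquiv.map_eq_one_iff ψ).mp h2
    · exact Or.inr h1
  have hψψk : ψ (ψ k) = k := by
    rcases hψk with h1 | h1
    · rw [h1, h1]
    · rw [h1, map_inv, h1, inv_inv]
  obtain ⟨a, ha, ha1⟩ := exists_ne_one h P
  set b := k * a * k⁻¹ with hb
  have hbP : b ∈ P := conj_mem h hkP ha
  have hz : ∀ x ∈ P, (k * k) * x * (k * k)⁻¹ = x⁻¹ := fun x hx =>
    conj_eq_inv h hPQ (by rw [mul_smul, hkP, hkP]) (by rw [mul_smul, hkQ, hkQ]) hk hk4 hx
  have hkb : k * b * k⁻¹ = a⁻¹ := by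
    rw [← hz a ha, hb]; group
  have hkb' : k⁻¹ * b * k = a := by rw [hb]; group
  have hka' : k⁻¹ * a * k = b⁻¹ := by
    have : k⁻¹ * a⁻¹ * k = b := by rw [← hkb]; group
    rw [← this]; group
  have ha3 : a ^ 3 = 1 := pow_three h hPQ hkP hkQ hk hk4 ha
  have hb3 : b ^ 3 = 1 := pow_three h hPQ hkP hkQ hk hk4 hbP
  have hab : a * b = b * a := comm_sylow h P ha hbP
  have hP9 := card_sylow h P
  -- `f a b` is onto `P`
  have hsurj : ∀ x ∈ P, ∃ p : ZMod 3 × ZMod 3, f a b p = x := by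
    have hmem : ∀ p, f a b p ∈ (P : Subgroup L) := fun p =>
      mul_mem (pow_mem ha _) (pow_mem hbP _)
    let g : ZMod 3 × ZMod 3 → (P : Subgroup L) := fun p => ⟨f a b p, hmem p⟩
    have hinj : Function.Injective g := by
      intro p q hpq
      have h1 : f a b p = f a b q := congrArg Subtype.val hpq
      have h2 : f a b (p - q) = 1 := by
        have h3 := f_add ha3 hb3 hab (p - q) q
        rw [sub_add_cancel, h1] at h3
        exact (mul_eq_right.mp h3.symm)
      exact sub_eq_zero.mp (f_eq_zero ha3 ha1 hab rfl hkb _ h2)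
    have hbij : Function.Bijective g := by
      rw [Nat.bijective_iff_injective_and_card]
      refine ⟨hinj, ?_⟩
      rw [hP9]
      simp
    intro x hx
    obtain ⟨p, hp⟩ := hbij.2 ⟨x, hx⟩
    exact ⟨p, congrArg Subtype.val hp⟩
  have hψP' : ∀ x ∈ P, ψ x ∈ P := by
    intro x hx
    have := (mem_smul_iff ψ P x).mpr hx
    rwa [hψP] at this
  obtain ⟨p, hp⟩ := hsurj _ (hψP' a ha)
  have hp0 : p ≠ 0 := by
    rintro rfl
    rw [f_zero] at hp
    exact ha1 ((MulEquiv.map_eq_one_iff ψ).mp hp.symm)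
  have hψf : ∀ q, ψ (f a b q) = ψ a ^ q.1.val * ψ b ^ q.2.val := by
    intro q
    unfold f
    rw [map_mul, map_pow, map_pow]
  have hconj : ∀ q, k * f a b q * k⁻¹ = f a b (-q.2, q.1) := by
    intro q
    have h1 : k * f a b q * k⁻¹ = b ^ q.1.val * (a⁻¹) ^ q.2.val := by
      have e1 : b ^ q.1.val = k * a ^ q.1.val * k⁻¹ := by rw [hb]; exact conj_pow
      have e2 : (a⁻¹) ^ q.2.val = k * b ^ q.2.val * k⁻¹ := by rw [← hkb]; exact conj_pow
      rw [e1, e2]
      unfold f
      simp only [mul_assoc, inv_mul_cancel_left]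
    rw [h1]
    unfold f
    simp only
    rw [pow_val_neg ha3, ← inv_pow]
    exact ((show Commute a b from hab).inv_left.pow_pow _ _).symm.eq
  have hconj' : ∀ q, k⁻¹ * f a b q * k = f a b (q.2, -q.1) := by
    intro q
    have h1 := hconj (q.2, -q.1)
    simp only [neg_neg] at h1
    rw [← h1]; group
  have hcase : ∃ w : L, w • P = P ∧ w • Q = Q ∧ w * k = k * w ∧ ψ (ψ a) = w * a * w⁻¹ := by
    have hfin : ∀ q : ZMod 3 × ZMod 3, ψ (ψ a) = f a b q →
        q ∈ [((1, 0) : ZMod 3 × ZMod 3), (0, 1), (-1, 0), (0, -1)] →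
        ∃ w : L, w • P = P ∧ w • Q = Q ∧ w * k = k * w ∧ ψ (ψ a) = w * a * w⁻¹ := by
      intro q hq hq'
      have hval2 : (-1 : ZMod 3).val = 2 := rfl
      have hval1 : (1 : ZMod 3).val = 1 := rfl
      have ha2 : a ^ 2 = a⁻¹ := by
        apply eq_inv_of_mul_eq_one_left
        rw [← ha3]; group
      have hb2 : b ^ 2 = b⁻¹ := by
        apply eq_inv_of_mul_eq_one_left
        rw [← hb3]; group
      simp only [List.mem_cons, List.not_mem_nil, or_false] at hq'
      rcases hq' with rfl | rfl | rfl | rfl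
      · refine ⟨1, one_smul _ _, one_smul _ _, by group, ?_⟩
        rw [hq]; unfold f
        simp [hval1]
      · refine ⟨k, hkP, hkQ, rfl, ?_⟩
        rw [hq]; unfold f
        simp [hval1, hb]
      · refine ⟨k * k, by rw [mul_smul, hkP, hkP], by rw [mul_smul, hkQ, hkQ], by group, ?_⟩
        rw [hq, hz a ha]; unfold f
        simp [hval2, ha2]
      · refine ⟨k⁻¹, by rw [inv_smul_eq_iff, hkP], by rw [inv_smul_eq_iff, hkQ], by group, ?_⟩
        rw [hq, inv_inv, hka']; unfold f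
        simp [hval2, hb2]
    rcases hψk with h1 | h1
    · have hψb : ψ b = f a b (-p.2, p.1) := by
        rw [hb, map_mul, map_mul, map_inv, h1, ← hp, hconj]
      refine hfin (p.1.val • p + p.2.val • (-p.2, p.1)) ?_ ?_
      · rw [← hp, hψf, ← hp, hψb, f_add ha3 hb3 hab, f_nsmul ha3 hb3 hab, f_nsmul ha3 hb3 hab]
      · revert hp0
        clear * -
        revert p
        decide
    · have hψb : ψ b = f a b (p.2, -p.1) := by
        rw [hb, map_mul, map_mul, map_inv, h1, ← hp, inv_inv, hconj']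
      refine hfin (p.1.val • p + p.2.val • (p.2, -p.1)) ?_ ?_
      · rw [← hp, hψf, ← hp, hψb, f_add ha3 hb3 hab, f_nsmul ha3 hb3 hab, f_nsmul ha3 hb3 hab]
      · revert hp0
        clear * -
        revert p
        decide
  obtain ⟨w, hwP, hwQ, hwk, hwa⟩ := hcase
  refine ⟨w, ?_⟩
  set χ : MulAut L := (MulAut.conj w)⁻¹ * (ψ * ψ) with hχ
  have hχx : ∀ x, χ x = w⁻¹ * ψ (ψ x) * w := by
    intro x
    rw [hχ]
    simp
  have hχa : χ a = a := by rw [hχx, hwa]; group
  have hχk : χ k = k := by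
    rw [hχx, hψψk]
    calc w⁻¹ * k * w = w⁻¹ * (k * w) := by group
      _ = w⁻¹ * (w * k) := by rw [hwk]
      _ = k := by group
  have hχb : χ b = b := by rw [hb, map_mul, map_mul, map_inv, hχk, hχa]
  have hχP : ∀ x ∈ P, χ x = x := by
    intro x hx
    obtain ⟨q, rfl⟩ := hsurj x hx
    unfold f
    rw [map_mul, map_pow, map_pow, hχa, hχb]
  have hχQ : χ • Q = Q := by
    rw [hχ, mul_smul, mul_smul, hψQ, hψQ, inv_smul_eq_iff, ← smul_def, hwQ]
  have hχPP : χ • P = P := by
    rw [hχ, mul_smul, mul_smul, hψP, hψP, inv_smul_eq_iff, ← smul_def, hwP]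
  have hχ1 : χ = 1 := by
    apply eq_one_of_fix h
    intro R
    by_cases hR : P = R
    · rw [← hR, hχPP]
    · obtain ⟨x, hx, rfl⟩ := exists_smul_eq h hPQ hR
      rw [← smul_apply, hχP x hx, hχQ]
  rw [hχ, inv_mul_eq_one] at hχ1
  exact hχ1.symm

/-- The square of an automorphism of a simple group of order 360 is inner. -/
theorem sq_eq_conj (φ : MulAut L) : ∃ w : L, φ * φ = MulAut.conj w := by
  obtain ⟨P⟩ : Nonempty (Sylow 3 L) := inferInstance
  obtain ⟨Q, hPQ⟩ : ∃ Q : Sylow 3 L, P ≠ Q := by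
    by_contra hcon
    push Not at hcon
    have h1 : ({P}ᶜ : Set (Sylow 3 L)) = ∅ := by
      ext R; simp [hcon R]
    have h2 := ncard_compl h P
    rw [h1, Set.ncard_empty] at h2
    omega
  obtain ⟨l, hlP, hlQ⟩ := exists_fix h φ hPQ
  obtain ⟨w, hw⟩ := sq_eq_conj_of_fix h _ hPQ hlP hlQ
  refine ⟨l⁻¹ * (MulAut.conj l * φ) l⁻¹ * w, ?_⟩
  rw [map_mul, map_mul, ← hw, conj_apply', map_inv]
  group

end Cfsg.Agent.ONType.OutSix
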