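import Mathlib

set_option autoImplicit false
set_option linter.style.haveILetI false
set_option linter.unusedSectionVars false

/-! A central subgroup of order 9 and exponent 3 of a group of order 3240 meets the commutator subgroup in a
cyclic group (transfer). -/

namespace Cfsg.Agent.ONType.SplitNine

open Subgroup

variable {X : Type*} [Group X]

theorem comm_mem (Z : Subgroup X) (S : Set X) (hZ : ∀ z ∈ Z, ∀ x ∈ closure S, x * z = z * x)
    (hS : ∀ x ∈ S, ∀ y ∈ S, x * y * x⁻¹ * y⁻¹ ∈ Z) :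
    ∀ x ∈ closure S, ∀ y ∈ closure S, x * y * x⁻¹ * y⁻¹ ∈ Z := by
  -- one variable
  have key : ∀ y : X, (y ∈ closure S) → (∀ x ∈ S, x * y * x⁻¹ * y⁻¹ ∈ Z) →
      ∀ x ∈ closure S, x * y * x⁻¹ * y⁻¹ ∈ Z := by
    intro y hy hxS x hx
    induction hx using closure_induction with
    | mem x hx => exact hxS x hx
    | one => simp
    | mul a b ha hb iha ihb =>
      have h1 : a * b * y * (a * b)⁻¹ * y⁻¹ =
          a * (b * y * b⁻¹ * y⁻¹) * a⁻¹ * (a * y * a⁻¹ * y⁻¹) := by group
      rw [h1, hZ _ ihb a ha]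
      have h2 : b * y * b⁻¹ * y⁻¹ * a * a⁻¹ * (a * y * a⁻¹ * y⁻¹) =
          (b * y * b⁻¹ * y⁻¹) * (a * y * a⁻¹ * y⁻¹) := by group
      rw [h2]; exact mul_mem ihb iha
    | inv a ha iha =>
      have h1 : a⁻¹ * y * a⁻¹⁻¹ * y⁻¹ = a⁻¹ * ((a * y * a⁻¹ * y⁻¹)⁻¹ * a) := by group
      rw [h1, ← hZ _ (inv_mem iha) a ha]
      have h2 : a⁻¹ * (a * (a * y * a⁻¹ * y⁻¹)⁻¹) = (a * y * a⁻¹ * y⁻¹)⁻¹ := by group
      rw [h2]; exact inv_mem iha
  intro x hx y hy
  apply key y hy _ x hx
  intro x' hx'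
  have h1 := key x' (subset_closure hx') (fun y' hy' => hS y' hy' x' hx') y hy
  have h2 : x' * y * x'⁻¹ * y⁻¹ = (y * x' * y⁻¹ * x'⁻¹)⁻¹ := by group
  rw [h2]; exact inv_mem h1

theorem exists_gen [Finite X] (P T : Subgroup X) (hPT : P ≤ T) (hP : Nat.card P = 9)
    (hT : Nat.card T = 81) : ∃ a ∈ T, ∃ b ∈ T, closure ({a, b} ∪ (P : Set X)) = T := by
  have hle : ∀ a ∈ T, ∀ b ∈ T, closure ({a, b} ∪ (P : Set X)) ≤ T := by
    intro a ha b hb
    rw [closure_le]
    rintro x (hx | hx)
    · rcases hx with rfl | hx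
      · exact ha
      · rw [Set.mem_singleton_iff] at hx; rw [hx]; exact hb
    · exact hPT hx
  obtain ⟨a, haT, haP⟩ : ∃ a ∈ T, a ∉ P := by
    by_contra hcon
    push Not at hcon
    have := card_le_of_le (show T ≤ P from hcon)
    rw [hT, hP] at this
    omega
  set A := closure ({a, a} ∪ (P : Set X)) with hA
  have hAT : A ≤ T := hle a haT a haT
  have haA : a ∈ A := subset_closure (Or.inl (Or.inl rfl))
  have hPA : P ≤ A := fun x hx => subset_closure (Or.inr hx)
  by_cases hAeq : A = T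
  · exact ⟨a, haT, a, haT, hAeq⟩
  obtain ⟨b, hbT, hbA⟩ : ∃ b ∈ T, b ∉ A := by
    by_contra hcon
    push Not at hcon
    exact hAeq (le_antisymm hAT hcon)
  refine ⟨a, haT, b, hbT, ?_⟩
  set B := closure ({a, b} ∪ (P : Set X)) with hB
  have hBT : B ≤ T := hle a haT b hbT
  have hbB : b ∈ B := subset_closure (Or.inl (Or.inr rfl))
  have hAB : A ≤ B := by
    rw [hA, closure_le]
    rintro x (hx | hx)
    · have : x = a := by simpa using hx
      rw [this]; exact subset_closure (Or.inl (Or.inl rfl))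
    · exact subset_closure (Or.inr hx)
  have d1 : Nat.card P ∣ Nat.card A := card_dvd_of_le hPA
  have d2 : Nat.card A ∣ Nat.card B := card_dvd_of_le hAB
  have d3 : Nat.card B ∣ Nat.card T := card_dvd_of_le hBT
  have n1 : Nat.card P ≠ Nat.card A := by
    intro h1
    have := eq_of_le_of_card_ge hPA h1.ge
    exact haP (this ▸ haA)
  have n2 : Nat.card A ≠ Nat.card B := by
    intro h1
    have := eq_of_le_of_card_ge hAB h1.ge
    exact hbA (this ▸ hbB)
  apply eq_of_le_of_card_ge hBT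
  rw [hP] at d1 n1
  rw [hT] at d3 ⊢
  obtain ⟨i, hi, hi'⟩ := (Nat.dvd_prime_pow Nat.prime_three (i := Nat.card B) (m := 4)).mp (by norm_num; exact d3)
  rw [hi'] at d2 n2 ⊢
  obtain ⟨j, hj, hj'⟩ := (Nat.dvd_prime_pow Nat.prime_three).mp d2
  rw [hj'] at d1 n1 n2
  interval_cases i <;> interval_cases j <;> simp_all

theorem inf_commutator_le [Finite X] (P : Subgroup X) (hcen : ∀ p ∈ P, ∀ x : X, x * p = p * x)
    (hexp : ∀ p ∈ P, p ^ 3 = 1) (hP : Nat.card P = 9) (hX : Nat.card X = 3240) :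
    ∃ c ∈ P, P ⊓ commutator X ≤ zpowers c := by
  haveI : Fact (Nat.Prime 3) := ⟨Nat.prime_three⟩
  -- Sylow 3-subgroup
  have hPp : IsPGroup 3 P := IsPGroup.of_card (n := 2) (by rw [hP]; norm_num)
  obtain ⟨T, hPT⟩ := hPp.exists_le_sylow
  have hT : Nat.card (T : Subgroup X) = 81 := by
    rw [T.card_eq_multiplicity, hX]
    have : (3240 : ℕ) = 3 ^ 4 * 40 := by norm_num
    rw [this, Nat.factorization_mul (by norm_num) (by norm_num), Finsupp.add_apply,
      Nat.Prime.factorization_pow (by norm_num), Finsupp.single_eq_same,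
      Nat.factorization_eq_zero_of_not_dvd (by norm_num)]
    norm_num
  obtain ⟨a, haT, b, hbT, hab⟩ := exists_gen P (T : Subgroup X) hPT hP hT
  -- T / P is abelian
  have hPn : (P.subgroupOf (T : Subgroup X)).Normal := by
    constructor
    intro n hn g
    have h1 : g * n * g⁻¹ = n := by
      apply Subtype.ext
      have := hcen n (mem_subgroupOf.mp hn) g
      show (g : X) * n * (g : X)⁻¹ = n
      rw [this]; group
    rw [h1]; exact hn
  have hq : Nat.card ((T : Subgroup X) ⧸ P.subgroupOf (T : Subgroup X)) = 3 ^ 2 := by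
    have h1 := Subgroup.card_eq_card_quotient_mul_card_subgroup (P.subgroupOf (T : Subgroup X))
    rw [Nat.card_congr (subgroupOfEquivOfLe hPT).toEquiv, hP, hT] at h1
    omega
  have hqc := IsPGroup.isMulCommutative_of_card_eq_prime_sq (p := 3) hq
  have hcP : a * b * a⁻¹ * b⁻¹ ∈ P := by
    have h1 : (QuotientGroup.mk (⟨a, haT⟩ * ⟨b, hbT⟩ * ⟨a, haT⟩⁻¹ * ⟨b, hbT⟩⁻¹ : (T : Subgroup X)) :
        (T : Subgroup X) ⧸ P.subgroupOf (T : Subgroup X)) = 1 := by
      rw [QuotientGroup.mk_mul, QuotientGroup.mk_mul, QuotientGroup.mk_mul,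
        hqc.is_comm.comm (QuotientGroup.mk (⟨a, haT⟩ : (T : Subgroup X))) (QuotientGroup.mk _),
        QuotientGroup.mk_inv, QuotientGroup.mk_inv]
      group
    exact mem_subgroupOf.mp ((QuotientGroup.eq_one_iff _).mp h1)
  set c := a * b * a⁻¹ * b⁻¹ with hc
  refine ⟨c, hcP, ?_⟩
  have hZP : zpowers c ≤ P := by rw [zpowers_le]; exact hcP
  have hcomm : ∀ x ∈ (T : Subgroup X), ∀ y ∈ (T : Subgroup X), x * y * x⁻¹ * y⁻¹ ∈ zpowers c := by
    rw [← hab]
    apply comm_mem
    · intro z hz x _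
      exact hcen z (hZP hz) x
    · intro x hx y hy
      by_cases hxP : x ∈ P
      · have : x * y * x⁻¹ * y⁻¹ = 1 := by
          rw [← hcen x hxP y]; group
        rw [this]; exact one_mem _
      by_cases hyP : y ∈ P
      · have : x * y * x⁻¹ * y⁻¹ = 1 := by
          rw [hcen y hyP x]; group
        rw [this]; exact one_mem _
      have hx' : x = a ∨ x = b := by
        rcases hx with hx | hx
        · simpa using hx
        · exact absurd hx hxP
      have hy' : y = a ∨ y = b := by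
        rcases hy with hy | hy
        · simpa using hy
        · exact absurd hy hyP
      rcases hx' with rfl | rfl <;> rcases hy' with rfl | rfl
      · simp
      · exact mem_zpowers c
      · have : x * y * x⁻¹ * y⁻¹ = c⁻¹ := by rw [hc]; group
        rw [this]; exact inv_mem (mem_zpowers c)
      · simp
  intro z hz
  obtain ⟨hzP, hz⟩ := mem_inf.mp hz
  have hzT : z ∈ (T : Subgroup X) := hPT hzP
  have hzc : z ∈ center X := by
    rw [mem_center_iff]; intro g; exact hcen z hzP g
  have hindex : (T : Subgroup X).index = 40 := by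
    have := (T : Subgroup X).card_mul_index
    rw [hT, hX] at this
    omega
  haveI : (T : Subgroup X).FiniteIndex := ⟨by rw [hindex]; norm_num⟩
  have key : ∀ (k : ℕ) (g₀ : X), g₀⁻¹ * z ^ k * g₀ ∈ (T : Subgroup X) → g₀⁻¹ * z ^ k * g₀ = z ^ k := by
    intro k g₀ _
    have : z ^ k ∈ Subgroup.center X := (Subgroup.center X).pow_mem hzc k
    have h := Subgroup.mem_center_iff.mp this g₀
    rw [mul_assoc, ← h, ← mul_assoc, inv_mul_cancel, one_mul]
  have h1 := MonoidHom.transfer_eq_pow (Abelianization.of (G := (T : Subgroup X))) z key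
  have h2 : MonoidHom.transfer (Abelianization.of (G := (T : Subgroup X))) z = 1 := by
    have := Abelianization.commutator_subset_ker
      (MonoidHom.transfer (Abelianization.of (G := (T : Subgroup X)))) hz
    exact this
  rw [h2] at h1
  have h3 : (⟨z ^ (T : Subgroup X).index, MonoidHom.transfer_eq_pow_aux z key⟩ : (T : Subgroup X)) ∈
      commutator (T : Subgroup X) := by
    rw [← Abelianization.ker_of]
    exact h1.symm
  have h4 : commutator (T : Subgroup X) ≤ (zpowers c).subgroupOf (T : Subgroup X) := by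
    rw [commutator_def, commutator_le]
    intro x _ y _
    rw [mem_subgroupOf]
    exact hcomm x x.2 y y.2
  have h5 := mem_subgroupOf.mp (h4 h3)
  have h6 : z ^ 40 = z := by
    have : z ^ 40 = (z ^ 3) ^ 13 * z := by group
    rw [this, hexp z hzP, one_pow, one_mul]
  have h7 : z ^ (T : Subgroup X).index ∈ zpowers c := h5
  rw [hindex, h6] at h7
  exact h7

end Cfsg.Agent.ONType.SplitNine
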