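import Mathlib
import Cfsg.Agent.ONType.OddCentC
import Cfsg.Agent.ONType.OutSix
import Cfsg.Agent.ONType.SplitNine

set_option autoImplicit false
set_option linter.style.haveILetI false
set_option linter.unusedSectionVars false

/-! O'Nan type, part (C): `C(P) = P × L` with `L` simple of order 360, and an involution inverting `P` and
centralising `L`. -/

namespace Cfsg.Agent.ONType.OddCent

open Subgroup Cfsg
open Cfsg.Agent.J3Type.ExistsW (HD8)
open Cfsg.Agent.ONType.HDFacts Cfsg.Agent.ONType.QuotHD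

section
variable {G : Type*} [Group G] [Finite G] {t : G} {P D : Subgroup G} {k : G}

theorem Hyp.card_eq (h : Hyp t P D k) : Nat.card (XX P) = 3240 := by
  rcases h.card_XX' with h1 | h1
  · exact absurd h1 h.not_168
  · exact h1

theorem inv_norm {P : Subgroup G} {g : G} (h : ∀ p ∈ P, g * p * g⁻¹ ∈ P) : ∀ p ∈ P, g⁻¹ * p * g⁻¹⁻¹ ∈ P := by
  intro p hp
  rw [conj_mem_iff P h]
  have : g * (g⁻¹ * p * g⁻¹⁻¹) * g⁻¹ = p := by group
  rw [this]; exact hp

/-- conjugation by an element of `N(P)` on `C(P)` -/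
def conjX (P : Subgroup G) (g : G) (h : ∀ p ∈ P, g * p * g⁻¹ ∈ P) : XX P ≃* XX P where
  toFun x := ⟨g * x * g⁻¹, by
    have := conj_mem_XX (inv_norm h) x.2
    rwa [inv_inv] at this⟩
  invFun x := ⟨g⁻¹ * x * g, conj_mem_XX h x.2⟩
  left_inv x := Subtype.ext (by show g⁻¹ * (g * x * g⁻¹) * g = x; group)
  right_inv x := Subtype.ext (by show g * (g⁻¹ * x * g) * g⁻¹ = x; group)
  map_mul' x y := Subtype.ext (by show g * (x * y) * g⁻¹ = g * x * g⁻¹ * (g * y * g⁻¹); group)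

theorem map_commutator_equiv {X : Type*} [Group X] (e : X ≃* X) {x : X} (hx : x ∈ commutator X) :
    e x ∈ commutator X := by
  have h1 : (commutator X).map (e : X →* X) = commutator X := by
    rw [commutator_def, map_commutator]
    congr 1 <;> exact map_top_of_surjective _ e.surjective
  rw [← h1]
  exact ⟨x, hx, rfl⟩

theorem Hyp.inf_eq_bot (h : Hyp t P D k) : P.subgroupOf (XX P) ⊓ commutator (XX P) = ⊥ := by
  haveI : Fact (Nat.Prime 3) := ⟨Nat.prime_three⟩
  have hexp : ∀ p ∈ P.subgroupOf (XX P), p ^ 3 = 1 := fun p hp => Subtype.ext (h.expP p (mem_subgroupOf.mp hp))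
  obtain ⟨c, hc, hle⟩ := SplitNine.inf_commutator_le (P.subgroupOf (XX P))
    (fun p hp x => h.hcen p hp x) hexp
    (by rw [Nat.card_congr (subgroupOfEquivOfLe h.P_le).toEquiv, h.cardP]) h.card_eq
  rw [eq_bot_iff]
  intro x hx
  rw [mem_bot]
  by_contra hx1
  obtain ⟨hxP, hxL⟩ := mem_inf.mp hx
  have hox : orderOf x = 3 := orderOf_eq_prime (hexp x hxP) hx1
  have hxc := hle hx
  have hc1 : c ≠ 1 := by
    rintro rfl
    rw [zpowers_one_eq_bot, mem_bot] at hxc
    exact hx1 hxc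
  have hoc : orderOf c = 3 := orderOf_eq_prime (hexp c hc) hc1
  have heq : zpowers x = zpowers c := by
    apply eq_of_le_of_card_ge (zpowers_le.mpr hxc)
    rw [Nat.card_zpowers, Nat.card_zpowers, hox, hoc]
  let κ := conjX P k h.kP
  have hκx : κ x ∈ zpowers x := by
    rw [heq]
    apply hle
    refine mem_inf.mpr ⟨mem_subgroupOf.mpr (h.kP x (mem_subgroupOf.mp hxP)), map_commutator_equiv κ hxL⟩
  obtain ⟨n, hn⟩ := mem_zpowers_iff.mp hκx
  have h2 : κ (κ x) = x ^ (n * n) := by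
    rw [← hn, map_zpow, ← hn, ← zpow_mul]
  have h3 : κ (κ x) = x⁻¹ := by
    apply Subtype.ext
    have := h.kinv x (mem_subgroupOf.mp hxP)
    show k * (k * x * k⁻¹) * k⁻¹ = (x : G)⁻¹
    rw [← this]; group
  have h4 : x ^ (n * n + 1) = 1 := by
    rw [zpow_add, zpow_one, ← h2, h3, inv_mul_cancel]
  have h5 : (3 : ℤ) ∣ n * n + 1 := by
    have := orderOf_dvd_iff_zpow_eq_one.mpr h4
    rwa [hox] at this
  have h6 : (n * n + 1) % 3 = 0 := by omega
  have h7 : n % 3 = 0 ∨ n % 3 = 1 ∨ n % 3 = 2 := by omega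
  rcases h7 with h7 | h7 | h7 <;> simp [Int.add_emod, Int.mul_emod, h7] at h6

/-- `[X, X] ≃* X / P` for `X = C(P)` -/
theorem Hyp.exists_equiv (h : Hyp t P D k) : haveI := h.normal
    ∃ e : commutator (XX P) ≃* (XX P ⧸ P.subgroupOf (XX P)), ∀ x, e x = QuotientGroup.mk (x : XX P) := by
  haveI := h.normal
  let f : commutator (XX P) →* (XX P ⧸ P.subgroupOf (XX P)) :=
    (QuotientGroup.mk' (P.subgroupOf (XX P))).comp (commutator (XX P)).subtype
  have hf : Function.Bijective f := by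
    constructor
    · rw [injective_iff_map_eq_one]
      intro x hx
      have h1 : (x : XX P) ∈ P.subgroupOf (XX P) := (QuotientGroup.eq_one_iff _).mp hx
      have h2 : (x : XX P) ∈ P.subgroupOf (XX P) ⊓ commutator (XX P) := mem_inf.mpr ⟨h1, x.2⟩
      rw [h.inf_eq_bot, mem_bot] at h2
      exact Subtype.ext h2
    · intro y
      have hs : orderOf (QuotientGroup.mk (⟨t, h.tX⟩ : XX P) : XX P ⧸ P.subgroupOf (XX P)) = 2 :=
        CentX.orderOf_mk_eq _ h.hPodd ((orderOf_mk _ _).trans h.ht)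
      have hp := h.hd8.perfect hs
      have h1 : (commutator (XX P)).map (QuotientGroup.mk' (P.subgroupOf (XX P))) = ⊤ := by
        rw [commutator_def, map_commutator, map_top_of_surjective _ (QuotientGroup.mk'_surjective _)]
        exact hp
      have h2 : y ∈ (commutator (XX P)).map (QuotientGroup.mk' (P.subgroupOf (XX P))) := by
        rw [h1]; exact mem_top _
      obtain ⟨x, hx, hxy⟩ := h2
      exact ⟨⟨x, hx⟩, hxy⟩
  exact ⟨MulEquiv.ofBijective f hf, fun x => rfl⟩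

/-- The factor `L` of `C(P)`. -/
def LL (P : Subgroup G) : Subgroup G := (commutator (XX P)).map (XX P).subtype

theorem LL_le (P : Subgroup G) : LL P ≤ XX P := map_subtype_le _

theorem Hyp.card_LL (h : Hyp t P D k) : Nat.card (LL P) = 360 := by
  haveI := h.normal
  obtain ⟨e, -⟩ := h.exists_equiv
  have h1 : Nat.card (LL P) = Nat.card (commutator (XX P)) :=
    card_map_of_injective (XX P).subtype_injective
  have h2 := h.card_XX
  rw [h.card_eq] at h2
  rw [h1, Nat.card_congr e.toEquiv]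
  omega

theorem Hyp.simple_LL (h : Hyp t P D k) : IsSimpleGroup (LL P) := by
  haveI := h.normal
  obtain ⟨e, -⟩ := h.exists_equiv
  have hs : orderOf (QuotientGroup.mk (⟨t, h.tX⟩ : XX P) : XX P ⧸ P.subgroupOf (XX P)) = 2 :=
    CentX.orderOf_mk_eq _ h.hPodd ((orderOf_mk _ _).trans h.ht)
  haveI := isSimple h.hd8 hs
  have e2 := ((commutator (XX P)).equivMapOfInjective _ (XX P).subtype_injective).symm.trans e
  exact MulEquiv.isSimpleGroup (e2 : LL P ≃* _)

theorem Hyp.inf_LL (h : Hyp t P D k) : P ⊓ LL P = ⊥ := by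
  rw [eq_bot_iff]
  intro x hx
  obtain ⟨hxP, y, hy, rfl⟩ := mem_inf.mp hx
  have h2 : y ∈ P.subgroupOf (XX P) ⊓ commutator (XX P) := mem_inf.mpr ⟨mem_subgroupOf.mpr hxP, hy⟩
  rw [h.inf_eq_bot, mem_bot] at h2
  rw [h2]; exact mem_bot.mpr rfl

theorem Hyp.exists_mul (h : Hyp t P D k) {x : G} (hx : x ∈ XX P) : ∃ p ∈ P, ∃ l ∈ LL P, x = p * l := by
  haveI := h.normal
  obtain ⟨e, he⟩ := h.exists_equiv
  obtain ⟨l, hl⟩ := e.surjective (QuotientGroup.mk (⟨x, hx⟩ : XX P))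
  rw [he, QuotientGroup.eq] at hl
  have h1 : (((l : XX P) : G))⁻¹ * x ∈ P := mem_subgroupOf.mp hl
  have h2 : ((l : XX P) : G) ∈ LL P := ⟨l, l.2, rfl⟩
  refine ⟨(((l : XX P) : G))⁻¹ * x, h1, ((l : XX P) : G), h2, ?_⟩
  have h3 := mem_XX.mp (LL_le P h2) _ h1
  rw [← h3]; group

theorem Hyp.sup_LL (h : Hyp t P D k) : P ⊔ LL P = XX P := by
  apply le_antisymm (sup_le h.P_le (LL_le P))
  intro x hx
  obtain ⟨p, hp, l, hl, rfl⟩ := h.exists_mul hx
  exact mul_mem (mem_sup_left hp) (mem_sup_right hl)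

theorem conj_mem_LL {g : G} (hg : ∀ p ∈ P, g * p * g⁻¹ ∈ P) {x : G} (hx : x ∈ LL P) :
    g * x * g⁻¹ ∈ LL P := by
  obtain ⟨y, hy, rfl⟩ := hx
  exact ⟨conjX P g hg y, map_commutator_equiv _ hy, rfl⟩

/-- the involution `s` -/
theorem Hyp.exists_s (h : Hyp t P D k) : ∃ s : G, orderOf s = 2 ∧ (∀ p ∈ P, s * p * s⁻¹ = p⁻¹) ∧
    ∀ l ∈ LL P, s * l = l * s := by
  haveI := h.simple_LL
  have hk' : ∀ x ∈ LL P, k⁻¹ * x * k ∈ LL P := by
    intro x hx
    have := conj_mem_LL (inv_norm h.kP) hx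
    rwa [inv_inv] at this
  let φ : MulAut (LL P) :=
    { toFun := fun x => ⟨k * x * k⁻¹, conj_mem_LL h.kP x.2⟩
      invFun := fun x => ⟨k⁻¹ * x * k, hk' x x.2⟩
      left_inv := fun x => Subtype.ext (by show k⁻¹ * (k * x * k⁻¹) * k = x; group)
      right_inv := fun x => Subtype.ext (by show k * (k⁻¹ * x * k) * k⁻¹ = x; group)
      map_mul' := fun x y => Subtype.ext (by
        show k * (x * y) * k⁻¹ = k * x * k⁻¹ * (k * y * k⁻¹); group) }
  obtain ⟨w, hw⟩ := OutSix.sq_eq_conj h.card_LL φ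
  have hwl : ∀ l ∈ LL P, k * (k * l * k⁻¹) * k⁻¹ = w * l * (w : G)⁻¹ := by
    intro l hl
    have := DFunLike.congr_fun hw ⟨l, hl⟩
    exact congrArg Subtype.val this
  have hwX : (w : G) ∈ XX P := LL_le P w.2
  set b := (w : G)⁻¹ * (k * k) with hb
  have hbl : ∀ l ∈ LL P, b * l = l * b := by
    intro l hl
    have h1 := hwl l hl
    calc b * l = (w : G)⁻¹ * (k * (k * l * k⁻¹) * k⁻¹) * (k * k) := by rw [hb]; group
      _ = l * b := by rw [h1, hb]; group
  have hbp : ∀ p ∈ P, b * p * b⁻¹ = p⁻¹ := by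
    intro p hp
    have h1 := h.kinv p hp
    have h2 := mem_XX.mp (inv_mem hwX) _ (P.inv_mem hp)
    calc b * p * b⁻¹ = (w : G)⁻¹ * ((k * k) * p * (k * k)⁻¹) * w := by rw [hb]; group
      _ = (w : G)⁻¹ * p⁻¹ * w := by rw [h1]
      _ = p⁻¹ * (w : G)⁻¹ * w := by rw [h2]
      _ = p⁻¹ := by group
  obtain ⟨e, m, hmodd, hbm⟩ := Nat.exists_eq_two_pow_mul_odd (n := orderOf b) (orderOf_pos b).ne'
  set s := b ^ m with hs
  have hs2 : s ^ (2 ^ e) = 1 := by
    rw [hs, ← pow_mul, mul_comm, ← hbm]; exact pow_orderOf_eq_one b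
  have hsp : ∀ p ∈ P, s * p * s⁻¹ = p⁻¹ := pow_inv hbp hmodd
  have hsl : ∀ l ∈ LL P, s * l = l * s := by
    intro l hl
    exact (show Commute b l from hbl l hl).pow_left m
  have hsX : s * s ∈ XX P := by
    rw [mem_XX]
    intro p hp
    have h1 : s * s * p * (s * s)⁻¹ = p := by
      calc s * s * p * (s * s)⁻¹ = s * (s * p * s⁻¹) * s⁻¹ := by group
        _ = p := by rw [hsp p hp, hsp _ (P.inv_mem hp), inv_inv]
    calc s * s * p = s * s * p * (s * s)⁻¹ * (s * s) := by group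
      _ = p * (s * s) := by rw [h1]
  obtain ⟨p, hp, l, hl, hpl⟩ := h.exists_mul hsX
  have hlz : (⟨l, hl⟩ : LL P) ∈ center (LL P) := by
    rw [mem_center_iff]
    intro y
    apply Subtype.ext
    show (y : G) * l = l * y
    have h1 : l = p⁻¹ * (s * s) := by rw [hpl]; group
    have h2 : (y : G) * p⁻¹ = p⁻¹ * y := mem_XX.mp (LL_le P y.2) _ (P.inv_mem hp)
    have h3 := hsl y y.2
    calc (y : G) * l = (y * p⁻¹) * s * s := by rw [h1]; group
      _ = p⁻¹ * (y * s) * s := by rw [h2]; group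
      _ = p⁻¹ * (s * y) * s := by rw [h3]
      _ = p⁻¹ * s * (y * s) := by simp only [mul_assoc]
      _ = p⁻¹ * s * (s * y) := by rw [← h3]
      _ = l * y := by rw [h1]; simp only [mul_assoc]
  rw [Classification.Order360.center_eq_bot h.card_LL, mem_bot] at hlz
  have hl1 : l = 1 := congrArg Subtype.val hlz
  have hs6 : s ^ 6 = 1 := by
    have h1 : s ^ 2 = p := by rw [pow_two, hpl, hl1, mul_one]
    rw [show 6 = 2 * 3 by norm_num, pow_mul, h1, h.expP p hp]
  have hdvd : orderOf s ∣ 2 := by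
    have h1 : orderOf s ∣ 3 * 2 := orderOf_dvd_of_pow_eq_one hs6
    have h2 : orderOf s ∣ 2 ^ e := orderOf_dvd_of_pow_eq_one hs2
    have h3 : Nat.Coprime (orderOf s) 3 :=
      Nat.Coprime.coprime_dvd_left h2 (Nat.Coprime.pow_left e (by norm_num))
    exact h3.dvd_of_dvd_mul_left h1
  refine ⟨s, ?_, hsp, hsl⟩
  rcases (Nat.dvd_prime Nat.prime_two).mp hdvd with h1 | h1
  · exfalso
    obtain ⟨x, hx, hx1⟩ := h.exists_ne
    apply hx1
    apply h.eq_one_of_inv hx
    have h2 := hsp x hx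
    rw [orderOf_eq_one_iff.mp h1] at h2
    simpa using h2
  · exact h1

/-- every element of order 3 commuting with an involution is conjugate to an element of `P` -/
theorem Hyp.exists_conj_P (h : Hyp t P D k) {u v : G} (hu : orderOf u = 3) (hv : orderOf v = 2)
    (huv : v * u = u * v) : ∃ g : G, g * u * g⁻¹ ∈ P := by
  obtain ⟨g, hg⟩ := h.one v hv
  have hvt : g⁻¹ * v * g = t := by rw [← hg]; group
  let C := centralizer ({t} : Set G)
  have he'C : g⁻¹ * u * g ∈ C := by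
    refine mem_centralizer_singleton_iff.mpr ?_
    rw [← hvt]
    calc g⁻¹ * u * g * (g⁻¹ * v * g) = g⁻¹ * (u * v) * g := by group
      _ = g⁻¹ * (v * u) * g := by rw [huv]
      _ = g⁻¹ * v * g * (g⁻¹ * u * g) := by group
  have hPC : P ≤ C := fun p hp => mem_centralizer_singleton_iff.mpr (h.Pt p hp)
  have he'o : orderOf (⟨g⁻¹ * u * g, he'C⟩ : C) = 3 := by
    rw [orderOf_mk]
    have := Cfsg.Agent.TwoFusion.StronglyEmbeddedBasic.orderOf_conj (G := G) g⁻¹ u
    rw [inv_inv] at this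
    rw [this, hu]
  obtain ⟨cc, hcc⟩ := exists_conj_le Nat.prime_three (zpowers (⟨g⁻¹ * u * g, he'C⟩ : C)) (P.subgroupOf C)
    (m := 1) (n := 2) (by rw [Nat.card_zpowers, he'o]; norm_num)
    (by rw [Nat.card_congr (subgroupOfEquivOfLe hPC).toEquiv, h.cardP]; norm_num)
    (by
      have := h.syl
      norm_num
      exact this)
  have h1 := mem_subgroupOf.mp (hcc _ (mem_zpowers _))
  refine ⟨(cc : G)⁻¹ * g⁻¹, ?_⟩
  have h2 : (cc : G)⁻¹ * g⁻¹ * u * ((cc : G)⁻¹ * g⁻¹)⁻¹ = (cc : G)⁻¹ * (g⁻¹ * u * g) * cc := by group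
  rw [h2]
  exact h1

theorem Hyp.centralizer_eq (h : Hyp t P D k) {x : G} (hx : x ∈ P) (hx1 : x ≠ 1) :
    centralizer ({x} : Set G) = P ⊔ LL P := by
  rw [h.sup_LL]
  ext g
  rw [mem_centralizer_singleton_iff]
  exact ⟨fun hg => h.cent_eq hx hx1 hg, fun hg => mem_XX.mp hg x hx⟩

end

end Cfsg.Agent.ONType.OddCent
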