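import Mathlib
import Cfsg.Agent.ONType.OddCentD
import Cfsg.Agent.R04.ClosingE

set_option autoImplicit false
set_option linter.style.haveILetI false
set_option linter.unusedSectionVars false

/-! O'Nan type, part (C): from facts about `C = C_G(t)` to the structure `ThreeData`. -/

namespace Cfsg.Agent.ONType.OddCent

open Subgroup Cfsg
open Cfsg.Agent.R04.ClosingE (ThreeData)

/-- Facts about the group `C` (of order 161280), `f` its central involution: `P` is a Sylow 3-subgroup, `P D` its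
centraliser. -/
structure CData {C : Type*} [Group C] (f : C) (P D : Subgroup C) (k : C) : Prop where
  of : orderOf f = 2
  fc : ∀ c : C, c * f = f * c
  syl : ¬ 27 ∣ Nat.card C
  cardP : Nat.card P = 9
  expP : ∀ p ∈ P, p ^ 3 = 1
  fD : f ∈ D
  dih : Nonempty (D ≃* DihedralGroup 4)
  DP : ∀ d ∈ D, ∀ p ∈ P, d * p = p * d
  cent : ∀ x ∈ P, x ≠ 1 → ∀ g : C, g * x = x * g → ∃ p ∈ P, ∃ d ∈ D, g = p * d
  kP : ∀ p ∈ P, k * p * k⁻¹ ∈ P
  kinv : ∀ p ∈ P, (k * k) * p * (k * k)⁻¹ = p⁻¹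
  trans : ∀ x ∈ P, ∀ y ∈ P, x ≠ 1 → y ≠ 1 → ∃ g : C, g * x * g⁻¹ = y

variable {G : Type*} [Group G] [Finite G]

/-- `CData` of the centraliser of `t` gives `Hyp` for `G`. -/
theorem CData.hyp {t : G} (one : ∀ s : G, orderOf s = 2 → ∃ g, g * t * g⁻¹ = s)
    {f k : centralizer ({t} : Set G)} {P D : Subgroup (centralizer ({t} : Set G))} (hf : (f : G) = t)
    (h : CData f P D k) :
    Hyp t (P.map (centralizer ({t} : Set G)).subtype) (D.map (centralizer ({t} : Set G)).subtype) (k : G) := by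
  have hinj := (centralizer ({t} : Set G)).subtype_injective
  refine
    { ht := ?_, one := one, cardP := ?_, expP := ?_, Pt := ?_, syl := h.syl, tD := ?_, Dt := ?_, dih := ?_,
      DP := ?_, cent := ?_, kP := ?_, kinv := ?_ }
  · rw [← hf, orderOf_coe]; exact h.of
  · rw [← h.cardP]; exact card_map_of_injective hinj
  · rintro _ ⟨p, hp, rfl⟩
    exact congrArg Subtype.val (h.expP p hp)
  · rintro _ ⟨p, hp, rfl⟩
    exact mem_centralizer_singleton_iff.mp p.2
  · exact ⟨f, h.fD, hf⟩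
  · rintro _ ⟨p, hp, rfl⟩
    exact mem_centralizer_singleton_iff.mp p.2
  · obtain ⟨e⟩ := h.dih
    exact ⟨(D.equivMapOfInjective _ hinj).symm.trans e⟩
  · rintro _ ⟨d, hd, rfl⟩ _ ⟨p, hp, rfl⟩
    exact congrArg Subtype.val (h.DP d hd p hp)
  · rintro _ ⟨x, hx, rfl⟩ hx1 g hgx hgt
    have hx1' : x ≠ 1 := by rintro rfl; exact hx1 rfl
    obtain ⟨p, hp, d, hd, hpd⟩ := h.cent x hx hx1' ⟨g, mem_centralizer_singleton_iff.mpr hgt⟩
      (Subtype.ext hgx)
    exact ⟨p, ⟨p, hp, rfl⟩, d, ⟨d, hd, rfl⟩, congrArg Subtype.val hpd⟩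
  · rintro _ ⟨p, hp, rfl⟩
    exact ⟨_, h.kP p hp, rfl⟩
  · rintro _ ⟨p, hp, rfl⟩
    exact congrArg Subtype.val (h.kinv p hp)

/-- The 3-local data of `G`. -/
theorem CData.exists_threeData {t : G} (one : ∀ s : G, orderOf s = 2 → ∃ g, g * t * g⁻¹ = s)
    {f k : centralizer ({t} : Set G)} {P D : Subgroup (centralizer ({t} : Set G))} (hf : (f : G) = t)
    (h : CData f P D k) : ∃ (x : G) (P' L : Subgroup G) (s : G), ThreeData x P' L s := by
  have h' := h.hyp one hf
  set P' := P.map (centralizer ({t} : Set G)).subtype with hP'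
  obtain ⟨x, hx, hx1⟩ := h'.exists_ne
  obtain ⟨s, hs, -, hsL⟩ := h'.exists_s
  refine ⟨x, P', LL P', s, ?_⟩
  exact
    { ox := orderOf_eq_prime (h'.expP x hx) hx1
      xP := hx
      cardP := h'.cardP
      expP := h'.expP
      cardL := h'.card_LL
      simple := h'.simple_LL
      comm := fun a ha b hb => (mem_XX.mp (LL_le P' hb) a ha).symm
      disj := h'.inf_LL
      cent := h'.centralizer_eq hx hx1
      os := hs
      sL := hsL
      conj := by
        rintro u hu ⟨v, hv, hvu⟩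
        obtain ⟨g, hg⟩ := h'.exists_conj_P hu hv hvu
        have hu1 : u ≠ 1 := by rintro rfl; simp at hu
        obtain ⟨x₀, hx₀, rfl⟩ := hx
        obtain ⟨y₀, hy₀, hy⟩ := hg
        have hy' : (y₀ : G) = g * u * g⁻¹ := hy
        have hy1 : y₀ ≠ 1 := by
          rintro rfl
          apply hu1
          have h1 : g * u * g⁻¹ = 1 := hy'.symm
          calc u = g⁻¹ * (g * u * g⁻¹) * g := by group
            _ = 1 := by rw [h1]; group
        obtain ⟨c, hc⟩ := h.trans x₀ hx₀ y₀ hy₀ (by rintro rfl; exact hx1 rfl) hy1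
        have hc' : (c : G) * x₀ * (c : G)⁻¹ = y₀ := congrArg Subtype.val hc
        rw [isConj_iff]
        refine ⟨g⁻¹ * c, ?_⟩
        show g⁻¹ * c * (x₀ : G) * (g⁻¹ * c)⁻¹ = u
        calc g⁻¹ * c * (x₀ : G) * (g⁻¹ * c)⁻¹ = g⁻¹ * (c * x₀ * (c : G)⁻¹) * g := by group
          _ = u := by rw [hc', hy']; group }

end Cfsg.Agent.ONType.OddCent
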