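import Cfsg.Agent.ONType.RepChk
import Cfsg.Agent.Lib.PermNetOrbit

/-!
The action of the presented O'Nan group `Cfsg.Spor.ON` on 122760 points as a homomorphism to `Equiv.Perm ℕ`:
all relators hold.
-/

set_option autoImplicit false
set_option maxRecDepth 100000

namespace Cfsg.Agent.ONType.Rep

open Cfsg.Agent.Lib.PermNet Cfsg.Agent.Lib.PermNetOrbit Cfsg.Agent.Fischer.Fi24RepLib
  Cfsg.Agent.ONType.RepDef Cfsg.Agent.ONType.RepChk
open Cfsg.Spor.ON (Gen edges extra)

theorem chkR (b : ℕ) (hb : b < 17) : chkL 17 131072 b rels = true := by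
  interval_cases b
  · exact r0
  · exact r1
  · exact r2
  · exact r3
  · exact r4
  · exact r5
  · exact r6
  · exact r7
  · exact r8
  · exact r9
  · exact r10
  · exact r11
  · exact r12
  · exact r13
  · exact r14
  · exact r15
  · exact r16

/-- The permutation of a word. -/
noncomputable def prd (l : List Gen) : Equiv.Perm ℕ := (l.map rho0).prod

theorem prd_eq (l : List Gen) : wperm (nw l false) = prd l := (wperm_nw l).1

theorem prd_cons (x : Gen) (l : List Gen) : prd (x :: l) = rho0 x * prd l := by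
  unfold prd; rw [List.map_cons, List.prod_cons]

theorem prd_nil : prd [] = 1 := rfl

theorem eq_of_rel {x : List Gen × List Gen} (hx : x ∈ relW) : prd x.1 = prd x.2 := by
  rw [← prd_eq, ← prd_eq]
  refine wperm_eq_of_chk1 (k := 17) (N := 131072) (by norm_num) (wok _ _) (wok _ _) (fun b hb => ?_)
  exact chkL_spec (chkR b hb) (nw x.1 false, nw x.2 false) (List.mem_map_of_mem (f := fun x => (nw x.1 false, nw x.2 false)) hx)

theorem rho0_sq {x : Gen} (hx : x ∈ invs) : rho0 x * rho0 x = 1 := by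
  have h := eq_of_rel (x := ([x, x], [])) (by
    unfold relW
    exact List.mem_append_left _ (List.mem_map_of_mem (f := fun x => ([x, x], [])) hx))
  simpa [prd_cons, prd_nil] using h

theorem rho0_comm {x y : Gen} (hx : (x, y) ∈ comms) : rho0 x * rho0 y = rho0 y * rho0 x := by
  have h := eq_of_rel (x := ([x, y], [y, x])) (by
    unfold relW
    exact List.mem_append_right _ (List.mem_append_left _
      (List.mem_map_of_mem (f := fun x : Gen × Gen => ([x.1, x.2], [x.2, x.1])) hx)))
  simpa [prd_cons, prd_nil] using h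

theorem rho0_braid {x y : Gen} (hx : (x, y) ∈ braids) :
    rho0 x * rho0 y * rho0 x = rho0 y * rho0 x * rho0 y := by
  have h := eq_of_rel (x := ([x, y, x], [y, x, y])) (by
    unfold relW
    exact List.mem_append_right _ (List.mem_append_right _ (List.mem_append_left _
      (List.mem_map_of_mem (f := fun x : Gen × Gen => ([x.1, x.2, x.1], [x.2, x.1, x.2])) hx))))
  simpa [prd_cons, prd_nil, mul_assoc] using h

theorem eq_of_rel' {x : List Gen × List Gen} (hx : x ∈
    [([Gen.a, .f], [Gen.g, .g]), ([.a, .f], [.c, .d, .c, .d, .c, .d, .c, .d]),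
      ([.c, .d, .g, .d, .g], [.d, .g, .d, .g, .c]), ([.d, .c, .g, .c, .g], [.c, .g, .c, .g, .d]),
      ([.b, .c, .d, .g, .b, .c, .d, .g, .b, .c, .d, .g, .b, .c, .d, .g, .b, .c, .d, .g], []),
      ([.g, .b, .c, .g, .c, .b, .g, .b, .c, .g, .c], []),
      ([.g, .e, .d, .g, .d, .e, .g, .e, .d, .g, .d], [])]) : prd x.1 = prd x.2 := by
  refine eq_of_rel ?_
  unfold relW
  exact List.mem_append_right _ (List.mem_append_right _ (List.mem_append_right _ hx))

theorem pow_two_of_comm {G : Type*} [Group G] {x y : G} (hx : x * x = 1) (hy : y * y = 1)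
    (h : x * y = y * x) : (x * y) ^ 2 = 1 := by
  calc (x * y) ^ 2 = x * (y * x) * y := by rw [pow_two]; group
    _ = x * (x * y) * y := by rw [h]
    _ = (x * x) * (y * y) := by group
    _ = 1 := by rw [hx, hy, one_mul]

theorem pow_three_of_braid {G : Type*} [Group G] {x y : G} (hx : x * x = 1) (hy : y * y = 1)
    (h : x * y * x = y * x * y) : (x * y) ^ 3 = 1 := by
  calc (x * y) ^ 3 = (x * y * x) * (y * x * y) := by simp only [pow_succ, pow_zero, one_mul, mul_assoc]
    _ = (x * y * x) * (x * y * x) := by rw [h]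
    _ = x * y * (x * x) * y * x := by group
    _ = x * (y * y) * x := by rw [hx]; group
    _ = 1 := by rw [hy, mul_one, hx]

theorem af_eq_gg : rho0 .a * rho0 .f = rho0 .g * rho0 .g := by
  have h := eq_of_rel' (x := ([.a, .f], [.g, .g])) (by simp)
  simpa [prd_cons, prd_nil] using h

theorem af_eq_cd : rho0 .a * rho0 .f = (rho0 .c * rho0 .d) ^ 4 := by
  have h := eq_of_rel' (x := ([.a, .f], [.c, .d, .c, .d, .c, .d, .c, .d])) (by simp)
  simp only [prd_cons, prd_nil, mul_one] at h
  rw [h]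
  simp only [pow_succ, pow_zero, one_mul, mul_assoc]

theorem cd_pow : (rho0 .c * rho0 .d) ^ 8 = 1 := by
  rw [show (8 : ℕ) = 4 * 2 by norm_num, pow_mul, ← af_eq_cd]
  exact pow_two_of_comm (rho0_sq (by decide)) (rho0_sq (by decide)) (rho0_comm (by decide))

theorem dc_pow : (rho0 .d * rho0 .c) ^ 8 = 1 := by
  have h : rho0 .d * rho0 .c = (rho0 .c * rho0 .d)⁻¹ := by
    rw [mul_inv_rev, inv_eq_of_mul_eq_one_left (rho0_sq (x := .c) (by decide)),
      inv_eq_of_mul_eq_one_left (rho0_sq (x := .d) (by decide))]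
  rw [h, inv_pow, cd_pow, inv_one]

theorem cox_rel (x y : Gen) (hx : x ∈ invs) (hy : y ∈ invs) :
    (rho0 x * rho0 y) ^ Cfsg.Spor.coxLabel edges x y = 1 := by
  have key : (x = y ∧ Cfsg.Spor.coxLabel edges x y = 1) ∨
      (Cfsg.Spor.coxLabel edges x y = 2 ∧ ((x, y) ∈ comms ∨ (y, x) ∈ comms)) ∨
      (Cfsg.Spor.coxLabel edges x y = 3 ∧ ((x, y) ∈ braids ∨ (y, x) ∈ braids)) ∨
      (Cfsg.Spor.coxLabel edges x y = 8 ∧ ((x = .c ∧ y = .d) ∨ (x = .d ∧ y = .c))) := by
    revert hx hy; cases x <;> cases y <;> decide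
  rcases key with ⟨rfl, h⟩ | ⟨h, h'⟩ | ⟨h, h'⟩ | ⟨h, h'⟩
  · rw [h, pow_one]; exact rho0_sq hx
  · rw [h]
    rcases h' with h' | h'
    · exact pow_two_of_comm (rho0_sq hx) (rho0_sq hy) (rho0_comm h')
    · exact pow_two_of_comm (rho0_sq hx) (rho0_sq hy) (rho0_comm h').symm
  · rw [h]
    rcases h' with h' | h'
    · exact pow_three_of_braid (rho0_sq hx) (rho0_sq hy) (rho0_braid h')
    · exact pow_three_of_braid (rho0_sq hx) (rho0_sq hy) (rho0_braid h').symm
  · rw [h]
    rcases h' with ⟨rfl, rfl⟩ | ⟨rfl, rfl⟩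
    · exact cd_pow
    · exact dc_pow

theorem mem_invs_of_node {x : Gen} (hx : x ∈ Cfsg.Spor.coxNodes edges) : x ∈ invs := by
  revert hx; cases x <;> decide

/-- All relators hold. -/
theorem rels_hold : ∀ r ∈ Cfsg.Spor.coxRelators edges ∪ {r | r ∈ extra}, FreeGroup.lift rho0 r = 1 := by
  refine cox_lift_eq_one rho0 edges extra
    (fun x hx y hy => cox_rel x y (mem_invs_of_node hx) (mem_invs_of_node hy)) ?_
  have hc : (rho0 .c)⁻¹ = rho0 .c := inv_eq_of_mul_eq_one_left (rho0_sq (by decide))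
  have hd : (rho0 .d)⁻¹ = rho0 .d := inv_eq_of_mul_eq_one_left (rho0_sq (by decide))
  have hb : (rho0 .b)⁻¹ = rho0 .b := inv_eq_of_mul_eq_one_left (rho0_sq (by decide))
  have he : (rho0 .e)⁻¹ = rho0 .e := inv_eq_of_mul_eq_one_left (rho0_sq (by decide))
  intro r hr
  unfold extra at hr
  simp only [List.mem_cons, List.not_mem_nil, or_false] at hr
  rcases hr with rfl | rfl | rfl | rfl | rfl | rfl | rfl
  · simp only [map_mul, map_pow, map_inv, Cfsg.Spor.ON.a, Cfsg.Spor.ON.f, Cfsg.Spor.ON.g, FreeGroup.lift_apply_of]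
    rw [af_eq_gg, pow_two, mul_inv_cancel]
  · simp only [map_mul, map_pow, map_inv, Cfsg.Spor.ON.a, Cfsg.Spor.ON.f, Cfsg.Spor.ON.c, Cfsg.Spor.ON.d,
      FreeGroup.lift_apply_of]
    rw [af_eq_cd, mul_inv_cancel]
  · have h := eq_of_rel' (x := ([.c, .d, .g, .d, .g], [.d, .g, .d, .g, .c])) (by simp)
    simp only [prd_cons, prd_nil, mul_one] at h
    simp only [map_mul, map_inv, Cfsg.Spor.ON.c, Cfsg.Spor.ON.d, Cfsg.Spor.ON.g, FreeGroup.lift_apply_of]
    have h2 : rho0 .c * (rho0 .d * rho0 .g * rho0 .d * rho0 .g) = rho0 .d * rho0 .g * rho0 .d * rho0 .g * rho0 .c := by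
      simpa only [mul_assoc] using h
    rw [mul_assoc (rho0 .d * rho0 .g * rho0 .d * rho0 .g)⁻¹, h2, inv_mul_cancel_left]
    exact rho0_sq (by decide)
  · have h := eq_of_rel' (x := ([.d, .c, .g, .c, .g], [.c, .g, .c, .g, .d])) (by simp)
    simp only [prd_cons, prd_nil, mul_one] at h
    simp only [map_mul, map_inv, Cfsg.Spor.ON.c, Cfsg.Spor.ON.d, Cfsg.Spor.ON.g, FreeGroup.lift_apply_of]
    have h2 : rho0 .d * (rho0 .c * rho0 .g * rho0 .c * rho0 .g) = rho0 .c * rho0 .g * rho0 .c * rho0 .g * rho0 .d := by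
      simpa only [mul_assoc] using h
    rw [mul_assoc (rho0 .c * rho0 .g * rho0 .c * rho0 .g)⁻¹, h2, inv_mul_cancel_left]
    exact rho0_sq (by decide)
  · have h := eq_of_rel' (x := ([.b, .c, .d, .g, .b, .c, .d, .g, .b, .c, .d, .g, .b, .c, .d, .g, .b, .c, .d, .g], []))
      (by simp)
    simp only [prd_cons, prd_nil, mul_one] at h
    simp only [map_mul, map_pow, Cfsg.Spor.ON.b, Cfsg.Spor.ON.c, Cfsg.Spor.ON.d, Cfsg.Spor.ON.g,
      FreeGroup.lift_apply_of]
    simpa only [pow_succ, pow_zero, one_mul, mul_assoc] using h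
  · have h := eq_of_rel' (x := ([.g, .b, .c, .g, .c, .b, .g, .b, .c, .g, .c], [])) (by simp)
    simp only [prd_cons, prd_nil, mul_one] at h
    simp only [map_mul, map_inv, Cfsg.Spor.ON.b, Cfsg.Spor.ON.c, Cfsg.Spor.ON.g, FreeGroup.lift_apply_of, hb, hc]
    simpa only [mul_assoc] using h
  · have h := eq_of_rel' (x := ([.g, .e, .d, .g, .d, .e, .g, .e, .d, .g, .d], [])) (by simp)
    simp only [prd_cons, prd_nil, mul_one] at h
    simp only [map_mul, map_inv, Cfsg.Spor.ON.e, Cfsg.Spor.ON.d, Cfsg.Spor.ON.g, FreeGroup.lift_apply_of, he, hd]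
    simpa only [mul_assoc] using h

/-- The action of the presented O'Nan group on the 122760 points. -/
noncomputable def rho : Cfsg.Spor.ON →* Equiv.Perm ℕ := PresentedGroup.toGroup rels_hold

/-- The generators of the presented group. -/
def gen (x : Gen) : Cfsg.Spor.ON := PresentedGroup.of x

theorem rho_gen (x : Gen) : rho (gen x) = rho0 x := PresentedGroup.toGroup.of _

/-- The group element of a word in the generators. -/
def word (l : List Gen) : Cfsg.Spor.ON := (l.map gen).prod

theorem rho_word (l : List Gen) : rho (word l) = wperm (nw l false) := by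
  rw [prd_eq]
  unfold word prd
  induction l with
  | nil => simp
  | cons x l ih => rw [List.map_cons, List.prod_cons, map_mul, rho_gen, List.map_cons, List.prod_cons, ih]

/-- The network words of a list of words in the generators. -/
noncomputable def nws (ws : List (List Gen)) : List (List Net) := ws.map (fun l => nw l false)

theorem nws_ok (ws : List (List Gen)) : WsOk 131072 (nws ws) := by
  intro w hw
  obtain ⟨l, _, rfl⟩ := List.mem_map.1 hw
  exact wok l false

end Cfsg.Agent.ONType.Rep
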