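import Cfsg.Agent.ONType.RepDef

/-! Kernel checks: the relations of the O'Nan group on all bit planes. -/

set_option autoImplicit false
set_option maxRecDepth 100000
set_option Elab.async false

namespace Cfsg.Agent.ONType.RepChk

open Cfsg.Agent.Fischer.Fi24RepLib Cfsg.Agent.ONType.RepDef

theorem r0 : chkL 17 131072 0 rels = true := by decide +kernel
theorem r1 : chkL 17 131072 1 rels = true := by decide +kernel
theorem r2 : chkL 17 131072 2 rels = true := by decide +kernel
theorem r3 : chkL 17 131072 3 rels = true := by decide +kernel
theorem r4 : chkL 17 131072 4 rels = true := by decide +kernel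
theorem r5 : chkL 17 131072 5 rels = true := by decide +kernel
theorem r6 : chkL 17 131072 6 rels = true := by decide +kernel
theorem r7 : chkL 17 131072 7 rels = true := by decide +kernel
theorem r8 : chkL 17 131072 8 rels = true := by decide +kernel
theorem r9 : chkL 17 131072 9 rels = true := by decide +kernel
theorem r10 : chkL 17 131072 10 rels = true := by decide +kernel
theorem r11 : chkL 17 131072 11 rels = true := by decide +kernel
theorem r12 : chkL 17 131072 12 rels = true := by decide +kernel
theorem r13 : chkL 17 131072 13 rels = true := by decide +kernel
theorem r14 : chkL 17 131072 14 rels = true := by decide +kernel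
theorem r15 : chkL 17 131072 15 rels = true := by decide +kernel
theorem r16 : chkL 17 131072 16 rels = true := by decide +kernel

end Cfsg.Agent.ONType.RepChk
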