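import Cfsg.Prelude.Def_Spor_ON
import Cfsg.Agent.ONType.RepPi
import Cfsg.Agent.ONType.RepG
import Cfsg.Agent.ONType.RepGen

/-!
The action of the generators of the presented O'Nan group on 122760 points (positions below `2^17`).
The generators `a, c, e` act by short networks in the first numbering of the points, `b, d, f` in
the second one; `pi` is the network between the numberings; `g` acts by a long network in the first numbering.
-/

set_option autoImplicit false
set_option maxRecDepth 100000

namespace Cfsg.Agent.ONType.RepDef

open Cfsg.Agent.Lib.PermNet Cfsg.Agent.Fischer.Fi24RepLib Cfsg.Agent.ONType.RepPi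
  Cfsg.Agent.ONType.RepG Cfsg.Agent.ONType.RepGen
open Cfsg.Spor.ON (Gen)

/-- The network of a generator in its own numbering. -/
noncomputable def net : Gen → Net
  | .g => ng
  | .a => na
  | .b => nb
  | .c => nc
  | .d => nd
  | .e => ne
  | .f => nf

/-- Does the generator act in the first numbering? -/
def fst : Gen → Bool
  | .g => true
  | .a => true
  | .b => false
  | .c => true
  | .d => false
  | .e => true
  | .f => false

theorem pir_eq : pir = revAux pi .nil := rfl

theorem perm_pir : pir.perm = pi.perm⁻¹ := by rw [pir_eq, perm_rev]

theorem ok_pi : pi.ok 131072 = true := by decide +kernel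
theorem ok_pir : pir.ok 131072 = true := by decide +kernel
theorem ok_a : na.ok 131072 = true := by decide +kernel
theorem ok_b : nb.ok 131072 = true := by decide +kernel
theorem ok_c : nc.ok 131072 = true := by decide +kernel
theorem ok_d : nd.ok 131072 = true := by decide +kernel
theorem ok_e : ne.ok 131072 = true := by decide +kernel
theorem ok_f : nf.ok 131072 = true := by decide +kernel
theorem ok_g : ng.ok 131072 = true := by decide +kernel

theorem ok_net (x : Gen) : (net x).ok 131072 = true := by
  cases x
  · exact ok_g
  · exact ok_a
  · exact ok_b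
  · exact ok_c
  · exact ok_d
  · exact ok_e
  · exact ok_f

/-- The word of a generator. -/
noncomputable def gw (x : Gen) : List Net := Bool.rec [pi, net x, pir] [net x] (fst x)

/-- The permutation of a generator. -/
noncomputable def rho0 (x : Gen) : Equiv.Perm ℕ := wperm (gw x)

/-- The networks of a word in the generators; the second argument says whether we are in the second numbering. -/
noncomputable def nw (l : List Gen) : Bool → List Net :=
  List.rec (motive := fun _ => Bool → List Net) (fun b => Bool.rec [] [pir] b)
    (fun g _ ih b => Bool.rec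
      (Bool.rec (pi :: net g :: ih true) (net g :: ih true) b)
      (Bool.rec (net g :: ih false) (pir :: net g :: ih false) b) (fst g)) l

theorem wok (l : List Gen) (b : Bool) : WOk 131072 (nw l b) := by
  induction l generalizing b with
  | nil =>
    cases b
    · exact WOk.nil _
    · exact WOk.cons ok_pir (WOk.nil _)
  | cons g l ih =>
    show WOk 131072 (Bool.rec
      (Bool.rec (pi :: net g :: nw l true) (net g :: nw l true) b)
      (Bool.rec (net g :: nw l false) (pir :: net g :: nw l false) b) (fst g) : List Net)
    cases hf : fst g <;> cases b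
    · exact WOk.cons ok_pi (WOk.cons (ok_net g) (ih _))
    · exact WOk.cons (ok_net g) (ih _)
    · exact WOk.cons (ok_net g) (ih _)
    · exact WOk.cons ok_pir (WOk.cons (ok_net g) (ih _))

theorem rho0_fst {x : Gen} (h : fst x = true) : rho0 x = (net x).perm := by
  unfold rho0 gw
  rw [h]
  simp

theorem rho0_snd {x : Gen} (h : fst x = false) : rho0 x = pi.perm * (net x).perm * pi.perm⁻¹ := by
  unfold rho0 gw
  rw [h]
  simp [perm_pir, mul_assoc]

theorem wperm_nw (l : List Gen) : wperm (nw l false) = (l.map rho0).prod ∧
    wperm (nw l true) = pi.perm⁻¹ * (l.map rho0).prod := by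
  induction l with
  | nil =>
    refine ⟨rfl, ?_⟩
    show wperm [pir] = _
    simp [perm_pir]
  | cons g l ih =>
    obtain ⟨ih1, ih2⟩ := ih
    have e1 : nw (g :: l) false = (Bool.rec (pi :: net g :: nw l true) (net g :: nw l false) (fst g) : List Net) := rfl
    have e2 : nw (g :: l) true = (Bool.rec (net g :: nw l true) (pir :: net g :: nw l false) (fst g) : List Net) := rfl
    rw [e1, e2, List.map_cons, List.prod_cons]
    cases hf : fst g
    · rw [rho0_snd hf]
      refine ⟨?_, ?_⟩
      · show wperm (pi :: net g :: nw l true) = _
        rw [wperm_cons, wperm_cons, ih2]; group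
      · show wperm (net g :: nw l true) = _
        rw [wperm_cons, ih2]; group
    · rw [rho0_fst hf]
      refine ⟨?_, ?_⟩
      · show wperm (net g :: nw l false) = _
        rw [wperm_cons, ih1]
      · show wperm (pir :: net g :: nw l false) = _
        rw [wperm_cons, wperm_cons, ih1, perm_pir]

/-! ### The relations to be checked -/

/-- the involutions -/
def invs : List Gen := [.a, .b, .c, .d, .e, .f]

/-- the pairs of commuting involutions -/
def comms : List (Gen × Gen) := [(.a, .c), (.a, .d), (.a, .e), (.a, .f), (.b, .d), (.b, .e), (.b, .f),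
  (.c, .e), (.c, .f), (.d, .f)]

/-- the pairs with a braid relation -/
def braids : List (Gen × Gen) := [(.a, .b), (.b, .c), (.d, .e), (.e, .f)]

/-- all relations, as pairs of positive words -/
def relW : List (List Gen × List Gen) :=
  invs.map (fun x => ([x, x], [])) ++ (comms.map (fun x => ([x.1, x.2], [x.2, x.1])) ++
    (braids.map (fun x => ([x.1, x.2, x.1], [x.2, x.1, x.2])) ++
    [([.a, .f], [.g, .g]), ([.a, .f], [.c, .d, .c, .d, .c, .d, .c, .d]),
      ([.c, .d, .g, .d, .g], [.d, .g, .d, .g, .c]), ([.d, .c, .g, .c, .g], [.c, .g, .c, .g, .d]),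
      ([.b, .c, .d, .g, .b, .c, .d, .g, .b, .c, .d, .g, .b, .c, .d, .g, .b, .c, .d, .g], []),
      ([.g, .b, .c, .g, .c, .b, .g, .b, .c, .g, .c], []),
      ([.g, .e, .d, .g, .d, .e, .g, .e, .d, .g, .d], [])]))

noncomputable def rels : List (List Net × List Net) := relW.map (fun x => (nw x.1 false, nw x.2 false))

end Cfsg.Agent.ONType.RepDef
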