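import Cfsg.Agent.S0243
import Cfsg.Agent.ONType.S1657Core
import Cfsg.Agent.ONType.RepCent
import Cfsg.Agent.SporRec.ONLower

/-!
`S1657` from the facts about groups of O'Nan type: isomorphism with the presented group, one class of involutions.
-/

set_option autoImplicit false
set_option maxRecDepth 100000

namespace Cfsg.Agent.ONType.S1657Final

open Cfsg.Spor (ON)
open Cfsg.Agent.SporadicB.ON45Word (on)
open Cfsg.Agent.ONType.S1657Core

theorem card_PSL3 {F : Type} [Field F] [Fintype F] (hF : Fintype.card F = 4) :
    Nat.card (Matrix.ProjectiveSpecialLinearGroup (Fin 3) F) = 20160 := by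
  have h := Cfsg.Agent.S0243.result (F := F) (q := 4) hF 3 (by norm_num)
  simp only [Fin.prod_univ_three] at h
  have h2 : Nat.gcd 3 (4 - 1) * ((4 - 1) * Nat.card (Matrix.ProjectiveSpecialLinearGroup (Fin 3) F)) =
    (64 - 1) * (64 - 4) * (64 - 16) := h
  have h3 : Nat.gcd 3 (4 - 1) = 3 := by decide
  rw [h3] at h2
  omega

/-- The order of the centraliser of an involution in a group of O'Nan type. -/
theorem card_centralizer {C : Type*} [Group C] (M : Subgroup C) (hM : M.index = 2)
    (hZ4 : Nat.card (Subgroup.center M) = 4) (F : Type) [Field F] [Fintype F] (hF : Fintype.card F = 4)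
    (e : M ⧸ Subgroup.center M ≃* Matrix.ProjectiveSpecialLinearGroup (Fin 3) F) :
    Nat.card C = 161280 := by
  have h1 := Subgroup.card_mul_index M
  have h2 := Subgroup.card_mul_index (Subgroup.center M)
  have h3 : (Subgroup.center M).index = 20160 := by
    rw [Subgroup.index, Nat.card_congr e.toEquiv, card_PSL3 hF]
  rw [hZ4, h3] at h2
  rw [hM] at h1
  omega

section

variable {G : Type*} [Group G] (e0 : G ≃* ON) (t : G) (ht : orderOf t = 2)
  (hone : ∀ s : G, orderOf s = 2 → IsConj s t)

theorem orderOf_f : orderOf (on .f) = 2 := by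
  have h1 : orderOf (SporRec.ONAssembly.theta SporRec.ONL37.qf) = orderOf SporRec.ONL37.qf :=
    orderOf_injective SporRec.ONAssembly.theta (SporRec.ONAssembly.theta_injective SporRec.ONLower.ab_ne_one) _
  rw [SporRec.ONAssembly.theta_qf] at h1
  refine h1.trans (orderOf_eq_prime ?_ qf_ne_one)
  rw [pow_two]
  exact pathRels_q.ff

include e0 ht hone

theorem isConj_f (s : ON) (hs : orderOf s = 2) : IsConj s (on .f) := by
  have key : ∀ s : ON, orderOf s = 2 → IsConj s (e0 t) := by
    intro s hs
    have h1 : orderOf (e0.symm s) = 2 := by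
      rw [← hs]
      exact orderOf_injective e0.symm.toMonoidHom e0.symm.injective s
    obtain ⟨c, hc⟩ := isConj_iff.mp (hone _ h1)
    have h2 := congrArg e0 hc
    rw [map_mul, map_mul, e0.apply_symm_apply, map_inv] at h2
    exact isConj_iff.mpr ⟨e0 c, h2⟩
  exact (key s hs).trans (key _ orderOf_f).symm

theorem card_centralizer_f (hC : Nat.card (Subgroup.centralizer ({t} : Set G)) = 161280) :
    Nat.card (Subgroup.centralizer ({on .f} : Set ON)) = 161280 := by
  have h1 : orderOf (e0 t) = 2 := by
    rw [← ht]
    exact orderOf_injective e0.toMonoidHom e0.injective t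
  obtain ⟨y, hy⟩ := isConj_iff.mp (isConj_f e0 t ht hone _ h1)
  have h3 := card_centralizer_equiv (e0.trans (MulAut.conj y)) t
  rw [MulEquiv.trans_apply, MulAut.conj_apply, hy, hC] at h3
  exact h3

/-- `S1657`, given the isomorphism with the presented group and that all involutions are conjugate. -/
theorem final (hON : Cfsg.IsON ON) (hidx : SporRec.ONAssembly.H.index = 122760)
    (hT : IsSimpleGroup ON → Nat.card (Subgroup.centralizer ({on .f} : Set ON)) = 161280 →
      Subgroup.centralizer ({on .f} : Set ON) = Subgroup.closure {on .a, on .b, on .c, on .d, on .g} → TupleConj)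
    [Finite G] (hC : Nat.card (Subgroup.centralizer ({t} : Set G)) = 161280)
    (H : Subgroup G) (N : Subgroup H) [N.Normal]
    (hN : N.index = 2) (eN : N ≃* SporRec.ONL37.PSL37) :
    H.index = 122760 ∧ ∃ q₁ q₂ q₃ q₄ : G ⧸ H, (MulAction.orbit H q₁).ncard = 6384 ∧
      (MulAction.orbit H q₂).ncard = 5586 ∧ (MulAction.orbit H q₃).ncard = 58653 ∧
      (MulAction.orbit H q₄).ncard = 52136 := by
  have hCf := card_centralizer_f e0 t ht hone hC
  exact main hON hidx (hT hON.1 hCf (RepCent.centralizer_eq hON hCf))
    (fun s hs => isConj_iff.mp (isConj_f e0 t ht hone s hs)) hCf e0 H N hN eN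

end

end Cfsg.Agent.ONType.S1657Final
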