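import Cfsg.Agent.ONType.SFacts

/-!
# The Sylow `2`-subgroup of the centraliser of an involution of type O'N: kernel checks on codes
-/

set_option autoImplicit false
set_option linter.constructorNameAsVariable false

namespace Cfsg.Agent.ONType.SChk

open Cfsg.Agent.SporadicA.FieldFour
open Cfsg.Agent.ONType.Psl (ω)
open Cfsg.Agent.ONType.Data
open Cfsg.Agent.ONType.SGroup
open Cfsg.Agent.ONType.SFacts

/-! ### lists of codes -/

/-- field elements -/
def fs : List F4 := [.z, .o, .w, .v]
/-- exponents -/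
def zs : List ℕ := [0, 1, 2, 3]
/-- codes with a given `e` -/
def part (e : Bool) : List Cd := fs.flatMap fun a => fs.flatMap fun b => fs.flatMap fun c =>
  zs.map fun i => ⟨e, a, b, c, i⟩
/-- codes of elements of `M` -/
def us : List Cd := part false
/-- codes of elements outside `M` -/
def os : List Cd := part true
/-- all codes -/
def all : List Cd := us ++ os

/-- number of a code -/
def num (k : Cd) : ℕ :=
  (((((bif k.e then 1 else 0) * 4 + k.a.toNat) * 4 + k.b.toNat) * 4 + k.c.toNat) * 4 + k.i)

/-- equality test -/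
def eqb (k l : Cd) : Bool := Nat.beq k.i l.i && (Nat.beq k.a.toNat l.a.toNat &&
  (Nat.beq k.b.toNat l.b.toNat && (Nat.beq k.c.toNat l.c.toNat && (k.e == l.e))))

/-- code of `1` -/
def c1 : Cd := ⟨false, .z, .z, .z, 0⟩
/-- code of `t` -/
def ct : Cd := ⟨false, .z, .z, .z, 2⟩
/-- code of `z` -/
def cz : Cd := ⟨false, .z, .z, .z, 1⟩
/-- code of `u` -/
def cu : Cd := ⟨false, .z, .z, .o, 0⟩
/-- code of `u t` -/
def cut : Cd := ⟨false, .z, .z, .o, 2⟩
/-- code of `τ z ^ j` -/
def tau (j : ℕ) : Cd := ⟨true, .z, .z, .z, j⟩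

theorem mem_fs (a : F4) : a ∈ fs := by cases a <;> simp [fs]

theorem mem_zs {i : ℕ} (hi : i < 4) : i ∈ zs := by
  interval_cases i <;> simp [zs]

theorem mem_part {k : Cd} (hk : k.i < 4) : k ∈ part k.e := by
  obtain ⟨e, a, b, c, i⟩ := k
  exact List.mem_flatMap.2 ⟨a, mem_fs a, List.mem_flatMap.2 ⟨b, mem_fs b,
    List.mem_flatMap.2 ⟨c, mem_fs c, List.mem_map.2 ⟨i, mem_zs hk, rfl⟩⟩⟩⟩

theorem mem_us {k : Cd} (hk : k.i < 4) (he : k.e = false) : k ∈ us := by
  have := mem_part hk
  rwa [he] at this

theorem mem_os {k : Cd} (hk : k.i < 4) (he : k.e = true) : k ∈ os := by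
  have := mem_part hk
  rwa [he] at this

theorem mem_all {k : Cd} (hk : k.i < 4) : k ∈ all := by
  cases he : k.e
  · exact List.mem_append_left _ (mem_us hk he)
  · exact List.mem_append_right _ (mem_os hk he)

theorem part_i {e : Bool} {k : Cd} (hk : k ∈ part e) : k.i < 4 ∧ k.e = e := by
  obtain ⟨a, _, h⟩ := List.mem_flatMap.1 hk
  obtain ⟨b, _, h⟩ := List.mem_flatMap.1 h
  obtain ⟨c, _, h⟩ := List.mem_flatMap.1 h
  obtain ⟨i, hi, rfl⟩ := List.mem_map.1 h
  refine ⟨?_, rfl⟩
  simp only [zs, List.mem_cons, List.not_mem_nil, or_false] at hi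
  show i < 4
  omega

theorem us_i {k : Cd} (hk : k ∈ us) : k.i < 4 := (part_i hk).1
theorem us_e {k : Cd} (hk : k ∈ us) : k.e = false := (part_i hk).2

theorem all_i {k : Cd} (hk : k ∈ all) : k.i < 4 := by
  rcases List.mem_append.1 hk with h | h
  · exact (part_i h).1
  · exact (part_i h).1

theorem toNat_inj {a b : F4} (h : a.toNat = b.toNat) : a = b := by
  rw [← F4.ofNat_toNat a, h, F4.ofNat_toNat]

theorem eqb_iff {k l : Cd} : eqb k l = true ↔ k = l := by
  constructor
  · intro h
    unfold eqb at h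
    simp only [Bool.and_eq_true, Nat.beq_eq, beq_iff_eq] at h
    obtain ⟨h1, h2, h3, h4, h5⟩ := h
    obtain ⟨e, a, b, c, i⟩ := k
    obtain ⟨e', a', b', c', i'⟩ := l
    simp only at h1 h2 h3 h4 h5
    rw [h1, toNat_inj h2, toNat_inj h3, toNat_inj h4, h5]
  · rintro rfl
    unfold eqb
    simp only [Bool.and_eq_true, Nat.beq_eq, beq_iff_eq, and_self]

theorem eqb_false_iff {k l : Cd} : eqb k l = false ↔ k ≠ l := by
  rw [Ne, ← eqb_iff, Bool.not_eq_true]

theorem nodup_all : all.Nodup := by
  have h : all.map num = List.range 512 := by decide +kernel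
  have h2 : (all.map num).Nodup := by rw [h]; exact List.nodup_range
  exact h2.of_map

theorem length_all : all.length = 512 := by decide +kernel

theorem nm_i (two e : Bool) (k l : Cd) : (nm two e k l).i < 4 := by
  unfold nm; simp only [fF_eq, fZ_eq]; exact Nat.mod_lt _ (by decide)

theorem mul_i (P : Par) (k l : Cd) : (mul P k l).i < 4 := by
  unfold mul
  cases l.e
  · exact nm_i _ _ _ _
  · cases k.e
    · exact nm_i _ _ _ _
    · simp only
      unfold adz
      simp only [fZ_eq]
      exact Nat.mod_lt _ (by decide)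

/-! ### the checks -/

/-- codes commuting with `u` -/
def T0 (P : Par) : List Cd := all.filter fun x => eqb (mul P x cu) (mul P cu x)

/-- the test for a swap of `t` and `u` -/
def test (P : Par) : Bool :=
  let T := T0 P
  Nat.beq (T.filter fun x => eqb (mul P x x) ct).length
    (T.filter fun x => eqb (mul P x x) cu).length &&
    T.any fun w => eqb (mul P w w) cu &&
      T.all fun x => eqb (mul P x w) (mul P w x) || eqb (mul P w (mul P x w)) x

/-- outer involutions -/
def oinv (P : Par) : List Cd := os.filter fun x => eqb (mul P x x) c1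

/-- conjugating elements -/
def tv (P : Par) : List Cd :=
  bif P.gr then
    (bif P.fld then
      [F4.z, .w].flatMap fun a => fs.flatMap fun b => [F4.z, .w].flatMap fun c =>
        [⟨false, a, b, c, 0⟩, ⟨false, a, b, c, 1⟩]
    else
      fs.flatMap fun a => fs.flatMap fun b => [⟨false, a, b, .z, 0⟩, ⟨false, a, b, .z, 1⟩])
  else
    [F4.z, .w].flatMap fun a => [F4.z, .w].flatMap fun b => [F4.z, .w].flatMap fun c =>
      [⟨false, a, b, c, 0⟩, ⟨false, a, b, c, 1⟩]

/-- every outer involution is conjugate to `τ` or `τ z` -/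
def lang (P : Par) : Bool := (oinv P).all fun v => (tv P).any fun m =>
  eqb (mul P v m) (mul P m (tau 0)) || eqb (mul P v m) (mul P m (tau 1))

/-- some elements -/
def few : List Cd := [⟨false, .o, .w, .z, 0⟩, ⟨false, .w, .w, .z, 0⟩, ⟨true, .o, .z, .z, 0⟩,
  ⟨true, .w, .z, .z, 0⟩, ⟨true, .z, .o, .z, 0⟩]

/-- no outer involution commutes with all squares -/
def nosq (P : Par) : Bool := (oinv P).all fun v => few.any fun y =>
  !eqb (mul P v (mul P y y)) (mul P (mul P y y) v)

/-- the centraliser of `s` commutes with `u` -/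
def b2a (P : Par) (s : Cd) : Bool :=
  all.all fun x => !eqb (mul P x s) (mul P s x) || eqb (mul P x cu) (mul P cu x)

/-- every outer involution commuting with `s` is conjugate to `s` -/
def b2b (P : Par) (s : Cd) : Bool :=
  (oinv P).all fun v => (!eqb (mul P s v) (mul P v s)) ||
    (tv P).any fun m => eqb (mul P v m) (mul P m s)

/-- some elements -/
def ms : List Cd := (fs.flatMap fun a => fs.map fun c => ⟨false, a, .z, c, 0⟩) ++
  (fs.flatMap fun b => fs.map fun c => ⟨false, .z, b, c, 0⟩)

/-- root element -/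
def root (k : Cd) : Cd :=
  match k.a with
  | .z => match k.b with
    | .z => ⟨false, .z, .z, k.c, 0⟩
    | b => ⟨false, .z, b, .z, 0⟩
  | a => ⟨false, a, .z, .z, 0⟩

/-- the involutions of `U` are conjugate to root elements -/
def invc (two : Bool) : Bool := us.all fun k => !eqb (nm two false k k) c1 || (eqb k c1 ||
  (eqb k ct || ms.any fun m => eqb (nm two false k m) (nm two false m (root k))))

theorem invc_ok : invc false = true ∧ invc true = true := by decide +kernel
theorem T0_ok : ∀ P ∈ pars, Nat.beq (T0 P).length 256 = true := by decide +kernel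
theorem nosq_ok : ∀ P ∈ pars, nosq P = true := by decide +kernel
theorem lang_ok : ∀ P ∈ pars, P.neg = true → lang P = true := by decide +kernel
theorem oinv_ok : ∀ P ∈ pars, P.neg = true → P.q ≠ 0 → (oinv P).isEmpty = true := by
  decide +kernel
theorem b2a_ok : ∀ P ∈ pars, P.neg = true → P.q = 0 →
    b2a P (tau 0) = true ∧ b2a P (tau 1) = true := by decide +kernel
theorem b2b_ok : ∀ P ∈ pars, P.neg = true → P.q = 0 →
    b2b P (tau 0) = true ∧ b2b P (tau 1) = true := by decide +kernel

/-- The parameters of the O'Nan group. -/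
def PON : Par := ⟨true, true, true, true, 0⟩

theorem test_ok : ∀ P ∈ pars, test P = true → P = PON := by
  have h : ∀ P ∈ pars, test P = true →
      (P.two && (P.fld && (P.gr && (P.neg && Nat.beq P.q 0)))) = true := by decide +kernel
  intro P hP ht
  have h2 := h P hP ht
  simp only [Bool.and_eq_true, Nat.beq_eq] at h2
  obtain ⟨h1, h3, h4, h5, h6⟩ := h2
  obtain ⟨a, b, c, d, q⟩ := P
  simp only at h1 h3 h4 h5 h6
  rw [h1, h3, h4, h5, h6]
  rfl

end Cfsg.Agent.ONType.SChk
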