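import Cfsg.Agent.ONType.Setup

/-!
# Codes for the elements of a Sylow 2-subgroup of the involution centraliser

`N` codes the elements `x01(a) x12(b) x02(c) z^i` of a Sylow 2-subgroup of `M`, `Cd` the elements
`τ^e n`.  `nmul two`, `ninv two`, `nact ty` are multiplication, inversion and the action of `τ` on
`N`; `cmul ty`, `cinv ty` multiplication and inversion on `Cd`.  Everything is computable and quick
in the kernel.
-/

set_option autoImplicit false
set_option linter.constructorNameAsVariable false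
set_option linter.unusedVariables false

namespace Cfsg.Agent.ONType.SCode

open Cfsg.Agent.SporadicA.FieldFour
open Cfsg.Agent.ONType.Setup

/-- trace -/
def tr4 : F4 → ℕ
  | .z => 0
  | .o => 0
  | .w => 1
  | .v => 1

/-- reduction modulo four -/
def r4 (n : ℕ) : Fin 4 := ⟨n % 4, Nat.mod_lt n (by decide)⟩

/-- codes for the Sylow subgroup of `M` -/
structure N where
  a : F4
  b : F4
  c : F4
  i : Fin 4
  deriving DecidableEq

/-- codes for the Sylow subgroup of `C` -/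
structure Cd where
  e : Bool
  n : N
  deriving DecidableEq

/-- multiplication -/
def nmul (two : Bool) (p q : N) : N :=
  ⟨F4.add p.a q.a, F4.add p.b q.b, F4.add (F4.add (F4.mul q.a p.b) p.c) q.c,
    r4 (p.i.val + q.i.val + 3 * g4 two (F4.mul q.a (F4.mul p.b p.b)) +
      2 * (tr4 (F4.mul p.c q.a) + tr4 (F4.mul (F4.add (F4.mul q.a p.b) p.c) q.b)))⟩

/-- inversion -/
def ninv (two : Bool) (p : N) : N :=
  ⟨p.a, p.b, F4.add (F4.mul p.a p.b) p.c,
    r4 (3 * p.i.val + g4 two (F4.mul p.a (F4.mul p.b p.b)) +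
      2 * (tr4 (F4.mul p.c p.a) + tr4 (F4.mul (F4.add (F4.mul p.a p.b) p.c) p.b)))⟩

/-- multiplication by `z ^ k` -/
def nz (k : ℕ) (p : N) : N := ⟨p.a, p.b, p.c, r4 (p.i.val + k)⟩

/-- Frobenius or the identity -/
def fb : Bool → F4 → F4
  | false, u => u
  | true, u => F4.mul u u

/-- the action of `τ` by conjugation, `n ↦ τ⁻¹ n τ` -/
def nact (ty : Ty) (p : N) : N :=
  bif ty.gr then
    ⟨fb ty.fr p.b, fb ty.fr p.a, F4.add (fb ty.fr p.c) (F4.mul (fb ty.fr p.a) (fb ty.fr p.b)),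
      r4 ((bif ty.inv then 3 * p.i.val else p.i.val) +
        3 * g4 ty.two (F4.mul (fb ty.fr p.b) (F4.mul (fb ty.fr p.a) (fb ty.fr p.a))))⟩
  else ⟨fb ty.fr p.a, fb ty.fr p.b, fb ty.fr p.c,
      r4 (bif ty.inv then 3 * p.i.val else p.i.val)⟩

/-- multiplication -/
def cmul (ty : Ty) (p q : Cd) : Cd :=
  match q.e with
  | false => ⟨p.e, nmul ty.two p.n q.n⟩
  | true =>
    match p.e with
    | false => ⟨true, nmul ty.two (nact ty p.n) q.n⟩
    | true => ⟨false, nz ty.e2 (nmul ty.two (nact ty p.n) q.n)⟩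

/-- inversion -/
def cinv (ty : Ty) (p : Cd) : Cd :=
  match p.e with
  | false => ⟨false, ninv ty.two p.n⟩
  | true => ⟨true, nz (4 - ty.e2) (nact ty (ninv ty.two p.n))⟩

/-- unit -/
def n1 : N := ⟨.z, .z, .z, 0⟩
/-- unit -/
def c1 : Cd := ⟨false, n1⟩
/-- conjugation `y⁻¹ p y` -/
def cconj (ty : Ty) (p y : Cd) : Cd := cmul ty (cinv ty y) (cmul ty p y)

/-! ### quick decision procedures -/

instance (priority := 2000) decF4 (P : F4 → Prop) [DecidablePred P] : Decidable (∀ a, P a) :=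
  decidable_of_iff (P .z ∧ P .o ∧ P .w ∧ P .v)
    ⟨fun ⟨h1, h2, h3, h4⟩ a => by cases a <;> assumption, fun h => ⟨h _, h _, h _, h _⟩⟩

instance (priority := 2000) decF4e (P : F4 → Prop) [DecidablePred P] : Decidable (∃ a, P a) :=
  decidable_of_iff (P .z ∨ P .o ∨ P .w ∨ P .v)
    ⟨by rintro (h | h | h | h) <;> exact ⟨_, h⟩,
     by rintro ⟨a, h⟩; cases a <;> simp [h]⟩

instance (priority := 2000) decFin4 (P : Fin 4 → Prop) [DecidablePred P] : Decidable (∀ a, P a) :=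
  decidable_of_iff (P ⟨0, by decide⟩ ∧ P ⟨1, by decide⟩ ∧ P ⟨2, by decide⟩ ∧ P ⟨3, by decide⟩)
    ⟨fun ⟨h1, h2, h3, h4⟩ a => by
      obtain ⟨a, ha⟩ := a
      interval_cases a <;> assumption, fun h => ⟨h _, h _, h _, h _⟩⟩

instance (priority := 2000) decFin4e (P : Fin 4 → Prop) [DecidablePred P] : Decidable (∃ a, P a) :=
  decidable_of_iff (P ⟨0, by decide⟩ ∨ P ⟨1, by decide⟩ ∨ P ⟨2, by decide⟩ ∨ P ⟨3, by decide⟩)
    ⟨by rintro (h | h | h | h) <;> exact ⟨_, h⟩, by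
      rintro ⟨⟨a, ha⟩, h⟩
      interval_cases a
      · exact Or.inl h
      · exact Or.inr (Or.inl h)
      · exact Or.inr (Or.inr (Or.inl h))
      · exact Or.inr (Or.inr (Or.inr h))⟩

instance (priority := 2000) decN (P : N → Prop) [DecidablePred P] : Decidable (∀ p, P p) :=
  decidable_of_iff (∀ a b c i, P ⟨a, b, c, i⟩)
    ⟨fun h ⟨a, b, c, i⟩ => h a b c i, fun h a b c i => h _⟩

instance (priority := 2000) decNe (P : N → Prop) [DecidablePred P] : Decidable (∃ p, P p) :=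
  decidable_of_iff (∃ a b c i, P ⟨a, b, c, i⟩)
    ⟨fun ⟨a, b, c, i, h⟩ => ⟨_, h⟩, fun ⟨⟨a, b, c, i⟩, h⟩ => ⟨a, b, c, i, h⟩⟩

instance (priority := 2000) decCd (P : Cd → Prop) [DecidablePred P] : Decidable (∀ p, P p) :=
  decidable_of_iff ((∀ n, P ⟨false, n⟩) ∧ ∀ n, P ⟨true, n⟩)
    ⟨fun ⟨h1, h2⟩ ⟨e, n⟩ => by cases e; exacts [h1 n, h2 n], fun h => ⟨fun n => h _, fun n => h _⟩⟩

instance (priority := 2000) decCde (P : Cd → Prop) [DecidablePred P] : Decidable (∃ p, P p) :=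
  decidable_of_iff ((∃ n, P ⟨false, n⟩) ∨ ∃ n, P ⟨true, n⟩)
    ⟨by rintro (⟨n, h⟩ | ⟨n, h⟩) <;> exact ⟨_, h⟩,
     by rintro ⟨⟨e, n⟩, h⟩; cases e; exacts [Or.inl ⟨n, h⟩, Or.inr ⟨n, h⟩]⟩

instance (priority := 2000) decTy (P : Ty → Prop) [DecidablePred P] : Decidable (∀ p, P p) :=
  decidable_of_iff (∀ t f g s, P ⟨t, f, g, s⟩)
    ⟨fun h ⟨a, b, c, i⟩ => h a b c i, fun h a b c i => h _⟩

/-- quick equality test -/
def eqF4 : F4 → F4 → Bool
  | .z, .z => true
  | .o, .o => true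
  | .w, .w => true
  | .v, .v => true
  | _, _ => false

/-- quick equality test -/
def eqN (p q : N) : Bool :=
  eqF4 p.a q.a && (eqF4 p.b q.b && (eqF4 p.c q.c && Nat.beq p.i.val q.i.val))

theorem eqF4_iff (a b : F4) : eqF4 a b = true ↔ a = b := by
  cases a <;> cases b <;> simp [eqF4]

theorem eqN_iff (p q : N) : eqN p q = true ↔ p = q := by
  obtain ⟨a, b, c, i⟩ := p
  obtain ⟨a', b', c', i'⟩ := q
  unfold eqN
  simp only [Bool.and_eq_true, eqF4_iff, Nat.beq_eq, N.mk.injEq, Fin.ext_iff]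

instance (priority := 2000) decEqN (p q : N) : Decidable (p = q) :=
  decidable_of_iff (eqN p q = true) (eqN_iff p q)

/-- quick equality test -/
def eqC (p q : Cd) : Bool := (p.e == q.e) && eqN p.n q.n

theorem eqC_iff (p q : Cd) : eqC p q = true ↔ p = q := by
  obtain ⟨e, n⟩ := p
  obtain ⟨e', n'⟩ := q
  unfold eqC
  simp only [Bool.and_eq_true, eqN_iff, beq_iff_eq, Cd.mk.injEq]

instance (priority := 2000) decEqC (p q : Cd) : Decidable (p = q) :=
  decidable_of_iff (eqC p q = true) (eqC_iff p q)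

theorem ninv_test : ∀ two : Bool, ∀ p : N, nmul two p (ninv two p) = n1 := by decide +kernel

end Cfsg.Agent.ONType.SCode
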