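import Cfsg.Agent.ONType.OuterZ

/-!
# The 2-group `S = ⟨x₁₂, x₂₃, x₁₃, z, τ⟩` by codes

For the 12 candidates of part (A): the elements `τ^e x₁₂(a) x₂₃(b) x₁₃(c) z^i` and their
multiplication, in a form which the kernel evaluates quickly.
-/

set_option autoImplicit false
set_option linter.constructorNameAsVariable false

namespace Cfsg.Agent.ONType.SGroup

open Cfsg.Agent.SporadicA.FieldFour
open Cfsg.Agent.ONType.Psl
open Cfsg.Agent.ONType.OuterM (trn)
open Cfsg.Agent.ONType.OuterL (rv)
open Cfsg.Agent.ONType.Data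

/-- code of `τ^e x₁₂(a) x₂₃(b) x₁₃(c) z^i` -/
structure Cd where
  e : Bool
  a : F4
  b : F4
  c : F4
  i : ℕ
deriving DecidableEq

/-- the parameters of a candidate: type II or I, field automorphism, graph automorphism, `z`
inverted, and the exponent `q` in `τ² = z^q` -/
structure Par where
  two : Bool
  fld : Bool
  gr : Bool
  neg : Bool
  q : ℕ

/-- force the evaluation of a field element -/
def fF {α : Type*} (x : F4) (k : F4 → α) : α :=
  match x with
  | .z => k .z
  | .o => k .o
  | .w => k .w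
  | .v => k .v

/-- force the evaluation of a number modulo 4 -/
def fZ {α : Type*} (n : ℕ) (k : ℕ → α) : α :=
  match n % 4 with
  | 0 => k 0
  | 1 => k 1
  | 2 => k 2
  | _ => k 3

theorem fF_eq {α : Type*} (x : F4) (k : F4 → α) : fF x k = k x := by cases x <;> rfl

theorem fZ_eq {α : Type*} (n : ℕ) (k : ℕ → α) : fZ n k = k (n % 4) := by
  unfold fZ
  have h : n % 4 < 4 := Nat.mod_lt _ (by decide)
  generalize n % 4 = m at h
  interval_cases m <;> rfl

/-- commutator exponents -/
def gt (two : Bool) : F4 → ℕ := if two then gII else gI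

/-- the product of two elements, for the unipotent parts (`e` of the first factor is kept) -/
def nm (two : Bool) (e : Bool) (x y : Cd) : Cd :=
  fF (x.a + y.a) fun a => fF (x.b + y.b) fun b => fF (y.a * x.b) fun m =>
  fF (m + x.c) fun c1 => fF (c1 + y.c) fun c =>
  fZ (x.i + y.i + (2 * trn (x.c * y.a) + 3 * gt two (y.a * (x.b * x.b)) + 2 * trn (c1 * y.b)))
  fun i => ⟨e, a, b, c, i⟩

/-- conjugation by `τ` of the unipotent part -/
def tw (P : Par) (x : Cd) : Cd :=
  fF (if P.fld then x.a * x.a else x.a) fun a => fF (if P.fld then x.b * x.b else x.b) fun b =>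
  fF (if P.fld then x.c * x.c else x.c) fun c =>
  if P.gr then
    fF (b * a) fun m => fF (m + c) fun c1 =>
    fZ ((if P.neg then 3 * x.i else x.i) + 3 * gt P.two (b * (a * a))) fun i => ⟨false, b, a, c1, i⟩
  else fZ (if P.neg then 3 * x.i else x.i) fun i => ⟨false, a, b, c, i⟩

/-- add to the exponent of `z` -/
def adz (q : ℕ) (x : Cd) : Cd := fZ (x.i + q) fun i => ⟨x.e, x.a, x.b, x.c, i⟩

/-- multiplication of codes -/
def mul (P : Par) (x y : Cd) : Cd :=
  match y.e with
  | false => nm P.two x.e x y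
  | true =>
    match x.e with
    | false => nm P.two true (tw P x) y
    | true => adz P.q (nm P.two false (tw P x) y)

/-- The hypotheses: the relations of `M`, and the action of `τ`. -/
structure Hyp {G : Type*} [Group G] (P : Par) (x : Fin 3 → Fin 3 → F4 → G) (z h τ : G) : Prop where
  R : MRel x z h (gt P.two)
  tx : ∀ i j : Fin 3, i ≠ j → ∀ u : F4, τ⁻¹ * x i j u * τ =
    (if P.gr then x (rv j) (rv i) (if P.fld then u * u else u) else x i j (if P.fld then u * u else u))
  tz : τ⁻¹ * z * τ = if P.neg then z⁻¹ else z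
  tt : τ * τ = z ^ P.q

/-- the value of a code -/
def ev {G : Type*} [Group G] (x : Fin 3 → Fin 3 → F4 → G) (z τ : G) (k : Cd) : G :=
  (if k.e then τ else 1) * (x 0 1 k.a * x 1 2 k.b * x 0 2 k.c * z ^ k.i)

section
variable {G : Type*} [Group G] {x : Fin 3 → Fin 3 → F4 → G} {z h τ : G} {P : Par}

theorem zpow_mod (hz : z ^ 4 = 1) (n : ℕ) : z ^ (n % 4) = z ^ n := by
  conv_rhs => rw [← Nat.div_add_mod n 4, pow_add, pow_mul, hz, one_pow, one_mul]

section core
variable {A B C A' B' C' D E : G}

theorem core1 {p q r i j : ℕ} (hA' : A' * z = z * A') (hB' : B' * z = z * B')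
    (hC : C * z = z * C) (hC' : C' * z = z * C')
    (h1 : C * A' = A' * C * z ^ p) (h2 : B * A' = A' * B * (D * z ^ q)) (h3 : D * C = E)
    (h4 : E * B' = B' * E * z ^ r) :
    A * B * C * z ^ i * (A' * B' * C' * z ^ j) =
      (A * A') * (B * B') * (E * C') * z ^ (i + j + (p + q + r)) := by
  have cA' : ∀ n : ℕ, z ^ n * A' = A' * z ^ n := fun n =>
    ((Commute.pow_right (show Commute A' z from hA') n).eq).symm
  have cB' : ∀ n : ℕ, z ^ n * B' = B' * z ^ n := fun n =>
    ((Commute.pow_right (show Commute B' z from hB') n).eq).symm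
  have cC : ∀ n : ℕ, z ^ n * C = C * z ^ n := fun n =>
    ((Commute.pow_right (show Commute C z from hC) n).eq).symm
  have cC' : ∀ n : ℕ, z ^ n * C' = C' * z ^ n := fun n =>
    ((Commute.pow_right (show Commute C' z from hC') n).eq).symm
  calc A * B * C * z ^ i * (A' * B' * C' * z ^ j)
      = A * B * C * (z ^ i * A') * B' * C' * z ^ j := by simp only [mul_assoc]
    _ = A * B * (C * A') * z ^ i * B' * C' * z ^ j := by rw [cA']; simp only [mul_assoc]
    _ = A * (B * A') * C * z ^ p * z ^ i * B' * C' * z ^ j := by rw [h1]; simp only [mul_assoc]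
    _ = A * A' * B * D * (z ^ q * C) * z ^ p * z ^ i * B' * C' * z ^ j := by
        rw [h2]; simp only [mul_assoc]
    _ = A * A' * B * (D * C) * z ^ q * z ^ p * (z ^ i * B') * C' * z ^ j := by
        rw [cC]; simp only [mul_assoc]
    _ = A * A' * B * E * z ^ q * (z ^ p * B') * z ^ i * C' * z ^ j := by
        rw [cB', h3]; simp only [mul_assoc]
    _ = A * A' * B * E * (z ^ q * B') * z ^ p * z ^ i * C' * z ^ j := by
        rw [cB']; simp only [mul_assoc]
    _ = A * A' * B * (E * B') * z ^ q * z ^ p * z ^ i * C' * z ^ j := by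
        rw [cB']; simp only [mul_assoc]
    _ = A * A' * (B * B') * E * (z ^ r * z ^ q * z ^ p * z ^ i * C') * z ^ j := by
        rw [h4]; simp only [mul_assoc]
    _ = A * A' * (B * B') * E * (z ^ (r + q + p + i) * C') * z ^ j := by
        rw [pow_add, pow_add, pow_add]
    _ = A * A' * (B * B') * (E * C') * (z ^ (r + q + p + i) * z ^ j) := by
        rw [cC']; simp only [mul_assoc]
    _ = _ := by rw [← pow_add]; congr 2; ring

end core

theorem x_zero (R : MRel x z h (gt P.two)) (i j : Fin 3) (hij : i ≠ j) : x i j 0 = 1 := by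
  have := R.add i j hij 0 0
  rw [add_zero] at this
  exact mul_left_cancel (a := x i j 0) (by rw [this, mul_one])

theorem x_self (R : MRel x z h (gt P.two)) (i j : Fin 3) (hij : i ≠ j) (u : F4) :
    x i j u * x i j u = 1 := by
  rw [R.add i j hij, (show u + u = 0 by revert u; decide), x_zero R i j hij]

/-- reversed form of the main commutator relation -/
theorem sum' (R : MRel x z h (gt P.two)) (u v : F4) :
    x 1 2 v * x 0 1 u = x 0 1 u * x 1 2 v * (x 0 2 (u * v) * z ^ (3 * gt P.two (u * (v * v)))) := by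
  have h1 := R.sum 0 2 1 (by decide) (by decide) (by decide) u v
  rw [h1]
  set n := gt P.two (u * (v * v))
  have c : z ^ n * x 0 2 (u * v) = x 0 2 (u * v) * z ^ n :=
    ((Commute.pow_right (show Commute (x 0 2 (u * v)) z from R.zc 0 2 _ (by decide)) n).eq).symm
  have h4 : z ^ n * z ^ (3 * n) = 1 := by
    rw [← pow_add, (by ring : n + 3 * n = 4 * n), pow_mul, R.z4, one_pow]
  calc x 1 2 v * x 0 1 u = x 1 2 v * x 0 1 u * (x 0 2 (u * v) * x 0 2 (u * v)) *
        (z ^ n * z ^ (3 * n)) := by rw [h4, x_self R 0 2 (by decide), mul_one, mul_one]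
    _ = x 1 2 v * x 0 1 u * x 0 2 (u * v) * (x 0 2 (u * v) * z ^ n) * z ^ (3 * n) := by
        simp only [mul_assoc]
    _ = x 1 2 v * x 0 1 u * x 0 2 (u * v) * (z ^ n * x 0 2 (u * v)) * z ^ (3 * n) := by rw [← c]
    _ = _ := by simp only [mul_assoc]

/-- product formula for the unipotent parts -/
theorem uni_mul (R : MRel x z h (gt P.two)) (a b c a' b' c' : F4) (i j : ℕ) :
    x 0 1 a * x 1 2 b * x 0 2 c * z ^ i * (x 0 1 a' * x 1 2 b' * x 0 2 c' * z ^ j) =
      x 0 1 (a + a') * x 1 2 (b + b') * x 0 2 (a' * b + c + c') *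
        z ^ (i + j + (2 * trn (c * a') + 3 * gt P.two (a' * (b * b)) + 2 * trn ((a' * b + c) * b'))) := by
  rw [← R.add 0 1 (by decide) a a', ← R.add 1 2 (by decide) b b',
    ← R.add 0 2 (by decide) (a' * b + c) c']
  exact core1 (R.zc 0 1 a' (by decide)) (R.zc 1 2 b' (by decide)) (R.zc 0 2 c (by decide))
    (R.zc 0 2 c' (by decide)) (R.row 0 2 1 (by decide) (by decide) (by decide) c a')
    (sum' R a' b) (R.add 0 2 (by decide) _ _)
    (R.col 0 2 1 (by decide) (by decide) (by decide) _ b')

/-- the unipotent part of the value of a code -/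
def un (x : Fin 3 → Fin 3 → F4 → G) (z : G) (k : Cd) : G :=
  x 0 1 k.a * x 1 2 k.b * x 0 2 k.c * z ^ k.i

theorem ev_eq (k : Cd) : ev x z τ k = (if k.e then τ else 1) * un x z k := rfl

theorem un_nm (R : MRel x z h (gt P.two)) (e : Bool) (k l : Cd) :
    un x z (nm P.two e k l) = un x z k * un x z l := by
  unfold nm un
  simp only [fF_eq, fZ_eq]
  rw [zpow_mod R.z4, uni_mul R]

theorem nm_e (two e : Bool) (k l : Cd) : (nm two e k l).e = e := by
  unfold nm; simp only [fF_eq, fZ_eq]

theorem tw_e (P : Par) (k : Cd) : (tw P k).e = false := by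
  unfold tw; simp only [fF_eq, fZ_eq]; split <;> rfl

theorem un_adz (hz : z ^ 4 = 1) (q : ℕ) (k : Cd) : un x z (adz q k) = un x z k * z ^ q := by
  unfold adz un
  simp only [fZ_eq]
  rw [zpow_mod hz, pow_add]; simp only [mul_assoc]

theorem adz_e (q : ℕ) (k : Cd) : (adz q k).e = k.e := by unfold adz; simp only [fZ_eq]

theorem tz_pow (H : Hyp P x z h τ) (n : ℕ) :
    τ⁻¹ * z ^ n * τ = z ^ (if P.neg then 3 * n else n) := by
  have h1 : τ⁻¹ * z ^ n * τ = (τ⁻¹ * z * τ) ^ n := by
    have := conj_pow (i := n) (a := τ⁻¹) (b := z)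
    rw [inv_inv] at this; exact this.symm
  rw [h1, H.tz]
  split
  · have h3 : z⁻¹ = z ^ 3 := by
      rw [inv_eq_iff_mul_eq_one, ← pow_succ', H.R.z4]
    rw [h3, ← pow_mul]
  · rfl

/-- conjugation by `τ` -/
theorem un_tw (H : Hyp P x z h τ) (k : Cd) : un x z (tw P k) = τ⁻¹ * un x z k * τ := by
  have e1 : τ⁻¹ * un x z k * τ = (τ⁻¹ * x 0 1 k.a * τ) * (τ⁻¹ * x 1 2 k.b * τ) *
      (τ⁻¹ * x 0 2 k.c * τ) * (τ⁻¹ * z ^ k.i * τ) := by unfold un; group
  rw [e1, H.tx 0 1 (by decide), H.tx 1 2 (by decide), H.tx 0 2 (by decide), tz_pow H]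
  unfold tw
  simp only [fF_eq, fZ_eq]
  cases hg : P.gr
  · simp only [un, Bool.false_eq_true, if_false]
    rw [zpow_mod H.R.z4]
  · simp only [un, if_true]
    rw [zpow_mod H.R.z4]
    set a := (if P.fld then k.a * k.a else k.a)
    set b := (if P.fld then k.b * k.b else k.b)
    set c := (if P.fld then k.c * k.c else k.c)
    have r0 : rv 0 = 2 := rfl
    have r1 : rv 1 = 1 := rfl
    have r2 : rv 2 = 0 := rfl
    rw [r0, r1, r2, sum' H.R b a, pow_add]
    have c1 : ∀ n : ℕ, z ^ n * x 0 2 c = x 0 2 c * z ^ n := fun n =>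
      ((Commute.pow_right (show Commute (x 0 2 c) z from H.R.zc 0 2 _ (by decide)) n).eq).symm
    rw [← H.R.add 0 2 (by decide)]
    set n := gt P.two (b * (a * a))
    set m := (if P.neg then 3 * k.i else k.i)
    calc x 0 1 b * x 1 2 a * (x 0 2 (b * a) * x 0 2 c) * (z ^ m * z ^ (3 * n))
        = x 0 1 b * x 1 2 a * x 0 2 (b * a) * x 0 2 c * z ^ (3 * n) * z ^ m := by
          rw [← pow_add, add_comm, pow_add]; simp only [mul_assoc]
      _ = _ := by
          rw [mul_assoc _ (x 0 2 c) (z ^ (3 * n)), ← c1]; simp only [mul_assoc]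

/-- **Multiplication of codes.** -/
theorem ev_mul (H : Hyp P x z h τ) (k l : Cd) :
    ev x z τ (mul P k l) = ev x z τ k * ev x z τ l := by
  rw [ev_eq k, ev_eq l]
  unfold mul
  cases hl : l.e
  · simp only
    rw [ev_eq, nm_e, un_nm H.R]
    simp only [Bool.false_eq_true, if_false, one_mul, mul_assoc]
  · simp only
    cases hk : k.e
    · simp only
      rw [ev_eq, nm_e, un_nm H.R, un_tw H]
      simp only [Bool.false_eq_true, if_false, if_true, one_mul]
      group
    · simp only
      rw [ev_eq, adz_e, nm_e, un_adz H.R.z4, un_nm H.R, un_tw H]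
      simp only [Bool.false_eq_true, if_false, if_true, one_mul]
      have hq : ∀ y : G, y * z = z * y → y * z ^ P.q = z ^ P.q * y := fun y hy =>
        (Commute.pow_right (show Commute y z from hy) P.q).eq
      have c1 : (τ⁻¹ * un x z k * τ * un x z l) * z ^ P.q =
          z ^ P.q * (τ⁻¹ * un x z k * τ * un x z l) := by
        apply hq
        rw [← un_tw H]
        have cu : ∀ m : Cd, un x z m * z = z * un x z m := by
          intro m
          have a1 := H.R.zc 0 1 m.a (by decide)
          have a2 := H.R.zc 1 2 m.b (by decide)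
          have a3 := H.R.zc 0 2 m.c (by decide)
          have a4 : z ^ m.i * z = z * z ^ m.i := by rw [← pow_succ, ← pow_succ']
          unfold un
          exact ((((show Commute _ _ from a1).mul_left a2).mul_left a3).mul_left a4).eq
        exact ((show Commute _ _ from cu (tw P k)).mul_left (cu l)).eq
      rw [c1, ← H.tt]
      group

end

end Cfsg.Agent.ONType.SGroup
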