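import Cfsg.Agent.ONType.SCode

/-!
# The Sylow 2-subgroup of the involution centraliser and its codes
-/

set_option autoImplicit false
set_option linter.constructorNameAsVariable false
set_option linter.unusedVariables false
set_option linter.unusedSectionVars false

namespace Cfsg.Agent.ONType.SModel

open Cfsg.Agent.SporadicA.FieldFour
open Cfsg.Agent.ONType.Psl
open Cfsg.Agent.ONType.Data
open Cfsg.Agent.ONType.Setup
open Cfsg.Agent.ONType.SCode
open Cfsg.Agent.ONType.OuterM (trn)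
open Cfsg.Agent.ONType.OuterL (rv rv_ne rv_rv)

variable {C : Type*} [Group C]

/-- the element of `M` with a given code -/
def evN (x : Fin 3 → Fin 3 → F4 → C) (z : C) (p : N) : C :=
  x 0 1 p.a * x 1 2 p.b * x 0 2 p.c * z ^ p.i.val

/-- the element of `C` with a given code -/
def evC (x : Fin 3 → Fin 3 → F4 → C) (z τ : C) (p : Cd) : C :=
  (bif p.e then τ else 1) * evN x z p.n

theorem trn_eq (u : F4) : trn u = tr4 u := by cases u <;> rfl

theorem fb_eq (f : Bool) (u : F4) : fb f u = frob f u := by cases f <;> rfl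

section
variable {x : Fin 3 → Fin 3 → F4 → C} {z h : C} {two : Bool}

theorem zpow_mod (z4 : z ^ 4 = 1) (n : ℕ) : z ^ (r4 n).val = z ^ n := by
  show z ^ (n % 4) = z ^ n
  conv_rhs => rw [← Nat.mod_add_div n 4, pow_add, pow_mul, z4, one_pow, mul_one]

/-- `x12 b * x01 a = x01 a * x12 b * x02 (a b) * z ^ (3 g (a b²))` -/
theorem swap12 (R : MRel x z h (g4 two)) (a b : F4) :
    x 1 2 b * x 0 1 a = x 0 1 a * x 1 2 b * x 0 2 (a * b) * z ^ (3 * g4 two (a * (b * b))) := by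
  have s := R.sum 0 2 1 (by decide) (by decide) (by decide) a b
  have hc := Commute.pow_right (R.zc 0 2 (a * b) (by decide)) (g4 two (a * (b * b)))
  have hs := x_sq R 0 2 (by decide) (a * b)
  have hz : z ^ (g4 two (a * (b * b))) * z ^ (3 * g4 two (a * (b * b))) = 1 := by
    rw [← pow_add, show g4 two (a * (b * b)) + 3 * g4 two (a * (b * b)) =
      4 * g4 two (a * (b * b)) by ring, pow_mul, R.z4, one_pow]
  rw [s]
  calc x 1 2 b * x 0 1 a = x 1 2 b * x 0 1 a * (x 0 2 (a * b) * x 0 2 (a * b)) *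
        (z ^ (g4 two (a * (b * b))) * z ^ (3 * g4 two (a * (b * b)))) := by rw [hs, hz]; group
    _ = x 1 2 b * x 0 1 a * (x 0 2 (a * b) * (x 0 2 (a * b) *
        z ^ (g4 two (a * (b * b)))) * z ^ (3 * g4 two (a * (b * b)))) := by group
    _ = x 1 2 b * x 0 1 a * (x 0 2 (a * b) * (z ^ (g4 two (a * (b * b))) *
        x 0 2 (a * b)) * z ^ (3 * g4 two (a * (b * b)))) := by rw [hc.eq]
    _ = _ := by group

theorem evN_mul (R : MRel x z h (g4 two)) (p q : N) :
    evN x z p * evN x z q = evN x z (nmul two p q) := by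
  obtain ⟨a, b, c, i⟩ := p
  obtain ⟨a', b', c', i'⟩ := q
  have r1 := R.row 0 2 1 (by decide) (by decide) (by decide) c a'
  have r2 := R.col 0 2 1 (by decide) (by decide) (by decide) (a' * b + c) b'
  have r3 := swap12 R a' b
  have A01 := R.add 0 1 (by decide) a a'
  have A12 := R.add 1 2 (by decide) b b'
  have A02 := R.add 0 2 (by decide) (a' * b) c
  have A02' := R.add 0 2 (by decide) (a' * b + c) c'
  rw [trn_eq] at r1 r2
  have cz : ∀ (i j : Fin 3), i ≠ j → ∀ u n, x i j u * z ^ n = z ^ n * x i j u :=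
    fun i j hij u n => (Commute.pow_right (R.zc i j u hij) n).eq
  unfold evN nmul
  show x 0 1 a * x 1 2 b * x 0 2 c * z ^ i.val * (x 0 1 a' * x 1 2 b' * x 0 2 c' * z ^ i'.val) =
    x 0 1 (a + a') * x 1 2 (b + b') * x 0 2 (a' * b + c + c') *
      z ^ (r4 (i.val + i'.val + 3 * g4 two (a' * (b * b)) +
        2 * (tr4 (c * a') + tr4 ((a' * b + c) * b')))).val
  rw [zpow_mod R.z4]
  set k1 := 3 * g4 two (a' * (b * b)) with hk1
  set k2 := 2 * tr4 (c * a') with hk2
  set k3 := 2 * tr4 ((a' * b + c) * b') with hk3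
  calc x 0 1 a * x 1 2 b * x 0 2 c * z ^ i.val * (x 0 1 a' * x 1 2 b' * x 0 2 c' * z ^ i'.val)
      = x 0 1 a * x 1 2 b * x 0 2 c * (z ^ i.val * x 0 1 a') * x 1 2 b' * x 0 2 c' * z ^ i'.val := by
        group
    _ = x 0 1 a * x 1 2 b * (x 0 2 c * x 0 1 a') * (z ^ i.val * x 1 2 b') * x 0 2 c' *
        z ^ i'.val := by rw [← cz 0 1 (by decide)]; group
    _ = x 0 1 a * (x 1 2 b * x 0 1 a') * x 0 2 c * (z ^ k2 * x 1 2 b') * (z ^ i.val * x 0 2 c') *
        z ^ i'.val := by rw [r1, ← cz 1 2 (by decide) b' i.val]; group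
    _ = (x 0 1 a * x 0 1 a') * x 1 2 b * x 0 2 (a' * b) * (z ^ k1 * x 0 2 c) * x 1 2 b' *
        (z ^ k2 * x 0 2 c') * z ^ i.val * z ^ i'.val := by
        rw [r3, ← cz 1 2 (by decide) b' k2, ← cz 0 2 (by decide) c' i.val]; group
    _ = x 0 1 (a + a') * x 1 2 b * (x 0 2 (a' * b) * x 0 2 c) * (z ^ k1 * x 1 2 b') *
        x 0 2 c' * (z ^ k2 * z ^ i.val * z ^ i'.val) := by
        rw [A01, ← cz 0 2 (by decide) c k1, ← cz 0 2 (by decide) c' k2]; group
    _ = x 0 1 (a + a') * x 1 2 b * (x 0 2 (a' * b + c) * x 1 2 b') * (z ^ k1 *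
        x 0 2 c') * (z ^ k2 * z ^ i.val * z ^ i'.val) := by
        rw [A02, ← cz 1 2 (by decide) b' k1]; group
    _ = x 0 1 (a + a') * (x 1 2 b * x 1 2 b') * x 0 2 (a' * b + c) * (z ^ k3 * x 0 2 c') *
        (z ^ k1 * z ^ k2 * z ^ i.val * z ^ i'.val) := by
        rw [r2, ← cz 0 2 (by decide) c' k1]; group
    _ = x 0 1 (a + a') * x 1 2 (b + b') * (x 0 2 (a' * b + c) * x 0 2 c') *
        (z ^ k3 * z ^ k1 * z ^ k2 * z ^ i.val * z ^ i'.val) := by
        rw [A12, ← cz 0 2 (by decide) c' k3]; group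
    _ = _ := by
        rw [A02', ← pow_add, ← pow_add, ← pow_add, ← pow_add]
        congr 2
        rw [hk1, hk2, hk3]; ring

theorem evN_one (R : MRel x z h (g4 two)) : evN x z n1 = 1 := by
  show x 0 1 0 * x 1 2 0 * x 0 2 0 * z ^ 0 = 1
  rw [x_zero R 0 1 (by decide), x_zero R 1 2 (by decide), x_zero R 0 2 (by decide)]
  group

theorem evN_inv (R : MRel x z h (g4 two)) (p : N) : (evN x z p)⁻¹ = evN x z (ninv two p) := by
  apply inv_eq_of_mul_eq_one_right
  rw [evN_mul R, ninv_test, evN_one R]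

theorem evN_nz (R : MRel x z h (g4 two)) (k : ℕ) (p : N) :
    evN x z (nz k p) = evN x z p * z ^ k := by
  unfold evN nz
  show _ * z ^ (r4 (p.i.val + k)).val = _
  rw [zpow_mod R.z4, pow_add, mul_assoc _ (z ^ p.i.val)]

/-- general action -/
theorem evN_act {fr gr sq : Bool} (R : MRel x z h (g4 two)) {τ : C}
    (hx : ∀ i j, i ≠ j → ∀ u, τ⁻¹ * x i j u * τ =
      x (bif gr then rv j else i) (bif gr then rv i else j) (frob fr u)) (p : N) :
    τ⁻¹ * evN x z p * τ = evN x z (nact ⟨two, fr, gr, sq⟩ p) := by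
  obtain ⟨a, b, c, i⟩ := p
  have hz := conj_z R hx
  have h1 := hx 0 1 (by decide) a
  have h2 := hx 1 2 (by decide) b
  have h3 := hx 0 2 (by decide) c
  have z4 := R.z4
  have z3 : z ^ 3 = z⁻¹ := by
    rw [eq_inv_iff_mul_eq_one, ← z4]; rw [← pow_succ]
  have hzi : τ⁻¹ * z ^ i.val * τ =
      z ^ (bif (bif two then gr else fr) then 3 * i.val else i.val) := by
    have h4 := map_pow (MulAut.conj τ⁻¹) z i.val
    simp only [MulAut.conj_apply, inv_inv] at h4
    rw [h4, hz]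
    cases (bif two then gr else fr)
    · rfl
    · show z⁻¹ ^ i.val = z ^ (3 * i.val)
      rw [pow_mul, z3]
  set k := (bif (bif two then gr else fr) then 3 * i.val else i.val) with hk
  have key : τ⁻¹ * evN x z ⟨a, b, c, i⟩ * τ = (τ⁻¹ * x 0 1 a * τ) * (τ⁻¹ * x 1 2 b * τ) *
      (τ⁻¹ * x 0 2 c * τ) * (τ⁻¹ * z ^ i.val * τ) := by
    show τ⁻¹ * (x 0 1 a * x 1 2 b * x 0 2 c * z ^ i.val) * τ = _
    group
  rw [key, h1, h2, h3, hzi]
  cases gr
  · show x 0 1 (frob fr a) * x 1 2 (frob fr b) * x 0 2 (frob fr c) * z ^ k =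
      x 0 1 (fb fr a) * x 1 2 (fb fr b) * x 0 2 (fb fr c) * z ^ (r4 k).val
    rw [zpow_mod z4, fb_eq, fb_eq, fb_eq]
  · show x 1 2 (frob fr a) * x 0 1 (frob fr b) * x 0 2 (frob fr c) * z ^ k =
      x 0 1 (fb fr b) * x 1 2 (fb fr a) * x 0 2 (F4.add (fb fr c) (F4.mul (fb fr a) (fb fr b))) *
        z ^ (r4 (k + 3 * g4 two (F4.mul (fb fr b) (F4.mul (fb fr a) (fb fr a))))).val
    rw [zpow_mod z4, fb_eq, fb_eq, fb_eq]
    set a' := frob fr a
    set b' := frob fr b
    set c' := frob fr c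
    have s := swap12 R b' a'
    have A := R.add 0 2 (by decide) (b' * a') c'
    have e : F4.add c' (F4.mul a' b') = b' * a' + c' := by
      show c' + a' * b' = _
      rw [add_comm, mul_comm]
    have hc := (Commute.pow_right (R.zc 0 2 c' (by decide)) (3 * g4 two (b' * (a' * a')))).eq
    show _ = x 0 1 b' * x 1 2 a' * x 0 2 (F4.add c' (F4.mul a' b')) *
      z ^ (k + 3 * g4 two (b' * (a' * a')))
    rw [e, s, ← A, pow_add]
    calc x 0 1 b' * x 1 2 a' * x 0 2 (b' * a') * z ^ (3 * g4 two (b' * (a' * a'))) * x 0 2 c' *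
          z ^ k = x 0 1 b' * x 1 2 a' * x 0 2 (b' * a') * (z ^ (3 * g4 two (b' * (a' * a'))) *
          x 0 2 c') * z ^ k := by group
      _ = x 0 1 b' * x 1 2 a' * (x 0 2 (b' * a') * x 0 2 c') * (z ^ (3 * g4 two (b' * (a' * a'))) *
          z ^ k) := by rw [← hc]; group
      _ = _ := by rw [← pow_add, ← pow_add, add_comm k]

end

section
variable {M : Subgroup C} {π : M →* PSL3} {x : Fin 3 → Fin 3 → F4 → C} {z h τ : C} {ty : Ty}

theorem act (S : ONSetup M π x z h τ ty) (p : N) :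
    evN x z p * τ = τ * evN x z (nact ty p) := by
  have := evN_act (sq := ty.sq) S.rel S.τx p
  rw [show (⟨ty.two, ty.fr, ty.gr, ty.sq⟩ : Ty) = ty from rfl] at this
  rw [← this]; group

theorem evC_false (p : N) : evC x z τ ⟨false, p⟩ = evN x z p := by
  show 1 * evN x z p = _
  rw [one_mul]

theorem evC_true (p : N) : evC x z τ ⟨true, p⟩ = τ * evN x z p := rfl

theorem evC_mul (S : ONSetup M π x z h τ ty) (p q : Cd) :
    evC x z τ p * evC x z τ q = evC x z τ (cmul ty p q) := by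
  obtain ⟨e, p⟩ := p
  obtain ⟨f, q⟩ := q
  cases f
  · show (bif e then τ else 1) * evN x z p * (1 * evN x z q) =
      (bif e then τ else 1) * evN x z (nmul ty.two p q)
    rw [one_mul, mul_assoc, evN_mul S.rel]
  · cases e
    · show 1 * evN x z p * (τ * evN x z q) = τ * evN x z (nmul ty.two (nact ty p) q)
      rw [one_mul, ← mul_assoc, act S, mul_assoc, evN_mul S.rel]
    · show τ * evN x z p * (τ * evN x z q) =
        1 * evN x z (nz ty.e2 (nmul ty.two (nact ty p) q))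
      rw [evN_nz S.rel, ← evN_mul S.rel, one_mul]
      have hc : ∀ r : N, Commute (z ^ ty.e2) (evN x z r) := by
        intro r
        have c : ∀ i j, i ≠ j → ∀ u, Commute (z ^ ty.e2) (x i j u) := fun i j hij u =>
          (Commute.pow_right (S.rel.zc i j u hij) _).symm
        exact (((c 0 1 (by decide) _).mul_right (c 1 2 (by decide) _)).mul_right
          (c 0 2 (by decide) _)).mul_right (Commute.pow_pow_self z _ _)
      calc τ * evN x z p * (τ * evN x z q) = τ * (evN x z p * τ) * evN x z q := by group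
        _ = (τ * τ) * (evN x z (nact ty p) * evN x z q) := by rw [act S]; group
        _ = _ := by rw [S.τ2, ((hc _).mul_right (hc _)).eq]

theorem evC_one (S : ONSetup M π x z h τ ty) : evC x z τ c1 = 1 := by
  show evC x z τ ⟨false, n1⟩ = 1
  rw [evC_false, evN_one S.rel]

theorem e2_le (ty : Ty) : ty.e2 ≤ 4 := by
  obtain ⟨a, b, c, d⟩ := ty
  revert a b c d; decide

theorem evC_inv (S : ONSetup M π x z h τ ty) (p : Cd) :
    (evC x z τ p)⁻¹ = evC x z τ (cinv ty p) := by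
  obtain ⟨e, p⟩ := p
  cases e
  · show (evC x z τ ⟨false, p⟩)⁻¹ = evC x z τ ⟨false, ninv ty.two p⟩
    rw [evC_false, evC_false, evN_inv S.rel]
  · show (evC x z τ ⟨true, p⟩)⁻¹ = evC x z τ ⟨true, nz (4 - ty.e2) (nact ty (ninv ty.two p))⟩
    rw [evC_true, evC_true, evN_nz S.rel]
    apply inv_eq_of_mul_eq_one_right
    calc τ * evN x z p * (τ * (evN x z (nact ty (ninv ty.two p)) * z ^ (4 - ty.e2)))
        = τ * evN x z p * (τ * evN x z (nact ty (ninv ty.two p))) * z ^ (4 - ty.e2) := by group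
      _ = τ * τ * z ^ (4 - ty.e2) := by rw [← act S, ← evN_inv S.rel]; group
      _ = 1 := by rw [S.τ2, ← pow_add, Nat.add_sub_cancel' (e2_le ty), S.rel.z4]

theorem evC_conj (S : ONSetup M π x z h τ ty) (p y : Cd) :
    (evC x z τ y)⁻¹ * evC x z τ p * evC x z τ y = evC x z τ (cconj ty p y) := by
  unfold cconj
  rw [← evC_mul S, ← evC_mul S, evC_inv S, mul_assoc]

theorem xM' (S : ONSetup M π x z h τ ty) (i j : Fin 3) (hij : i ≠ j) (u : F4) : x i j u ∈ M := by
  obtain ⟨m, hm, -⟩ := S.xM i j hij u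
  rw [← hm]; exact m.2

theorem zM (S : ONSetup M π x z h τ ty) : z ∈ M := by
  have s := S.rel.sum 0 2 1 (by decide) (by decide) (by decide) F4.w 1
  have e : g4 ty.two (F4.w * (1 * 1)) = 1 := by cases ty.two <;> rfl
  rw [e, pow_one] at s
  have h1 := xM' S 0 1 (by decide) F4.w
  have h2 := xM' S 1 2 (by decide) 1
  have h3 := xM' S 0 2 (by decide) (F4.w * 1)
  have h4 : z = (x 0 2 (F4.w * 1))⁻¹ * ((x 1 2 1 * x 0 1 F4.w)⁻¹ * (x 0 1 F4.w * x 1 2 1)) := by
    rw [s]; group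
  rw [h4]
  exact M.mul_mem (M.inv_mem h3) (M.mul_mem (M.inv_mem (M.mul_mem h2 h1)) (M.mul_mem h1 h2))

theorem exists_pi (S : ONSetup M π x z h τ ty) (p : N) :
    ∃ m : M, (m : C) = evN x z p ∧ π m = t 0 1 p.a * t 1 2 p.b * t 0 2 p.c := by
  obtain ⟨m1, h1, h1'⟩ := S.xM 0 1 (by decide) p.a
  obtain ⟨m2, h2, h2'⟩ := S.xM 1 2 (by decide) p.b
  obtain ⟨m3, h3, h3'⟩ := S.xM 0 2 (by decide) p.c
  have hz : π (⟨z, zM S⟩ : M) = 1 := (S.ker _).mpr (Subgroup.mem_zpowers z)
  refine ⟨m1 * m2 * m3 * (⟨z, zM S⟩ : M) ^ p.i.val, ?_, ?_⟩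
  · show (m1 : C) * m2 * m3 * z ^ p.i.val = _
    rw [h1, h2, h3]; rfl
  · rw [map_mul, map_mul, map_mul, map_pow, hz, one_pow, mul_one, h1', h2', h3']

theorem evN_mem (S : ONSetup M π x z h τ ty) (p : N) : evN x z p ∈ M := by
  obtain ⟨m, hm, -⟩ := exists_pi S p
  rw [← hm]; exact m.2

theorem evN_inj (S : ONSetup M π x z h τ ty) {p q : N} (h : evN x z p = evN x z q) : p = q := by
  obtain ⟨m, hm, hm'⟩ := exists_pi S p
  obtain ⟨n, hn, hn'⟩ := exists_pi S q
  have e : m = n := Subtype.ext (by rw [hm, hn, h])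
  rw [e, hn'] at hm'
  obtain ⟨ha, hb, hc⟩ := Cfsg.Agent.ONType.PslCard.t_inj hm'
  obtain ⟨a, b, c, i⟩ := p
  obtain ⟨a', b', c', i'⟩ := q
  simp only at ha hb hc
  subst ha hb hc
  have h' : z ^ i.val = z ^ i'.val := mul_left_cancel h
  have h1 : i.val = i'.val := by
    apply pow_injOn_Iio_orderOf _ _ h'
    · rw [S.zo]; exact i.2
    · rw [S.zo]; exact i'.2
  rw [N.mk.injEq]
  exact ⟨rfl, rfl, rfl, Fin.ext h1⟩

theorem evC_mem_iff (S : ONSetup M π x z h τ ty) (p : Cd) : evC x z τ p ∈ M ↔ p.e = false := by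
  obtain ⟨e, p⟩ := p
  cases e
  · rw [evC_false]
    exact ⟨fun _ => rfl, fun _ => evN_mem S p⟩
  · rw [evC_true, M.mul_mem_cancel_right (evN_mem S p)]
    exact ⟨fun h => absurd h S.τM, fun h => Bool.noConfusion h⟩

theorem evC_inj (S : ONSetup M π x z h τ ty) {p q : Cd} (h : evC x z τ p = evC x z τ q) :
    p = q := by
  have h1 := evC_mem_iff S p
  have h2 := evC_mem_iff S q
  rw [h, h2] at h1
  obtain ⟨e, p⟩ := p
  obtain ⟨f, q⟩ := q
  simp only at h1
  have hef : e = f := by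
    cases e <;> cases f <;> simp_all
  subst hef
  have h3 : p = q := evN_inj S (mul_left_cancel h)
  rw [h3]

/-- the Sylow 2-subgroup of `C` -/
def Sy (S : ONSetup M π x z h τ ty) : Subgroup C where
  carrier := Set.range (evC x z τ)
  mul_mem' := by
    rintro _ _ ⟨p, rfl⟩ ⟨q, rfl⟩
    exact ⟨_, (evC_mul S p q).symm⟩
  one_mem' := ⟨c1, evC_one S⟩
  inv_mem' := by
    rintro _ ⟨p, rfl⟩
    exact ⟨_, (evC_inv S p).symm⟩

theorem mem_Sy (S : ONSetup M π x z h τ ty) {y : C} : y ∈ Sy S ↔ ∃ p, y = evC x z τ p :=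
  ⟨fun ⟨p, hp⟩ => ⟨p, hp.symm⟩, fun ⟨p, hp⟩ => ⟨p, hp.symm⟩⟩

/-- codes as tuples -/
def cdEquiv : Cd ≃ Bool × F4 × F4 × F4 × Fin 4 where
  toFun p := (p.e, p.n.a, p.n.b, p.n.c, p.n.i)
  invFun p := ⟨p.1, ⟨p.2.1, p.2.2.1, p.2.2.2.1, p.2.2.2.2⟩⟩
  left_inv _ := rfl
  right_inv _ := rfl

theorem card_F4 : Nat.card F4 = 4 := by rw [Nat.card_eq_fintype_card]; exact F4.card_eq

theorem card_Sy (S : ONSetup M π x z h τ ty) : Nat.card (Sy S) = 512 := by
  have e : Nat.card (Sy S) = Nat.card Cd :=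
    (Nat.card_congr (Equiv.ofInjective _ (fun p q h => evC_inj S h))).symm
  rw [e, Nat.card_congr cdEquiv]
  simp only [Nat.card_prod, card_F4]
  simp

theorem card_ker (S : ONSetup M π x z h τ ty) : Nat.card π.ker = 4 := by
  have e : π.ker.map M.subtype = Subgroup.zpowers z := by
    ext y
    constructor
    · rintro ⟨m, hm, rfl⟩
      exact (S.ker m).mp hm
    · intro hy
      have hyM : y ∈ M := (Subgroup.zpowers_le.mpr (zM S)) hy
      exact ⟨⟨y, hyM⟩, (S.ker _).mpr hy, rfl⟩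
  rw [← Subgroup.card_map_of_injective (Subgroup.subtype_injective M), e, Nat.card_zpowers, S.zo]

theorem card_M (S : ONSetup M π x z h τ ty) : Nat.card M = 80640 := by
  have h := Subgroup.card_mul_index π.ker
  rw [Subgroup.index_ker, MonoidHom.range_eq_top.mpr S.surj, Subgroup.card_top,
    Cfsg.Agent.ONType.PslCard.card_PSL3, card_ker S] at h
  omega

theorem card_C (S : ONSetup M π x z h τ ty) : Nat.card C = 161280 := by
  have h := Subgroup.card_mul_index M
  rw [card_M S, S.idx] at h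
  omega

theorem index_Sy (S : ONSetup M π x z h τ ty) : (Sy S).index = 315 := by
  have h := Subgroup.card_mul_index (Sy S)
  rw [card_C S, card_Sy S] at h
  omega

theorem isPGroup_Sy (S : ONSetup M π x z h τ ty) : IsPGroup 2 (Sy S) :=
  IsPGroup.of_card (n := 9) (by rw [card_Sy S]; norm_num)

/-- a 2-element is conjugate into any subgroup of odd index -/
theorem exists_conj_mem {G : Type*} [Group G] (P : Subgroup G) (hP : ¬ 2 ∣ P.index) (y : G)
    (k : ℕ) (hy : y ^ (2 ^ k) = 1) : ∃ g : G, g⁻¹ * y * g ∈ P := by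
  have h2 : Fact (Nat.Prime 2) := ⟨Nat.prime_two⟩
  have hpg : IsPGroup 2 (Subgroup.zpowers y) := by
    rintro ⟨w, hw⟩
    obtain ⟨n, rfl⟩ := Subgroup.mem_zpowers_iff.mp hw
    refine ⟨k, ?_⟩
    apply Subtype.ext
    show (y ^ n) ^ (2 ^ k) = 1
    rw [← zpow_natCast, ← zpow_mul, mul_comm, zpow_mul, zpow_natCast, hy, one_zpow]
  obtain ⟨q, hq⟩ := hpg.nonempty_fixed_point_of_prime_not_dvd_card (G ⧸ P) (by
    rw [← Subgroup.index_eq_card]; exact hP)
  obtain ⟨g, rfl⟩ := QuotientGroup.mk_surjective q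
  refine ⟨g, ?_⟩
  have h1 := hq ⟨y, Subgroup.mem_zpowers y⟩
  have h3 : (QuotientGroup.mk (y * g) : G ⧸ P) = QuotientGroup.mk g := h1
  have h4 := QuotientGroup.eq.mp h3.symm
  rwa [← mul_assoc] at h4

end

end Cfsg.Agent.ONType.SModel
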