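import Cfsg.Agent.ONType.SChk

/-!
# The Sylow `2`-subgroup of the centraliser of an involution of type O'N
-/

set_option autoImplicit false
set_option linter.constructorNameAsVariable false

namespace Cfsg.Agent.ONType.SSub

open scoped Pointwise

open Cfsg.Agent.SporadicA.FieldFour
open Cfsg.Agent.ONType.Psl (ω ω2)
open Cfsg.Agent.ONType.Data
open Cfsg.Agent.ONType.SGroup
open Cfsg.Agent.ONType.SFacts
open Cfsg.Agent.ONType.SChk

variable {P : Par} {C₀ : Type*} [Group C₀] {t : C₀} {M : Subgroup C₀}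
  {x : Fin 3 → Fin 3 → F4 → C₀} {z h τ : C₀}

section
variable (D : SData P t M x z h τ)
include D

theorem un_mem (k : Cd) : un x z k ∈ M :=
  M.mul_mem (M.mul_mem (M.mul_mem (D.xM _ _ _) (D.xM _ _ _)) (D.xM _ _ _)) (M.pow_mem D.zM _)

theorem ev_mem_M (k : Cd) : ev x z τ k ∈ M ↔ k.e = false := by
  rw [ev_eq]
  cases k.e
  · simp only [Bool.false_eq_true, if_false, one_mul, iff_true]
    exact un_mem D k
  · simp only [if_true, Bool.true_eq_false, iff_false]
    intro h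
    exact D.τM (by simpa using M.mul_mem h (M.inv_mem (un_mem D k)))

theorem ev_inj {k l : Cd} (hk : k.i < 4) (hl : l.i < 4) (h : ev x z τ k = ev x z τ l) : k = l := by
  have he : k.e = l.e := by
    cases h1 : k.e <;> cases h2 : l.e
    · rfl
    · have := (ev_mem_M D k).2 h1
      rw [h, ev_mem_M D, h2] at this
      exact absurd this (by decide)
    · have := (ev_mem_M D l).2 h2
      rw [← h, ev_mem_M D, h1] at this
      exact absurd this (by decide)
    · rfl
  rw [ev_eq, ev_eq, he] at h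
  have h2 : un x z k = un x z l := mul_left_cancel h
  obtain ⟨h3, h4, h5, h6⟩ := D.inj _ _ _ _ _ _ _ _ hk hl h2
  obtain ⟨e, a, b, c, i⟩ := k
  obtain ⟨e', a', b', c', i'⟩ := l
  simp only at he h3 h4 h5 h6
  rw [he, h3, h4, h5, h6]

theorem x_zero' (i j : Fin 3) (hij : i ≠ j) : x i j 0 = 1 := x_zero D.H.R i j hij

theorem ev_c1 : ev x z τ c1 = 1 := by
  show (1 : C₀) * (x 0 1 0 * x 1 2 0 * x 0 2 0 * z ^ 0) = 1
  rw [x_zero' D 0 1 (by decide), x_zero' D 1 2 (by decide), x_zero' D 0 2 (by decide), pow_zero]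
  simp only [mul_one]

theorem ev_ct : ev x z τ ct = t := by
  show (1 : C₀) * (x 0 1 0 * x 1 2 0 * x 0 2 0 * z ^ 2) = t
  rw [x_zero' D 0 1 (by decide), x_zero' D 1 2 (by decide), x_zero' D 0 2 (by decide), pow_two, D.zz]
  simp only [one_mul]

theorem ev_cz : ev x z τ cz = z := by
  show (1 : C₀) * (x 0 1 0 * x 1 2 0 * x 0 2 0 * z ^ 1) = z
  rw [x_zero' D 0 1 (by decide), x_zero' D 1 2 (by decide), x_zero' D 0 2 (by decide), pow_one]
  simp only [one_mul]

theorem ev_cu : ev x z τ cu = x 0 2 1 := by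
  show (1 : C₀) * (x 0 1 0 * x 1 2 0 * x 0 2 1 * z ^ 0) = x 0 2 1
  rw [x_zero' D 0 1 (by decide), x_zero' D 1 2 (by decide), pow_zero]
  simp only [one_mul, mul_one]

theorem ev_one_iff {k : Cd} (hk : k.i < 4) : ev x z τ k = 1 ↔ k = c1 := by
  constructor
  · intro h
    rw [← ev_c1 D] at h
    exact ev_inj D hk (by decide) h
  · rintro rfl; exact ev_c1 D

/-- equality of products of values, by codes -/
theorem mul_eq_iff {k l k' l' : Cd} : ev x z τ k * ev x z τ l = ev x z τ k' * ev x z τ l' ↔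
    eqb (mul P k l) (mul P k' l') = true := by
  rw [← ev_mul D.H, ← ev_mul D.H, eqb_iff]
  exact ⟨fun h => ev_inj D (mul_i _ _ _) (mul_i _ _ _) h, fun h => by rw [h]⟩

/-- a product of values equals a value -/
theorem mul_eq_iff' {k l m : Cd} (hm : m.i < 4) : ev x z τ k * ev x z τ l = ev x z τ m ↔
    eqb (mul P k l) m = true := by
  rw [← ev_mul D.H, eqb_iff]
  exact ⟨fun h => ev_inj D (mul_i _ _ _) hm h, fun h => by rw [h]⟩

/-- **The Sylow `2`-subgroup** -/
def S : Subgroup C₀ where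
  carrier := {y | ∃ k : Cd, k.i < 4 ∧ ev x z τ k = y}
  mul_mem' := by
    rintro _ _ ⟨k, _, rfl⟩ ⟨l, _, rfl⟩
    exact ⟨mul P k l, mul_i _ _ _, ev_mul D.H k l⟩
  one_mem' := ⟨c1, by decide, ev_c1 D⟩
  inv_mem' := by
    rintro _ ⟨k, hk, rfl⟩
    -- left multiplication by `k` is an injective self-map of the finite set of codes
    let A := {k : Cd // k ∈ all}
    have hfin : Finite A := List.finite_toSet all
    let f : A → A := fun l => ⟨mul P k l.1, mem_all (mul_i _ _ _)⟩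
    have hf : Function.Injective f := by
      intro l m hlm
      have h1 : mul P k l.1 = mul P k m.1 := congrArg Subtype.val hlm
      have h2 : ev x z τ k * ev x z τ l.1 = ev x z τ k * ev x z τ m.1 := by
        rw [← ev_mul D.H, ← ev_mul D.H, h1]
      exact Subtype.ext (ev_inj D (all_i l.2) (all_i m.2) (mul_left_cancel h2))
    obtain ⟨l, hl⟩ := (Finite.injective_iff_surjective.1 hf) ⟨c1, mem_all (by decide)⟩
    refine ⟨l.1, all_i l.2, ?_⟩
    have h3 : mul P k l.1 = c1 := congrArg Subtype.val hl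
    have h4 : ev x z τ k * ev x z τ l.1 = 1 := by rw [← ev_mul D.H, h3, ev_c1 D]
    exact (inv_eq_of_mul_eq_one_right h4).symm

theorem mem_S {y : C₀} : y ∈ S D ↔ ∃ k : Cd, k.i < 4 ∧ ev x z τ k = y := Iff.rfl

theorem ev_mem_S {k : Cd} (hk : k.i < 4) : ev x z τ k ∈ S D := ⟨k, hk, rfl⟩

/-- counting by codes -/
theorem card_filter (p : Cd → Bool) (q : C₀ → Prop)
    (hq : ∀ y, q y → y ∈ S D) (hp : ∀ k : Cd, k.i < 4 → (p k = true ↔ q (ev x z τ k))) :
    Nat.card {y : C₀ // q y} = (all.filter p).length := by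
  classical
  have h1 : Nat.card {k : Cd // k ∈ all.filter p} = (all.filter p).length := by
    have hn : (all.filter p).Nodup := nodup_all.filter _
    let _ : Fintype {k : Cd // k ∈ all.filter p} :=
      Fintype.subtype (all.filter p).toFinset (fun k => List.mem_toFinset)
    rw [← List.toFinset_card_of_nodup hn, Nat.card_eq_fintype_card]
    exact Fintype.card_of_subtype _ (fun k => List.mem_toFinset)
  rw [← h1]
  symm
  apply Nat.card_congr
  refine Equiv.ofBijective (fun k => ⟨ev x z τ k.1, ?_⟩) ⟨?_, ?_⟩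
  · have h2 := List.mem_filter.1 k.2
    exact (hp k.1 (all_i h2.1)).1 h2.2
  · intro k l hkl
    exact Subtype.ext (ev_inj D (all_i (List.mem_filter.1 k.2).1) (all_i (List.mem_filter.1 l.2).1)
      (congrArg Subtype.val hkl))
  · rintro ⟨y, hy⟩
    obtain ⟨k, hk, rfl⟩ := hq y hy
    exact ⟨⟨k, List.mem_filter.2 ⟨mem_all hk, (hp k hk).2 hy⟩⟩, rfl⟩

theorem card_S : Nat.card (S D) = 512 := by
  have h := card_filter D (fun _ => true) (fun y => y ∈ S D) (fun _ h => h)
    (fun k hk => ⟨fun _ => ev_mem_S D hk, fun _ => rfl⟩)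
  rw [List.filter_true] at h
  rw [← length_all, ← h]

theorem isPGroup_S : IsPGroup 2 (S D) := IsPGroup.of_card (n := 9) (by rw [card_S D]; norm_num)

theorem finite_C₀ : Finite C₀ := Nat.finite_of_card_ne_zero (by rw [D.card]; decide)

/-- `S` is a Sylow `2`-subgroup -/
theorem exists_sylow : ∃ Q : Sylow 2 C₀, (Q : Subgroup C₀) = S D := by
  have := finite_C₀ D
  have h2 : Fact (Nat.Prime 2) := ⟨Nat.prime_two⟩
  refine ⟨Sylow.ofCard (S D) ?_, ?_⟩
  · rw [card_S D, D.card]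
    have : (161280 : ℕ).factorization 2 = 9 := by
      rw [Nat.factorization_def _ Nat.prime_two]
      have h3 : (161280 : ℕ) = 2 ^ 9 * 315 := by norm_num
      rw [h3, padicValNat.mul (by norm_num) (by norm_num), padicValNat.prime_pow,
        padicValNat.eq_zero_of_not_dvd (by norm_num)]
    rw [this]; norm_num
  · exact Sylow.coe_ofCard _ _

/-- a `2`-subgroup is conjugate into `S` -/
theorem exists_conj_le (Q : Subgroup C₀) (hQ : IsPGroup 2 Q) :
    ∃ c : C₀, ∀ q ∈ Q, c * q * c⁻¹ ∈ S D := by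
  have := finite_C₀ D
  have h2 : Fact (Nat.Prime 2) := ⟨Nat.prime_two⟩
  obtain ⟨R, hR⟩ := exists_sylow D
  obtain ⟨Q', hQ'⟩ := hQ.exists_le_sylow
  obtain ⟨c, hc⟩ := MulAction.exists_smul_eq C₀ Q' R
  refine ⟨c, fun q hq => ?_⟩
  rw [← hR, ← hc]
  have h3 : MulAut.conj c • q ∈ MulAut.conj c • (Q' : Subgroup C₀) :=
    Subgroup.smul_mem_pointwise_smul _ _ _ (hQ' hq)
  exact h3

theorem mul_mem_of_not_mem {a b : C₀} (ha : a ∉ M) (hb : b ∉ M) : a * b ∈ M :=
  (Subgroup.mul_mem_iff_of_index_two D.idx).2 ⟨fun h => absurd h ha, fun h => absurd h hb⟩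

theorem conj_mem_iff {a c : C₀} : c * a * c⁻¹ ∈ M ↔ a ∈ M := by
  have hn : M.Normal := Subgroup.normal_of_index_eq_two D.idx
  constructor
  · intro h
    have := hn.conj_mem _ h c⁻¹
    have e : c⁻¹ * (c * a * c⁻¹) * c⁻¹⁻¹ = a := by group
    rwa [e] at this
  · intro h; exact hn.conj_mem _ h c

/-- `τ` commutes with `u` -/
theorem τ_u : τ * x 0 2 1 = x 0 2 1 * τ := by
  have h1 := D.H.tx 0 2 (by decide) 1
  have e1 : (if P.fld then (1 : F4) * 1 else 1) = 1 := by split <;> rfl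
  rw [e1] at h1
  have r0 : OuterL.rv 0 = 2 := rfl
  have r2 : OuterL.rv 2 = 0 := rfl
  rw [r0, r2, ite_self] at h1
  calc τ * x 0 2 1 = τ * (τ⁻¹ * x 0 2 1 * τ) := by rw [h1]
    _ = _ := by group

/-- **the centraliser of `u` is contained in `S`** -/
theorem mem_S_of_comm {y : C₀} (hy : y * x 0 2 1 = x 0 2 1 * y) : y ∈ S D := by
  by_cases hyM : y ∈ M
  · obtain ⟨a, b, c, i, hi, rfl⟩ := D.cent y hyM hy
    refine ⟨⟨false, a, b, c, i⟩, hi, ?_⟩
    rw [ev_eq]
    simp only [Bool.false_eq_true, if_false, one_mul]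
    rfl
  · have h1 : τ⁻¹ * y ∈ M := mul_mem_of_not_mem D (fun h => D.τM (by simpa using M.inv_mem h)) hyM
    have h2 : (τ⁻¹ * y) * x 0 2 1 = x 0 2 1 * (τ⁻¹ * y) := by
      rw [mul_assoc, hy, ← mul_assoc, ← mul_assoc]
      congr 1
      have := τ_u D
      calc τ⁻¹ * x 0 2 1 = τ⁻¹ * (x 0 2 1 * τ) * τ⁻¹ := by group
        _ = τ⁻¹ * (τ * x 0 2 1) * τ⁻¹ := by rw [this]
        _ = _ := by group
    obtain ⟨a, b, c, i, hi, h3⟩ := D.cent _ h1 h2
    refine ⟨⟨true, a, b, c, i⟩, hi, ?_⟩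
    rw [ev_eq]
    simp only [if_true]
    have h4 : un x z ⟨true, a, b, c, i⟩ = τ⁻¹ * y := h3.symm
    rw [h4]; group

/-- the centraliser of `u` has order `256` -/
theorem card_cent_u (hP : P ∈ pars) : Nat.card {y : C₀ // y * x 0 2 1 = x 0 2 1 * y} = 256 := by
  have h := card_filter D (fun k => eqb (mul P k cu) (mul P cu k))
    (fun y => y * x 0 2 1 = x 0 2 1 * y) (fun y hy => mem_S_of_comm D hy)
    (fun k _ => by rw [← ev_cu D, ← mul_eq_iff D])
  rw [h]
  exact Nat.eq_of_beq_eq_true (T0_ok P hP)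

omit D in
theorem conj_of_mul_eq {a b m : C₀} (h : a * m = m * b) : m⁻¹ * a * m = b := by
  rw [mul_assoc, h]; group

/-- root elements are conjugate to `u` -/
theorem x02_conj (f : F4) (hf : f ≠ 0) : ∃ c : C₀, c * x 0 2 f * c⁻¹ = x 0 2 1 := by
  have hk : ∀ u, h⁻¹ * x 0 2 u * h = x 0 2 (Psl.kap 0 2 * u) := D.H.R.tor 0 2 (by decide)
  have e1 : Psl.kap 0 2 = ω2 := by decide
  rw [e1] at hk
  cases f
  · exact absurd rfl hf
  · exact ⟨1, by group; rfl⟩
  · refine ⟨h⁻¹, ?_⟩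
    have := hk ω
    have e2 : ω2 * ω = 1 := by decide
    rw [e2] at this
    rw [inv_inv]; exact this
  · refine ⟨h⁻¹ * h⁻¹, ?_⟩
    have h1 := hk ω2
    have e2 : ω2 * ω2 = ω := by decide
    rw [e2] at h1
    have h2 := hk ω
    have e3 : ω2 * ω = 1 := by decide
    rw [e3] at h2
    calc h⁻¹ * h⁻¹ * x 0 2 ω2 * (h⁻¹ * h⁻¹)⁻¹ = h⁻¹ * (h⁻¹ * x 0 2 ω2 * h) * h := by
          simp only [mul_inv_rev, inv_inv, mul_assoc]
      _ = h⁻¹ * x 0 2 ω * h := by rw [h1]
      _ = _ := h2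

theorem root_conj (i j : Fin 3) (hij : (i = 0 ∧ j = 1) ∨ (i = 1 ∧ j = 2) ∨ (i = 0 ∧ j = 2))
    (f : F4) (hf : f ≠ 0) : ∃ c : C₀, c * x i j f * c⁻¹ = x 0 2 1 := by
  obtain ⟨c, hc⟩ := x02_conj D f hf
  rcases hij with ⟨rfl, rfl⟩ | ⟨rfl, rfl⟩ | ⟨rfl, rfl⟩
  · have h1 := D.H.R.weyl 1 2 0 1 (by decide) (by decide) f
    have e1 : Equiv.swap (1 : Fin 3) 2 0 = 0 := by decide
    have e2 : Equiv.swap (1 : Fin 3) 2 1 = 2 := by decide
    rw [e1, e2] at h1
    refine ⟨c * (x 1 2 1 * x 2 1 1 * x 1 2 1)⁻¹, ?_⟩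
    rw [← hc, ← h1]; group
  · have h1 := D.H.R.weyl 0 1 1 2 (by decide) (by decide) f
    have e1 : Equiv.swap (0 : Fin 3) 1 1 = 0 := by decide
    have e2 : Equiv.swap (0 : Fin 3) 1 2 = 2 := by decide
    rw [e1, e2] at h1
    refine ⟨c * (x 0 1 1 * x 1 0 1 * x 0 1 1)⁻¹, ?_⟩
    rw [← hc, ← h1]; group
  · exact ⟨c, hc⟩

theorem ev_root (k : Cd) (hk : k.a ≠ 0 ∨ k.b ≠ 0 ∨ k.c ≠ 0) :
    ∃ c : C₀, c * ev x z τ (root k) * c⁻¹ = x 0 2 1 := by
  have h01 := x_zero' D 0 1 (by decide)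
  have h12 := x_zero' D 1 2 (by decide)
  have h02 := x_zero' D 0 2 (by decide)
  obtain ⟨e, a, b, c, i⟩ := k
  simp only at hk
  have s1 : ∀ a : F4, ev x z τ ⟨false, a, 0, 0, 0⟩ = x 0 1 a := fun a => by
    show (1 : C₀) * (x 0 1 a * x 1 2 0 * x 0 2 0 * z ^ 0) = _
    rw [h12, h02, pow_zero]; simp only [one_mul, mul_one]
  have s2 : ∀ b : F4, ev x z τ ⟨false, 0, b, 0, 0⟩ = x 1 2 b := fun a => by
    show (1 : C₀) * (x 0 1 0 * x 1 2 a * x 0 2 0 * z ^ 0) = _
    rw [h01, h02, pow_zero]; simp only [one_mul, mul_one]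
  have s3 : ∀ c : F4, ev x z τ ⟨false, 0, 0, c, 0⟩ = x 0 2 c := fun a => by
    show (1 : C₀) * (x 0 1 0 * x 1 2 0 * x 0 2 a * z ^ 0) = _
    rw [h01, h12, pow_zero]; simp only [one_mul, mul_one]
  by_cases ha : a = 0
  · by_cases hb : b = 0
    · have hc : c ≠ 0 := by
        rcases hk with h | h | h
        · exact absurd ha h
        · exact absurd hb h
        · exact h
      have e1 : root ⟨e, a, b, c, i⟩ = ⟨false, 0, 0, c, 0⟩ := by rw [ha, hb]; rfl
      rw [e1, s3]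
      exact root_conj D 0 2 (by decide) c hc
    · have e1 : root ⟨e, a, b, c, i⟩ = ⟨false, 0, b, 0, 0⟩ := by
        rw [ha]; revert hb; cases b
        · intro h; exact absurd rfl h
        all_goals intro _; rfl
      rw [e1, s2]
      exact root_conj D 1 2 (by decide) b hb
  · have e1 : root ⟨e, a, b, c, i⟩ = ⟨false, a, 0, 0, 0⟩ := by
      revert ha; cases a
      · intro h; exact absurd rfl h
      all_goals intro _; rfl
    rw [e1, s1]
    exact root_conj D 0 1 (by decide) a ha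

/-- **the involutions of `M` other than `t` are conjugate to `u`** -/
theorem invol {m : C₀} (hm : m ∈ M) (hm2 : m * m = 1) (hm1 : m ≠ 1) (hmt : m ≠ t)
    (htc : ∀ c : C₀, c * t = t * c) : ∃ c : C₀, c * m * c⁻¹ = x 0 2 1 := by
  have hfin := finite_C₀ D
  have h2 : Fact (Nat.Prime 2) := ⟨Nat.prime_two⟩
  have hQ : IsPGroup 2 (Subgroup.zpowers m) := by
    rw [IsPGroup.iff_card]
    refine ⟨1, ?_⟩
    rw [Nat.card_zpowers, pow_one]
    exact orderOf_eq_prime (by rw [pow_two, hm2]) hm1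
  obtain ⟨c, hc⟩ := exists_conj_le D _ hQ
  obtain ⟨k, hk, hkc⟩ := hc m (Subgroup.mem_zpowers m)
  have hke : k.e = false := by
    rw [← ev_mem_M D k, hkc, conj_mem_iff D]; exact hm
  have hkk : eqb (nm P.two false k k) c1 = true := by
    have h3 : ev x z τ k * ev x z τ k = ev x z τ c1 := by
      rw [hkc, ev_c1 D]
      calc c * m * c⁻¹ * (c * m * c⁻¹) = c * (m * m) * c⁻¹ := by group
        _ = 1 := by rw [hm2]; group
    rw [mul_eq_iff' D (by decide)] at h3
    have h4 : mul P k k = nm P.two false k k := by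
      unfold mul; rw [hke]
    rwa [h4] at h3
  have hk1 : k ≠ c1 := by
    rintro rfl
    rw [ev_c1 D] at hkc
    apply hm1
    calc m = c⁻¹ * (c * m * c⁻¹) * c := by group
      _ = 1 := by rw [← hkc]; group
  have hkt : k ≠ ct := by
    rintro rfl
    rw [ev_ct D] at hkc
    apply hmt
    calc m = c⁻¹ * (c * m * c⁻¹) * c := by group
      _ = c⁻¹ * (t * c) := by rw [← hkc]; group
      _ = t := by rw [← htc]; group
  have hinvc : invc P.two = true := by
    cases P.two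
    · exact invc_ok.1
    · exact invc_ok.2
  have h5 := (List.all_eq_true.1 hinvc) k (mem_us hk hke)
  rw [hkk] at h5
  simp only [Bool.not_true, Bool.false_or, Bool.or_eq_true] at h5
  rcases h5 with h5 | h5 | h5
  · exact absurd (eqb_iff.1 h5) hk1
  · exact absurd (eqb_iff.1 h5) hkt
  · obtain ⟨m', hm', h6⟩ := List.any_eq_true.1 h5
    have hm'e : m'.e = false := by
      rcases List.mem_append.1 hm' with h7 | h7
      · obtain ⟨a, _, h8⟩ := List.mem_flatMap.1 h7
        obtain ⟨b, _, rfl⟩ := List.mem_map.1 h8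
        rfl
      · obtain ⟨a, _, h8⟩ := List.mem_flatMap.1 h7
        obtain ⟨b, _, rfl⟩ := List.mem_map.1 h8
        rfl
    have hre : (root k).e = false := by
      unfold root; split
      · split <;> rfl
      · rfl
    have h7 : ev x z τ k * ev x z τ m' = ev x z τ m' * ev x z τ (root k) := by
      rw [mul_eq_iff D]
      have e1 : mul P k m' = nm P.two false k m' := by unfold mul; rw [hm'e, hke]
      have e2 : mul P m' (root k) = nm P.two false m' (root k) := by unfold mul; rw [hre, hm'e]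
      rw [e1, e2]; exact h6
    have hne : k.a ≠ 0 ∨ k.b ≠ 0 ∨ k.c ≠ 0 := by
      by_contra hcon
      push Not at hcon
      obtain ⟨ha, hb, hcc⟩ := hcon
      -- `k` is a power of `z`
      obtain ⟨e, a, b, c', i⟩ := k
      simp only at ha hb hcc hke hk
      subst ha hb hcc hke
      interval_cases i
      · exact hk1 rfl
      · exact absurd hkk (by cases P.two <;> decide)
      · exact hkt rfl
      · exact absurd hkk (by cases P.two <;> decide)
    obtain ⟨d, hd⟩ := ev_root D k hne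
    have h8 := conj_of_mul_eq h7
    refine ⟨d * (ev x z τ m')⁻¹ * c, ?_⟩
    rw [← hd, ← h8, hkc]; group

end

end Cfsg.Agent.ONType.SSub
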