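import Cfsg.Agent.ONType.Data

/-!
# The involution centraliser of a group of O'Nan type

`ONSetup M π x z h τ ty` collects the complete structure of a group `C` with a normal subgroup `M` of
index two, `C_C(M) ≤ M`, where `M` is perfect with cyclic centre `⟨z⟩` of order four and
`M/Z(M) ≅ PSL(3,4)`.  There are twelve types `ty`.
-/

set_option autoImplicit false
set_option linter.constructorNameAsVariable false
set_option linter.unusedVariables false

namespace Cfsg.Agent.ONType.Setup

open Cfsg.Agent.SporadicA.FieldFour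
open Cfsg.Agent.ONType.Psl
open Cfsg.Agent.ONType.Lift
open Cfsg.Agent.ONType.Data
open Cfsg.Agent.ONType.OuterM (trn)
open Cfsg.Agent.ONType.OuterL (rv rv_ne rv_rv)

/-- The types: `two` = the cover is of type II, `fr` = `τ` involves the field automorphism, `gr` = `τ`
involves the graph automorphism, `sq` = `τ ^ 2 ≠ 1`. -/
structure Ty where
  two : Bool
  fr : Bool
  gr : Bool
  sq : Bool
  deriving DecidableEq

/-- the exponents in the Chevalley commutator relation -/
def g4 : Bool → F4 → ℕ
  | false, .z => 0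
  | false, .o => 0
  | false, .w => 1
  | false, .v => 3
  | true, .z => 0
  | true, .o => 2
  | true, .w => 1
  | true, .v => 1

theorem g4_false : g4 false = gI := by funext u; cases u <;> rfl
theorem g4_true : g4 true = gII := by funext u; cases u <;> rfl

/-- Frobenius, or the identity -/
def frob : Bool → F4 → F4
  | false, u => u
  | true, u => u * u

/-- does `τ` invert `z`? -/
def Ty.inv (ty : Ty) : Bool := bif ty.two then ty.gr else ty.fr

/-- the exponent of `τ ^ 2` -/
def Ty.e2 (ty : Ty) : ℕ := bif ty.sq then (bif ty.inv then 2 else 1) else 0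

/-- action of `τ` on the first index -/
def Ty.ix (ty : Ty) (i j : Fin 3) : Fin 3 := bif ty.gr then rv j else i

/-- The structure of the involution centraliser. -/
structure ONSetup {C : Type*} [Group C] (M : Subgroup C) (π : M →* PSL3)
    (x : Fin 3 → Fin 3 → F4 → C) (z h τ : C) (ty : Ty) : Prop where
  rel : MRel x z h (g4 ty.two)
  zo : orderOf z = 4
  idx : M.index = 2
  surj : Function.Surjective π
  xM : ∀ i j, i ≠ j → ∀ u, ∃ m : M, (m : C) = x i j u ∧ π m = t i j u
  hM : ∃ m : M, (m : C) = h ∧ π m = hh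
  ker : ∀ m : M, π m = 1 ↔ (m : C) ∈ Subgroup.zpowers z
  gen : Subgroup.closure {y : C | ∃ (i j : Fin 3) (u : F4), i ≠ j ∧ y = x i j u} = M
  nid : (ty.fr || ty.gr) = true
  τM : τ ∉ M
  τx : ∀ i j, i ≠ j → ∀ u, τ⁻¹ * x i j u * τ = x (ty.ix i j) (ty.ix j i) (frob ty.fr u)
  τh : τ⁻¹ * h * τ = bif ty.fr then h⁻¹ else h
  τz : τ⁻¹ * z * τ = bif ty.inv then z⁻¹ else z
  τ2 : τ * τ = z ^ ty.e2

/-- inverse of the torus element -/
theorem torus_inv {C : Type*} [Group C] {x : Fin 3 → Fin 3 → F4 → C} {z h : C} {g : F4 → ℕ}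
    (R : MRel x z h g) (i j : Fin 3) (hij : i ≠ j) :
    x i j (kap j i) * x j i (kap i j) * x i j (kap j i) * (x i j 1 * x j i 1 * x i j 1) = h⁻¹ := by
  have t1 := R.torus i j hij
  have c1 := R.tor i j hij 1
  have c2 := R.tor j i hij.symm 1
  have c3 := R.tor i j hij (kap j i)
  have c4 := R.tor j i hij.symm (kap i j)
  have e1 : kap i j * kap j i = 1 := by clear * - hij; revert i j; decide
  have e2 : kap j i * kap i j = 1 := by rw [mul_comm, e1]
  rw [mul_one] at c1 c2
  rw [e1] at c3
  rw [e2] at c4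
  set n := x i j 1 * x j i 1 * x i j 1 with hn
  -- `h⁻¹ n h n = h`
  have d1 : h⁻¹ * n * h * n = h := by
    have : h⁻¹ * n * h = x i j (kap i j) * x j i (kap j i) * x i j (kap i j) := by
      rw [← c1, ← c2, hn]; group
    rw [this, t1]
  have d2 : h⁻¹ * (x i j (kap j i) * x j i (kap i j) * x i j (kap j i)) * h = n := by
    rw [hn, ← c3, ← c4]; group
  have d3 : x i j (kap j i) * x j i (kap i j) * x i j (kap j i) = h * n * h⁻¹ := by
    rw [← d2]; group
  rw [d3]
  have h3 := R.h3
  have h3' : h * h = h⁻¹ := by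
    rw [eq_inv_iff_mul_eq_one, ← h3, pow_succ, pow_two]
  have d4 : n * h * n = h⁻¹ := by
    calc n * h * n = h * (h⁻¹ * n * h * n) := by group
      _ = h⁻¹ := by rw [d1, h3']
  have n2 : n * n = 1 := by
    have hx : ∀ i j, i ≠ j → x i j 0 = 1 := by
      intro i j hij
      have := R.add i j hij 0 0
      rw [add_zero] at this
      exact mul_eq_left.mp this
    have s1 : x i j 1 * x i j 1 = 1 := by
      rw [R.add i j hij]
      have : (1 : F4) + 1 = 0 := by decide
      rw [this, hx _ _ hij]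
    have s2 : x j i 1 * x j i 1 = 1 := by
      rw [R.add j i hij.symm]
      have : (1 : F4) + 1 = 0 := by decide
      rw [this, hx _ _ hij.symm]
    calc n * n = x i j 1 * (x j i 1 * ((x i j 1 * x i j 1) * x j i 1)) * x i j 1 := by
          rw [hn]; group
      _ = 1 := by rw [s1, one_mul, s2, mul_one, s1]
  have ni : n⁻¹ = n := inv_eq_of_mul_eq_one_left n2
  have d5 : n * h⁻¹ * n = h := by
    have := congrArg (·⁻¹) d4
    simp only [mul_inv_rev, inv_inv, ni] at this
    rw [← mul_assoc] at this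
    exact this
  calc h * n * h⁻¹ * n = h * (n * h⁻¹ * n) := by group
    _ = h⁻¹ := by rw [d5, h3']

section
variable {C : Type*} [Group C] {x : Fin 3 → Fin 3 → F4 → C} {z h : C}

theorem x_zero {g : F4 → ℕ} (R : MRel x z h g) (i j : Fin 3) (hij : i ≠ j) : x i j 0 = 1 := by
  have := R.add i j hij 0 0
  rw [add_zero] at this
  exact mul_eq_left.mp this

theorem add_self (u : F4) : u + u = 0 := by cases u <;> rfl

theorem x_sq {g : F4 → ℕ} (R : MRel x z h g) (i j : Fin 3) (hij : i ≠ j) (u : F4) :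
    x i j u * x i j u = 1 := by
  rw [R.add i j hij, add_self, x_zero R i j hij]

theorem x_inv {g : F4 → ℕ} (R : MRel x z h g) (i j : Fin 3) (hij : i ≠ j) (u : F4) :
    (x i j u)⁻¹ = x i j u := inv_eq_of_mul_eq_one_left (x_sq R i j hij u)

omit z h in
theorem aux1 (X Y a z : C) (ha : a * a = 1) (hz : Commute a z) :
    a⁻¹ * ((Y * X * (a * z))⁻¹ * (Y * X)) = z⁻¹ := by
  have hi : a⁻¹ = a := inv_eq_of_mul_eq_one_left ha
  calc a⁻¹ * ((Y * X * (a * z))⁻¹ * (Y * X)) = a⁻¹ * (z⁻¹ * a⁻¹) := by group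
    _ = z⁻¹ := by rw [hi, ← hz.inv_right.eq, ← mul_assoc, ha, one_mul]

/-- action of `τ` on the centre of `M`, computed from its action on the root elements -/
theorem conj_z {two fr gr : Bool} (R : MRel x z h (g4 two)) {τ : C}
    (hx : ∀ i j, i ≠ j → ∀ u, τ⁻¹ * x i j u * τ =
      x (bif gr then rv j else i) (bif gr then rv i else j) (frob fr u)) :
    τ⁻¹ * z * τ = bif (bif two then gr else fr) then z⁻¹ else z := by
  have z4 := R.z4
  have s1 := R.sum 0 2 1 (by decide) (by decide) (by decide) F4.w 1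
  have s2 := R.sum 0 2 1 (by decide) (by decide) (by decide) F4.v 1
  have s3 := R.sum 0 2 1 (by decide) (by decide) (by decide) 1 F4.w
  have s4 := R.sum 0 2 1 (by decide) (by decide) (by decide) 1 F4.v
  have a1 := hx 0 1 (by decide) F4.w
  have a2 := hx 1 2 (by decide) 1
  have a3 := hx 0 2 (by decide) F4.w
  have e1 : ∀ b, g4 b F4.w = 1 := by decide
  have z3 : z ^ 3 = z⁻¹ := by
    rw [eq_inv_iff_mul_eq_one, ← z4]; rw [← pow_succ]
  -- conjugate of the first relation
  have key : (τ⁻¹ * x 0 1 F4.w * τ) * (τ⁻¹ * x 1 2 1 * τ) =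
      (τ⁻¹ * x 1 2 1 * τ) * (τ⁻¹ * x 0 1 F4.w * τ) * ((τ⁻¹ * x 0 2 F4.w * τ) * (τ⁻¹ * z * τ)) := by
    have e : F4.w * (1 * 1) = F4.w := rfl
    have e' : F4.w * 1 = F4.w := rfl
    rw [e, e', e1, pow_one] at s1
    calc _ = τ⁻¹ * (x 0 1 F4.w * x 1 2 1) * τ := by group
      _ = _ := by rw [s1]; group
  rw [a1, a2, a3] at key
  -- isolate
  have iso : τ⁻¹ * z * τ = (x (bif gr then rv 2 else 0) (bif gr then rv 0 else 2) (frob fr F4.w))⁻¹ *
      ((x (bif gr then rv 2 else 1) (bif gr then rv 1 else 2) (frob fr 1) *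
        x (bif gr then rv 1 else 0) (bif gr then rv 0 else 1) (frob fr F4.w))⁻¹ *
      (x (bif gr then rv 1 else 0) (bif gr then rv 0 else 1) (frob fr F4.w) *
        x (bif gr then rv 2 else 1) (bif gr then rv 1 else 2) (frob fr 1))) := by
    rw [key]; group
  rw [iso]
  have r0 : rv 0 = 2 := rfl
  have r1 : rv 1 = 1 := rfl
  have r2 : rv 2 = 0 := rfl
  cases gr
  · -- no graph automorphism
    cases fr
    · have e : F4.w * (1 * 1) = F4.w := rfl
      have e' : F4.w * 1 = F4.w := rfl
      rw [e, e', e1, pow_one] at s1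
      have : (bif (bif two then false else false) then z⁻¹ else z) = z := by cases two <;> rfl
      rw [this]
      simp only [cond_false, frob]
      rw [s1]; group
    · have e : F4.v * (1 * 1) = F4.v := rfl
      have e' : F4.v * 1 = F4.v := rfl
      have ew : F4.w * F4.w = F4.v := rfl
      have e11 : (1 : F4) * 1 = 1 := rfl
      rw [e, e'] at s2
      simp only [cond_false, frob, ew, e11]
      rw [s2]
      cases two
      · have : g4 false F4.v = 3 := rfl
        rw [this, z3]
        show _ = z⁻¹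
        group
      · have : g4 true F4.v = 1 := rfl
        rw [this]
        show _ = z
        group
  · cases fr
    · have e : (1 : F4) * (F4.w * F4.w) = F4.v := rfl
      have e' : (1 : F4) * F4.w = F4.w := rfl
      rw [e, e'] at s3
      simp only [cond_true, frob, r0, r1, r2]
      rw [s3]
      have hc := R.zc 0 2 F4.w (by decide)
      have hs := x_sq R 0 2 (by decide) F4.w
      cases two
      · show _ = z
        rw [show g4 false F4.v = 3 from rfl, z3]
        exact (aux1 _ _ _ _ hs (Commute.inv_right hc)).trans (inv_inv z)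
      · show _ = z⁻¹
        rw [show g4 true F4.v = 1 from rfl, pow_one]
        exact aux1 _ _ _ _ hs hc
    · have e : (1 : F4) * (F4.v * F4.v) = F4.w := rfl
      have e' : (1 : F4) * F4.v = F4.v := rfl
      have ew : F4.w * F4.w = F4.v := rfl
      have e11 : (1 : F4) * 1 = 1 := rfl
      rw [e, e', e1, pow_one] at s4
      have : (bif (bif two then true else true) then z⁻¹ else z) = z⁻¹ := by cases two <;> rfl
      rw [this]
      simp only [cond_true, frob, r0, r1, r2, ew, e11]
      rw [s4]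
      have hc := R.zc 0 2 F4.v (by decide)
      exact aux1 _ _ _ _ (x_sq R 0 2 (by decide) F4.v) hc

/-- action of `τ` on the torus element -/
theorem conj_h {fr gr : Bool} {g : F4 → ℕ} (R : MRel x z h g) {τ : C}
    (hx : ∀ i j, i ≠ j → ∀ u, τ⁻¹ * x i j u * τ =
      x (bif gr then rv j else i) (bif gr then rv i else j) (frob fr u)) :
    τ⁻¹ * h * τ = bif fr then h⁻¹ else h := by
  have a1 := hx 0 1 (by decide) (kap 0 1)
  have a2 := hx 1 0 (by decide) (kap 1 0)
  have a3 := hx 0 1 (by decide) 1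
  have a4 := hx 1 0 (by decide) 1
  have key : τ⁻¹ * h * τ = (τ⁻¹ * x 0 1 (kap 0 1) * τ) * (τ⁻¹ * x 1 0 (kap 1 0) * τ) *
      (τ⁻¹ * x 0 1 (kap 0 1) * τ) *
      ((τ⁻¹ * x 0 1 1 * τ) * (τ⁻¹ * x 1 0 1 * τ) * (τ⁻¹ * x 0 1 1 * τ)) := by
    rw [← R.torus 0 1 (by decide)]; group
  rw [key, a1, a2, a3, a4]
  have k1 : kap 0 1 = F4.w := rfl
  have k2 : kap 1 0 = F4.v := rfl
  have k3 : kap 1 2 = F4.w := rfl
  have k4 : kap 2 1 = F4.v := rfl
  have r0 : rv 0 = 2 := rfl
  have r1 : rv 1 = 1 := rfl
  have ew : F4.w * F4.w = F4.v := rfl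
  have ev : F4.v * F4.v = F4.w := rfl
  have e11 : (1 : F4) * 1 = 1 := rfl
  cases gr <;> cases fr <;>
    simp only [cond_true, cond_false, frob, r0, r1, k1, k2, ew, ev, e11]
  · have := R.torus 0 1 (by decide)
    rw [k1, k2] at this
    exact this
  · have := torus_inv R 0 1 (by decide)
    rw [k1, k2] at this
    exact this
  · have := R.torus 1 2 (by decide)
    rw [k3, k4] at this
    exact this
  · have := torus_inv R 1 2 (by decide)
    rw [k3, k4] at this
    exact this

/-- normalisation of the square of `τ` -/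
theorem exists_sq {two fr gr : Bool} (R : MRel x z h (g4 two)) (hz : orderOf z = 4) {τ : C}
    (hx : ∀ i j, i ≠ j → ∀ u, τ⁻¹ * x i j u * τ =
      x (bif gr then rv j else i) (bif gr then rv i else j) (frob fr u))
    (h2 : τ * τ ∈ Subgroup.zpowers z) :
    ∃ (k : ℕ) (sq : Bool), (τ * z ^ k) * (τ * z ^ k) = z ^ (Ty.e2 ⟨two, fr, gr, sq⟩) := by
  have z4 := R.z4
  have hcz := conj_z R hx
  -- `τ² = z ^ j`
  obtain ⟨j, hj4, hj⟩ : ∃ j, j < 4 ∧ τ * τ = z ^ j := by
    obtain ⟨n, hn⟩ := Subgroup.mem_zpowers_iff.mp h2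
    refine ⟨(n % 4).toNat, ?_, ?_⟩
    · have := Int.emod_lt_of_pos n (show (0 : ℤ) < 4 by norm_num)
      omega
    · rw [← hn, ← zpow_natCast, Int.toNat_of_nonneg (Int.emod_nonneg n (by norm_num))]
      have := zpow_mod_orderOf z n
      rw [hz] at this
      exact_mod_cast this.symm
  cases hinv : (bif two then gr else fr)
  · rw [hinv, cond_false] at hcz
    have hc : Commute τ z := by
      show τ * z = z * τ
      calc τ * z = τ * (τ⁻¹ * z * τ) := by rw [hcz]
        _ = z * τ := by group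
    have hsq : ∀ k, (τ * z ^ k) * (τ * z ^ k) = z ^ (j + 2 * k) := by
      intro k
      have hk : Commute τ (z ^ k) := hc.pow_right k
      calc (τ * z ^ k) * (τ * z ^ k) = τ * (z ^ k * τ) * z ^ k := by group
        _ = (τ * τ) * (z ^ k * z ^ k) := by rw [← hk.eq]; group
        _ = z ^ (j + 2 * k) := by rw [hj, ← pow_add, ← pow_add]; ring_nf
    have e20 : Ty.e2 ⟨two, fr, gr, false⟩ = 0 := rfl
    have e21 : Ty.e2 ⟨two, fr, gr, true⟩ = 1 := by
      show (bif true then (bif (bif two then gr else fr) then 2 else 1) else 0) = 1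
      rw [hinv]; rfl
    interval_cases j
    · exact ⟨0, false, by rw [hsq, e20]⟩
    · exact ⟨0, true, by rw [hsq, e21]⟩
    · exact ⟨1, false, by rw [hsq, e20, z4, pow_zero]⟩
    · refine ⟨1, true, ?_⟩
      rw [hsq, e21]
      calc z ^ (3 + 2 * 1) = z ^ 4 * z ^ 1 := by rw [← pow_add]
        _ = z ^ 1 := by rw [z4, one_mul]
  · rw [hinv, cond_true] at hcz
    have hjj : z ^ (2 * j) = 1 := by
      have h1 : τ⁻¹ * z ^ j * τ = (z ^ j)⁻¹ := by
        have h1 := map_pow (MulAut.conj τ⁻¹) z j
        simp only [MulAut.conj_apply, inv_inv] at h1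
        rw [h1, hcz, inv_pow]
      rw [← hj] at h1
      have h3 : τ * τ = (τ * τ)⁻¹ := by
        rw [← h1]; group
      rw [two_mul, pow_add, ← hj]
      exact mul_eq_one_iff_eq_inv.mpr h3
    have hdvd : 4 ∣ 2 * j := by rw [← hz]; exact orderOf_dvd_of_pow_eq_one hjj
    have e20 : Ty.e2 ⟨two, fr, gr, false⟩ = 0 := rfl
    have e21 : Ty.e2 ⟨two, fr, gr, true⟩ = 2 := by
      show (bif true then (bif (bif two then gr else fr) then 2 else 1) else 0) = 2
      rw [hinv]; rfl
    interval_cases j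
    · exact ⟨0, false, by rw [pow_zero, mul_one, hj, e20]⟩
    · omega
    · exact ⟨0, true, by rw [pow_zero, mul_one, hj, e21]⟩
    · omega

end

/-- **The structure of the involution centraliser.** -/
theorem exists_setup {C : Type*} [Group C] [Finite C] (M : Subgroup C) [M.Normal]
    (hM : M.index = 2) (hout : Subgroup.centralizer (M : Set C) ≤ M)
    (hZc : IsCyclic (Subgroup.center M)) (hZ4 : Nat.card (Subgroup.center M) = 4)
    (hperf : commutator M = ⊤) (F : Type) [Field F] [Fintype F] (hF : Fintype.card F = 4)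
    (e : M ⧸ Subgroup.center M ≃* Matrix.ProjectiveSpecialLinearGroup (Fin 3) F) :
    ∃ (π : M →* PSL3) (x : Fin 3 → Fin 3 → F4 → C) (z h τ : C) (ty : Ty),
      ONSetup M π x z h τ ty := by
  obtain ⟨π, E, z, hker, hcz, hz, hR⟩ := exists_data hZc hZ4 hperf F hF e
  obtain ⟨two, hR⟩ : ∃ two, MRel E.x z E.h (g4 two) := by
    rcases hR with h | h
    · exact ⟨false, by rw [g4_false]; exact h⟩
    · exact ⟨true, by rw [g4_true]; exact h⟩
  have hne : M ≠ ⊤ := by
    intro h; rw [h, Subgroup.index_top] at hM; omega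
  have z4 : z ^ 4 = 1 := hR.z4
  have hkz : ∀ m : M, π m = 1 ↔ m ∈ Subgroup.zpowers z := by
    intro m
    rw [← hcz, ← hker]; exact Iff.rfl
  have hz2 : z ^ 2 ≠ 1 := by
    intro h
    have : orderOf z ∣ 2 := orderOf_dvd_of_pow_eq_one h
    rw [hz] at this
    exact absurd this (by decide)
  have htc : ∀ c : C, c * ((z ^ 2 : M) : C) * c⁻¹ = (z ^ 2 : M) := by
    intro c
    -- the conjugate `y` of `z`
    set y : M := MulAut.conjNormal c z with hy
    have hyc : y ∈ Subgroup.center M := by
      have : z ∈ Subgroup.center M := by rw [hcz]; exact Subgroup.mem_zpowers z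
      have hch : (Subgroup.center M).map (MulAut.conjNormal c : M ≃* M).toMonoidHom =
          Subgroup.center M := map_center_eq (MulAut.conjNormal c : M ≃* M)
      rw [← hch]
      exact ⟨z, this, rfl⟩
    rw [hcz] at hyc
    obtain ⟨n, hn⟩ := Subgroup.mem_zpowers_iff.mp hyc
    have hy2 : y ^ 2 ≠ 1 := by
      intro h
      apply hz2
      rw [hy, ← map_pow] at h
      exact (map_eq_one_iff _ (MulEquiv.injective _)).mp h
    have hyz : y ^ 2 = z ^ 2 := by
      rw [← hn]
      rcases Int.even_or_odd n with ⟨k, hk⟩ | ⟨k, hk⟩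
      · exfalso
        apply hy2
        rw [← hn, hk, ← zpow_natCast, ← zpow_mul]
        have : (k + k) * ((2 : ℕ) : ℤ) = ((4 : ℕ) : ℤ) * k := by push_cast; ring
        rw [this, zpow_mul, zpow_natCast, z4, one_zpow]
      · rw [hk, ← zpow_natCast, ← zpow_mul]
        have : (2 * k + 1) * ((2 : ℕ) : ℤ) = ((4 : ℕ) : ℤ) * k + (2 : ℕ) := by push_cast; ring
        rw [this, zpow_add, zpow_mul, zpow_natCast, z4, one_zpow, one_mul, zpow_natCast]
    have : c * ((z ^ 2 : M) : C) * c⁻¹ = ((MulAut.conjNormal c (z ^ 2) : M) : C) := by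
      rw [MulAut.conjNormal_apply]
    rw [this, map_pow, ← hy, hyz]
  obtain ⟨τ, σ, hτM, hσ, hτh, hτx, c, hc, hc1⟩ := OuterC.exists_tau M hne hout E
    (by
      intro k hk
      have : k ∈ Subgroup.center M := Subgroup.mem_center_iff.mpr (fun g => (hk g).symm)
      rw [← hker] at this
      exact this) hperf (z ^ 2) hz2 htc
    (by
      intro u v
      rw [← pow_mul]
      exact hR.row 0 1 2 (by decide) (by decide) (by decide) u v)
    (by
      intro u v
      rw [← pow_mul]
      exact hR.col 1 2 0 (by decide) (by decide) (by decide) u v)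
  -- the relations in `C`
  have R : MRel (fun i j u => (E.x i j u : C)) (z : C) (E.h : C) (g4 two) := hR.map M.subtype
  obtain ⟨fr, gr, hfg, hx⟩ : ∃ fr gr : Bool, (fr || gr) = true ∧
      ∀ i j, i ≠ j → ∀ u, τ⁻¹ * (E.x i j u : C) * τ =
        (fun i j u => (E.x i j u : C)) (bif gr then rv j else i) (bif gr then rv i else j)
          (frob fr u) := by
    rcases hτx with ⟨hs, h⟩ | h
    · exact ⟨true, false, rfl, fun i j hij u => by rw [h i j hij u, hs]; rfl⟩
    · rcases hσ with hs | hs
      · exact ⟨false, true, rfl, fun i j hij u => by rw [h i j hij u, hs]; rfl⟩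
      · exact ⟨true, true, rfl, fun i j hij u => by rw [h i j hij u, hs]; rfl⟩
  have hzo : orderOf (z : C) = 4 := by rw [← hz]; exact Subgroup.orderOf_coe z
  have h2 : τ * τ ∈ Subgroup.zpowers (z : C) := by
    rw [← hc]
    obtain ⟨n, hn⟩ := Subgroup.mem_zpowers_iff.mp ((hkz c).mp hc1)
    exact Subgroup.mem_zpowers_iff.mpr ⟨n, by rw [← hn]; rfl⟩
  obtain ⟨k, sq, hsq⟩ := exists_sq R hzo hx h2
  have hzk : ((z : C) ^ k) ∈ M := M.pow_mem z.2 k
  have hx' : ∀ i j, i ≠ j → ∀ u, (τ * (z : C) ^ k)⁻¹ * (E.x i j u : C) * (τ * (z : C) ^ k) =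
        (fun i j u => (E.x i j u : C)) (bif gr then rv j else i) (bif gr then rv i else j)
          (frob fr u) := by
    intro i j hij u
    have h1 := hx i j hij u
    have hij' : (bif gr then rv j else i) ≠ (bif gr then rv i else j) := by
      cases gr
      · exact hij
      · exact rv_ne hij.symm
    have h3 : Commute ((E.x (bif gr then rv j else i) (bif gr then rv i else j) (frob fr u) : M) : C)
        ((z : C) ^ k) := Commute.pow_right (R.zc _ _ _ hij') k
    calc (τ * (z : C) ^ k)⁻¹ * (E.x i j u : C) * (τ * (z : C) ^ k)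
        = ((z : C) ^ k)⁻¹ * (τ⁻¹ * (E.x i j u : C) * τ) * (z : C) ^ k := by group
      _ = _ := by rw [h1, mul_assoc, h3.eq, inv_mul_cancel_left]
  refine ⟨π, fun i j u => (E.x i j u : C), z, E.h, τ * (z : C) ^ k, ⟨two, fr, gr, sq⟩, ?_⟩
  exact
    { rel := R
      zo := hzo
      idx := hM
      surj := E.surj
      xM := fun i j hij u => ⟨E.x i j u, rfl, E.map_x i j hij u⟩
      hM := ⟨E.h, rfl, E.map_h⟩
      ker := fun m => by
        rw [hkz m]
        constructor
        · intro h
          obtain ⟨n, hn⟩ := Subgroup.mem_zpowers_iff.mp h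
          exact Subgroup.mem_zpowers_iff.mpr ⟨n, by rw [← hn]; rfl⟩
        · intro h
          obtain ⟨n, hn⟩ := Subgroup.mem_zpowers_iff.mp h
          refine Subgroup.mem_zpowers_iff.mpr ⟨n, ?_⟩
          apply Subtype.ext
          rw [← hn]; rfl
      gen := by
        have h1 := congrArg (Subgroup.map M.subtype) (OuterC.closure_x E hperf)
        rw [MonoidHom.map_closure, ← MonoidHom.range_eq_map, Subgroup.range_subtype] at h1
        refine Eq.trans ?_ h1
        congr 1
        ext y
        constructor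
        · rintro ⟨i, j, u, hij, rfl⟩
          exact ⟨E.x i j u, ⟨i, j, u, hij, rfl⟩, rfl⟩
        · rintro ⟨_, ⟨i, j, u, hij, rfl⟩, rfl⟩
          exact ⟨i, j, u, hij, rfl⟩
      nid := hfg
      τM := fun h => hτM ((Subgroup.mul_mem_cancel_right M hzk).mp h)
      τx := hx'
      τh := conj_h R hx'
      τz := conj_z R hx'
      τ2 := hsq }

end Cfsg.Agent.ONType.Setup
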