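import Cfsg.Agent.ONType.ExtRel

/-!
# O'Nan type groups: the situation in `G`

`Frame` is the input (S1730, (B7)), `Sit` the situation after the extension step.
-/

set_option autoImplicit false
set_option linter.dupNamespace false

namespace Cfsg.Agent.ONType.Sit

open Subgroup
open Cfsg.Agent.ONType.Rel Cfsg.Agent.ONType.Span

/-- The input: `T` is homocyclic of rank 3 and exponent `2^n`, normal in `S`, self-centralising in `S` in the strong sense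
`C_S(Ω₁(T)) = T`, `N_G(T)` induces all automorphisms of `Ω₁(T)`. -/
structure Frame {G : Type*} [Group G] (n : ℕ) (S : Sylow 2 G) (T : Subgroup G) : Prop where
  hn : 2 ≤ n
  le : T ≤ (S : Subgroup G)
  norm : (S : Subgroup G) ≤ normalizer (T : Set G)
  comm : ∀ x ∈ T, ∀ y ∈ T, x * y = y * x
  card : Nat.card T = 8 ^ n
  cardS : Nat.card (S : Subgroup G) = 8 * 8 ^ n
  exp : ∀ t ∈ T, t ^ (2 ^ n) = 1
  eight : Nat.card {t : G // t ∈ T ∧ t * t = 1} ≤ 8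
  self : ∀ g ∈ (S : Subgroup G), (∀ t ∈ T, t * t = 1 → g * t = t * g) → g ∈ T
  full : ∀ a b c a' b' c' : G, a ∈ T → a * a = 1 → b ∈ T → b * b = 1 → c ∈ T → c * c = 1 →
    a' ∈ T → a' * a' = 1 → b' ∈ T → b' * b' = 1 → c' ∈ T → c' * c' = 1 → Indep a b c → Indep a' b' c' →
    ∃ g ∈ normalizer (T : Set G), g * a * g⁻¹ = a' ∧ g * b * g⁻¹ = b' ∧ g * c * g⁻¹ = c'
  inv : ∃ y ∈ (S : Subgroup G), y ∉ T ∧ y * y = 1
  no16 : ∀ E : Subgroup G, (∀ x ∈ E, x * x = 1) → Nat.card E ≤ 8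

/-- The situation after the extension step. `O` is the group of the elements of odd order of `C_G(T)`. -/
structure Sit {G : Type*} [Group G] (n : ℕ) (S : Sylow 2 G) (T O : Subgroup G) (τ : ℤ → ℤ → ℤ → G) (x1 x2 x3 s ξ : G) :
    Prop where
  hn : 2 ≤ n
  rel : RelS n T (S : Subgroup G) τ x1 x2 x3 s
  /-- the element of odd order over the element of order 3 -/
  oddξ : Odd (orderOf ξ)
  ξτ : ∀ a b c, ξ * τ a b c = τ a (-a - b - c) b * ξ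
  ξx3 : ξ * x3 = x1 * ξ
  ξx1 : ξ * x1 = x2 * ξ
  ξx2 : ξ * x2 = x3 * ξ
  /-- the centraliser of `T` -/
  O_le : ∀ o ∈ O, ∀ t ∈ T, o * t = t * o
  O_odd : ∀ o ∈ O, Odd (orderOf o)
  O_norm : normalizer (T : Set G) ≤ normalizer (O : Set G)
  /-- an element of `N_G(T)` which centralises `Ω₁(T)` is in `T O` -/
  faith : ∀ g ∈ normalizer (T : Set G), (∀ t ∈ T, t * t = 1 → g * t = t * g) → ∃ t ∈ T, ∃ o ∈ O, g = t * o
  full : ∀ a b c a' b' c' : G, a ∈ T → a * a = 1 → b ∈ T → b * b = 1 → c ∈ T → c * c = 1 →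
    a' ∈ T → a' * a' = 1 → b' ∈ T → b' * b' = 1 → c' ∈ T → c' * c' = 1 → Indep a b c → Indep a' b' c' →
    ∃ g ∈ normalizer (T : Set G), g * a * g⁻¹ = a' ∧ g * b * g⁻¹ = b' ∧ g * c * g⁻¹ = c'
  no16 : ∀ E : Subgroup G, (∀ x ∈ E, x * x = 1) → Nat.card E ≤ 8

/-- the output of the first fusion step: `h ∈ C(z)`, `x3^h = w`, `v^h = v^±1`, `C_S(x3)^h ≤ T⟨x3⟩`. -/
structure Conj {G : Type*} [Group G] (n : ℕ) (S : Sylow 2 G) (T : Subgroup G) (τ : ℤ → ℤ → ℤ → G) (x3 h : G) : Prop where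
  hz : h * τ (2 ^ (n - 1)) (2 ^ (n - 1)) (2 ^ (n - 1)) = τ (2 ^ (n - 1)) (2 ^ (n - 1)) (2 ^ (n - 1)) * h
  hx : h * x3 * h⁻¹ = τ (2 ^ (n - 1)) 0 0
  hv : h * τ (2 ^ (n - 2)) (2 ^ (n - 2)) (2 ^ (n - 2)) * h⁻¹ = τ (2 ^ (n - 2)) (2 ^ (n - 2)) (2 ^ (n - 2)) ∨
    h * τ (2 ^ (n - 2)) (2 ^ (n - 2)) (2 ^ (n - 2)) * h⁻¹ = (τ (2 ^ (n - 2)) (2 ^ (n - 2)) (2 ^ (n - 2)))⁻¹
  hD : ∀ y ∈ (S : Subgroup G), y * x3 = x3 * y → ∃ t ∈ T, h * y * h⁻¹ = t ∨ h * y * h⁻¹ = t * x3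

end Cfsg.Agent.ONType.Sit
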