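import Cfsg.Agent.ONType.Sit
import Cfsg.Agent.ONType.Adj

/-!
# O'Nan type groups: lifting the relations from `N/O` to `N`
-/

set_option autoImplicit false
set_option linter.unusedSectionVars false
set_option linter.unusedVariables false
set_option linter.unusedSimpArgs false
set_option linter.unusedTactic false
set_option linter.unreachableTactic false

namespace Cfsg.Agent.ONType.SitLift

open Subgroup
open Cfsg.Agent.ONType.Rel Cfsg.Agent.ONType.Span Cfsg.Agent.ONType.ExtRel Cfsg.Agent.ONType.Adj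

section

variable {G : Type*} [Group G]

theorem norm_adj {H : Subgroup G} {s : G} (hs : s * s ∈ H) (hn : ∀ x ∈ H, s * x * s⁻¹ ∈ H) {y : G}
    (h1 : ∀ x ∈ H, y * x * y⁻¹ ∈ H) (h2 : y * s * y⁻¹ ∈ adj H s hs hn) :
    ∀ x ∈ adj H s hs hn, y * x * y⁻¹ ∈ adj H s hs hn := by
  rintro x (hx | hx)
  · exact Or.inl (h1 x hx)
  · have e : y * x * y⁻¹ = (y * (x * s) * y⁻¹) * (y * s * y⁻¹)⁻¹ := by group
    rw [e]
    exact mul_mem (le_adj hs hn (h1 _ hx)) (inv_mem h2)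

variable {T : Subgroup G} {n : ℕ} {τ : ℤ → ℤ → ℤ → G} {x1 x2 x3 s : G} (R : Rel n T τ x1 x2 x3 s)
include R

theorem τ_mem (a b c : ℤ) : τ a b c ∈ T := (R.mem _).mpr ⟨a, b, c, rfl⟩

theorem x1x3 : x1 * x3 = x2 := by rw [← R.x12, ← mul_assoc, R.x1x1, one_mul]

theorem x2x1 : x2 * x1 = x3 := by rw [← R.x23, ← mul_assoc, R.x2x2, one_mul]

theorem x3x2 : x3 * x2 = x1 := by rw [← R.x31, ← mul_assoc, R.x3x3, one_mul]

theorem not_mem {w : G} (hw : ∀ a b c, τ a b c ≠ w) : w ∉ T := by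
  intro h
  obtain ⟨a, b, c, e⟩ := (R.mem _).mp h
  exact hw a b c e.symm

/-- `T⟨x3⟩`, `T⟨x1, x2, x3⟩`, `T⟨x1, x2, x3, s⟩` -/
theorem exists_groups [T.Normal] : ∃ B2 B3 : Subgroup G, B2 ≤ B3 ∧ Nat.card B3 = 8 * Nat.card T ∧
    (∀ g, g ∈ B2 ↔ ∃ a b c w, (w = 1 ∨ w = x1 ∨ w = x2 ∨ w = x3) ∧ g = τ a b c * w) ∧
    (∀ g, g ∈ B3 ↔ ∃ a b c w, Rep x1 x2 x3 s w ∧ g = τ a b c * w) := by
  have hT : ∀ y : G, ∀ x ∈ T, y * x * y⁻¹ ∈ T := fun y x hx => Subgroup.Normal.conj_mem ‹_› x hx y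
  have hone : (1 : G) ∈ T := one_mem _
  have i1 : x1⁻¹ = x1 := inv_eq_of_mul_eq_one_left R.x1x1
  have i2 : x2⁻¹ = x2 := inv_eq_of_mul_eq_one_left R.x2x2
  have i3 : x3⁻¹ = x3 := inv_eq_of_mul_eq_one_left R.x3x3
  have is : s⁻¹ = s := inv_eq_of_mul_eq_one_left R.ss
  have e13 := x1x3 R
  have e21 := x2x1 R
  have e32 := x3x2 R
  -- `B1`
  have a1 : x3 * x3 ∈ T := by rw [R.x3x3]; exact hone
  have a2 := hT x3
  set B1 := adj T x3 a1 a2 with hB1
  have mB1 : ∀ g, g ∈ B1 ↔ g ∈ T ∨ g * x3 ∈ T := fun g => Iff.rfl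
  -- `B2`
  have b1 : x1 * x1 ∈ B1 := by rw [R.x1x1]; exact one_mem _
  have b2 : ∀ x ∈ B1, x1 * x * x1⁻¹ ∈ B1 := by
    apply norm_adj a1 a2 (hT x1)
    rw [i1, e13, e21]
    exact self_mem_adj a1 a2
  set B2 := adj B1 x1 b1 b2 with hB2
  have mB2 : ∀ g, g ∈ B2 ↔ (g ∈ T ∨ g * x3 ∈ T) ∨ (g * x1 ∈ T ∨ g * x1 * x3 ∈ T) := fun g => Iff.rfl
  have hTB2 : T ≤ B2 := fun t ht => (mB2 t).mpr (Or.inl (Or.inl ht))
  have hx1B2 : x1 ∈ B2 := self_mem_adj b1 b2
  have hx3B2 : x3 ∈ B2 := (mB2 _).mpr (Or.inl (Or.inr a1))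
  have hx2B2 : x2 ∈ B2 := by rw [← R.x31]; exact mul_mem hx3B2 hx1B2
  have hsx3 : s * x3 * s⁻¹ = τ 1 0 0 * x3 := by rw [R.sx3]; group
  have hsx1 : s * x1 * s⁻¹ = τ 1 0 (-1) * x2 := by rw [R.sx1]; group
  have c1 : s * s ∈ B2 := by rw [R.ss]; exact one_mem _
  have c2 : ∀ x ∈ B2, s * x * s⁻¹ ∈ B2 := by
    apply norm_adj b1 b2
    · apply norm_adj a1 a2 (hT s)
      rw [hsx3]
      exact mul_mem (le_adj a1 a2 (τ_mem R _ _ _)) (self_mem_adj a1 a2)
    · rw [hsx1]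
      exact mul_mem (hTB2 (τ_mem R _ _ _)) hx2B2
  set B3 := adj B2 s c1 c2 with hB3
  have mB3 : ∀ g, g ∈ B3 ↔ g ∈ B2 ∨ g * s ∈ B2 := fun g => Iff.rfl
  obtain ⟨k1, k2, k3, k4, k5, k6, k7⟩ := (⟨fun a b c => (R.cos a b c).1, fun a b c => (R.cos a b c).2.1,
    fun a b c => (R.cos a b c).2.2.1, fun a b c => (R.cos a b c).2.2.2.1, fun a b c => (R.cos a b c).2.2.2.2.1,
    fun a b c => (R.cos a b c).2.2.2.2.2.1, fun a b c => (R.cos a b c).2.2.2.2.2.2⟩ :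
    (∀ a b c, τ a b c ≠ x1) ∧ (∀ a b c, τ a b c ≠ x2) ∧ (∀ a b c, τ a b c ≠ x3) ∧ (∀ a b c, τ a b c ≠ s) ∧
    (∀ a b c, τ a b c ≠ x1 * s) ∧ (∀ a b c, τ a b c ≠ x2 * s) ∧ (∀ a b c, τ a b c ≠ x3 * s))
  have hB2mem : ∀ g, g ∈ B2 ↔ ∃ a b c w, (w = 1 ∨ w = x1 ∨ w = x2 ∨ w = x3) ∧ g = τ a b c * w := by
    intro g
    constructor
    · intro hg
      rcases (mB2 g).mp hg with (h | h) | (h | h) <;> obtain ⟨a, b, c, e⟩ := (R.mem _).mp h
      · exact ⟨a, b, c, 1, Or.inl rfl, by rw [mul_one]; exact e⟩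
      · exact ⟨a, b, c, x3, Or.inr (Or.inr (Or.inr rfl)), by rw [← e, mul_assoc, R.x3x3, mul_one]⟩
      · exact ⟨a, b, c, x1, Or.inr (Or.inl rfl), by rw [← e, mul_assoc, R.x1x1, mul_one]⟩
      · refine ⟨a, b, c, x2, Or.inr (Or.inr (Or.inl rfl)), ?_⟩
        rw [← e, mul_assoc, mul_assoc, e32, R.x1x1, mul_one]
    · rintro ⟨a, b, c, w, hw, rfl⟩
      have h1 : τ a b c ∈ B2 := hTB2 (τ_mem R _ _ _)
      rcases hw with rfl | rfl | rfl | rfl
      · exact mul_mem h1 (one_mem _)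
      · exact mul_mem h1 hx1B2
      · exact mul_mem h1 hx2B2
      · exact mul_mem h1 hx3B2
  have hsB3 : s ∈ B3 := self_mem_adj c1 c2
  refine ⟨B2, B3, le_adj c1 c2, ?_, hB2mem, ?_⟩
  · rw [hB3, card_adj, hB2, card_adj, hB1, card_adj]
    · ring
    · exact not_mem R k3
    · intro h
      rcases (mB1 _).mp h with h | h
      · exact not_mem R k1 h
      · rw [e13] at h; exact not_mem R k2 h
    · -- `s ∉ B2`
      intro h
      obtain ⟨a, b, c, w, hw, e⟩ := (hB2mem s).mp h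
      have e' : τ (-a) (-b) (-c) * s = w := by
        rw [e, ← mul_assoc, R.mul]
        have : τ (-a + a) (-b + b) (-c + c) = 1 := (R.one _ _ _).mpr ⟨by simp, by simp, by simp⟩
        rw [this, one_mul]
      have e2 : τ (-a) (-b) (-c) = w * s := by rw [← e', mul_assoc, R.ss, mul_one]
      rcases hw with rfl | rfl | rfl | rfl
      · rw [one_mul] at e2; exact k4 _ _ _ e2
      · exact k5 _ _ _ e2
      · exact k6 _ _ _ e2
      · exact k7 _ _ _ e2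
  · intro g
    constructor
    · intro hg
      rcases (mB3 g).mp hg with h | h <;> obtain ⟨a, b, c, w, hw, e⟩ := (hB2mem _).mp h
      · refine ⟨a, b, c, w, ?_, e⟩
        rcases hw with h | h | h | h
        · exact Or.inl h
        · exact Or.inr (Or.inl h)
        · exact Or.inr (Or.inr (Or.inl h))
        · exact Or.inr (Or.inr (Or.inr (Or.inl h)))
      · refine ⟨a, b, c, w * s, ?_, ?_⟩
        · rcases hw with rfl | rfl | rfl | rfl
          · exact Or.inr (Or.inr (Or.inr (Or.inr (Or.inl (one_mul _)))))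
          · exact Or.inr (Or.inr (Or.inr (Or.inr (Or.inr (Or.inl rfl)))))
          · exact Or.inr (Or.inr (Or.inr (Or.inr (Or.inr (Or.inr (Or.inl rfl))))))
          · exact Or.inr (Or.inr (Or.inr (Or.inr (Or.inr (Or.inr (Or.inr rfl))))))
        · rw [← mul_assoc, ← e, mul_assoc, R.ss, mul_one]
    · rintro ⟨a, b, c, w, hw, rfl⟩
      have hle : B2 ≤ B3 := le_adj c1 c2
      have h1 : τ a b c ∈ B3 := hle (hTB2 (τ_mem R _ _ _))
      refine mul_mem h1 ?_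
      rcases hw with rfl | rfl | rfl | rfl | rfl | rfl | rfl | rfl
      · exact one_mem _
      · exact hle hx1B2
      · exact hle hx2B2
      · exact hle hx3B2
      · exact hsB3
      · exact mul_mem (hle hx1B2) hsB3
      · exact mul_mem (hle hx2B2) hsB3
      · exact mul_mem (hle hx3B2) hsB3

end

/-- **Lifting.** -/
theorem exists_lift_rel {N : Type*} [Group N] [Finite N] {T O : Subgroup N} [T.Normal] [O.Normal] (hT : IsPGroup 2 T)
    (hO : ∀ o ∈ O, Odd (orderOf o)) {n : ℕ} {τ' : ℤ → ℤ → ℤ → N ⧸ O} {x1' x2' x3' s' ξ' : N ⧸ O}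
    (R : Rel n (T.map (QuotientGroup.mk' O)) τ' x1' x2' x3' s') (X : XiRel τ' x1' x2' x3' s' ξ') :
    ∃ (P : Subgroup N) (τ : ℤ → ℤ → ℤ → N) (x1 x2 x3 s ξ : N), IsPGroup 2 P ∧ Nat.card P = 8 * Nat.card T ∧
      RelS n T P τ x1 x2 x3 s ∧ Odd (orderOf ξ) ∧ (∀ a b c, ξ * τ a b c = τ a (-a - b - c) b * ξ) ∧
      ξ * x3 = x1 * ξ ∧ ξ * x1 = x2 * ξ ∧ ξ * x2 = x3 * ξ ∧ (∀ a b c, ((τ a b c : N) : N ⧸ O) = τ' a b c) := by
  classical
  set f := QuotientGroup.mk' O with hf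
  have hfsurj : Function.Surjective f := QuotientGroup.mk'_surjective O
  obtain ⟨B2, B3, hB23, hcard, hB2, hB3⟩ := exists_groups R
  have hTn : (T.map f).Normal := Subgroup.Normal.map ‹_› f hfsurj
  -- cards
  have hcT : Nat.card (T.map f) = Nat.card T := by
    symm
    refine Nat.card_congr (Equiv.ofBijective (fun x : T => (⟨f x, mem_map_of_mem f x.2⟩ : T.map f)) ⟨?_, ?_⟩)
    · intro x y hxy
      apply Subtype.ext
      exact inj_two hT hO x.2 y.2 (congrArg Subtype.val hxy)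
    · rintro ⟨_, x, hx, rfl⟩
      exact ⟨⟨x, hx⟩, rfl⟩
  obtain ⟨m, hm⟩ := IsPGroup.iff_card.mp hT
  have h2B3 : IsPGroup 2 B3 := by
    apply IsPGroup.of_card (n := m + 3)
    rw [hcard, hcT, hm, pow_add]; ring
  have hTB3 : T.map f ≤ B3 := by
    intro t ht
    obtain ⟨a, b, c, e⟩ := (R.mem t).mp ht
    exact (hB3 t).mpr ⟨a, b, c, 1, Or.inl rfl, by rw [mul_one]; exact e⟩
  obtain ⟨P, hP2, hPB, hPT⟩ := Adj.exists_lift hO h2B3
  have hTP : T ≤ P := hPT T inferInstance hT hTB3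
  have hinj : ∀ x ∈ P, ∀ y ∈ P, f x = f y → x = y := fun x hx y hy e => inj_two hP2 hO hx hy e
  have hcP : Nat.card P = 8 * Nat.card T := by
    rw [← hcT, ← hcard, ← hPB]
    refine Nat.card_congr (Equiv.ofBijective (fun x : P => (⟨f x, mem_map_of_mem f x.2⟩ : P.map f)) ⟨?_, ?_⟩)
    · intro x y hxy
      apply Subtype.ext
      exact hinj x x.2 y y.2 (congrArg Subtype.val hxy)
    · rintro ⟨_, x, hx, rfl⟩
      exact ⟨⟨x, hx⟩, rfl⟩
  -- the section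
  have hσ : ∀ y : N ⧸ O, ∃ x : N, y ∈ B3 → x ∈ P ∧ f x = y := by
    intro y
    by_cases hy : y ∈ B3
    · rw [← hPB] at hy
      obtain ⟨x, hx, e⟩ := hy
      exact ⟨x, fun _ => ⟨hx, e⟩⟩
    · exact ⟨1, fun h => absurd h hy⟩
  choose σ hσ using hσ
  have mτ : ∀ a b c, τ' a b c ∈ B3 := fun a b c => hTB3 (τ_mem R a b c)
  have hrep : ∀ w, Rep x1' x2' x3' s' w → w ∈ B3 := by
    intro w hw
    refine (hB3 w).mpr ⟨0, 0, 0, w, hw, ?_⟩
    have : τ' 0 0 0 = 1 := (R.one _ _ _).mpr ⟨by simp, by simp, by simp⟩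
    rw [this, one_mul]
  have mx1 : x1' ∈ B3 := hrep _ (Or.inr (Or.inl rfl))
  have mx2 : x2' ∈ B3 := hrep _ (Or.inr (Or.inr (Or.inl rfl)))
  have mx3 : x3' ∈ B3 := hrep _ (Or.inr (Or.inr (Or.inr (Or.inl rfl))))
  have ms : s' ∈ B3 := hrep _ (Or.inr (Or.inr (Or.inr (Or.inr (Or.inl rfl)))))
  have pτ : ∀ a b c, σ (τ' a b c) ∈ P := fun a b c => (hσ _ (mτ a b c)).1
  have fτ : ∀ a b c, f (σ (τ' a b c)) = τ' a b c := fun a b c => (hσ _ (mτ a b c)).2
  obtain ⟨p1, f1⟩ := hσ _ mx1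
  obtain ⟨p2, f2⟩ := hσ _ mx2
  obtain ⟨p3, f3⟩ := hσ _ mx3
  obtain ⟨ps, fs⟩ := hσ _ ms
  have hmem : ∀ g, g ∈ T ↔ ∃ a b c, g = σ (τ' a b c) := by
    intro g
    constructor
    · intro hg
      obtain ⟨a, b, c, e⟩ := (R.mem _).mp (mem_map_of_mem f hg)
      exact ⟨a, b, c, hinj _ (hTP hg) _ (pτ _ _ _) (by rw [fτ]; exact e)⟩
    · rintro ⟨a, b, c, rfl⟩
      have : τ' a b c ∈ T.map f := τ_mem R a b c
      obtain ⟨t, ht, e⟩ := this
      have : σ (τ' a b c) = t := hinj _ (pτ _ _ _) _ (hTP ht) (by rw [fτ]; exact e.symm)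
      rw [this]; exact ht
  have key : ∀ x ∈ P, ∀ y ∈ P, f x = f y → x = y := hinj
  have hRel : Rel n T (fun a b c => σ (τ' a b c)) (σ x1') (σ x2') (σ x3') (σ s') := by
    refine ⟨?_, ?_, hmem, ?_, ?_, ?_, ?_, ?_, ?_, ?_, ?_, ?_, ?_, ?_, ?_, ?_, ?_, ?_⟩
    · intro a b c a' b' c'
      exact key _ (mul_mem (pτ _ _ _) (pτ _ _ _)) _ (pτ _ _ _) (by rw [map_mul, fτ, fτ, fτ, R.mul])
    · intro a b c
      rw [← R.one]
      constructor
      · intro e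
        rw [← fτ a b c, e, map_one]
      · intro e
        exact key _ (pτ _ _ _) _ (one_mem _) (by rw [fτ, e, map_one])
    · exact key _ (mul_mem p1 p1) _ (one_mem _) (by rw [map_mul, f1, R.x1x1, map_one])
    · exact key _ (mul_mem p2 p2) _ (one_mem _) (by rw [map_mul, f2, R.x2x2, map_one])
    · exact key _ (mul_mem p3 p3) _ (one_mem _) (by rw [map_mul, f3, R.x3x3, map_one])
    · exact key _ (mul_mem p1 p2) _ p3 (by rw [map_mul, f1, f2, R.x12, f3])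
    · exact key _ (mul_mem p2 p3) _ p1 (by rw [map_mul, f2, f3, R.x23, f1])
    · exact key _ (mul_mem p3 p1) _ p2 (by rw [map_mul, f3, f1, R.x31, f2])
    · intro a b c
      exact key _ (mul_mem p1 (pτ _ _ _)) _ (mul_mem (pτ _ _ _) p1) (by rw [map_mul, map_mul, f1, fτ, fτ, R.x1τ])
    · intro a b c
      exact key _ (mul_mem p2 (pτ _ _ _)) _ (mul_mem (pτ _ _ _) p2) (by rw [map_mul, map_mul, f2, fτ, fτ, R.x2τ])
    · intro a b c
      exact key _ (mul_mem p3 (pτ _ _ _)) _ (mul_mem (pτ _ _ _) p3) (by rw [map_mul, map_mul, f3, fτ, fτ, R.x3τ])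
    · exact key _ (mul_mem ps ps) _ (one_mem _) (by rw [map_mul, fs, R.ss, map_one])
    · intro a b c
      exact key _ (mul_mem ps (pτ _ _ _)) _ (mul_mem (pτ _ _ _) ps) (by rw [map_mul, map_mul, fs, fτ, fτ, R.sτ])
    · exact key _ (mul_mem ps p1) _ (mul_mem (mul_mem (pτ _ _ _) p2) ps)
        (by rw [map_mul, map_mul, map_mul, fs, f1, f2, fτ, R.sx1])
    · exact key _ (mul_mem ps p2) _ (mul_mem (mul_mem (pτ _ _ _) p1) ps)
        (by rw [map_mul, map_mul, map_mul, fs, f1, f2, fτ, R.sx2])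
    · exact key _ (mul_mem ps p3) _ (mul_mem (mul_mem (pτ _ _ _) p3) ps)
        (by rw [map_mul, map_mul, map_mul, fs, f3, fτ, R.sx3])
    · intro a b c
      obtain ⟨k1, k2, k3, k4, k5, k6, k7⟩ := R.cos a b c
      refine ⟨fun e => k1 ?_, fun e => k2 ?_, fun e => k3 ?_, fun e => k4 ?_, fun e => k5 ?_, fun e => k6 ?_, fun e => k7 ?_⟩ <;>
      rw [← fτ a b c, e]
      · exact f1
      · exact f2
      · exact f3
      · exact fs
      · rw [map_mul, f1, fs]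
      · rw [map_mul, f2, fs]
      · rw [map_mul, f3, fs]
  have hRelS : RelS n T P (fun a b c => σ (τ' a b c)) (σ x1') (σ x2') (σ x3') (σ s') := by
    refine { hRel with memS := ?_ }
    intro g
    constructor
    · intro hg
      have : f g ∈ B3 := by rw [← hPB]; exact mem_map_of_mem f hg
      obtain ⟨a, b, c, w, hw, e⟩ := (hB3 _).mp this
      have hwB := hrep w hw
      refine ⟨a, b, c, σ w, ?_, ?_⟩
      · have m1 : σ 1 = 1 := key _ (hσ _ (one_mem _)).1 _ (one_mem _) (by rw [(hσ _ (one_mem _)).2, map_one])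
        have mm : ∀ u v, u ∈ B3 → v ∈ B3 → σ (u * v) = σ u * σ v := by
          intro u v hu hv
          exact key _ (hσ _ (mul_mem hu hv)).1 _ (mul_mem (hσ _ hu).1 (hσ _ hv).1)
            (by rw [map_mul, (hσ _ hu).2, (hσ _ hv).2, (hσ _ (mul_mem hu hv)).2])
        rcases hw with rfl | rfl | rfl | rfl | rfl | rfl | rfl | rfl
        · exact Or.inl m1
        · exact Or.inr (Or.inl rfl)
        · exact Or.inr (Or.inr (Or.inl rfl))
        · exact Or.inr (Or.inr (Or.inr (Or.inl rfl)))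
        · exact Or.inr (Or.inr (Or.inr (Or.inr (Or.inl rfl))))
        · exact Or.inr (Or.inr (Or.inr (Or.inr (Or.inr (Or.inl (mm _ _ mx1 ms))))))
        · exact Or.inr (Or.inr (Or.inr (Or.inr (Or.inr (Or.inr (Or.inl (mm _ _ mx2 ms)))))))
        · exact Or.inr (Or.inr (Or.inr (Or.inr (Or.inr (Or.inr (Or.inr (mm _ _ mx3 ms)))))))
      · exact key _ hg _ (mul_mem (pτ _ _ _) (hσ _ hwB).1) (by rw [map_mul, fτ, (hσ _ hwB).2]; exact e)
    · rintro ⟨a, b, c, w, hw, rfl⟩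
      refine mul_mem (pτ _ _ _) ?_
      rcases hw with rfl | rfl | rfl | rfl | rfl | rfl | rfl | rfl
      · exact one_mem _
      · exact p1
      · exact p2
      · exact p3
      · exact ps
      · exact mul_mem p1 ps
      · exact mul_mem p2 ps
      · exact mul_mem p3 ps
  -- the element `ξ`
  obtain ⟨y, hy⟩ := hfsurj ξ'
  set Q := P ⊓ B2.comap f with hQ
  have hQP : Q ≤ P := inf_le_left
  have hQ2 : IsPGroup 2 Q := hP2.to_le hQP
  have hQmap : Q.map f = B2 := by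
    apply le_antisymm
    · rw [map_le_iff_le_comap]; exact inf_le_right
    · intro u hu
      obtain ⟨p, e⟩ := hσ u (hB23 hu)
      exact ⟨σ u, ⟨p, by change f (σ u) ∈ B2; rw [e]; exact hu⟩, e⟩
  have hy' : (Q.map (MulAut.conj y).toMonoidHom).map f = Q.map f := by
    rw [hQmap]
    have e1 : (Q.map (MulAut.conj y).toMonoidHom).map f = B2.map (MulAut.conj ξ').toMonoidHom := by
      rw [← hQmap, Subgroup.map_map, Subgroup.map_map]
      congr 1
      ext x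
      simp only [MonoidHom.comp_apply, MulEquiv.coe_toMonoidHom, MulAut.conj_apply, map_mul, map_inv, hy]
    rw [e1]
    apply eq_of_le_of_card_ge
    · rintro _ ⟨u, hu, rfl⟩
      have hτB2 : ∀ a b c, τ' a b c ∈ B2 := fun a b c => (hB2 _).mpr ⟨a, b, c, 1, Or.inl rfl, (mul_one _).symm⟩
      have hw : ∀ w, (w = 1 ∨ w = x1' ∨ w = x2' ∨ w = x3') → w ∈ B2 := by
        intro w hw
        refine (hB2 w).mpr ⟨0, 0, 0, w, hw, ?_⟩
        have : τ' 0 0 0 = 1 := (R.one _ _ _).mpr ⟨by simp, by simp, by simp⟩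
        rw [this, one_mul]
      obtain ⟨a, b, c, w, hw', rfl⟩ := (hB2 u).mp hu
      change ξ' * (τ' a b c * w) * ξ'⁻¹ ∈ B2
      have e2 : ξ' * (τ' a b c * w) * ξ'⁻¹ = (ξ' * τ' a b c * ξ'⁻¹) * (ξ' * w * ξ'⁻¹) := by group
      rw [e2]
      refine mul_mem ?_ ?_
      · rw [X.ξτ, mul_inv_cancel_right]; exact hτB2 _ _ _
      · rcases hw' with rfl | rfl | rfl | rfl
        · rw [mul_one, mul_inv_cancel]; exact one_mem _
        · rw [X.ξx1, mul_inv_cancel_right]; exact hw _ (Or.inr (Or.inr (Or.inl rfl)))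
        · rw [X.ξx2, mul_inv_cancel_right]; exact hw _ (Or.inr (Or.inr (Or.inr rfl)))
        · rw [X.ξx3, mul_inv_cancel_right]; exact hw _ (Or.inr (Or.inl rfl))
    · have : Nat.card (B2.map (MulAut.conj ξ').toMonoidHom) = Nat.card B2 :=
        (Nat.card_congr (B2.equivMapOfInjective _ (MulAut.conj ξ').injective).toEquiv).symm
      rw [this]
  obtain ⟨o, ho, hnorm⟩ := exists_norm hO hQ2 hy'
  have hfξ : f (o * y) = ξ' := by
    rw [map_mul, hy]
    have : f o = 1 := (QuotientGroup.eq_one_iff o).mpr ho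
    rw [this, one_mul]
  have hTQ : ∀ a b c, σ (τ' a b c) ∈ Q := by
    intro a b c
    refine ⟨pτ _ _ _, ?_⟩
    change f (σ (τ' a b c)) ∈ B2
    rw [fτ]
    exact (hB2 _).mpr ⟨a, b, c, 1, Or.inl rfl, (mul_one _).symm⟩
  have hxQ : ∀ w, (w = x1' ∨ w = x2' ∨ w = x3') → σ w ∈ Q := by
    intro w hw
    have hw2 : w ∈ B2 := by
      refine (hB2 w).mpr ⟨0, 0, 0, w, Or.inr hw, ?_⟩
      have : τ' 0 0 0 = 1 := (R.one _ _ _).mpr ⟨by simp, by simp, by simp⟩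
      rw [this, one_mul]
    obtain ⟨p, e⟩ := hσ w (hB23 hw2)
    exact ⟨p, by change f (σ w) ∈ B2; rw [e]; exact hw2⟩
  have trans : ∀ u ∈ Q, ∀ v ∈ Q, ξ' * f u = f v * ξ' → (o * y) * u = v * (o * y) := by
    intro u hu v hv e
    have h1 : (o * y) * u * (o * y)⁻¹ = v := by
      apply key _ (hQP (hnorm u hu)) _ (hQP hv)
      rw [map_mul, map_mul, map_inv, hfξ, e, mul_inv_cancel_right]
    rw [← h1]; group
  refine ⟨P, fun a b c => σ (τ' a b c), σ x1', σ x2', σ x3', σ s', o * y, hP2, hcP, hRelS, ?_, ?_, ?_, ?_, ?_, fτ⟩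
  · -- odd order
    have h1 : (o * y) ^ 3 ∈ O := by
      rw [← QuotientGroup.eq_one_iff]
      have : f ((o * y) ^ 3) = 1 := by
        rw [map_pow, hfξ, pow_succ, pow_two, X.ξξξ]
      exact this
    have h2 := hO _ h1
    have h3 : (o * y) ^ (3 * orderOf ((o * y) ^ 3)) = 1 := by
      rw [pow_mul, pow_orderOf_eq_one]
    have h4 := orderOf_dvd_of_pow_eq_one h3
    exact Odd.of_dvd_nat (Odd.mul (by decide) h2) h4
  · intro a b c
    apply trans _ (hTQ _ _ _) _ (hTQ _ _ _)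
    rw [fτ, fτ, X.ξτ]
  · exact trans _ (hxQ _ (Or.inr (Or.inr rfl))) _ (hxQ _ (Or.inl rfl)) (by rw [f3, f1, X.ξx3])
  · exact trans _ (hxQ _ (Or.inl rfl)) _ (hxQ _ (Or.inr (Or.inl rfl))) (by rw [f1, f2, X.ξx1])
  · exact trans _ (hxQ _ (Or.inr (Or.inl rfl))) _ (hxQ _ (Or.inr (Or.inr rfl))) (by rw [f2, f3, X.ξx2])

end Cfsg.Agent.ONType.SitLift
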