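import Cfsg.Agent.SporadicRecognition.CosetCertHyp

/-!
Consequences of a coset certificate: explicit words for the transversal, covering by live nodes, walks in the table.
-/

set_option autoImplicit false

namespace Cfsg.Agent.ONType.TupCover

open Cfsg.Agent.SporadicRecognition.CosetCert Cfsg.Agent.SporadicRecognition.CosetCertHyp

/-- `f x` holds for all `x < k`. -/
noncomputable def allBelow (f : ℕ → Bool) (k : ℕ) : Bool :=
  Nat.rec (motive := fun _ => Bool) true (fun x ih => bif f x then ih else false) k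

theorem allBelow_spec {f : ℕ → Bool} {k : ℕ} (h : allBelow f k = true) : ∀ x < k, f x = true := by
  induction k with
  | zero => intro x hx; omega
  | succ k ih =>
    change (bif f k then allBelow f k else false) = true at h
    intro x hx
    cases hb : f k with
    | false => rw [hb] at h; simp at h
    | true =>
      rw [hb, cond_true] at h
      rcases Nat.lt_succ_iff_lt_or_eq.mp hx with h1 | rfl
      · exact ih h x h1
      · exact hb

variable (C : Cert)

/-- word of node `i`, followed by `acc` -/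
noncomputable def tword (fuel : ℕ) : ℕ → List ℕ → List ℕ :=
  Nat.rec (motive := fun _ => ℕ → List ℕ → List ℕ) (fun _ acc => acc)
    (fun _ ih i acc =>
      bif Nat.blt i C.N && Nat.blt 0 (Nat.mod (look C i (yOf C i)) C.B) &&
          Nat.blt (Nat.sub (Nat.mod (look C i (yOf C i)) C.B) 1) i && Nat.blt (yOf C i) C.k then
        ih (Nat.sub (Nat.mod (look C i (yOf C i)) C.B) 1) (C.inv (yOf C i) :: acc)
      else acc) fuel

theorem blt_iff {a b : ℕ} : Nat.blt a b = true ↔ a < b := by
  unfold Nat.blt
  rw [Nat.ble_eq]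
  exact Iff.rfl

variable {G : Type*} [Group G] (H : Subgroup G) (g : ℕ → G)

theorem ev_tword (fuel : ℕ) : ∀ i acc, i ≤ fuel → ev g (tword C fuel i acc) = trans C g i * ev g acc := by
  induction fuel with
  | zero =>
    intro i acc hi
    have hi0 : i = 0 := by omega
    subst hi0
    have h1 : trans C g 0 = 1 := (trans_isTrans C g).1
    rw [h1, one_mul]
    rfl
  | succ n ih =>
    intro i acc hi
    have hstep : tword C (n + 1) i acc =
      bif Nat.blt i C.N && Nat.blt 0 (Nat.mod (look C i (yOf C i)) C.B) &&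
          Nat.blt (Nat.sub (Nat.mod (look C i (yOf C i)) C.B) 1) i && Nat.blt (yOf C i) C.k then
        tword C n (Nat.sub (Nat.mod (look C i (yOf C i)) C.B) 1) (C.inv (yOf C i) :: acc)
      else acc := rfl
    rw [hstep]
    cases hb : (Nat.blt i C.N && Nat.blt 0 (Nat.mod (look C i (yOf C i)) C.B) &&
          Nat.blt (Nat.sub (Nat.mod (look C i (yOf C i)) C.B) 1) i && Nat.blt (yOf C i) C.k) with
    | false =>
      rw [cond_false]
      have h1 : trans C g i = 1 := by
        rw [Cfsg.Agent.SporadicRecognition.CosetCert.trans, dif_neg]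
        rintro ⟨h1, h2, h3, h4⟩
        rw [blt_iff.2 h1, blt_iff.2 h2, blt_iff.2 (show Nat.sub (Nat.mod (look C i (yOf C i)) C.B) 1 < i from h3),
          blt_iff.2 h4] at hb
        simp at hb
      rw [h1, one_mul]
    | true =>
      rw [cond_true]
      rw [Bool.and_eq_true, Bool.and_eq_true, Bool.and_eq_true] at hb
      obtain ⟨⟨⟨h1, h2⟩, h3⟩, h4⟩ := hb
      have h1 := blt_iff.1 h1
      have h2 := blt_iff.1 h2
      have h3 : Nat.mod (look C i (yOf C i)) C.B - 1 < i := blt_iff.1 h3
      have h4 := blt_iff.1 h4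
      have h5 : trans C g i = trans C g (Nat.mod (look C i (yOf C i)) C.B - 1) * g (C.inv (yOf C i)) := by
        conv_lhs => rw [Cfsg.Agent.SporadicRecognition.CosetCert.trans, dif_pos ⟨h1, h2, h3, h4⟩]
      rw [h5, mul_assoc, ← ev_cons]
      exact ih _ _ (by show Nat.mod (look C i (yOf C i)) C.B - 1 ≤ n; omega)

/-- all letters of the words of the nodes are smaller than `k` -/
theorem tword_lt (hinv : ∀ x, x < C.k → C.inv x < C.k) (fuel : ℕ) : ∀ i acc, (∀ y ∈ acc, y < C.k) →
    ∀ y ∈ tword C fuel i acc, y < C.k := by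
  induction fuel with
  | zero => intro i acc h; exact h
  | succ n ih =>
    intro i acc h
    have hstep : tword C (n + 1) i acc =
      bif Nat.blt i C.N && Nat.blt 0 (Nat.mod (look C i (yOf C i)) C.B) &&
          Nat.blt (Nat.sub (Nat.mod (look C i (yOf C i)) C.B) 1) i && Nat.blt (yOf C i) C.k then
        tword C n (Nat.sub (Nat.mod (look C i (yOf C i)) C.B) 1) (C.inv (yOf C i) :: acc)
      else acc := rfl
    rw [hstep]
    cases hb : (Nat.blt i C.N && Nat.blt 0 (Nat.mod (look C i (yOf C i)) C.B) &&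
          Nat.blt (Nat.sub (Nat.mod (look C i (yOf C i)) C.B) 1) i && Nat.blt (yOf C i) C.k) with
    | false => rw [cond_false]; exact h
    | true =>
      rw [cond_true]
      rw [Bool.and_eq_true] at hb
      have h4 := blt_iff.1 hb.2
      apply ih
      intro y hy
      rcases List.mem_cons.1 hy with rfl | hy
      · exact hinv _ h4
      · exact h y hy

/-- word of node `i` -/
noncomputable def nword (i : ℕ) : List ℕ := tword C C.N i []

theorem ev_nword {i : ℕ} (hi : i < C.N) : ev g (nword C i) = trans C g i := by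
  have := ev_tword C g C.N i [] hi.le
  rw [ev_nil, mul_one] at this
  exact this

/-- the node is not live -/
noncomputable def dead (i : ℕ) : Bool := not (Nat.beq (look C i C.k) C.mask)

/-- Check a property of all live nodes. -/
noncomputable def allLive (Q : ℕ → List ℕ → Bool) : Bool :=
  allBelow (fun i => bif dead C i then true else Q i (nword C i)) C.N

variable {C H g} in
theorem covered (hyp : Hyp C H g) {n : ℕ} (hP : Part C 0 C.N n) :
    (∀ a ∈ Subgroup.closure (g '' {x | x < C.k}), ∃ l < C.N, dead C l = false ∧ Rel H a (ev g (nword C l))) ∧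
    (∀ w : List ℕ, (∀ x ∈ w, x ≤ C.k) → ∀ i j, i < C.N → walkS C (C.mask - 1) w i = j + 1 →
      j < C.N ∧ Rel H (ev g (nword C i) * ev g w) (ev g (nword C j))) := by
  obtain ⟨S, hS, hP⟩ := hP
  have ht := trans_isTrans C g
  have hall : ∀ i x, i < C.N → x ≤ C.k → look C i x = C.mask ∨ ∃ q, main C i x q = true := by
    intro i x hi hx
    rcases hP i (Nat.zero_le _) hi with ⟨h, _⟩ | h
    · rcases hx.lt_or_eq with h1 | h1
      · exact Or.inr (h.2 x h1)
      · subst h1; exact Or.inl h.1
    · rcases hx.lt_or_eq with h1 | h1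
      · exact h.2.2 x h1
      · subst h1; exact Or.inr h.2.1
  have hgood := good_of_checks C H g (trans C g) hyp ht hall
  have hlive : ∀ i, i < C.N → ∃ l < C.N, LiveOK C l ∧ Rel H (trans C g i) (trans C g l) := by
    intro i
    induction i using Nat.strong_induction_on with
    | _ i ih =>
      intro hi
      rcases hP i (Nat.zero_le _) hi with ⟨h, h'⟩ | h
      · exact ⟨i, hi, h, Rel.refl _⟩
      · obtain ⟨h1, ⟨q, hq⟩, h3⟩ := h
        have hg := hgood i C.k hi le_rfl ⟨q, hq⟩
        have hq' := hq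
        unfold main at hq'
        obtain ⟨j, hj, _⟩ := rec_false_eq hq'
        obtain ⟨h4, h5⟩ := hg j hj
        rw [hyp.hk, mul_one] at h5
        obtain ⟨l, hlN, hl2, hl3⟩ := ih j (by omega) h4
        exact ⟨l, hlN, hl2, h5.trans hl3⟩
  have hmul : ∀ l, l < C.N → LiveOK C l → ∀ x, x < C.k → ∃ l' < C.N, LiveOK C l' ∧
      Rel H (trans C g l * g x) (trans C g l') := by
    intro l hl hl2 x hx
    obtain ⟨q, hq⟩ := hl2.2 x hx
    have hg := hgood l x hl hx.le ⟨q, hq⟩
    have hq' := hq
    unfold main at hq'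
    obtain ⟨j, hj, _⟩ := rec_false_eq hq'
    obtain ⟨h4, h5⟩ := hg j hj
    obtain ⟨l', h7, h8, h9⟩ := hlive j h4
    exact ⟨l', h7, h8, h5.trans h9⟩
  refine ⟨?_, ?_⟩
  · intro a ha
    have hmain : ∃ l < C.N, LiveOK C l ∧ Rel H a (trans C g l) := by
      refine Subgroup.closure_induction_right (p := fun a _ => ∃ l < C.N, LiveOK C l ∧ Rel H a (trans C g l))
        ?_ ?_ ?_ ha
      · obtain ⟨l, h2, h3, h4⟩ := hlive 0 hyp.hN
        rw [ht.1] at h4
        exact ⟨l, h2, h3, h4⟩
      · rintro a _ b ⟨x, hx, rfl⟩ ⟨l, h2, h3, h4⟩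
        obtain ⟨l', h6, h7, h8⟩ := hmul l h2 h3 x hx
        exact ⟨l', h6, h7, (h4.mul _).trans h8⟩
      · rintro a _ b ⟨x, hx, rfl⟩ ⟨l, h2, h3, h4⟩
        obtain ⟨hx1, hx2⟩ := hyp.hinv x hx
        have : (g x)⁻¹ = g (C.inv x) := (eq_inv_of_mul_eq_one_right hx2).symm
        rw [this]
        obtain ⟨l', h6, h7, h8⟩ := hmul l h2 h3 _ hx1
        exact ⟨l', h6, h7, (h4.mul _).trans h8⟩
    obtain ⟨l, h1, h2, h4⟩ := hmain
    refine ⟨l, h1, ?_, ?_⟩
    · unfold dead
      rw [h2.1, Nat.beq_refl]
      rfl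
    · rw [ev_nword C g h1]
      exact h4
  · intro w hw i j hi hj
    have hb : ∀ i x, i < C.N → x ≤ C.k → look C i x ≤ C.mask - 1 → Good C H g (trans C g) i x := by
      intro i x hi hx hle j' hj'
      have hmain : ∃ q, main C i x q = true := by
        rcases hall i x hi hx with h | h
        · -- then mask = 0
          have h0 : C.mask = 0 := by omega
          rw [h0] at h
          rw [h] at hj'
          have h00 : Nat.mod 0 C.B = 0 := Nat.zero_mod _
          omega
        · exact h
      exact hgood i x hi hx hmain j' hj'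
    obtain ⟨h1, h2⟩ := walkS_sound C H g (trans C g) hyp.hk (C.mask - 1) hb w hw i j hi hj
    refine ⟨h1, ?_⟩
    rw [ev_nword C g hi, ev_nword C g h1]
    exact h2

variable {C H g} in
/-- Every element of the group is, modulo `H`, a node word satisfying the check. -/
theorem exists_word (hyp : Hyp C H g) {n : ℕ} (hP : Part C 0 C.N n) {Q : ℕ → List ℕ → Bool}
    (hQ : allLive C Q = true) {a : G} (ha : a ∈ Subgroup.closure (g '' {x | x < C.k})) :
    ∃ l < C.N, Q l (nword C l) = true ∧ Rel H a (ev g (nword C l)) := by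
  obtain ⟨l, h1, h2, h3⟩ := (covered hyp hP).1 a ha
  refine ⟨l, h1, ?_, h3⟩
  have := allBelow_spec hQ l h1
  rw [h2] at this
  exact this

end Cfsg.Agent.ONType.TupCover
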