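import Mathlib

/-!
Orbits of the subgroup `⟨c, d, g⟩` on the 630 cosets: for every node the root of its orbit and a path.
-/

set_option autoImplicit false
set_option maxRecDepth 100000

namespace Cfsg.Agent.ONType.TupOrb

/-- roots and paths -/
def orb : List (ℕ × List ℕ) := [
  (0, []), (1, []), (1, [0]), (1, [2]), (1, [3]), (1, [2, 2]), (1, [0, 1]), (1, [0, 2]), (1, [0, 3]),
  (1, [0, 2, 2]), (1, [2, 0]), (0, []), (0, []), (0, []), (1, [0, 2, 0, 3]), (1, [3, 0]), (0, []),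
  (0, []), (1, [0, 2, 0]), (1, [0, 1, 0]), (1, [0, 1, 2]), (1, [0, 1, 3]), (1, [0, 1, 2, 2]),
  (0, []), (0, []), (0, []), (26, []), (1, [0, 3, 0]), (0, []), (0, []), (30, []), (31, []),
  (1, [2, 0, 1]), (1, [2, 0, 2]), (1, [2, 0, 3]), (0, []), (30, [0, 3]), (0, []), (0, []), (0, []),
  (0, []), (0, []), (0, []), (0, []), (0, []), (1, [0, 2, 0, 2]), (1, [3, 0, 1]), (0, []), (0, []),
  (26, [0]), (0, []), (0, []), (0, []), (0, []), (1, [0, 1, 0, 1]), (1, [0, 1, 0, 2]), (1, [0, 1, 0, 3]),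
  (0, []), (58, []), (1, [0, 1, 2, 0]), (0, []), (0, []), (26, [1]), (1, [0, 1, 3, 0]), (30, [1]),
  (31, [1]), (26, [2]), (26, [3]), (26, [2, 2]), (30, [0]), (30, [2]), (30, [3]), (30, [2, 2]),
  (31, [2]), (0, []), (1, [2, 0, 1, 2]), (1, [2, 0, 1, 3]), (30, [0, 1, 3]), (30, [0, 3, 0]),
  (30, [0, 2, 2]), (30, [0, 2]), (26, [0, 1]), (26, [0, 2]), (26, [0, 3]), (26, [0, 2, 2]), (58, [1]),
  (86, []), (86, [1]), (58, [2]), (58, [3]), (58, [2, 2]), (1, [0, 1, 2, 0, 2]), (1, [0, 1, 2, 0, 3]),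
  (93, []), (26, [1, 0]), (26, [1, 2]), (26, [1, 3]), (26, [1, 2, 2]), (93, [1]), (30, [1, 0]),
  (30, [1, 2]), (30, [1, 3]), (30, [1, 2, 2]), (31, [1, 0]), (31, [1, 2]), (0, []), (0, []),
  (0, []), (0, []), (0, []), (0, []), (0, []), (30, [2, 0, 2]), (30, [0, 1]), (30, [2, 0]), (0, []),
  (0, []), (0, []), (30, [2, 0, 3]), (30, [3, 0]), (0, []), (0, []), (31, [2, 0]), (0, []), (0, []),
  (0, []), (30, [0, 3, 0, 1]), (30, [0, 1, 3, 0]), (30, [0, 1, 2, 2]), (30, [0, 1, 2]), (30, [0, 2, 0, 3]),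
  (30, [0, 2, 0, 2]), (30, [0, 2, 0]), (0, []), (26, [0, 1, 0]), (26, [0, 1, 2]), (26, [0, 1, 3]),
  (26, [0, 1, 2, 2]), (0, []), (0, []), (0, []), (31, [2, 0, 2]), (0, []), (58, [1, 0]), (58, [1, 2]),
  (58, [1, 3]), (58, [1, 2, 2]), (86, [0]), (86, [2]), (86, [3]), (86, [2, 2]), (86, [1, 0]),
  (86, [1, 2]), (86, [1, 3]), (86, [1, 2, 2]), (58, [2, 0]), (0, []), (0, []), (0, []), (93, [0, 2, 0, 1, 3]),
  (58, [3, 0]), (0, []), (0, []), (163, []), (163, [0, 3, 0]), (163, [0, 3, 0, 1]), (93, [0]),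
  (93, [2]), (93, [3]), (93, [2, 2]), (26, [1, 0, 1]), (26, [1, 0, 2]), (26, [1, 0, 3]), (26, [1, 0, 2, 2]),
  (26, [1, 2, 0]), (0, []), (0, []), (0, []), (0, []), (26, [1, 3, 0]), (0, []), (0, []), (30, [2, 0, 1, 2]),
  (93, [1, 0]), (93, [1, 2]), (93, [1, 3]), (93, [1, 2, 2]), (30, [1, 0, 1]), (30, [1, 0, 2]),
  (30, [1, 0, 3]), (30, [1, 0, 2, 2]), (30, [1, 2, 0]), (0, []), (30, [2, 0, 1, 3]), (30, [1, 3, 0]),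
  (0, []), (0, []), (0, []), (31, [1, 0, 1]), (31, [1, 0, 2]), (31, [1, 2, 0]), (0, []), (30, [2, 0, 1]),
  (0, []), (0, []), (0, []), (0, []), (0, []), (30, [0, 1, 0]), (0, []), (30, [3, 0, 1]), (0, []),
  (0, []), (31, [2, 0, 1]), (0, []), (30, [0, 2, 0, 1, 3]), (30, [0, 2, 0, 1, 2]), (30, [0, 2, 0, 1]),
  (30, [0, 1, 3, 0, 1]), (30, [0, 1, 2, 0, 3]), (30, [0, 1, 2, 0, 2]), (30, [0, 1, 2, 0]), (30, [0, 1, 0, 2, 2]),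
  (0, []), (26, [0, 1, 0, 1]), (0, []), (26, [1, 2, 0, 2]), (0, []), (31, [2, 0, 1, 2]), (0, []),
  (0, []), (0, []), (58, [1, 0, 1]), (58, [1, 0, 2]), (58, [1, 0, 3]), (58, [1, 0, 2, 2]), (58, [1, 2, 0]),
  (0, []), (0, []), (0, []), (93, [0, 2, 0, 3]), (58, [1, 3, 0]), (0, []), (0, []), (163, [1]),
  (86, [0, 1]), (86, [0, 2]), (86, [0, 3]), (86, [0, 2, 2]), (86, [2, 0]), (0, []), (0, []),
  (0, []), (163, [3]), (86, [3, 0]), (0, []), (0, []), (93, [0, 2, 0]), (86, [1, 0, 1]), (86, [1, 0, 2]),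
  (86, [1, 0, 3]), (86, [1, 0, 2, 2]), (86, [1, 2, 0]), (0, []), (0, []), (0, []), (163, [1, 3]),
  (86, [1, 3, 0]), (0, []), (0, []), (93, [0, 2, 0, 1]), (58, [2, 0, 1]), (58, [2, 0, 2]), (58, [2, 0, 3]),
  (0, []), (163, [0, 2, 0, 1, 2]), (0, []), (0, []), (0, []), (0, []), (0, []), (0, []), (93, [1, 2, 0, 2]),
  (0, []), (93, [0, 3, 0, 1]), (93, [0, 2, 0, 1, 2]), (58, [3, 0, 1]), (0, []), (0, []), (0, []),
  (86, [0, 2, 0, 2]), (0, []), (0, []), (163, [0]), (163, [2]), (0, []), (163, [2, 2]), (163, [0, 3]),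
  (163, [0, 2, 0, 3]), (163, [0, 2, 0, 2]), (163, [0, 2, 0]), (163, [1, 0, 3]), (163, [0, 2, 0, 1, 3]),
  (163, [0, 2, 0, 1]), (93, [0, 1]), (93, [0, 2]), (93, [0, 3]), (93, [0, 2, 2]), (93, [2, 0]),
  (0, []), (0, []), (0, []), (0, []), (93, [3, 0]), (0, []), (0, []), (86, [0, 2, 0, 1]), (26, [1, 0, 1, 0]),
  (26, [1, 0, 1, 2]), (26, [1, 0, 1, 3]), (26, [0, 1, 0, 1, 0]), (321, []), (322, []), (26, [1, 2, 0, 1]),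
  (93, [3, 0, 1]), (26, [1, 3, 0, 1]), (86, [1, 0, 1, 2]), (0, []), (93, [1, 0, 1]), (93, [1, 0, 2]),
  (93, [1, 0, 3]), (93, [1, 0, 2, 2]), (93, [1, 2, 0]), (0, []), (0, []), (0, []), (58, [2, 0, 1, 3]),
  (93, [1, 3, 0]), (0, []), (86, [0, 2, 0]), (30, [1, 0, 1, 0]), (30, [1, 0, 1, 2]), (30, [1, 0, 1, 3]),
  (30, [0, 1, 0, 1, 0]), (344, []), (322, [0]), (30, [1, 2, 0, 1]), (30, [1, 2, 0, 2]), (30, [1, 2, 0, 3]),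
  (349, []), (30, [1, 3, 0, 1]), (93, [0, 1, 0, 3]), (31, [1, 0, 1, 2]), (353, []), (31, [1, 2, 0, 1]),
  (31, [1, 2, 0, 2]), (353, [1, 0, 1, 2]), (30, [0, 1, 0, 2]), (30, [0, 1, 0, 1]), (30, [0, 1, 0, 3]),
  (30, [0, 1, 2, 0, 1, 3]), (30, [0, 1, 2, 0, 1, 2]), (30, [0, 1, 2, 0, 1]), (86, [0, 1, 3, 0, 1]),
  (349, [0]), (322, [1, 2, 0, 3]), (344, [0]), (322, [0, 2, 0, 1, 2]), (58, [1, 0, 1, 0]), (58, [1, 0, 1, 2]),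
  (58, [1, 0, 1, 3]), (0, []), (0, []), (0, []), (0, []), (0, []), (353, [1, 3, 0, 1]), (0, []),
  (0, []), (321, [2, 0]), (58, [1, 2, 0, 1]), (58, [1, 2, 0, 2]), (58, [1, 2, 0, 3]), (0, []),
  (321, [0, 3]), (0, []), (93, [2, 0, 2]), (0, []), (93, [0, 3, 0]), (93, [0, 2, 0, 2]), (58, [1, 3, 0, 1]),
  (0, []), (353, [0, 2, 0, 2]), (163, [1, 0]), (163, [1, 2]), (0, []), (163, [1, 2, 2]), (86, [0, 1, 0]),
  (86, [0, 1, 2]), (86, [0, 1, 3]), (86, [0, 1, 2, 2]), (0, []), (0, []), (0, []), (344, [2, 0, 3]),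
  (86, [0, 3, 0]), (0, []), (0, []), (353, [0, 1, 0, 1]), (322, [1, 2, 0, 2]), (86, [2, 0, 1]),
  (86, [2, 0, 2]), (86, [2, 0, 3]), (0, []), (414, []), (0, []), (0, []), (163, [3, 0]), (0, []),
  (0, []), (0, []), (86, [3, 0, 1]), (0, []), (0, []), (0, []), (86, [0, 1, 0, 1, 2]), (0, []),
  (0, []), (0, []), (86, [1, 0, 1, 0]), (86, [1, 0, 1, 3]), (86, [0, 1, 0, 1, 0]), (0, []), (0, []),
  (86, [0, 3, 0, 1]), (0, []), (0, []), (322, [0, 2, 0, 1, 3]), (86, [1, 2, 0, 1]), (86, [1, 2, 0, 2]),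
  (86, [1, 2, 0, 3]), (0, []), (322, [3]), (0, []), (0, []), (0, []), (0, []), (0, []), (0, []),
  (163, [1, 3, 0]), (0, []), (0, []), (0, []), (86, [1, 3, 0, 1]), (0, []), (0, []), (0, []),
  (93, [0, 1, 2]), (0, []), (0, []), (58, [2, 0, 1, 2]), (0, []), (0, []), (0, []), (0, []),
  (163, [1, 2, 0, 3]), (0, []), (0, []), (93, [1, 2, 0, 1, 2]), (93, [1, 2, 0, 3]), (0, []),
  (0, []), (0, []), (0, []), (0, []), (0, []), (86, [0, 2, 0, 1, 2]), (0, []), (86, [0, 2, 0, 3]),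
  (163, [0, 1]), (163, [0, 2]), (163, [0, 2, 2]), (163, [2, 0]), (163, [0, 1, 3]), (163, [2, 0, 2]),
  (86, [0, 2, 0, 1, 3]), (163, [2, 0, 3]), (163, [1, 0, 1, 3]), (163, [1, 0, 2, 2]), (163, [1, 0, 2]),
  (163, [1, 2, 0, 2]), (93, [0, 1, 0]), (93, [0, 1, 3]), (93, [0, 1, 2, 2]), (322, [1, 2]), (322, [2, 2]),
  (93, [2, 0, 1]), (93, [2, 0, 3]), (322, [0, 2, 0, 2]), (321, [1]), (322, [1]), (321, [0]),
  (321, [2]), (321, [3]), (322, [2]), (93, [2, 0, 1, 3]), (93, [2, 0, 1, 2]), (93, [1, 0, 1, 0]),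
  (93, [1, 0, 1, 2]), (93, [1, 0, 1, 3]), (93, [0, 1, 0, 1, 0]), (93, [0, 1, 2, 0]), (512, []),
  (322, [0, 2, 2]), (93, [1, 2, 0, 1]), (353, [0, 3]), (93, [1, 3, 0, 1]), (344, [0, 2, 0, 2]),
  (30, [0, 1, 0, 1, 3]), (30, [0, 1, 0, 1, 2]), (344, [0, 1]), (344, [1]), (322, [0, 1]), (344, [2]),
  (344, [3]), (344, [2, 2]), (322, [0, 2]), (322, [0, 3]), (30, [1, 2, 0, 1, 2]), (30, [1, 2, 0, 1, 3]),
  (349, [1]), (512, [0, 3]), (353, [0]), (349, [2]), (349, [3]), (349, [2, 2]), (93, [0, 1, 0, 1, 3]),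
  (93, [0, 1, 0, 2, 2]), (93, [0, 1, 0, 2]), (353, [1]), (353, [2]), (353, [3]), (353, [2, 2]),
  (31, [1, 2, 0, 1, 2]), (353, [1, 0, 2]), (353, [0, 1, 3, 0, 1]), (353, [0, 1, 0, 1, 0]), (353, [1, 0, 1]),
  (353, [1, 0, 1, 3]), (414, [2]), (86, [0, 1, 3, 0]), (349, [0, 1]), (322, [1, 2, 0, 1, 3]),
  (86, [0, 1, 2, 0, 1, 3]), (86, [0, 1, 2, 0, 1, 2]), (86, [0, 1, 2, 0, 1]), (349, [0, 2]), (349, [0, 3]),
  (349, [0, 2, 2]), (322, [1, 2, 0]), (322, [1, 3, 0]), (344, [0, 2]), (344, [0, 3]), (344, [0, 2, 2]),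
  (322, [0, 3, 0, 1]), (322, [0, 2, 0, 1]), (353, [1, 3, 0]), (321, [2, 0, 1]), (353, [0, 1, 0, 1, 2]),
  (353, [1, 2, 0, 1, 3]), (353, [1, 2, 0, 1, 2]), (353, [1, 2, 0, 1]), (321, [2, 0, 2]), (321, [2, 0, 3]),
  (321, [3, 0]), (58, [1, 2, 0, 1, 2]), (58, [1, 2, 0, 1, 3]), (321, [0, 1, 3]), (353, [0, 3, 0]),
  (321, [0, 3, 0]), (321, [1, 0]), (321, [0, 2]), (353, [0, 2, 0, 1, 2]), (353, [2, 0, 3]), (353, [0, 2, 0]),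
  (353, [0, 2, 0, 3]), (163, [1, 0, 1]), (163, [1, 2, 0]), (86, [0, 1, 0, 1]), (86, [0, 1, 0, 2]),
  (86, [0, 1, 0, 3]), (86, [0, 1, 0, 2, 2]), (344, [1, 0]), (86, [0, 1, 2, 0]), (344, [1, 3, 0]),
  (353, [0, 1, 0]), (322, [1, 2, 0, 1, 2]), (344, [2, 0]), (344, [3, 0]), (344, [2, 0, 2]), (353, [0, 1, 0, 1, 3]),
  (353, [1, 0, 1, 0]), (86, [2, 0, 1, 2]), (86, [2, 0, 1, 3]), (414, [1]), (349, [3, 0]), (414, [0]),
  (414, [3]), (414, [2, 2]), (163, [3, 0, 1]), (86, [0, 1, 0, 1, 3]), (322, [1, 0]), (322, [0, 2, 0, 3]),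
  (0, []), (0, []), (86, [1, 2, 0, 1, 2]), (86, [1, 2, 0, 1, 3]), (322, [1, 3]), (322, [3, 0]),
  (163, [1, 3, 0, 1]), (163, [1, 2, 0, 1, 3]), (93, [0, 1, 2, 0, 1, 2]), (93, [1, 2, 0, 1, 3]),
  (163, [0, 1, 0]), (163, [0, 1, 2]), (163, [0, 1, 2, 2]), (349, [2, 0]), (163, [2, 0, 1]), (163, [0, 1, 3, 0]),
  (163, [2, 0, 1, 2]), (163, [2, 0, 1, 3]), (163, [0, 1, 2, 0, 1]), (163, [0, 1, 0, 1, 0]), (163, [1, 0, 1, 2]),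
  (93, [0, 1, 2, 0, 2]), (163, [1, 2, 0, 1, 2]), (93, [0, 1, 0, 1]), (322, [2, 0, 3]), (93, [0, 1, 3, 0]),
  (322, [1, 2, 2]), (322, [0, 3, 0]), (322, [0, 2, 0]), (321, [0, 1]), (322, [2, 0]), (93, [0, 1, 2, 0, 3]),
  (321, [0, 2, 0]), (93, [0, 1, 0, 1, 2]), (344, [0, 1, 0]), (93, [0, 1, 3, 0, 1]), (93, [0, 1, 2, 0, 1]),
  (512, [1]), (322, [0, 1, 2, 2]), (512, [0]), (512, [2]), (512, [3]), (512, [2, 2]), (0, []),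
  (0, []), (353, [0, 1, 3]), (353, [0, 2, 2]), (353, [0, 2]), (344, [0, 1, 0, 2]), (344, [0, 3, 0]),
  (344, [0, 2, 0]), (344, [0, 2, 0, 3]), (414, [1, 2]), (353, [0, 1, 3, 0]), (344, [0, 1, 2]),
  (344, [1, 0, 3]), (344, [1, 2]), (344, [1, 3]), (344, [1, 2, 2]), (322, [0, 1, 0]), (322, [0, 1, 2]),
  (322, [0, 1, 3]), (349, [0, 2, 0]), (0, []), (0, []), (349, [0, 2, 0, 3]), (0, []), (353, [2, 0]),
  (512, [0, 1, 3]), (353, [0, 1]), (349, [1, 0]), (349, [1, 2]), (349, [1, 3]), (349, [1, 2, 2]),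
  (512, [0, 2, 2]), (512, [0, 2]), (0, []), (353, [1, 0]), (353, [1, 2]), (353, [1, 3]), (353, [1, 2, 2]),
  (0, []), (0, []), (0, []), (0, []), (353, [3, 0]), (0, []), (0, []), (0, []), (353, [0, 2, 0, 1]),
  (353, [1, 0, 2, 2]), (353, [1, 0, 3]), (353, [0, 1, 2, 0, 1, 3]), (353, [0, 1, 2, 0, 1, 2]),
  (353, [0, 1, 2, 0, 1]), (86, [0, 1, 2, 0, 3]), (86, [0, 1, 2, 0, 2]), (349, [0, 1, 0]), (0, []),
  (349, [0, 1, 3]), (349, [1, 0, 2]), (322, [0, 1, 2, 0, 1, 3]), (322, [1, 2, 0, 1]), (322, [1, 3, 0, 1]),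
  (414, [0, 2]), (349, [0, 3, 0]), (0, []), (0, []), (414, [0, 2, 2]), (322, [1, 0, 2, 2]), (322, [1, 0, 3]),
  (321, [0, 2, 0, 3]), (322, [1, 0, 2]), (353, [1, 2, 0, 3]), (353, [1, 2, 0, 2]), (353, [1, 2, 0]),
  (321, [0, 1, 0, 2]), (321, [2, 0, 1, 2]), (321, [2, 0, 1, 3]), (321, [3, 0, 1]), (353, [0, 1, 0, 2]),
  (321, [0, 2, 0, 2]), (353, [0, 3, 0, 1]), (321, [0, 1, 3, 0]), (321, [1, 0, 1]), (321, [0, 1, 2]),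
  (353, [0, 2, 0, 1, 3]), (353, [2, 0, 1, 3]), (353, [2, 0, 2]), (163, [1, 0, 1, 0]), (163, [1, 2, 0, 1]),
  (414, [1, 0]), (322, [1, 0, 1]), (344, [2, 0, 1]), (344, [3, 0, 1]), (344, [1, 2, 0]), (353, [0, 1, 0, 3]),
  (353, [0, 1, 0, 2, 2]), (322, [0, 1, 2, 0, 1, 2]), (414, [0, 3]), (349, [3, 0, 1]), (414, [1, 3]),
  (349, [2, 0, 3]), (349, [2, 0, 2]), (414, [0, 1]), (163, [0, 1, 0, 3]), (322, [2, 0, 2]), (322, [3, 0, 1]),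
  (163, [0, 1, 0, 1, 2]), (163, [0, 1, 2, 0, 1, 3]), (93, [0, 1, 2, 0, 1, 3]), (163, [0, 1, 0, 1]),
  (163, [0, 1, 0, 2]), (163, [0, 1, 0, 2, 2]), (163, [0, 1, 2, 0, 3]), (163, [0, 1, 2, 0]), (349, [2, 0, 1]),
  (163, [0, 1, 3, 0, 1]), (163, [0, 1, 2, 0, 2]), (163, [0, 1, 2, 0, 1, 2]), (322, [2, 0, 1, 3]),
  (321, [0, 1, 0]), (322, [2, 0, 1]), (344, [0, 1, 0, 3]), (344, [0, 3, 0, 1]), (512, [1, 0]),
  (512, [1, 2]), (512, [1, 3]), (322, [0, 1, 0, 2, 2]), (512, [0, 1]), (353, [0, 1, 2, 2]), (353, [0, 1, 2]),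
  (414, [0, 1, 2]), (353, [0, 1, 2, 0, 3]), (353, [0, 1, 2, 0, 2]), (353, [0, 1, 2, 0]), (322, [0, 1, 0, 1, 0]),
  (349, [0, 2, 0, 1]), (322, [0, 1, 0, 1]), (322, [0, 1, 0, 2]), (322, [0, 1, 0, 3]), (322, [0, 1, 2, 0]),
  (349, [0, 1, 0, 2]), (322, [0, 1, 3, 0]), (353, [2, 0, 1]), (349, [0, 2, 0, 2]), (512, [0, 1, 2, 2]),
  (512, [0, 1, 2]), (349, [1, 2, 0]), (349, [1, 3, 0]), (353, [3, 0, 1]), (349, [0, 1, 0, 3]),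
  (322, [0, 1, 2, 0, 3]), (322, [0, 1, 2, 0, 1]), (322, [0, 1, 3, 0, 1]), (322, [0, 1, 0, 1, 3]),
  (322, [0, 1, 0, 1, 2]), (414, [0, 1, 2, 2]), (322, [1, 0, 1, 3]), (322, [1, 0, 1, 2]), (321, [1, 0, 1, 0]),
  (321, [0, 1, 0, 3]), (321, [0, 1, 2, 0, 3]), (321, [0, 1, 2, 0, 2]), (321, [0, 1, 2, 0]), (353, [2, 0, 1, 2]),
  (163, [0, 1, 0, 1, 3]), (322, [1, 0, 1, 0]), (414, [0, 1, 3]), (322, [0, 1, 2, 0, 2]), (322, [2, 0, 1, 2]),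
  (824, []), (824, [1]), (824, [0]), (824, [2]), (828, [])]

/-- roots -/
def roots : List ℕ := [0, 1, 26, 30, 31, 58, 86, 93, 163, 321, 322, 344, 349, 353, 414, 512, 824, 828]

end Cfsg.Agent.ONType.TupOrb
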