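import Cfsg.Agent.ONType.TupT0
import Cfsg.Agent.ONType.TupKAll
import Cfsg.Agent.ONType.TupOrb

/-!
The subgroup generated by `a, b, c, d, g` in the presented O'Nan group: conjugates of `a`.
-/

set_option autoImplicit false
set_option maxRecDepth 100000

namespace Cfsg.Agent.ONType.TupK

open Cfsg.Spor Cfsg.Spor.ON Cfsg.Agent.SporadicB.ONHom Cfsg.Agent.SporadicB.ON45Word
  Cfsg.Agent.ONType.TupRow Cfsg.Agent.ONType.TupCover Cfsg.Agent.ONType.TupT0

open Cfsg.Agent.SporadicRecognition.CosetCert (ev ev_nil ev_cons ev_append Hyp Rel walkS)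
open Cfsg.Agent.SporadicRecognition.CosetCertHyp (hyp_of_checks invw ev_invw)
open Cfsg.Agent.Lib.PackMat (force force_eq)

/-- the group generated by `a, b, c, d, g` -/
def K0 : Subgroup ON := Subgroup.closure (gK '' {x | x < TupKData.C.k})

theorem rels_one (hs : IsSimpleGroup ON) : ∀ r ∈ TupKData.rels, ev gK r = 1 := by
  intro r hr
  have h : TupKData.rels.all (fun r => eqK r []) = true := by decide +kernel
  exact eqK_spec hs (List.all_eq_true.1 h r hr)

theorem hinvK (hs : IsSimpleGroup ON) (x : ℕ) (hx : x < TupKData.C.k) :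
    TupKData.C.inv x < TupKData.C.k ∧ gK x * gK (TupKData.C.inv x) = 1 := by
  have hx4 : x < 6 := hx
  have h : eqK [0, 0] [] = true := by decide +kernel
  have h2 : eqK [1, 1] [] = true := by decide +kernel
  have h3 : eqK [4, 4] [] = true := by decide +kernel
  have h4 : eqK [5, 5] [] = true := by decide +kernel
  have h := eqK_spec hs h
  have h2 := eqK_spec hs h2
  have h3 := eqK_spec hs h3
  have h4 := eqK_spec hs h4
  simp only [ev_cons, ev_nil, mul_one] at h h2 h3 h4
  interval_cases x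
  · exact ⟨by decide, h⟩
  · exact ⟨by decide, h2⟩
  · exact ⟨by decide, mul_inv_cancel _⟩
  · exact ⟨by decide, inv_mul_cancel _⟩
  · exact ⟨by decide, h3⟩
  · exact ⟨by decide, h4⟩

theorem hypK (hs : IsSimpleGroup ON) : Hyp TupKData.C T0 gK := by
  refine hyp_of_checks T0 gK TupKData.C TupKData.rels TupKData.subw rfl (hinvK hs) (rels_one hs) ?_
    (by decide +kernel)
  intro s hs'
  simp only [TupKData.subw, List.mem_cons, List.not_mem_nil, or_false] at hs'
  rcases hs' with rfl | rfl | rfl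
  · rw [ev_cons, ev_nil, mul_one]; exact c_mem
  · rw [ev_cons, ev_nil, mul_one]; exact d_mem
  · rw [ev_cons, ev_nil, mul_one]; exact g_mem

theorem card_K0_le (hs : IsSimpleGroup ON) : Nat.card K0 ≤ 630 * Nat.card T0 := by
  haveI := (card_T0_le hs).1
  exact (Cfsg.Agent.SporadicRecognition.CosetCert.card_closure_le TupKData.C T0 gK (hypK hs) TupKAll.part).2

/-! ### Orbits -/

/-- check of the orbit data -/
noncomputable def orbOK : List (ℕ × List ℕ) → ℕ → Bool
  | [], i => Nat.ble TupKData.C.N i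
  | p :: rest, i => (bif dead TupKData.C i then true else
      (TupOrb.roots.elem p.1 && Nat.blt p.1 TupKData.C.N && (p.2.all fun x => Nat.blt x 4) &&
        Nat.beq (walkS TupKData.C (TupKData.C.mask - 1) p.2 p.1) (i + 1))) && force (i + 1) fun j => orbOK rest j

theorem orbOK_spec : ∀ (L : List (ℕ × List ℕ)) (i : ℕ), orbOK L i = true → ∀ j, i ≤ j → j < TupKData.C.N →
    dead TupKData.C j = false → ∃ r ∈ TupOrb.roots, r < TupKData.C.N ∧ ∃ u : List ℕ, (∀ x ∈ u, x < 4) ∧
      walkS TupKData.C (TupKData.C.mask - 1) u r = j + 1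
  | [], i, h, j, h1, h2, _ => by
    exfalso
    have h3 : Nat.ble TupKData.C.N i = true := h
    have := Nat.le_of_ble_eq_true h3
    omega
  | p :: rest, i, h, j, h1, h2, h3 => by
    rw [orbOK, force_eq, Bool.and_eq_true] at h
    rcases Nat.eq_or_lt_of_le h1 with rfl | h4
    · have h5 := h.1
      rw [h3, cond_false, Bool.and_eq_true, Bool.and_eq_true, Bool.and_eq_true] at h5
      obtain ⟨⟨⟨k1, k2⟩, k3⟩, k4⟩ := h5
      refine ⟨p.1, List.elem_iff.1 k1, blt_iff.1 k2, p.2, ?_, Nat.eq_of_beq_eq_true k4⟩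
      intro x hx
      exact blt_iff.1 (List.all_eq_true.1 k3 x hx)
    · exact orbOK_spec rest (i + 1) h.2 j h4 h2 h3

theorem orb_ok : orbOK TupOrb.orb 0 = true := by decide +kernel

theorem gK_eq (x : ℕ) (hx : x < 4) : gK x = gJ x := by
  interval_cases x <;> rfl

theorem evK_mem (w : List ℕ) (hw : ∀ x ∈ w, x < 4) : ev gK w ∈ T0 := by
  induction w with
  | nil => rw [ev_nil]; exact T0.one_mem
  | cons x w ih =>
    have hx := hw x (by simp)
    rw [ev_cons, gK_eq x hx]
    exact T0.mul_mem (Subgroup.subset_closure ⟨x, hx, rfl⟩) (ih fun y hy => hw y (by simp [hy]))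

theorem exists_root (hs : IsSimpleGroup ON) {k : ON} (hk : k ∈ K0) : ∃ r ∈ TupOrb.roots, r < TupKData.C.N ∧
    ∃ u ∈ T0, k * (ev gK (nword TupKData.C r) * u)⁻¹ ∈ T0 := by
  obtain ⟨hcov, hwalk⟩ := covered (hypK hs) TupKAll.part
  obtain ⟨l, h1, h2, h3⟩ := hcov k hk
  obtain ⟨r, hr, hrN, u, hu, h4⟩ := orbOK_spec _ 0 orb_ok l (Nat.zero_le _) h1 h2
  obtain ⟨-, h5⟩ := hwalk u (fun x hx => (hu x hx).le.trans (by show 4 ≤ 6; decide)) r l hrN h4
  exact ⟨r, hr, hrN, ev gK u, evK_mem u hu, h3.trans h5.symm⟩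

/-- the word of the conjugate of `a` at the node `r` -/
noncomputable def Xw (r : ℕ) : List ℕ := invw TupKData.C.inv (nword TupKData.C r) ++ 4 :: nword TupKData.C r

theorem ev_Xw (hs : IsSimpleGroup ON) (r : ℕ) : ev gK (Xw r) =
    (ev gK (nword TupKData.C r))⁻¹ * on .a * ev gK (nword TupKData.C r) := by
  unfold Xw
  rw [ev_append, ev_cons, ev_invw gK TupKData.C.inv TupKData.C.k (hinvK hs) (nword TupKData.C r)
    (tword_lt TupKData.C (fun x hx => (hinvK hs x hx).1) TupKData.C.N r [] (by simp)), mul_assoc]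
  rfl

theorem root_ne (hs : IsSimpleGroup ON) {r : ℕ} (hr : r ∈ TupOrb.roots) (h0 : r ≠ 0) :
    (ev gK (nword TupKData.C r))⁻¹ * on .a * ev gK (nword TupKData.C r) ≠ on .a := by
  have hQ : (TupOrb.roots.all fun r => Nat.beq r 0 || neK (Xw r) [4]) = true := by decide +kernel
  rcases Bool.or_eq_true_iff.1 (List.all_eq_true.1 hQ r hr) with h | h
  · exact absurd (Nat.eq_of_beq_eq_true h) h0
  · have := neK_spec h
    rw [ev_Xw hs, ev_cons _ 4, ev_nil, mul_one] at this
    exact this

theorem root_braid (hs : IsSimpleGroup ON) {r : ℕ} (hr : r ∈ TupOrb.roots) {x : ON}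
    (hx : x = (ev gK (nword TupKData.C r))⁻¹ * on .a * ev gK (nword TupKData.C r))
    (hb : on .a * x * on .a = x * on .a * x) : r = 0 ∨ r = 1 ∨ r = 349 := by
  have hQ : (TupOrb.roots.all fun r => (Nat.beq r 0 || Nat.beq r 1 || Nat.beq r 349) ||
    neK (4 :: (Xw r ++ [4])) (Xw r ++ 4 :: Xw r)) = true := by decide +kernel
  rcases Bool.or_eq_true_iff.1 (List.all_eq_true.1 hQ r hr) with h | h
  · rcases Bool.or_eq_true_iff.1 h with h | h
    · rcases Bool.or_eq_true_iff.1 h with h | h
      · exact Or.inl (Nat.eq_of_beq_eq_true h)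
      · exact Or.inr (Or.inl (Nat.eq_of_beq_eq_true h))
    · exact Or.inr (Or.inr (Nat.eq_of_beq_eq_true h))
  · exfalso
    apply neK_spec h
    rw [ev_cons, ev_append, ev_cons _ 4, ev_nil, mul_one, ev_append, ev_cons _ 4, ev_Xw hs, ← hx, ← mul_assoc,
      ← mul_assoc]
    exact hb

theorem nw0 : nword TupKData.C 0 = [] := by decide +kernel
theorem nw1 : nword TupKData.C 1 = [5] := by decide +kernel
theorem nw349 : nword TupKData.C 349 = [5, 0, 1, 3, 5, 2, 0, 5] := by decide +kernel

/-- The centraliser of `a` in `K0` is `T0`. -/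
theorem mem_T0 (hs : IsSimpleGroup ON) {k : ON} (hk : k ∈ K0) (h : k * on .a = on .a * k) : k ∈ T0 := by
  obtain ⟨r, hr, -, u, hu, h1⟩ := exists_root hs hk
  set y := ev gK (nword TupKData.C r) with hy
  obtain ⟨t, ht, h2⟩ : ∃ t ∈ T0, k = t * (y * u) := ⟨_, h1, by rw [inv_mul_cancel_right]⟩
  have hta := comm_a hs ht
  have hua := comm_a hs hu
  have hya : y⁻¹ * on .a * y = on .a := by
    have e1 : y * u * on .a = on .a * (y * u) := by
      have : t * (y * u * on .a) = t * (on .a * (y * u)) := by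
        calc t * (y * u * on .a) = k * on .a := by rw [h2]; group
          _ = on .a * k := h
          _ = on .a * t * (y * u) := by rw [h2]; group
          _ = t * (on .a * (y * u)) := by rw [← hta]; group
      exact mul_left_cancel this
    have e2 : y * on .a = on .a * y := by
      have : y * on .a * u = on .a * y * u := by
        calc y * on .a * u = y * (on .a * u) := by group
          _ = y * u * on .a := by rw [← hua]; group
          _ = on .a * y * u := by rw [e1]; group
      exact mul_right_cancel this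
    rw [mul_assoc, ← e2, inv_mul_cancel_left]
  have hr0 : r = 0 := by
    by_contra h0
    exact root_ne hs hr h0 hya
  rw [hr0, nw0, ev_nil] at hy
  rw [h2, hy, one_mul]
  exact T0.mul_mem ht hu

/-- Involutions of `K0` generating with `a` a group of order 6. -/
theorem conj_class (hs : IsSimpleGroup ON) {k x : ON} (hk : k ∈ K0) (hx : x = k⁻¹ * on .a * k)
    (hb : on .a * x * on .a = x * on .a * x) :
    x = on .a ∨ ∃ t ∈ T0, x = t⁻¹ * on .b * t ∨ x = t⁻¹ * b3 * t := by
  obtain ⟨r, hr, -, u, hu, h1⟩ := exists_root hs hk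
  obtain ⟨y, hy⟩ : ∃ y, y = ev gK (nword TupKData.C r) := ⟨_, rfl⟩
  rw [← hy] at h1
  obtain ⟨t, ht, h2⟩ : ∃ t ∈ T0, k = t * (y * u) := ⟨_, h1, by rw [inv_mul_cancel_right]⟩
  have hta := comm_a hs ht
  have hua := comm_a hs hu
  have hx2 : x = u⁻¹ * (y⁻¹ * on .a * y) * u := by
    have e1 : t⁻¹ * on .a * t = on .a := by rw [mul_assoc, ← hta, inv_mul_cancel_left]
    calc x = u⁻¹ * (y⁻¹ * (t⁻¹ * on .a * t) * y) * u := by rw [hx, h2]; group
      _ = u⁻¹ * (y⁻¹ * on .a * y) * u := by rw [e1]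
  have hb2 : on .a * (y⁻¹ * on .a * y) * on .a = (y⁻¹ * on .a * y) * on .a * (y⁻¹ * on .a * y) := by
    have e2 : u * on .a * u⁻¹ = on .a := by rw [hua, mul_inv_cancel_right]
    have e3 : y⁻¹ * on .a * y = u * x * u⁻¹ := by rw [hx2]; group
    rw [e3]
    calc on .a * (u * x * u⁻¹) * on .a = (u * on .a * u⁻¹) * (u * x * u⁻¹) * (u * on .a * u⁻¹) := by rw [e2]
      _ = u * (on .a * x * on .a) * u⁻¹ := by group
      _ = u * (x * on .a * x) * u⁻¹ := by rw [hb]
      _ = (u * x * u⁻¹) * (u * on .a * u⁻¹) * (u * x * u⁻¹) := by group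
      _ = _ := by rw [e2]
  rcases root_braid hs hr (by rw [hy]) hb2 with h | h | h
  · left
    rw [h, nw0, ev_nil] at hy
    rw [hx2, hy, inv_one, one_mul, mul_one, mul_assoc, ← hua, inv_mul_cancel_left]
  · right
    rw [h, nw1, ev_cons, ev_nil, mul_one] at hy
    have hyb : y = on .b := hy
    refine ⟨on .a * u, T0.mul_mem (a_mem hs) hu, Or.inl ?_⟩
    have e4 : eqK [5, 5] [] = true := by decide +kernel
    have e5 : eqK [4, 4] [] = true := by decide +kernel
    have e6 : eqK [5, 4, 5] [4, 5, 4] = true := by decide +kernel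
    have e4 := eqK_spec hs e4
    have e5 := eqK_spec hs e5
    have e6 := eqK_spec hs e6
    simp only [ev_cons, ev_nil, mul_one] at e4 e5 e6
    have e4 : on .b * on .b = 1 := e4
    have e5 : on .a * on .a = 1 := e5
    have e6 : on .b * (on .a * on .b) = on .a * (on .b * on .a) := e6
    have i1 : (on .b)⁻¹ = on .b := inv_eq_of_mul_eq_one_right e4
    have i2 : (on .a)⁻¹ = on .a := inv_eq_of_mul_eq_one_right e5
    rw [hx2, hyb, mul_inv_rev, i1, i2, mul_assoc (on .b), e6]
    group
  · right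
    refine ⟨u, hu, Or.inr ?_⟩
    rw [hx2]
    congr 2
    have e4 : eqM ((Xw 349).map mK) [TupMats.mb3] = true := by decide +kernel
    have e5 := eq_of_eqM hs (LW_ev lK (Xw 349)) lb3 e4
    rw [ev_Xw hs, ← h, ← hy] at e5
    exact e5

end Cfsg.Agent.ONType.TupK
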