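import Cfsg.Agent.SporadicB.ON45Word
import Cfsg.Agent.ONType.SecondTuple
import Cfsg.Agent.ONType.TupMats
import Cfsg.Agent.SporadicRecognition.CosetCert

/-!
Equalities and inequalities of words in the presented O'Nan group, from the 45-dimensional representation:
equalities from all rows, inequalities from the image of one row vector.
-/

set_option autoImplicit false

namespace Cfsg.Agent.ONType.TupRow

open Cfsg.Spor Cfsg.Spor.ON Cfsg.Agent.Lib.PackMat Cfsg.Agent.SporadicB.ONHom Cfsg.Agent.SporadicB.ON45Data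
  Cfsg.Agent.SporadicB.ON45Core Cfsg.Agent.SporadicB.ON45Rels Cfsg.Agent.SporadicB.ON45Word
  Cfsg.Agent.ONType.TupMats Cfsg.Agent.ONType.SecondData Cfsg.Agent.ONType.SecondTuple

open Cfsg.Agent.SporadicRecognition.CosetCert (ev ev_nil ev_cons ev_append)

/-! ### scalar matrices -/

theorem mk_m2 : mk m2 = (2 : ZMod 7) • (1 : M45) := by
  have h := prod_scalar_of_check (C := C45) good (c := 2) (w := [m2]) (by decide) (by decide)
    (by
      intro g hg
      rw [List.mem_singleton] at hg
      rw [hg]
      exact (by decide +kernel : okG C45 m2 = true))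
    (by decide +kernel)
  rw [List.map_singleton, List.prod_singleton] at h
  exact h

theorem mk_m4 : mk m4 = (4 : ZMod 7) • (1 : M45) := by
  have h := prod_scalar_of_check (C := C45) good (c := 4) (w := [m4]) (by decide) (by decide)
    (by
      intro g hg
      rw [List.mem_singleton] at hg
      rw [hg]
      exact (by decide +kernel : okG C45 m4 = true))
    (by decide +kernel)
  rw [List.map_singleton, List.prod_singleton] at h
  exact h

theorem ok_m2 : okG C45 m2 = true := by decide +kernel
theorem ok_m4 : okG C45 m4 = true := by decide +kernel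

theorem okR0 : OkR C45 R0 := by
  refine ⟨by decide +kernel, ?_⟩
  have h : ∀ i < 45, dg 11 R0 i < 7 := by decide +kernel
  exact h

/-! ### inequalities -/

/-- The images of the row `R0` under the two products of matrices are not proportional (by a cube root of one). -/
noncomputable def rowNe (l m : List ℕ) : Bool :=
  withC C45 fun _ p r mm t nf GM FM LO HI HT =>
    force (runK p r mm t nf GM FM LO HI HT l R0) fun x =>
    force (runK p r mm t nf GM FM LO HI HT m R0) fun y =>
      bif Nat.beq x y then false else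
      bif Nat.beq (stepK p r mm t nf GM FM LO HI HT x m2) y then false else
      bif Nat.beq (stepK p r mm t nf GM FM LO HI HT x m4) y then false else true

theorem rowNe_spec {l m : List ℕ} (h : rowNe l m = true) :
    run C45 l R0 ≠ run C45 m R0 ∧ step C45 (run C45 l R0) m2 ≠ run C45 m R0 ∧
      step C45 (run C45 l R0) m4 ≠ run C45 m R0 := by
  have h' : (bif Nat.beq (run C45 l R0) (run C45 m R0) then false else
      bif Nat.beq (step C45 (run C45 l R0) m2) (run C45 m R0) then false else
      bif Nat.beq (step C45 (run C45 l R0) m4) (run C45 m R0) then false else true) = true := h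
  have key : ∀ a b : ℕ, Nat.beq a b = false → a ≠ b := by
    intro a b hab h1
    rw [h1, Nat.beq_refl] at hab
    exact absurd hab (by decide)
  cases h1 : Nat.beq (run C45 l R0) (run C45 m R0) with
  | true => rw [h1, cond_true] at h'; exact absurd h' (by decide)
  | false =>
    rw [h1, cond_false] at h'
    cases h2 : Nat.beq (step C45 (run C45 l R0) m2) (run C45 m R0) with
    | true => rw [h2, cond_true] at h'; exact absurd h' (by decide)
    | false =>
      rw [h2, cond_false] at h'
      cases h3 : Nat.beq (step C45 (run C45 l R0) m4) (run C45 m R0) with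
      | true => rw [h3, cond_true] at h'; exact absurd h' (by decide)
      | false => exact ⟨key _ _ h1, key _ _ h2, key _ _ h3⟩

theorem ne_of_rowNe {x y : ON} {l m : List ℕ} (hx : LW x l) (hy : LW y m) (h : rowNe l m = true) : x ≠ y := by
  rintro rfl
  obtain ⟨h1, u, h2, h3⟩ := hx
  obtain ⟨k1, v, k2, k3⟩ := hy
  obtain ⟨n1, n2, n3⟩ := rowNe_spec h
  have hg := good_of_check good
  obtain ⟨r1, r2⟩ := run_spec hg l h1 okR0
  obtain ⟨s1, s2⟩ := run_spec hg m k1 okR0
  have hz : u⁻¹ * v ∈ Subgroup.center SL45 := by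
    rw [← QuotientGroup.eq]
    exact h3.trans k3.symm
  have huv : (v : M45) = (u : M45) * ((u⁻¹ * v : SL45) : M45) := by
    rw [← Matrix.SpecialLinearGroup.coe_mul, mul_inv_cancel_left]
  have e1 : (l.map (mat C45)).prod = (u : M45) := h2.symm
  have e2 : (m.map (mat C45)).prod = (v : M45) := k2.symm
  rw [e1] at r2
  rw [e2] at s2
  rcases center_cases hz with hc | hc | hc
  · apply n1
    apply rowVec_injOn r1 s1
    rw [r2, s2, huv, hc, one_smul, mul_one]
  · apply n2
    obtain ⟨t1, t2⟩ := step_spec hg r1 ok_m2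
    apply rowVec_injOn t1 s1
    have e3 : mat C45 m2 = (2 : ZMod 7) • (1 : M45) := mk_m2
    rw [t2, r2, s2, huv, hc, e3]
    exact Matrix.vecMul_vecMul _ _ _
  · apply n3
    obtain ⟨t1, t2⟩ := step_spec hg r1 ok_m4
    apply rowVec_injOn t1 s1
    have e3 : mat C45 m4 = (4 : ZMod 7) • (1 : M45) := mk_m4
    rw [t2, r2, s2, huv, hc, e3]
    exact Matrix.vecMul_vecMul _ _ _

/-! ### equalities -/

/-- The two products agree up to a cube root of one. -/
noncomputable def eqM (l m : List ℕ) : Bool :=
  checkEq C45 l m 0 45 || checkEq C45 (l ++ [m2]) m 0 45 || checkEq C45 (l ++ [m4]) m 0 45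

theorem eq_of_eqM (hs : IsSimpleGroup ON) {x y : ON} {l m : List ℕ} (hx : LW x l) (hy : LW y m)
    (h : eqM l m = true) : x = y := by
  obtain ⟨h1, u, h2, h3⟩ := hx
  obtain ⟨k1, v, k2, k3⟩ := hy
  apply rho_injective hs
  rw [← h3, ← k3]
  unfold eqM at h
  rw [Bool.or_eq_true, Bool.or_eq_true] at h
  have key : ∀ (c : ZMod 7) (n : ℕ), okG C45 n = true → mk n = c • (1 : M45) →
      checkEq C45 (l ++ [n]) m 0 45 = true → pr u = pr v := by
    intro c n hn hmk hch
    have hok : ∀ g ∈ l ++ [n], okG C45 g = true := by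
      intro g hg
      rcases List.mem_append.1 hg with hg | hg
      · exact h1 g hg
      · rw [List.mem_singleton] at hg
        rw [hg]; exact hn
    have h4 := prod_eq_of_check (C := C45) good (by decide) hok k1 hch
    rw [List.map_append, List.prod_append, List.map_singleton, List.prod_singleton] at h4
    have h5 : (u : M45) * (c • (1 : M45)) = (v : M45) := by
      rw [h2, k2, ← hmk]
      exact h4
    have h6 : ((u⁻¹ * v : SL45) : M45) = c • (1 : M45) := by
      rw [Matrix.SpecialLinearGroup.coe_mul, ← h5, ← mul_assoc, ← Matrix.SpecialLinearGroup.coe_mul,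
        inv_mul_cancel, Matrix.SpecialLinearGroup.coe_one, one_mul]
    exact QuotientGroup.eq.2 (mem_center_of_smul h6)
  rcases h with (h | h) | h
  · have h4 := prod_eq_of_check (C := C45) good (by decide) h1 k1 h
    have h5 : u = v := Subtype.ext (h2.trans (h4.trans k2.symm))
    rw [h5]
  · exact key 2 m2 ok_m2 mk_m2 h
  · exact key 4 m4 ok_m4 mk_m4 h

/-! ### letters -/

theorem LW_ev {g : ℕ → ON} {m : ℕ → ℕ} (h : ∀ x, LW (g x) [m x]) (w : List ℕ) : LW (ev g w) (w.map m) := by
  induction w with
  | nil => exact LW.one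
  | cons x w ih =>
    rw [ev_cons, List.map_cons]
    exact (h x).mul ih

theorem lI : LW 1 [mI] := LW.one.change (by decide +kernel) (by decide +kernel)

theorem lGi : LW (on .g)⁻¹ [mG] := (LW.gen .g).inv (by decide +kernel) (by decide +kernel)

/-- `x⁻¹ a x` with `x = b c d g³ b g c b` -/
def b3 : ON := ([.b, .c, .g, .g, .g, .b, .g, .d, .c, .b, .a, .b, .c, .d, .g, .g, .g, .b, .g, .c, .b].map on).prod

theorem lb3 : LW b3 [mb3] := (LW.word _).change (by decide +kernel) (by decide +kernel)

/-- letters for words in the centraliser of `a` and `f`, with further elements -/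
noncomputable def gJ : ℕ → ON
  | 0 => on .c
  | 1 => on .d
  | 2 => on .g
  | 3 => (on .g)⁻¹
  | 4 => 1
  | 5 => on .a
  | 6 => on .b
  | 7 => on .f
  | 8 => b3
  | 9 => d2
  | _ => 1

/-- matrices of the letters -/
def mJ : ℕ → ℕ
  | 0 => gc
  | 1 => gd
  | 2 => gg
  | 3 => mG
  | 4 => mI
  | 5 => ga
  | 6 => gb
  | 7 => gf
  | 8 => mb3
  | 9 => gd2
  | _ => mI

theorem lJ : ∀ x, LW (gJ x) [mJ x]
  | 0 => LW.gen .c
  | 1 => LW.gen .d
  | 2 => LW.gen .g
  | 3 => lGi
  | 4 => lI
  | 5 => LW.gen .a
  | 6 => LW.gen .b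
  | 7 => LW.gen .f
  | 8 => lb3
  | 9 => ld
  | (_ + 10) => lI

/-- letters for words in the centraliser of `f` -/
noncomputable def gK : ℕ → ON
  | 0 => on .c
  | 1 => on .d
  | 2 => on .g
  | 3 => (on .g)⁻¹
  | 4 => on .a
  | 5 => on .b
  | _ => 1

def mK : ℕ → ℕ
  | 0 => gc
  | 1 => gd
  | 2 => gg
  | 3 => mG
  | 4 => ga
  | 5 => gb
  | _ => mI

theorem lK : ∀ x, LW (gK x) [mK x]
  | 0 => LW.gen .c
  | 1 => LW.gen .d
  | 2 => LW.gen .g
  | 3 => lGi
  | 4 => LW.gen .a
  | 5 => LW.gen .b
  | (_ + 6) => lI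

noncomputable def neJ (l m : List ℕ) : Bool := rowNe (l.map mJ) (m.map mJ)
noncomputable def neK (l m : List ℕ) : Bool := rowNe (l.map mK) (m.map mK)
noncomputable def eqJ (l m : List ℕ) : Bool := eqM (l.map mJ) (m.map mJ)
noncomputable def eqK (l m : List ℕ) : Bool := eqM (l.map mK) (m.map mK)

theorem neJ_spec {l m : List ℕ} (h : neJ l m = true) : ev gJ l ≠ ev gJ m := ne_of_rowNe (LW_ev lJ l) (LW_ev lJ m) h
theorem neK_spec {l m : List ℕ} (h : neK l m = true) : ev gK l ≠ ev gK m := ne_of_rowNe (LW_ev lK l) (LW_ev lK m) h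
theorem eqJ_spec (hs : IsSimpleGroup ON) {l m : List ℕ} (h : eqJ l m = true) : ev gJ l = ev gJ m :=
  eq_of_eqM hs (LW_ev lJ l) (LW_ev lJ m) h
theorem eqK_spec (hs : IsSimpleGroup ON) {l m : List ℕ} (h : eqK l m = true) : ev gK l = ev gK m :=
  eq_of_eqM hs (LW_ev lK l) (LW_ev lK m) h

end Cfsg.Agent.ONType.TupRow
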