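import Cfsg.Agent.ONType.TupK

/-!
A subgroup `S` of order 512 of `⟨a, b, c, d, g⟩` containing `⟨c, d, g⟩`, and fourth powers of 2-elements.
-/

set_option autoImplicit false
set_option maxRecDepth 100000

namespace Cfsg.Agent.ONType.TupS

open Cfsg.Spor Cfsg.Spor.ON Cfsg.Agent.SporadicB.ONHom Cfsg.Agent.SporadicB.ON45Word
  Cfsg.Agent.ONType.TupRow Cfsg.Agent.ONType.TupCover Cfsg.Agent.ONType.TupT0 Cfsg.Agent.ONType.TupK

open Cfsg.Agent.SporadicRecognition.CosetCert (ev ev_nil ev_cons ev_append)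

/-- word of an involution swapping `a` and `a f` -/
def sw : List ℕ := [5, 4, 0, 5, 1, 0, 5, 1, 3, 5, 0, 2, 5]

noncomputable def s : ON := ev gK sw

theorem ev_mem_K0 (w : List ℕ) (hw : ∀ x ∈ w, x < 6) : ev gK w ∈ K0 := by
  induction w with
  | nil => rw [ev_nil]; exact K0.one_mem
  | cons x w ih =>
    rw [ev_cons]
    exact K0.mul_mem (Subgroup.subset_closure ⟨x, hw x (by simp), rfl⟩) (ih fun y hy => hw y (by simp [hy]))

theorem s_mem : s ∈ K0 := ev_mem_K0 _ (by decide)

theorem T0_le : T0 ≤ K0 := by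
  unfold T0
  rw [Subgroup.closure_le]
  rintro _ ⟨x, hx, rfl⟩
  have hx4 : x < 4 := hx
  rw [← gK_eq x hx4]
  exact Subgroup.subset_closure ⟨x, lt_trans hx4 (by decide), rfl⟩

theorem ss (hs : IsSimpleGroup ON) : s * s = 1 := by
  have h : eqK (sw ++ sw) [] = true := by decide +kernel
  have := eqK_spec hs h
  rwa [ev_append, ev_nil] at this

theorem s_inv (hs : IsSimpleGroup ON) : s⁻¹ = s := inv_eq_of_mul_eq_one_right (ss hs)

theorem conj_mem (hs : IsSimpleGroup ON) {t : ON} (ht : t ∈ T0) : s * t * s ∈ T0 := by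
  have h0 : eqK (sw ++ 0 :: sw) [0] = true := by decide +kernel
  have h1 : eqK (sw ++ 1 :: sw) [0, 3, 1, 0, 1] = true := by decide +kernel
  have h2 : eqK (sw ++ 2 :: sw) [0, 1, 2, 0, 2] = true := by decide +kernel
  have h0 := eqK_spec hs h0
  have h1 := eqK_spec hs h1
  have h2 := eqK_spec hs h2
  rw [ev_append, ev_cons _ _ sw, ← mul_assoc] at h0 h1 h2
  have m0 : s * on .c * s ∈ T0 := by
    have e : s * on .c * s = _ := h0
    rw [e]; exact evK_mem _ (by decide)
  have m1 : s * on .d * s ∈ T0 := by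
    have e : s * on .d * s = _ := h1
    rw [e]; exact evK_mem _ (by decide)
  have m2 : s * on .g * s ∈ T0 := by
    have e : s * on .g * s = _ := h2
    rw [e]; exact evK_mem _ (by decide)
  have hle : T0 ≤ T0.comap (MulAut.conj s).toMonoidHom := by
    conv_lhs => unfold T0
    rw [Subgroup.closure_le]
    rintro _ ⟨x, hx, rfl⟩
    have hx4 : x < 4 := hx
    show s * gJ x * s⁻¹ ∈ T0
    rw [s_inv hs]
    interval_cases x
    · exact m0
    · exact m1
    · exact m2
    · have e : s * (on .g)⁻¹ * s = (s * on .g * s)⁻¹ := by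
        rw [mul_inv_rev, mul_inv_rev, s_inv hs, mul_assoc]
      show s * (on .g)⁻¹ * s ∈ T0
      rw [e]; exact T0.inv_mem m2
  have h3 : s * t * s⁻¹ ∈ T0 := hle ht
  rwa [s_inv hs] at h3

theorem s_not_mem (hs : IsSimpleGroup ON) : s ∉ T0 := by
  intro h
  have h0 : neK (sw ++ [4]) (4 :: sw) = true := by decide +kernel
  apply neK_spec h0
  rw [ev_append, ev_cons, ev_cons, ev_nil, mul_one]
  exact comm_a hs h

/-- `T0` extended by `s` -/
def S (hs : IsSimpleGroup ON) : Subgroup ON where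
  carrier := {x | x ∈ T0 ∨ x * s ∈ T0}
  one_mem' := Or.inl T0.one_mem
  mul_mem' := by
    rintro x y (hx | hx) (hy | hy)
    · exact Or.inl (T0.mul_mem hx hy)
    · right
      rw [mul_assoc]; exact T0.mul_mem hx hy
    · right
      have e : x * y * s = x * s * (s * y * s) := by
        calc x * y * s = x * 1 * y * s := by rw [mul_one]
          _ = x * (s * s) * y * s := by rw [ss hs]
          _ = _ := by group
      rw [e]; exact T0.mul_mem hx (conj_mem hs hy)
    · left
      have e : x * y = x * s * (s * (y * s) * s) := by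
        calc x * y = x * 1 * y * 1 := by rw [mul_one, mul_one]
          _ = x * (s * s) * y * (s * s) := by rw [ss hs]
          _ = _ := by group
      rw [e]; exact T0.mul_mem hx (conj_mem hs hy)
  inv_mem' := by
    rintro x (hx | hx)
    · exact Or.inl (T0.inv_mem hx)
    · right
      have e : x⁻¹ * s = s * (x * s)⁻¹ * s := by
        rw [mul_inv_rev, s_inv hs, ← mul_assoc s s, ss hs, one_mul]
      rw [e]; exact conj_mem hs (T0.inv_mem hx)

theorem mem_S {hs : IsSimpleGroup ON} {x : ON} : x ∈ S hs ↔ x ∈ T0 ∨ x * s ∈ T0 := Iff.rfl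

theorem T0_le_S (hs : IsSimpleGroup ON) : T0 ≤ S hs := fun _ h => Or.inl h

theorem S_le (hs : IsSimpleGroup ON) : S hs ≤ K0 := by
  rintro x (hx | hx)
  · exact T0_le hx
  · have h1 := K0.mul_mem (T0_le hx) s_mem
    rwa [mul_assoc, ss hs, mul_one] at h1

/-- squares of elements of `S` are in `T0` -/
theorem sq_mem (hs : IsSimpleGroup ON) {x : ON} (hx : x ∈ S hs) : x * x ∈ T0 := by
  rcases hx with hx | hx
  · exact T0.mul_mem hx hx
  · have e : x * x = x * s * (s * (x * s) * s) := by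
      calc x * x = x * 1 * x * 1 := by rw [mul_one, mul_one]
        _ = x * (s * s) * x * (s * s) := by rw [ss hs]
        _ = _ := by group
    rw [e]; exact T0.mul_mem hx (conj_mem hs hx)

theorem card_T0 (hs : IsSimpleGroup ON) (hK : Nat.card K0 = 161280) : Nat.card T0 = 256 := by
  have h1 := (card_T0_le hs).2
  have h2 := card_K0_le hs
  omega

theorem card_S (hs : IsSimpleGroup ON) (hK : Nat.card K0 = 161280) : Nat.card (S hs) = 512 := by
  have h1 : (T0.subgroupOf (S hs)).index = 2 := by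
    rw [Subgroup.index_eq_two_iff]
    refine ⟨⟨s, Or.inr (by rw [ss hs]; exact T0.one_mem)⟩, ?_⟩
    rintro ⟨x, hx⟩
    rw [Subgroup.mem_subgroupOf, Subgroup.mem_subgroupOf]
    show Xor' (x * s ∈ T0) (x ∈ T0)
    have hnot : ¬ (x * s ∈ T0 ∧ x ∈ T0) := by
      rintro ⟨h2, h3⟩
      apply s_not_mem hs
      have := T0.mul_mem (T0.inv_mem h3) h2
      rwa [inv_mul_cancel_left] at this
    rcases hx with h | h
    · exact Or.inr ⟨h, fun h' => hnot ⟨h', h⟩⟩
    · exact Or.inl ⟨h, fun h' => hnot ⟨h, h'⟩⟩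
  have h2 := Subgroup.card_mul_index (T0.subgroupOf (S hs))
  rw [h1, Nat.card_congr (Subgroup.subgroupOfEquivOfLe (T0_le_S hs)).toEquiv, card_T0 hs hK] at h2
  omega

theorem index_S (hs : IsSimpleGroup ON) (hK : Nat.card K0 = 161280) : ((S hs).subgroupOf K0).index = 315 := by
  have h2 := Subgroup.card_mul_index ((S hs).subgroupOf K0)
  rw [Nat.card_congr (Subgroup.subgroupOfEquivOfLe (S_le hs)).toEquiv, card_S hs hK, hK] at h2
  omega

/-- elements of order dividing 8 are conjugate to elements of `S` -/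
theorem exists_conj_S (hs : IsSimpleGroup ON) (hK : Nat.card K0 = 161280) {y : ON} (hy : y ∈ K0)
    (h8 : y ^ 8 = 1) : ∃ k ∈ K0, k⁻¹ * y * k ∈ S hs := by
  have hidx := index_S hs hK
  set Y : K0 := ⟨y, hy⟩ with hY
  have hY8 : Y ^ 8 = 1 := Subtype.ext h8
  have hP : IsPGroup 2 (Subgroup.zpowers Y) := by
    rintro ⟨z, hz⟩
    obtain ⟨n, rfl⟩ := hz
    refine ⟨3, Subtype.ext ?_⟩
    show (Y ^ n) ^ (2 ^ 3) = 1
    rw [← zpow_natCast, ← zpow_mul, mul_comm, zpow_mul]
    have : Y ^ (((2 ^ 3 : ℕ) : ℤ)) = 1 := by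
      rw [zpow_natCast]; exact hY8
    rw [this, one_zpow]
  have hcardq : Nat.card (K0 ⧸ (S hs).subgroupOf K0) = 315 := hidx
  haveI : Finite (K0 ⧸ (S hs).subgroupOf K0) := Nat.finite_of_card_ne_zero (by rw [hcardq]; decide)
  obtain ⟨q, hq⟩ := hP.nonempty_fixed_point_of_prime_not_dvd_card (K0 ⧸ (S hs).subgroupOf K0)
    (by rw [hcardq]; decide)
  obtain ⟨k, rfl⟩ := QuotientGroup.mk_surjective q
  have h1 := hq ⟨Y, Subgroup.mem_zpowers Y⟩
  have h2 : ((Y * k : K0) : K0 ⧸ (S hs).subgroupOf K0) = (k : K0 ⧸ (S hs).subgroupOf K0) := h1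
  rw [eq_comm, QuotientGroup.eq] at h2
  refine ⟨k.1, k.2, ?_⟩
  have h3 : k.1⁻¹ * (y * k.1) ∈ S hs := h2
  rwa [← mul_assoc] at h3

end Cfsg.Agent.ONType.TupS
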