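import Cfsg.Agent.ONType.TupRow
import Cfsg.Agent.ONType.TupCover
import Cfsg.Agent.ONType.TupTAll

/-!
The subgroup generated by `c, d, g` in the presented O'Nan group (order at most 256): centralisers.
-/

set_option autoImplicit false
set_option maxRecDepth 100000

namespace Cfsg.Agent.ONType.TupT0

open Cfsg.Spor Cfsg.Spor.ON Cfsg.Agent.SporadicB.ONHom Cfsg.Agent.SporadicB.ON45Word
  Cfsg.Agent.ONType.TupRow Cfsg.Agent.ONType.TupCover

open Cfsg.Agent.SporadicRecognition.CosetCert (ev ev_nil ev_cons ev_append Hyp Rel walkS)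
open Cfsg.Agent.SporadicRecognition.CosetCertHyp (hyp_of_checks)

/-- the group generated by `c, d, g` -/
def T0 : Subgroup ON := Subgroup.closure (gJ '' {x | x < TupTData.C.k})

theorem rels_one (hs : IsSimpleGroup ON) : ∀ r ∈ TupTData.rels, ev gJ r = 1 := by
  intro r hr
  have h : TupTData.rels.all (fun r => eqJ r []) = true := by decide +kernel
  exact eqJ_spec hs (List.all_eq_true.1 h r hr)

theorem hinv (hs : IsSimpleGroup ON) (x : ℕ) (hx : x < TupTData.C.k) :
    TupTData.C.inv x < TupTData.C.k ∧ gJ x * gJ (TupTData.C.inv x) = 1 := by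
  have hx4 : x < 4 := hx
  have h : eqJ [0, 0] [] = true := by decide +kernel
  have h2 : eqJ [1, 1] [] = true := by decide +kernel
  have h := eqJ_spec hs h
  have h2 := eqJ_spec hs h2
  simp only [ev_cons, ev_nil, mul_one] at h h2
  interval_cases x
  · exact ⟨by decide, h⟩
  · exact ⟨by decide, h2⟩
  · exact ⟨by decide, mul_inv_cancel _⟩
  · exact ⟨by decide, inv_mul_cancel _⟩

theorem hypT (hs : IsSimpleGroup ON) : Hyp TupTData.C ⊥ gJ :=
  hyp_of_checks ⊥ gJ TupTData.C TupTData.rels TupTData.subw rfl (hinv hs) (rels_one hs)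
    (fun s h => absurd h (List.not_mem_nil)) (by decide +kernel)

/-- Every element of `T0` is a node word satisfying the check. -/
theorem exists_T0 (hs : IsSimpleGroup ON) {Q : ℕ → List ℕ → Bool} (hQ : allLive TupTData.C Q = true) {t : ON}
    (ht : t ∈ T0) : ∃ l < TupTData.C.N, Q l (nword TupTData.C l) = true ∧ t = ev gJ (nword TupTData.C l) := by
  obtain ⟨l, h1, h2, h3⟩ := exists_word (hypT hs) TupTAll.part hQ ht
  refine ⟨l, h1, h2, ?_⟩
  have h4 : t * (ev gJ (nword TupTData.C l))⁻¹ ∈ (⊥ : Subgroup ON) := h3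
  rw [Subgroup.mem_bot, mul_inv_eq_one] at h4
  exact h4

def isIn (ex : List (List ℕ)) (w : List ℕ) : Bool := ex.any fun v => v == w

theorem isIn_spec {ex : List (List ℕ)} {w : List ℕ} (h : isIn ex w = true) : w ∈ ex := by
  obtain ⟨v, hv, h1⟩ := List.any_eq_true.1 h
  have : v = w := by simpa using h1
  rw [← this]; exact hv

def exA : List (List ℕ) := [[], [1], [2, 1, 3], [1, 2, 1, 3], [2, 1, 3, 1], [1, 2, 1, 3, 1],
  [2, 1, 2, 1, 2, 1, 2], [0, 2, 0, 2, 0, 2, 0, 3]]

theorem comm_b (hs : IsSimpleGroup ON) {t : ON} (ht : t ∈ T0) (h : t * on .b = on .b * t) :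
    ∃ w ∈ exA, t = ev gJ w := by
  have hQ : allLive TupTData.C (fun _ w => isIn exA w || neJ (w ++ [6]) (6 :: w)) = true := by decide +kernel
  obtain ⟨l, -, h1, h2⟩ := exists_T0 hs hQ ht
  rcases Bool.or_eq_true_iff.1 h1 with h3 | h3
  · exact ⟨_, isIn_spec h3, h2⟩
  · exfalso
    apply neJ_spec h3
    rw [ev_append, ev_cons, ev_cons, ev_nil, mul_one, ← h2]
    exact h

def exB : List (List ℕ) := [[0], [1, 0, 1], [0, 2, 0, 2, 0, 2, 0, 2]]

theorem braid_b (hs : IsSimpleGroup ON) {t : ON} (ht : t ∈ T0) (htt : t * t = 1)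
    (h : t * on .b * t = on .b * t * on .b) : ∃ w ∈ exB, t = ev gJ w := by
  have hQ : allLive TupTData.C (fun _ w => isIn exB w || neJ (w ++ w) [] || neJ (w ++ 6 :: w) (6 :: (w ++ [6]))) =
    true := by decide +kernel
  obtain ⟨l, -, h1, h2⟩ := exists_T0 hs hQ ht
  rcases Bool.or_eq_true_iff.1 h1 with h3 | h3
  · rcases Bool.or_eq_true_iff.1 h3 with h3 | h3
    · exact ⟨_, isIn_spec h3, h2⟩
    · exfalso
      apply neJ_spec h3
      rw [ev_append, ev_nil, ← h2]
      exact htt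
  · exfalso
    apply neJ_spec h3
    rw [ev_append, ev_cons, ev_cons, ev_append, ev_cons, ev_nil, mul_one, ← h2, ← mul_assoc, ← mul_assoc]
    exact h

def exA3 : List (List ℕ) := [[], [1, 2, 1, 3], [2, 1, 3, 1], [0, 1, 2, 0, 1], [0, 2, 1, 0, 1],
  [0, 2, 1, 0, 2, 1, 3], [1, 2, 0, 2, 1, 0, 3], [0, 2, 0, 2, 0, 2, 0, 3]]

theorem comm_b3 (hs : IsSimpleGroup ON) {t : ON} (ht : t ∈ T0) (h : t * b3 = b3 * t) :
    ∃ w ∈ exA3, t = ev gJ w := by
  have hQ : allLive TupTData.C (fun _ w => isIn exA3 w || neJ (w ++ [8]) (8 :: w)) = true := by decide +kernel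
  obtain ⟨l, -, h1, h2⟩ := exists_T0 hs hQ ht
  rcases Bool.or_eq_true_iff.1 h1 with h3 | h3
  · exact ⟨_, isIn_spec h3, h2⟩
  · exfalso
    apply neJ_spec h3
    rw [ev_append, ev_cons, ev_cons, ev_nil, mul_one, ← h2]
    exact h

def exB3 : List (List ℕ) := [[0, 2, 2], [0, 2, 0, 3, 0], [0, 2, 0, 2, 0, 2, 0, 2]]

theorem braid_b3 (hs : IsSimpleGroup ON) {t : ON} (ht : t ∈ T0) (htt : t * t = 1)
    (h : t * b3 * t = b3 * t * b3) : ∃ w ∈ exB3, t = ev gJ w := by
  have hQ : allLive TupTData.C (fun _ w => isIn exB3 w || neJ (w ++ w) [] || neJ (w ++ 8 :: w) (8 :: (w ++ [8]))) =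
    true := by decide +kernel
  obtain ⟨l, -, h1, h2⟩ := exists_T0 hs hQ ht
  rcases Bool.or_eq_true_iff.1 h1 with h3 | h3
  · rcases Bool.or_eq_true_iff.1 h3 with h3 | h3
    · exact ⟨_, isIn_spec h3, h2⟩
    · exfalso
      apply neJ_spec h3
      rw [ev_append, ev_nil, ← h2]
      exact htt
  · exfalso
    apply neJ_spec h3
    rw [ev_append, ev_cons, ev_cons, ev_append, ev_cons, ev_nil, mul_one, ← h2, ← mul_assoc, ← mul_assoc]
    exact h

def exV : List (List ℕ) := [[], [2, 2], [0, 2, 0, 2, 0, 2, 0, 2], [0, 2, 0, 2, 0, 2, 0, 3]]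

theorem comm_cd (hs : IsSimpleGroup ON) {t : ON} (ht : t ∈ T0) (h : t * on .c = on .c * t)
    (h' : t * on .d = on .d * t) : ∃ w ∈ exV, t = ev gJ w := by
  have hQ : allLive TupTData.C (fun _ w => isIn exV w || neJ (w ++ [0]) (0 :: w) || neJ (w ++ [1]) (1 :: w)) =
    true := by decide +kernel
  obtain ⟨l, -, h1, h2⟩ := exists_T0 hs hQ ht
  rcases Bool.or_eq_true_iff.1 h1 with h3 | h3
  · rcases Bool.or_eq_true_iff.1 h3 with h3 | h3
    · exact ⟨_, isIn_spec h3, h2⟩
    · exfalso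
      apply neJ_spec h3
      rw [ev_append, ev_cons, ev_cons, ev_nil, mul_one, ← h2]
      exact h
  · exfalso
    apply neJ_spec h3
    rw [ev_append, ev_cons, ev_cons, ev_nil, mul_one, ← h2]
    exact h'

theorem comm_cd2 (hs : IsSimpleGroup ON) {t : ON} (ht : t ∈ T0) (h : t * on .c = on .c * t)
    (h' : t * SecondTuple.d2 = SecondTuple.d2 * t) : ∃ w ∈ exV, t = ev gJ w := by
  have hQ : allLive TupTData.C (fun _ w => isIn exV w || neJ (w ++ [0]) (0 :: w) || neJ (w ++ [9]) (9 :: w)) =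
    true := by decide +kernel
  obtain ⟨l, -, h1, h2⟩ := exists_T0 hs hQ ht
  rcases Bool.or_eq_true_iff.1 h1 with h3 | h3
  · rcases Bool.or_eq_true_iff.1 h3 with h3 | h3
    · exact ⟨_, isIn_spec h3, h2⟩
    · exfalso
      apply neJ_spec h3
      rw [ev_append, ev_cons, ev_cons, ev_nil, mul_one, ← h2]
      exact h
  · exfalso
    apply neJ_spec h3
    rw [ev_append, ev_cons, ev_cons, ev_nil, mul_one, ← h2]
    exact h'

theorem not_conj (hs : IsSimpleGroup ON) {t : ON} (ht : t ∈ T0) (h : t * on .c = on .c * t)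
    (h' : on .d * t = t * SecondTuple.d2) : False := by
  have hQ : allLive TupTData.C (fun _ w => neJ (w ++ [0]) (0 :: w) || neJ (1 :: w) (w ++ [9])) =
    true := by decide +kernel
  obtain ⟨l, -, h1, h2⟩ := exists_T0 hs hQ ht
  rcases Bool.or_eq_true_iff.1 h1 with h3 | h3
  · apply neJ_spec h3
    rw [ev_append, ev_cons, ev_cons, ev_nil, mul_one, ← h2]
    exact h
  · apply neJ_spec h3
    rw [ev_append, ev_cons, ev_cons, ev_nil, mul_one, ← h2]
    exact h'

def exSq : List (ℕ × List ℕ) := [(0, []), (13, [2, 2]), (228, [0, 1, 2, 0, 1, 2]), (249, [0, 2, 1, 0, 2, 1]),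
  (229, [0, 1, 2, 0, 1, 3]), (326, [0, 2, 0, 2, 0, 2, 0, 2]), (327, [0, 2, 0, 2, 0, 2, 0, 3]),
  (251, [0, 2, 1, 0, 3, 1])]

theorem squares (hs : IsSimpleGroup ON) {t : ON} (ht : t ∈ T0) (h : (t * t) * (t * t) = 1) :
    ∃ p ∈ exSq, t * t = ev gJ p.2 := by
  have hQ : allLive TupTData.C (fun l w => neJ ((w ++ w) ++ (w ++ w)) [] ||
    exSq.any fun p => Nat.beq (walkS TupTData.C (TupTData.C.mask - 1) w l) (p.1 + 1)) = true := by decide +kernel
  have hE : (exSq.all fun p => Nat.blt p.1 TupTData.C.N && nword TupTData.C p.1 == p.2) = true := by decide +kernel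
  obtain ⟨l, h0, h1, h2⟩ := exists_T0 hs hQ ht
  rcases Bool.or_eq_true_iff.1 h1 with h3 | h3
  · exfalso
    apply neJ_spec h3
    rw [ev_append, ev_append, ev_nil, ← h2]
    exact h
  · obtain ⟨p, hp, h4⟩ := List.any_eq_true.1 h3
    have h5 := List.all_eq_true.1 hE p hp
    rw [Bool.and_eq_true] at h5
    have h6 : nword TupTData.C p.1 = p.2 := by simpa using h5.2
    refine ⟨p, hp, ?_⟩
    have hlt : ∀ x ∈ nword TupTData.C l, x ≤ TupTData.C.k := fun x hx =>
      (tword_lt TupTData.C (fun x hx => (hinv hs x hx).1) TupTData.C.N l [] (by simp) x hx).le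
    obtain ⟨h7, h8⟩ := (covered (hypT hs) TupTAll.part).2 (nword TupTData.C l) hlt l p.1 h0
      (Nat.eq_of_beq_eq_true h4)
    have h9 : ev gJ (nword TupTData.C l) * ev gJ (nword TupTData.C l) * (ev gJ (nword TupTData.C p.1))⁻¹ ∈
      (⊥ : Subgroup ON) := h8
    rw [Subgroup.mem_bot, mul_inv_eq_one, ← h2, h6] at h9
    exact h9

/-! ### Commutation with `a` and `f` -/

theorem a_eq (hs : IsSimpleGroup ON) : ev gJ [0, 2, 0, 2, 0, 2, 0, 2] = on .a := by
  have h : eqJ [0, 2, 0, 2, 0, 2, 0, 2] [5] = true := by decide +kernel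
  have := eqJ_spec hs h
  rwa [ev_cons _ 5, ev_nil, mul_one] at this

theorem f_eq (hs : IsSimpleGroup ON) : ev gJ [0, 2, 0, 2, 0, 2, 0, 3] = on .f := by
  have h : eqJ [0, 2, 0, 2, 0, 2, 0, 3] [7] = true := by decide +kernel
  have := eqJ_spec hs h
  rwa [ev_cons _ 7, ev_nil, mul_one] at this

theorem gg_eq (hs : IsSimpleGroup ON) : ev gJ [2, 2] = on .a * on .f := by
  have h : eqJ [2, 2] [5, 7] = true := by decide +kernel
  have := eqJ_spec hs h
  rwa [ev_cons _ 5, ev_cons _ 7, ev_nil, mul_one] at this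

/-- words in the first four letters are in `T0` -/
theorem ev_mem (w : List ℕ) (hw : ∀ x ∈ w, x < 4) : ev gJ w ∈ T0 := by
  induction w with
  | nil => rw [ev_nil]; exact T0.one_mem
  | cons x w ih =>
    rw [ev_cons]
    refine T0.mul_mem (Subgroup.subset_closure ⟨x, hw x (by simp), rfl⟩) (ih fun y hy => hw y (by simp [hy]))

theorem a_mem (hs : IsSimpleGroup ON) : on .a ∈ T0 := by
  rw [← a_eq hs]; exact ev_mem _ (by decide)

theorem f_mem (hs : IsSimpleGroup ON) : on .f ∈ T0 := by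
  rw [← f_eq hs]; exact ev_mem _ (by decide)

theorem c_mem : on .c ∈ T0 := Subgroup.subset_closure ⟨0, by show 0 < 4; decide, rfl⟩
theorem d_mem : on .d ∈ T0 := Subgroup.subset_closure ⟨1, by show 1 < 4; decide, rfl⟩
theorem g_mem : on .g ∈ T0 := Subgroup.subset_closure ⟨2, by show 2 < 4; decide, rfl⟩

theorem comm_of_gens {x : ON} (hc : on .c * x = x * on .c) (hd : on .d * x = x * on .d)
    (hg : on .g * x = x * on .g) {t : ON} (ht : t ∈ T0) : t * x = x * t := by
  have hle : T0 ≤ Subgroup.centralizer {x} := by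
    unfold T0
    rw [Subgroup.closure_le]
    rintro _ ⟨y, hy, rfl⟩
    have hy4 : y < 4 := hy
    rw [SetLike.mem_coe, Subgroup.mem_centralizer_singleton_iff]
    interval_cases y
    · exact hc
    · exact hd
    · exact hg
    · show (on .g)⁻¹ * x = x * (on .g)⁻¹
      rw [inv_mul_eq_iff_eq_mul, ← mul_assoc, hg, mul_assoc, mul_inv_cancel, mul_one]
  exact Subgroup.mem_centralizer_singleton_iff.1 (hle ht)

theorem comm_a (hs : IsSimpleGroup ON) {t : ON} (ht : t ∈ T0) : t * on .a = on .a * t := by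
  have h1 : eqJ [0, 5] [5, 0] = true := by decide +kernel
  have h2 : eqJ [1, 5] [5, 1] = true := by decide +kernel
  have h3 : eqJ [2, 5] [5, 2] = true := by decide +kernel
  have h1 := eqJ_spec hs h1
  have h2 := eqJ_spec hs h2
  have h3 := eqJ_spec hs h3
  simp only [ev_cons, ev_nil, mul_one] at h1 h2 h3
  exact comm_of_gens h1 h2 h3 ht

theorem comm_f (hs : IsSimpleGroup ON) {t : ON} (ht : t ∈ T0) : t * on .f = on .f * t := by
  have h1 : eqJ [0, 7] [7, 0] = true := by decide +kernel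
  have h2 : eqJ [1, 7] [7, 1] = true := by decide +kernel
  have h3 : eqJ [2, 7] [7, 2] = true := by decide +kernel
  have h1 := eqJ_spec hs h1
  have h2 := eqJ_spec hs h2
  have h3 := eqJ_spec hs h3
  simp only [ev_cons, ev_nil, mul_one] at h1 h2 h3
  exact comm_of_gens h1 h2 h3 ht

theorem card_T0_le (hs : IsSimpleGroup ON) : Finite T0 ∧ Nat.card T0 ≤ 256 := by
  have := Cfsg.Agent.SporadicRecognition.CosetCert.card_closure_le TupTData.C ⊥ gJ (hypT hs) TupTAll.part
  rw [Subgroup.card_bot, mul_one] at this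
  exact this

end Cfsg.Agent.ONType.TupT0
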